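import Cfsg.Agent.Lib.Block.DefectClass
import Cfsg.Agent.Lib.Char.Induce
import Cfsg.Agent.Lib.Char.Inner

/-!
The order of a defect group, heights, and the central character at weighted sums of regular
elements.
-/

set_option autoImplicit false
set_option linter.unusedSectionVars false

namespace CfsgLib.Block

open Cfsg MonoidAlgebra
open scoped ComplexConjugate

universe u

variable {G : Type u} [Group G] [Finite G] {p : ℕ} {M : Ideal AlgInt} [M.IsPrime]

theorem memLocalRing_natCast_div (hM : IsPModular p M) {a b : ℕ} (hb : b ≠ 0)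
    (h : a = 0 ∨ b.factorization p ≤ a.factorization p) :
    MemLocalRing M ((a : ℂ) / (b : ℂ)) := by
  rcases h with rfl | h
  · simp only [Nat.cast_zero, zero_div]
    exact (lring M).zero_mem
  · have hb' := Nat.ordProj_mul_ordCompl_eq_self b p
    set b' := b / p ^ b.factorization p with hb'def
    have hnd : ¬ p ∣ b' := Nat.not_dvd_ordCompl hM.1 hb
    obtain ⟨c, hc⟩ : p ^ b.factorization p ∣ a := (pow_dvd_pow p h).trans (Nat.ordProj_dvd a p)
    have hp0 : (p : ℂ) ≠ 0 := by exact_mod_cast hM.1.ne_zero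
    have hb0 : (b' : ℂ) ≠ 0 := by
      intro h0
      exact hnd ((Nat.cast_eq_zero.1 h0) ▸ dvd_zero p)
    have : (a : ℂ) / (b : ℂ) = (c : ℂ) * (b' : ℂ)⁻¹ := by
      have hbc : (b : ℂ) = (p : ℂ) ^ b.factorization p * (b' : ℂ) := by exact_mod_cast hb'.symm
      rw [hc, hbc]
      push_cast
      field_simp
    rw [this]
    exact memLocalRing_mul (memLocalRing_natCast c) (memLocalRing_inv_natCast hM hnd)

theorem memLocalIdeal_natCast_div (hM : IsPModular p M) {a b : ℕ} (hb : b ≠ 0)
    (h : a = 0 ∨ b.factorization p < a.factorization p) :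
    MemLocalIdeal M ((a : ℂ) / (b : ℂ)) := by
  rcases h with rfl | h
  · simpa using memLocalIdeal_zero (M := M)
  · obtain ⟨c, rfl⟩ : p ∣ a := Nat.dvd_of_factorization_pos (by omega)
    have hc : c ≠ 0 := by rintro rfl; simp at h
    rw [Nat.factorization_mul hM.1.ne_zero hc] at h
    simp [hM.1.factorization] at h
    have h2 := memLocalRing_natCast_div hM (a := c) hb (Or.inr (by omega))
    push_cast
    rw [mul_div_assoc]
    exact memLocalIdeal_mul_right h2 ((memLocalIdeal_natCast_iff hM p).2 dvd_rfl)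

theorem charDegree_cast {χ : G → ℂ} (hχ : IsCharacter G χ) :
    ((charDegree χ : ℕ) : ℂ) = χ 1 := by
  obtain ⟨d, hd⟩ := CfsgLib.Char.char_apply_one_eq_nat hχ
  simp [charDegree, hd]

theorem charDegree_ne_zero {χ : G → ℂ} (hχ : IsIrrCharacter G χ) : charDegree χ ≠ 0 := by
  intro h
  have := charDegree_cast (CfsgLib.Char.irr_isCharacter hχ)
  rw [h, Nat.cast_zero] at this
  exact CfsgLib.Char.irr_apply_one_ne_zero hχ this.symm

theorem centralChar_eq_div (χ : IrrCharacter G) (g : G) :
    centralChar (χ : G → ℂ) g =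
      ((Subgroup.centralizer ({g} : Set G)).index : ℂ) /
        (charDegree (χ : G → ℂ) : ℂ) * (χ : G → ℂ) g := by
  rw [centralChar, charDegree_cast (CfsgLib.Char.irr_isCharacter χ.2)]
  ring

theorem memLocalRing_irr_apply (χ : IrrCharacter G) (g : G) :
    MemLocalRing M ((χ : G → ℂ) g) :=
  memLocalRing_of_isIntegral (irr_apply_isIntegral (CfsgLib.Char.irr_isCharacter χ.2) g)

theorem factorization_index_add (g : G) :
    (Subgroup.centralizer ({g} : Set G)).index.factorization p +
      (Nat.card (Subgroup.centralizer ({g} : Set G))).factorization p =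
      (Nat.card G).factorization p := by
  have h := Subgroup.index_mul_card (Subgroup.centralizer ({g} : Set G))
  rw [← h, Nat.factorization_mul Subgroup.index_ne_zero_of_finite Nat.card_pos.ne']
  rfl

theorem factorization_index_inv (g : G) :
    (Subgroup.centralizer ({g⁻¹} : Set G)).index.factorization p =
      (Subgroup.centralizer ({g} : Set G)).index.factorization p := by
  have : Subgroup.centralizer ({g⁻¹} : Set G) = Subgroup.centralizer ({g} : Set G) := by
    ext x
    rw [Subgroup.mem_centralizer_singleton_iff, Subgroup.mem_centralizer_singleton_iff]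
    exact Commute.inv_right_iff (a := x) (b := g)
  rw [this]

section Block

variable (hM : IsPModular p M) {B : Set (IrrCharacter G)} (hB : IsPBlock M B)
include hM hB

/-- A class with nonzero central character has `p`-part of class size at most that of every degree
in the block. -/
theorem index_le_degree {χ : IrrCharacter G} (hχ : χ ∈ B) {g : G}
    (hg : ¬ MemLocalIdeal M (centralChar (χ : G → ℂ) g)) :
    (Subgroup.centralizer ({g} : Set G)).index.factorization p ≤
      (charDegree (χ : G → ℂ)).factorization p := by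
  by_contra h
  apply hg
  rw [centralChar_eq_div]
  exact memLocalIdeal_mul_right (memLocalRing_irr_apply χ g)
    (memLocalIdeal_natCast_div hM (charDegree_ne_zero χ.2) (Or.inr (by omega)))

/-- The block idempotent at a regular element, expanded in the characters of the block with
coefficients in the local ring. -/
theorem exists_blockCoeff_expansion :
    ∃ c : IrrCharacter G → ℂ, (∀ χ, MemLocalRing M (c χ)) ∧ ∀ u : G, ¬ p ∣ orderOf u →
      blockCoeff B u = ∑ᶠ χ ∈ B, c χ * (χ : G → ℂ) u⁻¹ := by
  classical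
  have := Fact.mk hM.1
  have := Fintype.ofFinite G
  have := Fintype.ofFinite (IrrCharacter G)
  let P : Sylow p G := Classical.arbitrary _
  let _ := Fintype.ofFinite ↥(P : Subgroup G)
  set n := (P : Subgroup G).index with hn
  have hnp : ¬ p ∣ n := P.not_dvd_index
  have hn0 : (n : ℂ) ≠ 0 := by
    exact_mod_cast Subgroup.index_ne_zero_of_finite
  set ζ : G → ℂ := fun x => (n : ℂ)⁻¹ * Cfsg.indFun (P : Subgroup G) (fun _ => 1) x with hζ
  have hc : ∀ χ : IrrCharacter G, MemLocalRing M (Cfsg.classInner ζ (χ : G → ℂ)) := by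
    intro χ
    have h1 : Cfsg.classInner ζ (χ : G → ℂ) = (n : ℂ)⁻¹ *
        Cfsg.classInner (Cfsg.indFun (P : Subgroup G) (fun _ => 1)) (χ : G → ℂ) := by
      rw [← CfsgLib.Char.classInner_smul_left]; rfl
    rw [h1]
    refine memLocalRing_mul (memLocalRing_inv_natCast hM hnp) ?_
    obtain ⟨k, hk⟩ := CfsgLib.Char.classInner_isCharacter_nat
      (CfsgLib.Char.isCharacter_indFun (P : Subgroup G) CfsgLib.Char.isCharacter_one)
      (CfsgLib.Char.irr_isCharacter χ.2)
    rw [hk]
    exact memLocalRing_natCast k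
  have hζ1 : ζ 1 = 1 := by
    simp only [hζ, CfsgLib.Char.indFun_def]
    simp only [mul_one, inv_mul_cancel]
    rw [CfsgLib.Char.extendByZero_of_mem _ (Subgroup.one_mem _), Finset.sum_const,
      Finset.card_univ, nsmul_eq_mul, mul_one]
    have h2 : ((P : Subgroup G).index : ℂ) * Nat.card (P : Subgroup G) = Fintype.card G := by
      rw [← Nat.card_eq_fintype_card]; exact_mod_cast Subgroup.index_mul_card _
    rw [← h2, ← hn]
    have hP0 : (Nat.card (P : Subgroup G) : ℂ) ≠ 0 := by exact_mod_cast Nat.card_pos.ne'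
    field_simp
  have hζ0 : ∀ h : G, ¬ p ∣ orderOf h → h ≠ 1 → ζ h = 0 := by
    intro h hh hne
    simp only [hζ, CfsgLib.Char.indFun_def]
    rw [Finset.sum_eq_zero, mul_zero, mul_zero]
    intro x _
    apply CfsgLib.Char.extendByZero_of_not_mem
    intro hx
    apply hne
    have hord : orderOf (x⁻¹ * h * x) = orderOf h := by
      simpa using orderOf_injective (MulAut.conj x⁻¹).toMonoidHom (MulAut.conj x⁻¹).injective h
    obtain ⟨k, hk⟩ := P.2 ⟨_, hx⟩
    have h3 : orderOf h ∣ p ^ k := by
      rw [← hord]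
      exact orderOf_dvd_of_pow_eq_one (congrArg Subtype.val hk)
    obtain ⟨j, _, hj⟩ := (Nat.dvd_prime_pow hM.1).1 h3
    rcases Nat.eq_zero_or_pos j with rfl | hj0
    · exact orderOf_eq_one_iff.1 (by simpa using hj)
    · exact absurd (hj ▸ dvd_pow_self p hj0.ne') hh
  refine ⟨fun χ => Cfsg.classInner ζ (χ : G → ℂ), hc, fun u hu => ?_⟩
  rw [finsum_mem_def, finsum_eq_sum_of_fintype]
  simp only [CfsgLib.Char.classInner_def, Finset.mul_sum, Finset.sum_mul]
  have horth : ∀ h : G, p ∣ orderOf h →
      ∑ χ : IrrCharacter G, B.indicator (fun χ => (χ : G → ℂ) u⁻¹ * conj ((χ : G → ℂ) h)) χ = 0 := by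
    intro h hh
    rw [← sum_block_eq_zero_of_regular_singular hM hB (g := u⁻¹) (h := h) (by rwa [orderOf_inv]) hh,
      finsum_mem_def, finsum_eq_sum_of_fintype]
  have hswap : ∑ χ : IrrCharacter G, B.indicator (fun χ => ∑ x : G,
        (Nat.card G : ℂ)⁻¹ * (ζ x * conj ((χ : G → ℂ) x)) * (χ : G → ℂ) u⁻¹) χ =
      ∑ x : G, (Nat.card G : ℂ)⁻¹ * ζ x *
        ∑ χ : IrrCharacter G, B.indicator (fun χ => (χ : G → ℂ) u⁻¹ * conj ((χ : G → ℂ) x)) χ := by
    simp only [Finset.mul_sum]
    rw [Finset.sum_comm]
    refine Finset.sum_congr rfl fun χ _ => ?_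
    simp only [Set.indicator_apply]
    split
    · exact Finset.sum_congr rfl fun x _ => by ring
    · simp
  rw [hswap, Finset.sum_eq_single 1]
  · rw [hζ1, mul_one, blockCoeff, finsum_mem_def, finsum_eq_sum_of_fintype]
    congr 1
    refine Finset.sum_congr rfl fun χ _ => ?_
    simp only [Set.indicator_apply]
    split
    · obtain ⟨d, hd⟩ := CfsgLib.Char.char_apply_one_eq_nat (CfsgLib.Char.irr_isCharacter χ.2)
      rw [irr_conj_eq χ.2 u, hd]
      simp [mul_comm]
    · rfl
  · intro x _ hx
    by_cases hxr : p ∣ orderOf x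
    · rw [horth x hxr, mul_zero]
    · rw [hζ0 x hxr hx, mul_zero, zero_mul]
  · simp

/-- A defect class attains the minimum degree valuation. -/
theorem exists_degree_eq_index {g : G} (hg : IsDefectClass M B g) :
    ∃ χ ∈ B, (charDegree (χ : G → ℂ)).factorization p =
      (Subgroup.centralizer ({g} : Set G)).index.factorization p := by
  classical
  have := Fintype.ofFinite (IrrCharacter G)
  obtain ⟨χ₀, hχ₀⟩ := isPBlock_nonempty hB
  have hgr : ¬ p ∣ orderOf g := fun h => hg.2.1 (by
    rw [blockCoeff_eq_zero_of_singular hM hB h]; exact memLocalIdeal_zero)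
  obtain ⟨c, hc, hexp⟩ := exists_blockCoeff_expansion hM hB
  by_contra hcon
  push Not at hcon
  apply hg.2.1
  rw [hexp g hgr, finsum_mem_def, finsum_eq_sum_of_fintype]
  refine memLocalIdeal_sum _ _ fun χ _ => ?_
  rw [Set.indicator_apply]
  split
  · next hχ =>
    refine memLocalIdeal_mul_left (hc χ) ?_
    have h1 := index_le_degree hM hB hχ (hg.2.2 χ hχ)
    have h2 := hcon χ hχ
    have hidx := factorization_index_inv (p := p) g
    have h0 : (χ : G → ℂ) g⁻¹ = ((charDegree (χ : G → ℂ) : ℂ) /
        ((Subgroup.centralizer ({g⁻¹} : Set G)).index : ℂ)) * centralChar (χ : G → ℂ) g⁻¹ := by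
      rw [centralChar_eq_div]
      have a1 : (charDegree (χ : G → ℂ) : ℂ) ≠ 0 := by exact_mod_cast charDegree_ne_zero χ.2
      have a2 : ((Subgroup.centralizer ({g⁻¹} : Set G)).index : ℂ) ≠ 0 := by
        exact_mod_cast Subgroup.index_ne_zero_of_finite
      field_simp
    rw [h0]
    exact memLocalIdeal_mul_right (memLocalRing_centralChar χ.2 _)
      (memLocalIdeal_natCast_div hM Subgroup.index_ne_zero_of_finite (Or.inr (by omega)))
  · exact memLocalIdeal_zero

theorem sInf_degree_eq {g : G} (hg : IsDefectClass M B g) :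
    sInf ((fun χ : IrrCharacter G => (charDegree (χ : G → ℂ)).factorization p) '' B) =
      (Subgroup.centralizer ({g} : Set G)).index.factorization p := by
  obtain ⟨χ, hχ, he⟩ := exists_degree_eq_index hM hB hg
  refine le_antisymm (Nat.sInf_le ⟨χ, hχ, he⟩) (le_csInf ⟨_, χ, hχ, rfl⟩ ?_)
  rintro _ ⟨ψ, hψ, rfl⟩
  exact index_le_degree hM hB hψ (hg.2.2 ψ hψ)

theorem blockDefect_eq {g : G} (hg : IsDefectClass M B g) :
    blockDefect p B = (Nat.card (Subgroup.centralizer ({g} : Set G))).factorization p := by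
  rw [blockDefect, sInf_degree_eq hM hB hg]
  have := factorization_index_add (p := p) g
  omega

theorem natCard_defectGroup {D : Subgroup G} (hD : IsDefectGroup p M B D) :
    Nat.card D = p ^ blockDefect p B := by
  have := Fact.mk hM.1
  obtain ⟨g, hg, P, rfl⟩ := hD
  rw [blockDefect_eq hM hB hg]
  exact natCard_cenSub g P

theorem sInf_degree_add_blockDefect :
    sInf ((fun χ : IrrCharacter G => (charDegree (χ : G → ℂ)).factorization p) '' B) +
      blockDefect p B = (Nat.card G).factorization p := by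
  obtain ⟨g, hg⟩ := exists_isDefectClass hM hB
  rw [sInf_degree_eq hM hB hg, blockDefect_eq hM hB hg, factorization_index_add]

theorem blockHeight_eq_zero_iff {χ : IrrCharacter G} (hχ : χ ∈ B) :
    blockHeight p B (χ : G → ℂ) = 0 ↔ (charDegree (χ : G → ℂ)).factorization p =
      sInf ((fun ψ : IrrCharacter G => (charDegree (ψ : G → ℂ)).factorization p) '' B) := by
  have : sInf ((fun ψ : IrrCharacter G => (charDegree (ψ : G → ℂ)).factorization p) '' B) ≤
      (charDegree (χ : G → ℂ)).factorization p := Nat.sInf_le ⟨χ, hχ, rfl⟩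
  unfold blockHeight
  omega

theorem exists_height_zero : ∃ χ ∈ B, blockHeight p B (χ : G → ℂ) = 0 := by
  obtain ⟨g, hg⟩ := exists_isDefectClass hM hB
  obtain ⟨χ, hχ, he⟩ := exists_degree_eq_index hM hB hg
  exact ⟨χ, hχ, (blockHeight_eq_zero_iff hM hB hχ).2 (by rw [sInf_degree_eq hM hB hg, he])⟩

end Block

end CfsgLib.Block
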