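import Cfsg.Agent.Lib.Block.Blocks

/-!
Restriction to and inclusion from subgroups of group algebras; induced blocks through modular
central characters.
-/

set_option autoImplicit false
set_option linter.unusedSectionVars false

namespace CfsgLib.Block

open Cfsg MonoidAlgebra

universe u v

section Sub

variable {k : Type v} [CommRing k] {G : Type u} [Group G] [Finite G]

/-- Restriction of coefficients to a subgroup. -/
noncomputable def resSub (H : Subgroup G) (a : MonoidAlgebra k G) : MonoidAlgebra k H :=
  mkGA fun h => a.coeff (h : G)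

@[simp]
theorem coeff_resSub (H : Subgroup G) (a : MonoidAlgebra k G) (h : H) :
    (resSub H a).coeff h = a.coeff (h : G) := by simp [resSub]

theorem resSub_isClassCoeff (H : Subgroup G) {a : MonoidAlgebra k G} (ha : IsClassCoeff a) :
    IsClassCoeff (resSub H a) := fun g h => by simp [ha (g : G) (h : G)]

/-- Restriction of central elements, as a linear map. -/
noncomputable def resZ (H : Subgroup G) :
    Subalgebra.center k (MonoidAlgebra k G) →ₗ[k] Subalgebra.center k (MonoidAlgebra k H) where
  toFun z := ⟨resSub H (z : MonoidAlgebra k G),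
    isClassCoeff_iff_mem_center.1 (resSub_isClassCoeff H (isClassCoeff_center z))⟩
  map_add' a b := by
    apply Subtype.ext
    simp only [AddMemClass.coe_add]
    ext h
    simp
  map_smul' c a := by
    apply Subtype.ext
    simp only [SetLike.val_smul, RingHom.id_apply]
    ext h
    simp

theorem coe_resZ (H : Subgroup G) (z : Subalgebra.center k (MonoidAlgebra k G)) :
    (resZ H z : MonoidAlgebra k H) = resSub H (z : MonoidAlgebra k G) := rfl

/-- Inclusion of the group algebra of a subgroup. -/
noncomputable def inclSub (H : Subgroup G) : MonoidAlgebra k H →+* MonoidAlgebra k G :=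
  MonoidAlgebra.mapDomainRingHom k H.subtype

theorem coeff_inclSub_of_mem (H : Subgroup G) (a : MonoidAlgebra k H) (h : H) :
    (inclSub H a).coeff (h : G) = a.coeff h := by
  rw [inclSub, ← Finsupp.mapDomain_apply Subtype.val_injective a.coeff h]
  simp [MonoidAlgebra.mapDomainRingHom]

theorem coeff_inclSub_of_not_mem (H : Subgroup G) (a : MonoidAlgebra k H) {x : G} (hx : x ∉ H) :
    (inclSub H a).coeff x = 0 := by
  have h : (Finsupp.mapDomain (Subtype.val : H → G) a.coeff) x = 0 :=
    Finsupp.mapDomain_notin_range _ _ (by simpa using hx)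
  rw [inclSub]
  simpa [MonoidAlgebra.mapDomainRingHom] using h

theorem inclSub_conj_invariant (H : Subgroup G) {a : MonoidAlgebra k H} (ha : IsClassCoeff a)
    {n : G} (hn : n ∈ H) (x : G) : (inclSub H a).coeff (n * x * n⁻¹) = (inclSub H a).coeff x := by
  by_cases hx : x ∈ H
  · have h := ha ⟨x, hx⟩ ⟨n, hn⟩
    rw [← coeff_inclSub_of_mem H, ← coeff_inclSub_of_mem H] at h
    simpa using h
  · rw [coeff_inclSub_of_not_mem H _ hx, coeff_inclSub_of_not_mem H]
    intro h
    apply hx
    simpa [mul_assoc] using H.mul_mem (H.mul_mem (H.inv_mem hn) h) hn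

theorem resSub_inclSub (H : Subgroup G) (a : MonoidAlgebra k H) :
    resSub H (inclSub H a) = a := by
  ext h
  rw [coeff_resSub, coeff_inclSub_of_mem]

end Sub

section Induced

variable {G : Type u} [Group G] [Finite G] {M : Ideal AlgInt} [M.IsPrime]

theorem inducedCentralChar_eq_omegaC (H : Subgroup G) (ξ : H → ℂ) (g : G) :
    inducedCentralChar H ξ g = omegaC ξ (resSub H (classSum ℂ g)) := by
  classical
  have := Fintype.ofFinite H
  rw [inducedCentralChar, omegaC_eq, finsum_mem_def, finsum_eq_sum_of_fintype, Finset.sum_div]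
  refine Finset.sum_congr rfl fun h _ => ?_
  rw [Set.indicator_apply, coeff_resSub, coeff_classSum]
  simp only [Set.mem_setOf_eq]
  split <;> simp

theorem isLocalCentral_resSub (H : Subgroup G) {a : MonoidAlgebra ℂ G} (ha : IsLocalCentral M a) :
    IsLocalCentral M (resSub H a) :=
  ⟨resSub_isClassCoeff H ha.1, fun h => by simpa using ha.2 (h : G)⟩

theorem memLocalRing_inducedCentralChar (H : Subgroup G) {ξ : H → ℂ} (hξ : IsIrrCharacter H ξ)
    (g : G) : MemLocalRing M (inducedCentralChar H ξ g) := by
  rw [inducedCentralChar_eq_omegaC]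
  exact memLocalRing_omegaC hξ (isLocalCentral_resSub H (isLocalCentral_classSum g))

theorem redA_resSub (H : Subgroup G) (a : MonoidAlgebra ℂ G) :
    redA M (resSub H a) = resSub H (redA M a) := by
  ext h
  simp [redA]

theorem lam_resZ_classSumZ (H : Subgroup G) (ξ : IrrCharacter H) (g : G) :
    lam M ξ (resZ H (classSumZ (kres M) g)) = redC M (inducedCentralChar H (ξ : H → ℂ) g) := by
  rw [lam_apply ξ (isLocalCentral_resSub H (isLocalCentral_classSum g))
    (resZ H (classSumZ (kres M) g)), inducedCentralChar_eq_omegaC]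
  rw [coe_resZ, redA_resSub]
  change resSub H (redA M (classSum ℂ g)) = resSub H (classSum (kres M) g)
  rw [redA_classSum]

/-- Linear maps on the centre agreeing on class sums agree. -/
theorem center_linearMap_ext {k : Type v} [CommRing k] {N : Type*} [AddCommGroup N] [Module k N]
    {f f' : Subalgebra.center k (MonoidAlgebra k G) →ₗ[k] N}
    (h : ∀ g, f (classSumZ k g) = f' (classSumZ k g)) : f = f' := by
  have : Finite (ConjClasses G) := Finite.of_surjective ConjClasses.mk ConjClasses.mk_surjective
  have := Fintype.ofFinite (ConjClasses G)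
  ext z
  have hz : z = ∑ C : ConjClasses G, (z : MonoidAlgebra k G).coeff C.out • classSumZ k C.out := by
    apply Subtype.ext
    simp only [AddSubmonoidClass.coe_finsetSum, SetLike.val_smul, classSumZ]
    exact eq_sum_classSum (isClassCoeff_center z)
  rw [hz, map_sum, map_sum]
  exact Finset.sum_congr rfl fun C _ => by rw [map_smul, map_smul, h]

/-- Induction of blocks through central characters: one member of each block suffices. -/
theorem isInducedBlock_iff (H : Subgroup G) {b : Set (IrrCharacter H)} {B : Set (IrrCharacter G)}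
    (hb : IsPBlock M b) (hB : IsPBlock M B) {ξ : IrrCharacter H} (hξ : ξ ∈ b)
    {χ : IrrCharacter G} (hχ : χ ∈ B) :
    IsInducedBlock M H b B ↔ ∀ z, lam M ξ (resZ H z) = lam M χ z := by
  constructor
  · rintro ⟨-, -, h⟩
    have key : (lam M ξ).toLinearMap.comp (resZ H) = (lam M χ).toLinearMap := by
      refine center_linearMap_ext fun g => ?_
      change lam M ξ (resZ H (classSumZ (kres M) g)) = lam M χ (classSumZ (kres M) g)
      rw [lam_resZ_classSumZ, lam_classSumZ, redC_eq_iff (memLocalRing_inducedCentralChar H ξ.2 g)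
        (memLocalRing_centralChar χ.2 g)]
      exact h ξ hξ χ hχ g
    exact fun z => LinearMap.congr_fun key z
  · intro h
    refine ⟨hb, hB, fun ξ' hξ' χ' hχ' g => ?_⟩
    rw [← redC_eq_iff (memLocalRing_inducedCentralChar H ξ'.2 g)
      (memLocalRing_centralChar χ'.2 g), ← lam_resZ_classSumZ, ← lam_classSumZ,
      lam_eq_of_sameBlock (sameBlock_of_mem hb hξ' hξ),
      lam_eq_of_sameBlock (sameBlock_of_mem hB hχ' hχ), h]

/-- The induced block is unique. -/
theorem isInducedBlock_unique (H : Subgroup G) {b : Set (IrrCharacter H)}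
    {B B' : Set (IrrCharacter G)} (h : IsInducedBlock M H b B) (h' : IsInducedBlock M H b B') :
    B = B' := by
  obtain ⟨ξ, hξ⟩ := isPBlock_nonempty h.1
  obtain ⟨χ, hχ⟩ := isPBlock_nonempty h.2.1
  obtain ⟨χ', hχ'⟩ := isPBlock_nonempty h'.2.1
  have e1 := (isInducedBlock_iff H h.1 h.2.1 hξ hχ).1 h
  have e2 := (isInducedBlock_iff H h'.1 h'.2.1 hξ hχ').1 h'
  have hl : lam M χ = lam M χ' := AlgHom.ext fun z => (e1 z).symm.trans (e2 z)
  exact isPBlock_eq_of_mem h.2.1 h'.2.1 hχ
    (mem_of_sameBlock h'.2.1 hχ' (sameBlock_of_lam_eq hl.symm))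

end Induced

end CfsgLib.Block
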