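import Cfsg.Prelude.Def_Blocks
import Mathlib.GroupTheory.OrderOfElement
import Mathlib.Data.Nat.ChineseRemainder
import Mathlib.Tactic

/-!
The `p`-part of an element of a finite group (`Cfsg.IsPPart`).
-/

set_option autoImplicit false
set_option linter.unusedSectionVars false

namespace CfsgLib.Block

open Cfsg

universe u

variable {G : Type u} [Group G] [Finite G] {p : ℕ}

theorem exists_isPPart (hp : p.Prime) (g : G) : ∃ x : G, IsPPart p g x := by
  obtain ⟨e, u, hu, hN⟩ :=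
    Nat.exists_eq_pow_mul_and_not_dvd (orderOf_pos g).ne' p hp.ne_one
  have hcop : Nat.Coprime (p ^ e) u := Nat.Coprime.pow_left e ((hp.coprime_iff_not_dvd).2 hu)
  obtain ⟨s, hs1, hs0⟩ := Nat.chineseRemainder hcop 1 0
  obtain ⟨t, ht0, ht1⟩ := Nat.chineseRemainder hcop 0 1
  have hst : s + t ≡ 1 [MOD p ^ e * u] := by
    rw [← Nat.modEq_and_modEq_iff_modEq_mul hcop]
    exact ⟨by simpa using hs1.add ht0, by simpa using hs0.add ht1⟩
  have hx : (g ^ s) ^ p ^ e = 1 := by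
    rw [← pow_mul, ← orderOf_dvd_iff_pow_eq_one, hN, mul_comm (p ^ e) u]
    exact mul_dvd_mul (Nat.modEq_zero_iff_dvd.1 hs0) (dvd_refl _)
  have hy : (g ^ t) ^ u = 1 := by
    rw [← pow_mul, ← orderOf_dvd_iff_pow_eq_one, hN]
    exact mul_dvd_mul (Nat.modEq_zero_iff_dvd.1 ht0) (dvd_refl _)
  refine ⟨g ^ s, g ^ t, ?_, (Commute.refl g).pow_pow s t, ?_, ?_⟩
  · rw [← pow_add]
    conv_rhs => rw [← pow_one g]
    rw [pow_eq_pow_iff_modEq, hN]
    exact hst
  · obtain ⟨k, _, hk⟩ := (Nat.dvd_prime_pow hp).1 (orderOf_dvd_of_pow_eq_one hx)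
    exact ⟨k, hk⟩
  · exact fun h => hu (h.trans (orderOf_dvd_of_pow_eq_one hy))

/-- The `p`-part is a power of the element, with exponent depending only on its order. -/
theorem exists_isPPart_eq_pow (hp : p.Prime) (g : G) :
    ∃ s : ℕ, ∀ x : G, IsPPart p g x → x = g ^ s := by
  obtain ⟨e, u, hu, hN⟩ :=
    Nat.exists_eq_pow_mul_and_not_dvd (orderOf_pos g).ne' p hp.ne_one
  have hcop : Nat.Coprime (p ^ e) u := Nat.Coprime.pow_left e ((hp.coprime_iff_not_dvd).2 hu)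
  obtain ⟨s, hs1, hs0⟩ := Nat.chineseRemainder hcop 1 0
  refine ⟨s, ?_⟩
  rintro x ⟨y, hxy, hc, ⟨k, hk⟩, hy⟩
  have hco : Nat.Coprime (orderOf x) (orderOf y) := by
    rw [hk]
    exact Nat.Coprime.pow_left k ((hp.coprime_iff_not_dvd).2 hy)
  have hord := hc.orderOf_mul_eq_mul_orderOf_of_coprime hco
  rw [hxy, hN, hk] at hord
  have hke : p ^ k = p ^ e := by
    apply Nat.dvd_antisymm
    · exact (Nat.Coprime.pow_left k ((hp.coprime_iff_not_dvd).2 hu)).dvd_of_dvd_mul_right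
        (hord ▸ Dvd.intro _ rfl)
    · exact (Nat.Coprime.pow_left e ((hp.coprime_iff_not_dvd).2 hy)).dvd_of_dvd_mul_right
        (hord ▸ Dvd.intro _ rfl)
  have hyu : orderOf y = u := by
    rw [hke] at hord
    exact (Nat.eq_of_mul_eq_mul_left (pow_pos hp.pos e) hord).symm
  have h1 : x ^ s = x := by
    conv_rhs => rw [← pow_one x]
    rw [pow_eq_pow_iff_modEq, hk, hke]
    exact hs1
  have h2 : y ^ s = 1 := by
    rw [← orderOf_dvd_iff_pow_eq_one, hyu]
    exact Nat.modEq_zero_iff_dvd.1 hs0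
  rw [← hxy, hc.mul_pow, h1, h2, mul_one]

theorem isPPart_unique (hp : p.Prime) {g x x' : G} (hx : IsPPart p g x) (hx' : IsPPart p g x') :
    x = x' := by
  obtain ⟨s, hs⟩ := exists_isPPart_eq_pow hp g
  rw [hs x hx, hs x' hx']

theorem isPPart_mem_zpowers (hp : p.Prime) {g x : G} (hx : IsPPart p g x) :
    x ∈ Subgroup.zpowers g := by
  obtain ⟨s, hs⟩ := exists_isPPart_eq_pow hp g
  rw [hs x hx]
  exact Subgroup.pow_mem _ (Subgroup.mem_zpowers g) s

theorem isPPart_commute (hp : p.Prime) {g x a : G} (hx : IsPPart p g x) (ha : Commute g a) :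
    Commute x a := by
  obtain ⟨s, hs⟩ := exists_isPPart_eq_pow hp g
  rw [hs x hx]
  exact ha.pow_left s

theorem isPPart_self {g : G} (hg : ∃ k : ℕ, orderOf g = p ^ k) (hp : p.Prime) : IsPPart p g g :=
  ⟨1, mul_one g, Commute.one_right g, hg, by
    rw [orderOf_one]; exact hp.not_dvd_one⟩

theorem isPPart_one_of_regular {g : G} (hg : ¬ p ∣ orderOf g) : IsPPart p g 1 :=
  ⟨g, one_mul g, Commute.one_left g, ⟨0, by simp⟩, hg⟩

theorem isPPart_mul {x y : G} (hc : Commute x y) (hx : ∃ k : ℕ, orderOf x = p ^ k)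
    (hy : ¬ p ∣ orderOf y) : IsPPart p (x * y) x :=
  ⟨y, rfl, hc, hx, hy⟩

theorem isPPart_map {H : Type*} [Group H] {f : G →* H} (hf : Function.Injective f) {g x : G}
    (hx : IsPPart p g x) : IsPPart p (f g) (f x) := by
  obtain ⟨y, hxy, hc, ⟨k, hk⟩, hy⟩ := hx
  exact ⟨f y, by rw [← map_mul, hxy], hc.map f, ⟨k, by rw [orderOf_injective f hf, hk]⟩,
    by rwa [orderOf_injective f hf]⟩

theorem isPPart_conj {g x : G} (hx : IsPPart p g x) (a : G) :
    IsPPart p (a * g * a⁻¹) (a * x * a⁻¹) :=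
  isPPart_map (f := (MulAut.conj a).toMonoidHom) (MulAut.conj a).injective hx

theorem isPPart_pow {g x : G} (hx : IsPPart p g x) (hp : p.Prime) (l : ℕ) :
    IsPPart p (g ^ l) (x ^ l) := by
  obtain ⟨y, hxy, hc, ⟨k, hk⟩, hy⟩ := hx
  refine ⟨y ^ l, by rw [← hc.mul_pow, hxy], hc.pow_pow l l, ?_, ?_⟩
  · obtain ⟨j, _, hj⟩ := (Nat.dvd_prime_pow hp).1 (hk ▸ orderOf_pow_dvd (x := x) l)
    exact ⟨j, hj⟩
  · exact fun h => hy (h.trans (orderOf_pow_dvd l))

/-- Powers prime to `p` separate `p`-elements. -/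
theorem eq_of_pow_eq_of_pelement (hp : p.Prime) {x x' : G} (hx : ∃ k : ℕ, orderOf x = p ^ k)
    (hx' : ∃ k : ℕ, orderOf x' = p ^ k) {l : ℕ} (hl : ¬ p ∣ l) (h : x ^ l = x' ^ l) : x = x' := by
  obtain ⟨k, hk⟩ := hx
  obtain ⟨k', hk'⟩ := hx'
  have hcop : Nat.Coprime l (p ^ (k + k')) :=
    Nat.Coprime.pow_right _ ((hp.coprime_iff_not_dvd).2 hl).symm
  obtain ⟨t, ht1, ht0⟩ := Nat.chineseRemainder hcop.symm 1 0
  obtain ⟨c, hc⟩ : l ∣ t := Nat.modEq_zero_iff_dvd.1 ht0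
  have e1 : x ^ t = x := by
    conv_rhs => rw [← pow_one x]
    rw [pow_eq_pow_iff_modEq, hk]
    exact ht1.of_dvd (pow_dvd_pow p (Nat.le_add_right k k'))
  have e2 : x' ^ t = x' := by
    conv_rhs => rw [← pow_one x']
    rw [pow_eq_pow_iff_modEq, hk']
    exact ht1.of_dvd (pow_dvd_pow p (Nat.le_add_left k' k))
  rw [← e1, ← e2, hc, pow_mul, pow_mul, h]

end CfsgLib.Block
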