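import Cfsg.Agent.Lib.Block.PermTrace
import Cfsg.Agent.Lib.Block.PPart
import Cfsg.Agent.Lib.Block.Induced

/-!
Block orthogonality, Brauer's Second Main Theorem in idempotent form, vanishing of characters.
-/

set_option autoImplicit false
set_option linter.unusedSectionVars false

namespace CfsgLib.Block

open Cfsg MonoidAlgebra
open scoped ComplexConjugate

universe u

variable {G : Type u} [Group G] [Finite G] {M : Ideal AlgInt} [M.IsPrime]

/-- The linear extension of `χ (· * g)` to the group algebra. -/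
noncomputable def chiExt (χ : G → ℂ) (a : MonoidAlgebra ℂ G) (g : G) : ℂ :=
  ∑ᶠ k, a.coeff k * χ (k * g)

theorem chiExt_eq [Fintype G] (χ : G → ℂ) (a : MonoidAlgebra ℂ G) (g : G) :
    chiExt χ a g = ∑ k, a.coeff k * χ (k * g) := by
  rw [chiExt, finsum_eq_sum_of_fintype]

theorem chiExt_one (χ : G → ℂ) (g : G) : chiExt χ 1 g = χ g := by
  have := Fintype.ofFinite G
  rw [chiExt_eq, Finset.sum_eq_single 1]
  · simp
  · intro b _ hb
    simp [one_def, hb]
  · simp

theorem asAlgebraHom_trace_mul [Fintype G] {V : Type*} [AddCommGroup V] [Module ℂ V]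
    (ρ : Representation ℂ G V) (a : MonoidAlgebra ℂ G) (g : G) :
    LinearMap.trace ℂ V (ρ.asAlgebraHom a * ρ g) = ∑ k, a.coeff k * ρ.character (k * g) := by
  conv_lhs => rw [← MonoidAlgebra.sum_coeff_single a, Finsupp.sum_fintype _ _ (fun _ => by simp)]
  simp [Representation.asAlgebraHom_single, Representation.character, Finset.sum_mul]

theorem chiExt_mul_central {χ : G → ℂ} (hχ : IsIrrCharacter G χ) (Y : MonoidAlgebra ℂ G)
    {f : MonoidAlgebra ℂ G} (hf : IsClassCoeff f) (g : G) :
    chiExt χ (Y * f) g = omegaC χ f * chiExt χ Y g := by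
  have := Fintype.ofFinite G
  obtain ⟨n, ρ, hρ, rfl⟩ := hχ
  rw [chiExt_eq, chiExt_eq, ← asAlgebraHom_trace_mul, ← asAlgebraHom_trace_mul,
    map_mul ρ.asAlgebraHom,
    asAlgebraHom_eq_smul ρ hf]
  simp [Module.End.mul_eq_comp, LinearMap.smul_comp, LinearMap.comp_smul]

/-- The master vanishing identity. -/
theorem sum_coeff_conj_eq_zero [Fintype G] {p : ℕ} (hM : IsPModular p M)
    {Z : MonoidAlgebra ℂ G} (hidem : Z * Z = Z) (hR : ∀ x, MemLocalRing M (Z.coeff x)) {g : G}
    (hg : ∀ x, Z.coeff (g * x * g⁻¹) = Z.coeff x) (h : G)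
    (hcond : ∀ u w : G, IsPPart p g u → IsPPart p h w → IsConj u w →
      ∀ c ∈ Subgroup.centralizer ({u} : Set G), MemLocalIdeal M (Z.coeff c)) :
    ∑ a : G, Z.coeff (a * h * a⁻¹ * g⁻¹) = 0 := by
  classical
  let σ : Equiv.Perm G := (Equiv.mulLeft g).trans (Equiv.mulRight h⁻¹)
  have hσ : ∀ a, σ a = g * a * h⁻¹ := fun a => rfl
  have hpow : ∀ (l : ℕ) (a : G), (⇑σ)^[l] a = g ^ l * a * (h ^ l)⁻¹ := by
    intro l
    induction l with
    | zero => simp
    | succ l ih =>
      intro a
      rw [Function.iterate_succ_apply', ih, hσ, pow_succ' g, pow_succ h]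
      group
  let X : Matrix G G ℂ := Matrix.of fun a b => Z.coeff (a * b⁻¹)
  have key := sum_apply_perm_eq_zero (Ω := G) (σ := σ) hM (X := X) ?_
    (fun a b => hR _) ?_ ?_
  · rw [← key]
    refine Finset.sum_congr rfl fun a _ => ?_
    simp only [X, Matrix.of_apply, hσ]
    congr 1
    group
  · ext a c
    simp only [X, Matrix.mul_apply, Matrix.of_apply]
    conv_rhs => rw [← hidem, coeff_mul_eq]
    refine Fintype.sum_equiv ((Equiv.inv G).trans (Equiv.mulLeft a)) _ _ fun b => ?_
    simp only [Equiv.trans_apply, Equiv.inv_apply, Equiv.coe_mulLeft]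
    congr 2
    group
  · intro a b
    simp only [X, Matrix.of_apply, hσ]
    rw [← hg (a * b⁻¹)]
    congr 1
    group
  · intro a b ha hb
    obtain ⟨u, hu⟩ := exists_isPPart hM.1 g
    obtain ⟨w, hw⟩ := exists_isPPart hM.1 h
    have hfixed : ∀ c : G, ¬ p ∣ Function.minimalPeriod σ c → c * w * c⁻¹ = u := by
      intro c hc
      have h1 := Function.iterate_minimalPeriod (f := ⇑σ) (x := c)
      rw [hpow] at h1
      set l := Function.minimalPeriod σ c
      have h2 : c * h ^ l * c⁻¹ = g ^ l := by
        have : g ^ l * c = c * h ^ l := mul_inv_eq_iff_eq_mul.1 h1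
        rw [← this]; group
      have h3 := isPPart_conj (isPPart_pow hw hM.1 l) c
      rw [h2] at h3
      have h4 := isPPart_unique hM.1 h3 (isPPart_pow hu hM.1 l)
      obtain ⟨_, _, _, hwk, _⟩ := hw
      obtain ⟨_, _, _, huk, _⟩ := hu
      refine eq_of_pow_eq_of_pelement hM.1 ?_ huk hc ?_
      · obtain ⟨k, hk⟩ := hwk
        refine ⟨k, ?_⟩
        rw [← hk]
        exact orderOf_injective (MulAut.conj c).toMonoidHom (MulAut.conj c).injective w
      · rw [conj_pow, h4]
    have ea := hfixed a ha
    have eb := hfixed b hb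
    simp only [X, Matrix.of_apply]
    refine hcond u w hu hw (isConj_iff.2 ⟨a⁻¹, by rw [← ea]; group⟩) _ ?_
    rw [Subgroup.mem_centralizer_singleton_iff]
    have e1 : b⁻¹ * u = w * b⁻¹ := by rw [← eb]; group
    calc a * b⁻¹ * u = a * (b⁻¹ * u) := by group
      _ = a * (w * b⁻¹) := by rw [e1]
      _ = (a * w * a⁻¹) * (a * b⁻¹) := by group
      _ = u * (a * b⁻¹) := by rw [ea]

/-- The master identity in terms of characters. -/
theorem sum_chiExt_conj_eq [Fintype G] [Fintype (IrrCharacter G)] (Z : MonoidAlgebra ℂ G)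
    (g h : G) :
    ∑ χ : IrrCharacter G, chiExt (χ : G → ℂ) Z g * conj ((χ : G → ℂ) h) =
      ∑ a : G, Z.coeff (a * h * a⁻¹ * g⁻¹) := by
  classical
  simp only [chiExt_eq, Finset.sum_mul]
  rw [Finset.sum_comm]
  rw [Finset.sum_congr rfl (fun k _ => show (∑ χ : IrrCharacter G,
      Z.coeff k * (χ : G → ℂ) (k * g) * conj ((χ : G → ℂ) h)) = Z.coeff k *
        if IsConj (k * g) h then (Nat.card (Subgroup.centralizer ({k * g} : Set G)) : ℂ) else 0 by
    rw [← CfsgLib.Char.column_orthogonality, Finset.mul_sum]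
    exact Finset.sum_congr rfl fun χ _ => mul_assoc _ _ _)]
  -- count `a` with `a h a⁻¹ = k g`
  have hcount : ∀ x : G, (Finset.univ.filter fun a : G => a * h * a⁻¹ = x).card =
      if IsConj x h then Nat.card (Subgroup.centralizer ({x} : Set G)) else 0 := by
    intro x
    by_cases hx : IsConj x h
    · rw [if_pos hx]
      obtain ⟨c, hc⟩ := isConj_iff.1 hx.symm
      rw [Nat.card_eq_fintype_card, Fintype.card_subtype]
      refine Finset.card_nbij' (fun a => a * c⁻¹) (fun y => y * c) ?_ ?_ ?_ ?_
      · intro a ha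
        have ha' : a * h * a⁻¹ = x := by simpa using ha
        simp only [Finset.coe_filter, Finset.mem_univ, true_and, Set.mem_setOf_eq,
          Subgroup.mem_centralizer_singleton_iff]
        calc a * c⁻¹ * x = a * c⁻¹ * (c * h * c⁻¹) := by rw [hc]
          _ = (a * h * a⁻¹) * (a * c⁻¹) := by group
          _ = x * (a * c⁻¹) := by rw [ha']
      · intro y hy
        have hy' : y * x = x * y := by
          simpa [Subgroup.mem_centralizer_singleton_iff] using hy
        simp only [Finset.coe_filter, Finset.mem_univ, true_and, Set.mem_setOf_eq]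
        calc y * c * h * (y * c)⁻¹ = y * (c * h * c⁻¹) * y⁻¹ := by group
          _ = y * x * y⁻¹ := by rw [hc]
          _ = x := by rw [hy']; group
      · intro a _; simp
      · intro a _; simp
    · rw [if_neg hx, Finset.card_eq_zero, Finset.filter_eq_empty_iff]
      intro a _ ha
      exact hx (isConj_iff.2 ⟨a, ha⟩).symm
  rw [← Finset.sum_fiberwise Finset.univ (fun a : G => a * h * a⁻¹)
    (fun a => Z.coeff (a * h * a⁻¹ * g⁻¹))]
  refine Fintype.sum_equiv (Equiv.mulRight g) _ _ fun k => ?_
  simp only [Equiv.coe_mulRight]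
  rw [Finset.sum_congr rfl (g := fun _ => Z.coeff k) (fun a ha => by
    rw [(Finset.mem_filter.1 ha).2]; congr 1; group), Finset.sum_const, nsmul_eq_mul]
  have h5 := hcount (k * g)
  rw [mul_comm]
  congr 1
  refine Eq.trans ?_ (congrArg (fun n : ℕ => (n : ℂ)) (h5.symm.trans ?_))
  · split <;> simp
  · congr 2

/-- Strong block orthogonality. -/
theorem sum_block_eq_zero {p : ℕ} (hM : IsPModular p M) {B : Set (IrrCharacter G)}
    (hB : IsPBlock M B) {g h u w : G} (hu : IsPPart p g u) (hw : IsPPart p h w)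
    (hne : ¬ IsConj u w) :
    ∑ᶠ χ ∈ B, (χ : G → ℂ) g * conj ((χ : G → ℂ) h) = 0 := by
  classical
  have := Fintype.ofFinite G
  have := Fintype.ofFinite (IrrCharacter G)
  have hcl := blockSum_isClassCoeff B
  have h1 := sum_coeff_conj_eq_zero hM (Z := blockSum B) (by rw [blockSum_mul, Set.inter_self])
    (fun x => (isLocalCentral_blockSum hM hB).2 x) (g := g) (fun x => hcl x g) h
    (fun u' w' hu' hw' hc => absurd hc (by
      rw [← isPPart_unique hM.1 hu hu', ← isPPart_unique hM.1 hw hw']; exact hne))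
  rw [← sum_chiExt_conj_eq] at h1
  rw [← h1, finsum_mem_def, finsum_eq_sum_of_fintype]
  refine Finset.sum_congr rfl fun χ _ => ?_
  rw [← one_mul (blockSum B), chiExt_mul_central χ.2 1 hcl, chiExt_one, omegaC_blockSum,
    Set.indicator_apply]
  split <;> simp

/-- Weak block orthogonality. -/
theorem sum_block_eq_zero_of_regular_singular {p : ℕ} (hM : IsPModular p M)
    {B : Set (IrrCharacter G)} (hB : IsPBlock M B) {g h : G} (hg : ¬ p ∣ orderOf g)
    (hh : p ∣ orderOf h) :
    ∑ᶠ χ ∈ B, (χ : G → ℂ) g * conj ((χ : G → ℂ) h) = 0 := by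
  obtain ⟨w, hw⟩ := exists_isPPart hM.1 h
  refine sum_block_eq_zero hM hB (isPPart_one_of_regular hg) hw fun hc => ?_
  rw [isConj_one_right] at hc
  obtain ⟨y, hy, -, -, hy'⟩ := hw
  rw [hc, one_mul] at hy
  exact hy' (hy ▸ hh)

/-- Block idempotents vanish on `p`-singular elements. -/
theorem blockCoeff_eq_zero_of_singular {p : ℕ} (hM : IsPModular p M) {B : Set (IrrCharacter G)}
    (hB : IsPBlock M B) {y : G} (hy : p ∣ orderOf y) : blockCoeff B y = 0 := by
  rw [blockCoeff, sum_block_eq_zero_of_regular_singular hM hB (g := 1) (h := y) ?_ hy, mul_zero]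
  rw [orderOf_one]
  exact hM.1.not_dvd_one

theorem blkIdem_coeff_eq_zero_of_singular {p : ℕ} (hM : IsPModular p M)
    {B : Set (IrrCharacter G)} (hB : IsPBlock M B) {y : G} (hy : p ∣ orderOf y) :
    (blkIdem M B : MonoidAlgebra (kres M) G).coeff y = 0 := by
  rw [coeff_blkIdem, blockCoeff_eq_zero_of_singular hM hB hy, redC_zero]

/-- If the block idempotent vanishes modulo `M` on the centralizer of the `p`-part of `g`, then
all characters of the block vanish at `g`. -/
theorem irr_apply_eq_zero_of_br_eq_zero {p : ℕ} (hM : IsPModular p M) {B : Set (IrrCharacter G)}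
    (hB : IsPBlock M B) {g u : G} (hu : IsPPart p g u)
    (hc : ∀ c ∈ Subgroup.centralizer ({u} : Set G), MemLocalIdeal M (blockCoeff B c))
    {χ : IrrCharacter G} (hχ : χ ∈ B) : (χ : G → ℂ) g = 0 := by
  classical
  have := Fintype.ofFinite G
  have := Fintype.ofFinite (IrrCharacter G)
  have hcl := blockSum_isClassCoeff B
  have h1 := sum_coeff_conj_eq_zero hM (Z := blockSum B) (by rw [blockSum_mul, Set.inter_self])
    (fun x => (isLocalCentral_blockSum hM hB).2 x) (g := g) (fun x => hcl x g) g
    (fun u' w' hu' _ _ c hcc => by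
      rw [← isPPart_unique hM.1 hu hu'] at hcc
      simpa [blockSum] using hc c hcc)
  rw [← sum_chiExt_conj_eq] at h1
  have h2 : ∑ ψ : IrrCharacter G, chiExt (ψ : G → ℂ) (blockSum B) g * conj ((ψ : G → ℂ) g) =
      ((∑ ψ : IrrCharacter G, if ψ ∈ B then ‖(ψ : G → ℂ) g‖ ^ 2 else 0 : ℝ) : ℂ) := by
    rw [Complex.ofReal_sum]
    refine Finset.sum_congr rfl fun ψ _ => ?_
    rw [← one_mul (blockSum B), chiExt_mul_central ψ.2 1 hcl, chiExt_one, omegaC_blockSum]
    split <;> simp [Complex.mul_conj']
  rw [h2, Complex.ofReal_eq_zero, Finset.sum_eq_zero_iff_of_nonneg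
    (fun ψ _ => by split <;> positivity)] at h1
  have := h1 χ (Finset.mem_univ χ)
  rw [if_pos hχ] at this
  simpa using this

/-- Brauer's Second Main Theorem in idempotent form. -/
theorem chiExt_inclSub_blockSum_eq_zero {p : ℕ} (hM : IsPModular p M) {H : Subgroup G}
    {b : Set (IrrCharacter H)} {B : Set (IrrCharacter G)} (hind : IsInducedBlock M H b B)
    {g u : G} (hg : g ∈ H) (hu : IsPPart p g u) (huH : Subgroup.centralizer ({u} : Set G) ≤ H)
    {χ : IrrCharacter G} (hχ : χ ∉ B) :
    chiExt (χ : G → ℂ) (inclSub H (blockSum b)) g = 0 := by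
  classical
  have := Fintype.ofFinite G
  have := Fintype.ofFinite (IrrCharacter G)
  have hb := hind.1
  have hB := hind.2.1
  have := Fact.mk hM.1
  have := charP_kres hM
  set f : MonoidAlgebra ℂ G := 1 - blockSum B with hf
  have hBc := isLocalCentral_blockSum hM hB
  have hfl : IsLocalCentral M f := isLocalCentral_sub isLocalCentral_one hBc
  have hfc : ∀ y, y * f = f * y :=
    Subalgebra.mem_center_iff.1 (isClassCoeff_iff_mem_center.1 hfl.1)
  set Y := inclSub H (blockSum b) with hY
  have hff : f * f = f := by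
    rw [hf, sub_mul, mul_sub, mul_sub, one_mul, mul_one, blockSum_mul, Set.inter_self]
    simp
  have hYY : Y * Y = Y := by rw [hY, ← map_mul, blockSum_mul, Set.inter_self]
  have hYR : ∀ x, MemLocalRing M (Y.coeff x) := by
    intro x
    by_cases hx : x ∈ H
    · rw [hY, ← show ((⟨x, hx⟩ : H) : G) = x from rfl, coeff_inclSub_of_mem]
      exact (isLocalCentral_blockSum hM hb).2 _
    · rw [hY, coeff_inclSub_of_not_mem H _ hx]
      exact (lring M).zero_mem
  have hYH : ∀ n ∈ H, ∀ x, Y.coeff (n * x * n⁻¹) = Y.coeff x := fun n hn x =>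
    inclSub_conj_invariant H (blockSum_isClassCoeff b) hn x
  have hZZ : Y * f * (Y * f) = Y * f := by
    rw [mul_assoc Y f, ← mul_assoc f Y, ← hfc Y, mul_assoc Y f, hff, ← mul_assoc, hYY]
  have hZR : ∀ x, MemLocalRing M ((Y * f).coeff x) := by
    intro x
    rw [coeff_mul_eq]
    exact memLocalRing_sum _ _ fun y _ => memLocalRing_mul (hYR y) (hfl.2 _)
  have hZg : ∀ x, (Y * f).coeff (g * x * g⁻¹) = (Y * f).coeff x := by
    intro x
    rw [coeff_mul_eq, coeff_mul_eq]
    refine (Fintype.sum_equiv (MulAut.conj g).toEquiv _ _ fun y => ?_).symm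
    simp only [MulEquiv.toEquiv_eq_coe, MulEquiv.coe_toEquiv, MulAut.conj_apply]
    rw [hYH g hg]
    congr 1
    rw [show (g * y * g⁻¹)⁻¹ * (g * x * g⁻¹) = g * (y⁻¹ * x) * g⁻¹ by group, hfl.1]
  -- the Brauer image vanishes
  set U := Subgroup.zpowers u with hU
  have huk : ∃ k, orderOf u = p ^ k := by obtain ⟨_, _, _, h, _⟩ := hu; exact h
  have hUp : IsPGroup p U := by
    obtain ⟨k, hk⟩ := huk
    exact IsPGroup.of_card (n := k) (by rw [Nat.card_zpowers, hk])
  have hCU : Subgroup.centralizer (U : Set G) = Subgroup.centralizer ({u} : Set G) := by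
    rw [hU, Subgroup.zpowers_eq_closure, Subgroup.centralizer_closure]
  set C := Subgroup.centralizer (U : Set G) with hC
  have hCH : C ≤ H := hCU ▸ huH
  have hUH : U ≤ H :=
    Subgroup.zpowers_le.2 (Subgroup.zpowers_le.2 hg (isPPart_mem_zpowers hM.1 hu))
  have hUN : C ≤ Subgroup.normalizer (U : Set G) := Subgroup.centralizer_le_normalizer _
  let E : Subalgebra.center (kres M) (MonoidAlgebra (kres M) C) :=
    ⟨brRes U C (inclSub H (blkIdem M b : MonoidAlgebra (kres M) H)),
      isClassCoeff_iff_mem_center.1 (by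
        intro x n
        have hx : (x : G) ∈ Subgroup.centralizer (U : Set G) := x.2
        have hx' : ((n * x * n⁻¹ : C) : G) ∈ Subgroup.centralizer (U : Set G) := (n * x * n⁻¹).2
        rw [coeff_brRes_of_mem _ hx, coeff_brRes_of_mem _ hx']
        push_cast
        exact inclSub_conj_invariant H (isClassCoeff_center _) (hCH n.2) _)⟩
  have hinvU : ∀ a : MonoidAlgebra (kres M) H, IsClassCoeff a → IsPInv U (inclSub H a) :=
    fun a ha n hn x => inclSub_conj_invariant H ha (hUH hn) x
  have hEE : E * E = E := by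
    apply Subtype.ext
    simp only [MulMemClass.coe_mul, E]
    rw [← brRes_mul hUp le_rfl (hinvU _ (isClassCoeff_center _)) (hinvU _ (isClassCoeff_center _)),
      ← map_mul]
    congr 2
    exact congrArg Subtype.val (blkIdem_idem hM hb)
  set q := brHom (k := kres M) hUp (le_refl C) hUN (1 - blkIdem M B) with hq
  have hEq : E * q = 0 := by
    by_contra hne
    have hqq : q * q = q := by
      rw [hq, ← map_mul]
      congr 1
      exact (IsIdempotentElem.one_sub (blkIdem_idem hM hB)).eq
    obtain ⟨ψ, hψ⟩ := exists_lam_eq_one_of_idem hM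
      (show E * q * (E * q) = E * q by rw [mul_mul_mul_comm, hEE, hqq]) hne
    rw [map_mul] at hψ
    have hψE : lam M ψ E = 1 := by
      have h2 : lam M ψ E * lam M ψ E = lam M ψ E := by rw [← map_mul, hEE]
      rcases mul_eq_zero.1 (show lam M ψ E * (lam M ψ E - 1) = 0 by rw [mul_sub, h2]; simp)
        with h3 | h3
      · rw [h3, zero_mul] at hψ; exact absurd hψ zero_ne_one
      · exact sub_eq_zero.1 h3
    rw [hψE, one_mul] at hψ
    -- the composite central character of the centre of `k[H]`
    let Ψ : Subalgebra.center (kres M) (MonoidAlgebra (kres M) H) →ₐ[kres M]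
        Subalgebra.center (kres M) (MonoidAlgebra (kres M) C) :=
      { toFun := fun z => ⟨brRes U C (inclSub H (z : MonoidAlgebra (kres M) H)),
          isClassCoeff_iff_mem_center.1 (by
            intro x n
            have hx : (x : G) ∈ Subgroup.centralizer (U : Set G) := x.2
            have hx' : ((n * x * n⁻¹ : C) : G) ∈ Subgroup.centralizer (U : Set G) :=
              (n * x * n⁻¹).2
            rw [coeff_brRes_of_mem _ hx, coeff_brRes_of_mem _ hx']
            push_cast
            exact inclSub_conj_invariant H (isClassCoeff_center z) (hCH n.2) _)⟩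
        map_one' := by
          apply Subtype.ext
          simp only [OneMemClass.coe_one, map_one]
          exact brRes_one U C
        map_mul' := fun a c => by
          apply Subtype.ext
          simp only [MulMemClass.coe_mul, map_mul]
          exact brRes_mul hUp le_rfl (hinvU _ (isClassCoeff_center a))
            (hinvU _ (isClassCoeff_center c))
        map_zero' := by
          apply Subtype.ext
          simp only [ZeroMemClass.coe_zero, map_zero]
          exact brRes_zero U C
        map_add' := fun a c => by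
          apply Subtype.ext
          simp only [AddMemClass.coe_add, map_add]
          exact brRes_add U C _ _
        commutes' := fun r => by
          apply Subtype.ext
          simp only [Subalgebra.coe_algebraMap]
          rw [Algebra.algebraMap_eq_smul_one, Algebra.algebraMap_eq_smul_one]
          ext c
          rw [coeff_brRes_of_mem _ c.2, ← show ((⟨(c : G), hCH c.2⟩ : H) : G) = (c : G) from rfl,
            coeff_inclSub_of_mem]
          simp only [coeff_smul, Finsupp.smul_apply, one_def, coeff_single, smul_eq_mul]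
          congr 1
          simp only [Finsupp.single_apply]
          have : (⟨(c : G), hCH c.2⟩ : H) = 1 ↔ c = 1 := by
            rw [Subtype.ext_iff, Subtype.ext_iff]; rfl
          simp only [eq_comm (a := (1 : C)), eq_comm (a := (1 : H)), this] }
    obtain ⟨ξ, hξ⟩ := exists_eq_lam hM ((lam M ψ).comp Ψ)
    have hξb : ξ ∈ b := by
      rw [← algHom_blkIdem_eq_one_iff hM hb ξ, ← hξ]
      exact hψE
    obtain ⟨χ', hχ'⟩ := isPBlock_nonempty hB
    have h3 := (isInducedBlock_iff H hb hB hξb hχ').1 hind (1 - blkIdem M B)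
    rw [map_sub (lam M χ'), map_one (lam M χ'), (algHom_blkIdem_eq_one_iff hM hB χ').2 hχ',
      sub_self, ← hξ] at h3
    apply zero_ne_one (α := kres M)
    rw [← h3, ← hψ, AlgHom.comp_apply]
    congr 1
    apply Subtype.ext
    change brRes U C (inclSub H (resSub H _)) = (q : MonoidAlgebra (kres M) C)
    rw [hq, coe_brHom]
    ext c
    rw [coeff_brRes_of_mem _ c.2, coeff_brRes_of_mem _ c.2,
      ← show ((⟨(c : G), hCH c.2⟩ : H) : G) = (c : G) from rfl, coeff_inclSub_of_mem, coeff_resSub]
  have hcond : ∀ c ∈ Subgroup.centralizer ({u} : Set G), MemLocalIdeal M ((Y * f).coeff c) := by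
    intro c hc
    rw [← hCU] at hc
    rw [← redC_eq_zero_iff (hZR c)]
    have hred : redC M ((Y * f).coeff c) =
        (inclSub H (blkIdem M b : MonoidAlgebra (kres M) H) *
          (↑(1 - blkIdem M B : Subalgebra.center (kres M) (MonoidAlgebra (kres M) G)) :
            MonoidAlgebra (kres M) G)).coeff c := by
      rw [coeff_mul_eq, coeff_mul_eq,
        redC_sum _ _ (fun x _ => memLocalRing_mul (hYR x) (hfl.2 _))]
      refine Finset.sum_congr rfl fun x _ => ?_
      rw [redC_mul (hYR x) (hfl.2 _)]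
      congr 1
      · by_cases hx : x ∈ H
        · rw [hY, ← show ((⟨x, hx⟩ : H) : G) = x from rfl, coeff_inclSub_of_mem,
            coeff_inclSub_of_mem, coeff_blkIdem]
          simp [blockSum]
        · rw [hY, coeff_inclSub_of_not_mem H _ hx, coeff_inclSub_of_not_mem H _ hx, redC_zero]
      · rw [hf, AddSubgroupClass.coe_sub, OneMemClass.coe_one]
        simp only [coeff_sub, Finsupp.sub_apply, coeff_blkIdem, blockSum, coeff_mkGA]
        have h1 : MemLocalRing M ((1 : MonoidAlgebra ℂ G).coeff (x⁻¹ * c)) :=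
          isLocalCentral_one.2 _
        have h2 : MemLocalRing M (blockCoeff B (x⁻¹ * c)) := blockCoeff_memLocalRing hM hB _
        have h3 : redC M ((1 : MonoidAlgebra ℂ G).coeff (x⁻¹ * c)) =
            (1 : MonoidAlgebra (kres M) G).coeff (x⁻¹ * c) := by
          rw [← redA_one (G := G) (M := M)]
          simp [redA]
        rw [← h3, eq_sub_iff_add_eq, ← redC_add ((lring M).sub_mem h1 h2) h2, sub_add_cancel]
    rw [hred]
    have h4 : (brRes U C (inclSub H (blkIdem M b : MonoidAlgebra (kres M) H) *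
        (↑(1 - blkIdem M B : Subalgebra.center (kres M) (MonoidAlgebra (kres M) G)) :
          MonoidAlgebra (kres M) G))).coeff ⟨c, hc⟩ = 0 := by
      rw [brRes_mul hUp le_rfl (hinvU _ (isClassCoeff_center _))
        (isPInv_of_isClassCoeff (isClassCoeff_center _) U)]
      have := congrArg Subtype.val hEq
      rw [MulMemClass.coe_mul, ZeroMemClass.coe_zero, hq, coe_brHom] at this
      exact congrArg (fun a => a.coeff (⟨c, hc⟩ : C)) this
    rw [coeff_brRes_of_mem _ (h := (⟨c, hc⟩ : C)) hc] at h4
    exact h4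
  have hzero : ∀ h' : G, ∑ ψ : IrrCharacter G,
      chiExt (ψ : G → ℂ) (Y * f) g * conj ((ψ : G → ℂ) h') = 0 := by
    intro h'
    rw [sum_chiExt_conj_eq]
    exact sum_coeff_conj_eq_zero hM hZZ hZR hZg h' fun u' _ hu' _ _ c hc =>
      hcond c (isPPart_unique hM.1 hu hu' ▸ hc)
  have hval : ∀ ψ : IrrCharacter G, chiExt (ψ : G → ℂ) (Y * f) g =
      (if ψ ∈ B then 0 else 1) * chiExt (ψ : G → ℂ) Y g := by
    intro ψ
    rw [chiExt_mul_central ψ.2 Y hfl.1]
    congr 1
    have h := omegaC_add (ψ : G → ℂ) f (blockSum B)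
    rw [hf, sub_add_cancel, omegaC_one (CfsgLib.Char.irr_apply_one_ne_zero ψ.2),
      omegaC_blockSum] at h
    rw [hf]
    split_ifs at h ⊢ with hψ <;> linear_combination -h
  have horth : chiExt (χ : G → ℂ) (Y * f) g = 0 := by
    have h := congrArg (fun t => (Nat.card G : ℂ)⁻¹ * t)
      (Finset.sum_eq_zero (s := (Finset.univ : Finset G))
        (f := fun h' => (χ : G → ℂ) h' * ∑ ψ : IrrCharacter G,
          chiExt (ψ : G → ℂ) (Y * f) g * conj ((ψ : G → ℂ) h')) fun h' _ => by rw [hzero, mul_zero])
    simp only [Finset.mul_sum, mul_zero] at h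
    rw [Finset.sum_comm] at h
    rw [← h, Finset.sum_eq_single χ]
    · have := CfsgLib.Char.irr_classInner_self χ.2
      rw [CfsgLib.Char.classInner_def] at this
      conv_lhs => rw [← mul_one (chiExt (χ : G → ℂ) (Y * f) g), ← this, Finset.mul_sum, Finset.mul_sum]
      exact Finset.sum_congr rfl fun x _ => by ring
    · intro ψ _ hψ
      have := CfsgLib.Char.irr_classInner_ne χ.2 ψ.2 (fun e => hψ (Subtype.ext e.symm))
      rw [CfsgLib.Char.classInner_def] at this
      rw [show (0 : ℂ) = chiExt (ψ : G → ℂ) (Y * f) g * 0 by ring, ← this, Finset.mul_sum,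
        Finset.mul_sum]
      exact Finset.sum_congr rfl fun x _ => by ring
    · simp
  rw [hval, if_neg hχ, one_mul] at horth
  exact horth

end CfsgLib.Block
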