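import Cfsg.Prelude.Def_Blocks
import Mathlib.RingTheory.Ideal.GoingUp
import Mathlib.RingTheory.IntegralClosure.IntegrallyClosed
import Mathlib.RingTheory.LocalRing.Basic
import Mathlib.Tactic

/-!
The local ring of the algebraic integers at a prime `M`, as a subring of the complex numbers,
its residue map, and basic arithmetic in it.
-/

set_option autoImplicit false
set_option linter.unusedSectionVars false

namespace CfsgLib.Block

open Cfsg

variable {M : Ideal AlgInt}

theorem isPrime_of_pmodular {p : ℕ} (hM : IsPModular p M) : M.IsPrime := hM.2.1.isPrime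

theorem isMaximal_of_pmodular {p : ℕ} (hM : IsPModular p M) : M.IsMaximal := hM.2.1

theorem coe_ne_zero_of_not_mem {b : AlgInt} (hb : b ∉ M) : (b : ℂ) ≠ 0 := by
  intro h
  apply hb
  have : b = 0 := Subtype.ext h
  rw [this]
  exact M.zero_mem

section

variable [M.IsPrime]

theorem one_not_mem : (1 : AlgInt) ∉ M :=
  (Ideal.ne_top_iff_one M).1 (Ideal.IsPrime.ne_top inferInstance)

theorem mul_not_mem {a b : AlgInt} (ha : a ∉ M) (hb : b ∉ M) : a * b ∉ M := fun h =>
  ((Ideal.IsPrime.mem_or_mem inferInstance h)).elim ha hb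

theorem memLocalRing_coe (a : AlgInt) : MemLocalRing M (a : ℂ) :=
  ⟨a, 1, one_not_mem, by simp⟩

theorem memLocalRing_of_isIntegral {z : ℂ} (hz : IsIntegral ℤ z) : MemLocalRing M z :=
  memLocalRing_coe ⟨z, hz⟩

theorem memLocalRing_mul {x y : ℂ} (hx : MemLocalRing M x) (hy : MemLocalRing M y) :
    MemLocalRing M (x * y) := by
  obtain ⟨a, b, hb, rfl⟩ := hx
  obtain ⟨c, d, hd, rfl⟩ := hy
  refine ⟨a * c, b * d, mul_not_mem hb hd, ?_⟩
  simp [div_mul_div_comm]

theorem memLocalRing_add {x y : ℂ} (hx : MemLocalRing M x) (hy : MemLocalRing M y) :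
    MemLocalRing M (x + y) := by
  obtain ⟨a, b, hb, rfl⟩ := hx
  obtain ⟨c, d, hd, rfl⟩ := hy
  refine ⟨a * d + b * c, b * d, mul_not_mem hb hd, ?_⟩
  have h1 := coe_ne_zero_of_not_mem hb
  have h2 := coe_ne_zero_of_not_mem hd
  push_cast
  field_simp

variable (M)

/-- The local ring at `M`, as a subring of `ℂ`. -/
def lring : Subring ℂ where
  carrier := {z | MemLocalRing M z}
  mul_mem' := fun hx hy => memLocalRing_mul hx hy
  one_mem' := ⟨1, 1, one_not_mem, by simp⟩
  add_mem' := fun hx hy => memLocalRing_add hx hy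
  zero_mem' := ⟨0, 1, one_not_mem, by simp⟩
  neg_mem' := by
    rintro x ⟨a, b, hb, rfl⟩
    exact ⟨-a, b, hb, by simp [neg_div]⟩

/-- The maximal ideal of the local ring at `M`. -/
def lideal : Ideal (lring M) where
  carrier := {z | MemLocalIdeal M (z : ℂ)}
  add_mem' := by
    rintro ⟨x, hx'⟩ ⟨y, hy'⟩ ⟨a, b, ha, hb, hx⟩ ⟨c, d, hc, hd, hy⟩
    refine ⟨a * d + b * c, b * d, M.add_mem (M.mul_mem_right _ ha) (M.mul_mem_left _ hc),
      mul_not_mem hb hd, ?_⟩
    have h1 := coe_ne_zero_of_not_mem hb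
    have h2 := coe_ne_zero_of_not_mem hd
    simp only at hx hy ⊢
    subst hx hy
    push_cast
    field_simp
  zero_mem' := ⟨0, 1, M.zero_mem, one_not_mem, by simp⟩
  smul_mem' := by
    rintro ⟨r, e, f, hf, rfl⟩ ⟨x, hx'⟩ ⟨a, b, ha, hb, hx⟩
    refine ⟨e * a, f * b, M.mul_mem_left _ ha, mul_not_mem hf hb, ?_⟩
    simp only at hx
    subst hx
    simp [div_mul_div_comm]

variable {M}

theorem mem_lring {z : ℂ} : z ∈ lring M ↔ MemLocalRing M z := Iff.rfl

theorem mem_lideal {z : lring M} : z ∈ lideal M ↔ MemLocalIdeal M (z : ℂ) := Iff.rfl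

theorem memLocalRing_of_memLocalIdeal {z : ℂ} (hz : MemLocalIdeal M z) : MemLocalRing M z := by
  obtain ⟨a, b, _, hb, rfl⟩ := hz
  exact ⟨a, b, hb, rfl⟩

theorem memLocalIdeal_coe_iff {a : AlgInt} : MemLocalIdeal M (a : ℂ) ↔ a ∈ M := by
  constructor
  · rintro ⟨c, d, hc, hd, h⟩
    have h1 := coe_ne_zero_of_not_mem hd
    have : a * d = c := Subtype.ext (by push_cast; rw [← h]; field_simp)
    exact (Ideal.IsPrime.mem_or_mem inferInstance (this ▸ hc)).resolve_right hd
  · intro ha
    exact ⟨a, 1, ha, one_not_mem, by simp⟩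

theorem not_memLocalIdeal_one : ¬ MemLocalIdeal M (1 : ℂ) := by
  intro h
  exact one_not_mem (memLocalIdeal_coe_iff.1 (by simpa using h))

theorem memLocalIdeal_zero : MemLocalIdeal M (0 : ℂ) := (lideal M).zero_mem

theorem memLocalIdeal_add {x y : ℂ} (hx : MemLocalIdeal M x) (hy : MemLocalIdeal M y) :
    MemLocalIdeal M (x + y) :=
  (lideal M).add_mem (a := ⟨x, memLocalRing_of_memLocalIdeal hx⟩)
    (b := ⟨y, memLocalRing_of_memLocalIdeal hy⟩) hx hy

theorem memLocalIdeal_neg {x : ℂ} (hx : MemLocalIdeal M x) : MemLocalIdeal M (-x) :=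
  (lideal M).neg_mem (x := ⟨x, memLocalRing_of_memLocalIdeal hx⟩) hx

theorem memLocalIdeal_sub {x y : ℂ} (hx : MemLocalIdeal M x) (hy : MemLocalIdeal M y) :
    MemLocalIdeal M (x - y) := sub_eq_add_neg x y ▸ memLocalIdeal_add hx (memLocalIdeal_neg hy)

theorem memLocalIdeal_mul_left {r x : ℂ} (hr : MemLocalRing M r) (hx : MemLocalIdeal M x) :
    MemLocalIdeal M (r * x) :=
  (lideal M).mul_mem_left ⟨r, hr⟩ (b := ⟨x, memLocalRing_of_memLocalIdeal hx⟩) hx

theorem memLocalIdeal_mul_right {r x : ℂ} (hr : MemLocalRing M r) (hx : MemLocalIdeal M x) :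
    MemLocalIdeal M (x * r) := mul_comm r x ▸ memLocalIdeal_mul_left hr hx

theorem memLocalIdeal_sum {ι : Type*} (s : Finset ι) (f : ι → ℂ)
    (h : ∀ i ∈ s, MemLocalIdeal M (f i)) : MemLocalIdeal M (∑ i ∈ s, f i) :=
  Finset.sum_induction f (MemLocalIdeal M) (fun _ _ => memLocalIdeal_add) memLocalIdeal_zero h

theorem memLocalRing_sum {ι : Type*} (s : Finset ι) (f : ι → ℂ)
    (h : ∀ i ∈ s, MemLocalRing M (f i)) : MemLocalRing M (∑ i ∈ s, f i) :=
  Subring.sum_mem (lring M) h

theorem inv_memLocalRing {z : ℂ} (hz : MemLocalRing M z) (hz' : ¬ MemLocalIdeal M z) :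
    MemLocalRing M z⁻¹ := by
  obtain ⟨a, b, hb, rfl⟩ := hz
  have ha : a ∉ M := fun ha => hz' ⟨a, b, ha, hb, rfl⟩
  exact ⟨b, a, ha, by simp⟩

theorem isUnit_lring_iff {z : lring M} : IsUnit z ↔ z ∉ lideal M := by
  constructor
  · intro hu hz
    obtain ⟨u, rfl⟩ := hu
    have h := (lideal M).mul_mem_left ((u⁻¹ : (lring M)ˣ) : lring M) hz
    rw [Units.inv_mul] at h
    exact not_memLocalIdeal_one h
  · intro hz
    have hz0 : (z : ℂ) ≠ 0 := by
      intro h
      apply hz
      rw [mem_lideal, h]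
      exact memLocalIdeal_zero
    refine ⟨⟨z, ⟨(z : ℂ)⁻¹, inv_memLocalRing z.2 hz⟩, Subtype.ext ?_, Subtype.ext ?_⟩, rfl⟩
    · simpa using mul_inv_cancel₀ hz0
    · simpa using inv_mul_cancel₀ hz0

instance lideal_isMaximal : (lideal M).IsMaximal := by
  rw [Ideal.isMaximal_iff]
  refine ⟨fun h => not_memLocalIdeal_one h, fun J x _ hx hxJ => ?_⟩
  have hu := isUnit_lring_iff.2 hx
  have : J = ⊤ := J.eq_top_of_isUnit_mem hxJ hu
  rw [this]
  exact Submodule.mem_top

variable (M) in
/-- The residue field of the local ring at `M`. -/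
abbrev kres := lring M ⧸ lideal M

noncomputable instance kres_field : Field (kres M) := Ideal.Quotient.field (lideal M)

variable (M) in
/-- Reduction modulo `M`. -/
noncomputable abbrev red : lring M →+* kres M := Ideal.Quotient.mk (lideal M)

theorem red_surjective : Function.Surjective (red M) := Ideal.Quotient.mk_surjective

theorem red_eq_zero {z : lring M} : red M z = 0 ↔ MemLocalIdeal M (z : ℂ) :=
  Ideal.Quotient.eq_zero_iff_mem.trans mem_lideal

theorem red_eq_red {z w : lring M} : red M z = red M w ↔ MemLocalIdeal M ((z : ℂ) - w) := by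
  rw [← sub_eq_zero, ← map_sub, red_eq_zero]
  simp

/-- Reduction of a complex number in the local ring; zero off the ring. -/
noncomputable def redC (M : Ideal AlgInt) [M.IsPrime] (z : ℂ) : kres M :=
  open Classical in if h : MemLocalRing M z then red M ⟨z, h⟩ else 0

theorem redC_eq {z : ℂ} (h : MemLocalRing M z) : redC M z = red M ⟨z, h⟩ := dif_pos h

theorem redC_coe (z : lring M) : redC M (z : ℂ) = red M z := redC_eq z.2

theorem redC_eq_zero_iff {z : ℂ} (h : MemLocalRing M z) : redC M z = 0 ↔ MemLocalIdeal M z := by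
  rw [redC_eq h, red_eq_zero]

theorem redC_eq_iff {z w : ℂ} (hz : MemLocalRing M z) (hw : MemLocalRing M w) :
    redC M z = redC M w ↔ MemLocalIdeal M (z - w) := by
  rw [redC_eq hz, redC_eq hw, red_eq_red]

theorem redC_one : redC M (1 : ℂ) = 1 := by
  rw [← map_one (red M), ← redC_coe]
  rfl

theorem redC_zero : redC M (0 : ℂ) = 0 := by
  rw [← map_zero (red M), ← redC_coe]
  rfl

theorem redC_add {z w : ℂ} (hz : MemLocalRing M z) (hw : MemLocalRing M w) :
    redC M (z + w) = redC M z + redC M w := by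
  rw [redC_eq hz, redC_eq hw, redC_eq (memLocalRing_add hz hw), ← map_add]
  rfl

theorem redC_mul {z w : ℂ} (hz : MemLocalRing M z) (hw : MemLocalRing M w) :
    redC M (z * w) = redC M z * redC M w := by
  rw [redC_eq hz, redC_eq hw, redC_eq (memLocalRing_mul hz hw), ← map_mul]
  rfl

theorem memLocalRing_natCast (n : ℕ) : MemLocalRing M (n : ℂ) := by
  simpa using memLocalRing_coe (M := M) (n : AlgInt)

theorem memLocalRing_intCast (n : ℤ) : MemLocalRing M (n : ℂ) := by
  simpa using memLocalRing_coe (M := M) (n : AlgInt)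

end

section modular

variable {p : ℕ} (hM : IsPModular p M)
include hM

theorem natCast_mem_iff (n : ℕ) : (n : AlgInt) ∈ M ↔ p ∣ n := by
  have := isPrime_of_pmodular hM
  constructor
  · intro hn
    by_contra hdvd
    have hcop : Nat.Coprime p n := (Nat.Prime.coprime_iff_not_dvd hM.1).2 hdvd
    have hz : IsCoprime (p : ℤ) (n : ℤ) := Int.isCoprime_iff_gcd_eq_one.2 (by simpa using hcop)
    obtain ⟨u, v, huv⟩ := hz
    apply one_not_mem (M := M)
    have h1 : ((u * (p : ℤ) + v * (n : ℤ) : ℤ) : AlgInt) = 1 := by rw [huv]; simp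
    rw [← h1]
    push_cast
    exact M.add_mem (M.mul_mem_left _ hM.2.2) (M.mul_mem_left _ hn)
  · rintro ⟨c, rfl⟩
    push_cast
    exact M.mul_mem_right _ hM.2.2

theorem memLocalIdeal_natCast_iff (n : ℕ) : MemLocalIdeal M (n : ℂ) ↔ p ∣ n := by
  have := isPrime_of_pmodular hM
  rw [← natCast_mem_iff hM, ← memLocalIdeal_coe_iff]
  simp

theorem memLocalRing_inv_natCast {n : ℕ} (hn : ¬ p ∣ n) : MemLocalRing M (n : ℂ)⁻¹ := by
  have := isPrime_of_pmodular hM
  exact inv_memLocalRing (memLocalRing_natCast n) (fun h => hn ((memLocalIdeal_natCast_iff hM n).1 h))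

theorem charP_kres [M.IsPrime] : CharP (kres M) p := by
  refine ⟨fun n => ?_⟩
  have h := red_eq_zero (M := M) (z := (n : lring M))
  rw [map_natCast] at h
  rw [h]
  simpa using memLocalIdeal_natCast_iff hM n

/-- The only prime ideal below `M` containing `p` is `M`. -/
theorem prime_eq_of_le {Q : Ideal AlgInt} [Q.IsPrime] (hp : (p : AlgInt) ∈ Q) (hQ : Q ≤ M) :
    Q = M := by
  have hpmax : (Ideal.span {(p : ℤ)}).IsMaximal :=
    PrincipalIdealRing.isMaximal_of_irreducible (Nat.prime_iff_prime_int.1 hM.1).irreducible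
  have hle : Ideal.span {(p : ℤ)} ≤ Q.comap (algebraMap ℤ AlgInt) := by
    rw [Ideal.span_le, Set.singleton_subset_iff]
    simpa using hp
  have hne : Q.comap (algebraMap ℤ AlgInt) ≠ ⊤ := Ideal.comap_ne_top _ (Ideal.IsPrime.ne_top ‹_›)
  have hQmax : Q.IsMaximal := by
    apply Ideal.isMaximal_of_isIntegral_of_isMaximal_comap (R := ℤ)
    change (Q.comap (algebraMap ℤ AlgInt)).IsMaximal
    exact hpmax.eq_of_le hne hle ▸ hpmax
  exact hQmax.eq_of_le hM.2.1.ne_top hQ

theorem exists_pow_mul_mem {x : AlgInt} (hx : x ∈ M) :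
    ∃ (n : ℕ) (b : AlgInt), b ∉ M ∧ x ^ n * b ∈ Ideal.span {(p : AlgInt)} := by
  have := isPrime_of_pmodular hM
  by_contra h
  push Not at h
  let S : Submonoid AlgInt :=
    { carrier := {y | ∃ (n : ℕ) (b : AlgInt), b ∉ M ∧ y = x ^ n * b}
      one_mem' := ⟨0, 1, one_not_mem, by simp⟩
      mul_mem' := by
        rintro y z ⟨n, b, hb, rfl⟩ ⟨m, c, hc, rfl⟩
        exact ⟨n + m, b * c, mul_not_mem hb hc, by rw [pow_add]; ring⟩ }
  have hdis : Disjoint (Ideal.span {(p : AlgInt)} : Set AlgInt) S := by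
    rw [Set.disjoint_right]
    rintro y ⟨n, b, hb, rfl⟩ hy
    exact h n b hb hy
  obtain ⟨Q, hQp, hle, hQS⟩ := Ideal.exists_le_prime_disjoint _ _ hdis
  have hQM : Q ≤ M := by
    intro b hb
    by_contra hbM
    exact Set.disjoint_left.1 hQS hb ⟨0, b, hbM, by simp⟩
  have hQ := prime_eq_of_le hM (Q := Q) (hle (Ideal.mem_span_singleton_self _)) hQM
  exact Set.disjoint_left.1 hQS (hQ ▸ hx : x ∈ Q) ⟨1, 1, one_not_mem, by simp⟩

/-- A power of an element of the local ideal is divisible by `p` in the local ring. -/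
theorem exists_pow_div_memLocalRing {z : ℂ} (hz : MemLocalIdeal M z) :
    ∃ n : ℕ, MemLocalRing M (z ^ n / (p : ℂ)) := by
  have := isPrime_of_pmodular hM
  obtain ⟨a, c, ha, hc, rfl⟩ := hz
  obtain ⟨n, b, hb, hmem⟩ := exists_pow_mul_mem hM ha
  obtain ⟨d, hd⟩ := Ideal.mem_span_singleton'.1 hmem
  refine ⟨n, d, c ^ n * b, mul_not_mem ?_ hb, ?_⟩
  · intro h
    exact hc (Ideal.IsPrime.mem_of_pow_mem inferInstance n h)
  · have hp0 : (p : ℂ) ≠ 0 := by exact_mod_cast hM.1.ne_zero
    have h1 := coe_ne_zero_of_not_mem hc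
    have h2 := coe_ne_zero_of_not_mem hb
    have hd' : (a : ℂ) ^ n * (b : ℂ) = (d : ℂ) * (p : ℂ) := by
      have := congrArg (fun t : AlgInt => (t : ℂ)) hd
      simpa using this.symm
    push_cast
    rw [div_pow]
    field_simp
    linear_combination -hd'

theorem exists_pow_div_natCast {z : ℂ} (hz : MemLocalIdeal M z) {m : ℕ} (hm : m ≠ 0) :
    ∃ n : ℕ, MemLocalRing M (z ^ n / (m : ℂ)) := by
  have := isPrime_of_pmodular hM
  obtain ⟨n, hn⟩ := exists_pow_div_memLocalRing hM hz
  obtain ⟨e, u, hu, rfl⟩ := Nat.exists_eq_pow_mul_and_not_dvd hm p hM.1.ne_one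
  refine ⟨n * e, ?_⟩
  have : z ^ (n * e) / ((p ^ e * u : ℕ) : ℂ) = (z ^ n / (p : ℂ)) ^ e * (u : ℂ)⁻¹ := by
    push_cast
    rw [pow_mul, div_pow]
    field_simp
  rw [this]
  exact memLocalRing_mul (Subring.pow_mem (lring M) hn e) (memLocalRing_inv_natCast hM hu)

/-- Every algebraic number or its inverse is in the local ring. -/
theorem mem_or_inv_mem {z : ℂ} (hz : IsAlgebraic ℤ z) :
    MemLocalRing M z ∨ MemLocalRing M z⁻¹ := by
  have := isPrime_of_pmodular hM
  rcases eq_or_ne z 0 with rfl | hz0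
  · exact Or.inl (Subring.zero_mem (lring M))
  -- it suffices to find integral `b`, `z * b` not both in `M`
  by_contra hcon
  push Not at hcon
  have key : ∀ (b : ℂ), IsIntegral ℤ b → IsIntegral ℤ (z * b) → MemLocalIdeal M b := by
    intro b hb hzb
    by_contra hbM
    apply hcon.1
    have hb0 : b ≠ 0 := by
      rintro rfl
      exact hbM memLocalIdeal_zero
    have : z = z * b * b⁻¹ := by field_simp
    rw [this]
    exact memLocalRing_mul (memLocalRing_of_isIntegral hzb)
      (inv_memLocalRing (memLocalRing_of_isIntegral hb) hbM)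
  have key2 : ∀ (b : ℂ), IsIntegral ℤ b → IsIntegral ℤ (z * b) → MemLocalIdeal M (z * b) := by
    intro b hb hzb
    by_contra hbM
    apply hcon.2
    have hb0 : b ≠ 0 := by
      rintro rfl
      rw [mul_zero] at hbM
      exact hbM memLocalIdeal_zero
    have : z⁻¹ = b * (z * b)⁻¹ := by field_simp
    rw [this]
    exact memLocalRing_mul (memLocalRing_of_isIntegral hb)
      (inv_memLocalRing (memLocalRing_of_isIntegral hzb) hbM)
  -- all coefficients of a relation are in the ideal
  have main : ∀ (d : ℕ) (f : Polynomial AlgInt), f.natDegree ≤ d → Polynomial.aeval z f = 0 →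
      ∀ i, f.coeff i ∈ M := by
    intro d
    induction d with
    | zero =>
      intro f hf h0 i
      rw [Polynomial.eq_C_of_natDegree_le_zero hf] at h0 ⊢
      rw [Polynomial.aeval_C] at h0
      have hc : f.coeff 0 = 0 := Subtype.ext h0
      simp [hc]
    | succ d ih =>
      intro f hf h0 i
      rcases Nat.lt_or_ge f.natDegree (d + 1) with h | h
      · exact ih f (by omega) h0 i
      have hdeg : f.natDegree = d + 1 := le_antisymm hf h
      set a := f.leadingCoeff with ha
      have hint : IsIntegral AlgInt (a • z) := isIntegral_leadingCoeff_smul f z h0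
      have hint' : IsIntegral ℤ (z * (a : ℂ)) := by
        have := isIntegral_trans (R := ℤ) (a • z) hint
        simpa [Algebra.smul_def, mul_comm] using this
      have haM : a ∈ M := memLocalIdeal_coe_iff.1 (key _ a.2 hint')
      let c : AlgInt := ⟨z * (a : ℂ), hint'⟩
      have hcM : c ∈ M := memLocalIdeal_coe_iff.1 (key2 _ a.2 hint')
      let g : Polynomial AlgInt := f.eraseLead + Polynomial.monomial d c
      have hg : g.natDegree ≤ d := by
        refine (Polynomial.natDegree_add_le _ _).trans (max_le ?_ (Polynomial.natDegree_monomial_le _))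
        have := Polynomial.eraseLead_natDegree_le (f := f)
        omega
      have hg0 : Polynomial.aeval z g = 0 := by
        have h1 := Polynomial.eraseLead_add_monomial_natDegree_leadingCoeff f
        rw [← h1] at h0
        simp only [g, map_add, Polynomial.aeval_monomial, hdeg] at h0 ⊢
        rw [← h0]
        change _ + (z * (a : ℂ)) * z ^ d = _ + (a : ℂ) * z ^ (d + 1)
        rw [pow_succ]
        ring
      rcases eq_or_ne i (d + 1) with rfl | hi
      · rw [← hdeg]; exact haM
      have hgi := ih g hg hg0 i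
      have hgi' : g.coeff i = f.coeff i + if d = i then c else 0 := by
        simp [g, Polynomial.eraseLead_coeff, hdeg, hi, Polynomial.coeff_monomial]
      rw [hgi'] at hgi
      split at hgi
      · exact (Ideal.add_mem_iff_left _ hcM).1 hgi
      · simpa using hgi
  obtain ⟨f, hf0, hfz⟩ := hz
  have hfp := f.eq_C_content_mul_primPart
  have hpp : Polynomial.aeval z f.primPart = 0 := Polynomial.aeval_primPart_eq_zero hf0 hfz
  have hall : ∀ i, (p : ℤ) ∣ f.primPart.coeff i := by
    intro i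
    have h := main _ (f.primPart.map (algebraMap ℤ AlgInt)) le_rfl
      (by rw [Polynomial.aeval_map_algebraMap]; exact hpp) i
    rw [Polynomial.coeff_map] at h
    generalize f.primPart.coeff i = m at h
    have : ((m.natAbs : ℕ) : AlgInt) ∈ M := by
      rcases Int.natAbs_eq m with hm | hm <;> rw [hm] at h <;> simpa using h
    exact Int.natCast_dvd.2 ((natCast_mem_iff hM _).1 this)
  have : IsUnit (p : ℤ) :=
    f.isPrimitive_primPart (p : ℤ) ((Polynomial.C_dvd_iff_dvd_coeff _ _).2 hall)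
  exact (Nat.prime_iff_prime_int.1 hM.1).not_isUnit this

end modular

end CfsgLib.Block
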