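import Cfsg.Agent.Lib.Block.BRRecognition
import Cfsg.Agent.Lib.BlockB.PrincipalKer
import Cfsg.Agent.Lib.Comp.Local

/-!
The Brauer–Reynolds theorem for perfect groups with a Sylow subgroup of prime order.
-/

set_option autoImplicit false
set_option linter.unusedSectionVars false

namespace CfsgLib.Block.BrauerReynolds

open Cfsg CfsgLib CfsgLib.Block
open scoped ComplexConjugate

universe u

/-- In characteristic two `SL₂ = PSL₂`. -/
theorem psl_equiv_sl_char_two (F : Type) [Field F] [Fintype F] {m : ℕ} (hm : 0 < m)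
    (hF : Fintype.card F = 2 ^ m) :
    Nonempty (Matrix.ProjectiveSpecialLinearGroup (Fin 2) F ≃* Matrix.SpecialLinearGroup (Fin 2) F) := by
  have h2 : ringChar F = 2 := FiniteField.even_card_iff_char_two.2 (by
    rw [hF]
    obtain ⟨k, rfl⟩ := Nat.exists_eq_add_of_le hm
    rw [pow_add, pow_one, Nat.mul_mod_right])
  haveI : CharP F 2 := ringChar.of_eq h2
  have hc : Subgroup.center (Matrix.SpecialLinearGroup (Fin 2) F) = ⊥ := by
    rw [Subgroup.eq_bot_iff_forall]
    intro A hA
    obtain ⟨r, hr, hr'⟩ := Matrix.SpecialLinearGroup.mem_center_iff.1 hA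
    rw [Fintype.card_fin] at hr
    have hr1 : r = 1 := by
      rcases sq_eq_one_iff.1 hr with h | h
      · exact h
      · rw [h, CharTwo.neg_eq]
    rw [hr1, map_one] at hr'
    exact Subtype.ext hr'.symm
  exact ⟨(QuotientGroup.quotientMulEquivOfEq hc).trans QuotientGroup.quotientBot⟩

variable {G : Type u} [Group G] [Finite G] {p : ℕ} [hpf : Fact p.Prime]

/-- Modulo `O_{p'}` the Sylow subgroup is self-centralizing and the Sylow count is unchanged. -/
theorem quotient_data (P : Sylow p G) (hP : Nat.card P = p) {M : Ideal AlgInt}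
    (hM : IsPModular p M) {n e t a b w d₀ : ℕ} {σ : ℤ} {Xp Xm Y : Finset (IrrCharacter G)}
    (hn : Nat.card (Sylow p G) = 1 + n * p) (D : Data M P n e t a b w d₀ σ Xp Xm Y)
    (hHn : (Cfsg.pPrimeCore p G).Normal) :
    (Cfsg.pPrimeCore p G) ≤ Subgroup.centralizer ((P : Subgroup G) : Set G) ∧
      ∃ Q : Sylow p (G ⧸ Cfsg.pPrimeCore p G), Nat.card Q = p ∧
        Subgroup.centralizer ((Q : Subgroup (G ⧸ Cfsg.pPrimeCore p G)) : Set _) =
          (Q : Subgroup (G ⧸ Cfsg.pPrimeCore p G)) ∧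
        Nat.card (Sylow p (G ⧸ Cfsg.pPrimeCore p G)) = 1 + n * p := by
  classical
  have := isPrime_of_pmodular hM
  have := Fintype.ofFinite G
  have := Fintype.ofFinite (IrrCharacter G)
  have hp : p.Prime := hpf.out
  set H := Cfsg.pPrimeCore p G with hHdef
  set C := Subgroup.centralizer ((P : Subgroup G) : Set G) with hCdef
  set π := QuotientGroup.mk' H
  have hHcop : (Nat.card H).Coprime p := CfsgLib.Solvable.pPrimeCore_coprime p
  have hHp : ¬ p ∣ Nat.card H := hp.coprime_iff_not_dvd.1 hHcop.symm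
  obtain ⟨y, hyP, hy1⟩ : ∃ y ∈ (P : Subgroup G), y ≠ 1 := by
    refine Subgroup.bot_or_exists_ne_one _ |>.resolve_left fun h => ?_
    rw [h, Subgroup.card_bot] at hP
    exact hp.ne_one hP.symm
  have hz1 : ¬ p ∣ orderOf (1 : G) := by rw [orderOf_one]; exact hp.not_dvd_one
  have hpn : ∀ z : G, z ∈ (P : Subgroup G) → z ≠ 1 → orderOf z = p := fun z hz hz1 => by
    refine orderOf_eq_prime ?_ hz1
    have h := pow_card_eq_one' (x := (⟨z, hz⟩ : ↥(P : Subgroup G)))
    rw [hP] at h
    exact congrArg Subtype.val h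
  -- `p`-regular elements of `C(P)` lie in `O_{p'}(G)`
  obtain ⟨φ, hφ⟩ := Finset.card_pos.1 (D.card_Xm ▸ D.b_pos)
  have hreg : ∀ z ∈ C, ¬ p ∣ orderOf z → z ∈ H := by
    obtain ⟨m, ρ, hρ, hρφ⟩ := φ.2
    have hker : ∀ g : G, g ∈ (MonoidHom.ker ρ : Subgroup G) ↔ (φ : G → ℂ) g = (φ : G → ℂ) 1 :=
      fun g => by rw [Char.mem_ker_iff_char, hρφ]
    have hKcop : (Nat.card (MonoidHom.ker ρ : Subgroup G)).Coprime p := by
      refine ((hp.coprime_iff_not_dvd).2 fun hd => ?_).symm
      obtain ⟨⟨z, hzK⟩, hz⟩ := exists_prime_orderOf_dvd_card' (G := (MonoidHom.ker ρ : Subgroup G)) p hd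
      rw [Subgroup.orderOf_mk] at hz
      obtain ⟨Q, hQ⟩ := (IsPGroup.of_card (n := 1) (G := Subgroup.zpowers z)
        (by rw [Nat.card_zpowers, hz, pow_one])).exists_le_sylow
      obtain ⟨x, hx⟩ := MulAction.exists_smul_eq G Q P
      have hxP : x * z * x⁻¹ ∈ (P : Subgroup G) := by
        rw [← hx, Sylow.coe_subgroup_smul]
        exact Subgroup.smul_mem_pointwise_smul _ (MulAut.conj x) (Q : Subgroup G)
          (hQ (Subgroup.mem_zpowers _))
      have h1 := (hker _).1 ((inferInstance : (MonoidHom.ker ρ : Subgroup G).Normal).conj_mem z hzK x)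
      have h2 := D.Xm_val φ hφ _ hxP (fun h => by
        have : z = 1 := by simpa using h
        rw [this, orderOf_one] at hz; exact hp.ne_one hz.symm) 1 (Subgroup.one_mem _) hz1
      rw [mul_one, h1, D.Xm_deg φ hφ] at h2
      have h3 : (((p - 1 : ℕ) + 1 : ℕ) : ℂ) = 0 := by rw [Nat.cast_add, h2]; simp
      have := Nat.cast_eq_zero.1 h3
      omega
    intro z hz hzr
    refine CfsgLib.Solvable.le_pPrimeCore (inferInstance : (MonoidHom.ker ρ : Subgroup G).Normal)
      hKcop ((hker z).2 ?_)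
    have := Fintype.ofFinite (P : Subgroup G)
    have hval : ∀ u : ↥(P : Subgroup G), u ≠ 1 → (φ : G → ℂ) (z * u) = -1 := fun u hu => by
      have h := D.Xm_val φ hφ u u.2 (fun h => hu (Subtype.ext h)) z hz hzr
      rwa [Subgroup.mem_centralizer_iff.1 hz _ u.2] at h
    have h0 : ∑ᶠ u : (P : Subgroup G), (φ : G → ℂ) u = 0 := by
      rw [finsum_eq_sum_of_fintype, ← Finset.add_sum_erase _ _ (Finset.mem_univ 1),
        Finset.sum_congr rfl (g := fun _ => (-1 : ℂ)) fun (u : ↥(P : Subgroup G)) hu => by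
          have h' := D.Xm_val φ hφ u u.2 (fun h => (Finset.mem_erase.1 hu).1 (Subtype.ext h)) 1
            (Subgroup.one_mem _) hz1
          rwa [mul_one] at h',
        Finset.sum_const, Finset.card_erase_of_mem (Finset.mem_univ _), Finset.card_univ,
        ← Nat.card_eq_fintype_card, hP, Subgroup.coe_one, D.Xm_deg φ hφ, nsmul_eq_mul, mul_neg_one,
        add_neg_cancel]
    have h := sum_mul_eq_zero (Char.irr_isCharacter φ.2) h0 z
    rw [finsum_eq_sum_of_fintype, ← Finset.add_sum_erase _ _ (Finset.mem_univ 1),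
      Finset.sum_congr rfl (g := fun _ => (-1 : ℂ)) fun (u : ↥(P : Subgroup G)) hu =>
        hval u (Finset.mem_erase.1 hu).1,
      Finset.sum_const, Finset.card_erase_of_mem (Finset.mem_univ _), Finset.card_univ,
      ← Nat.card_eq_fintype_card, hP, Subgroup.coe_one, mul_one, nsmul_eq_mul, mul_neg_one,
      add_neg_eq_zero] at h
    rw [h, D.Xm_deg φ hφ]
  -- the kernel of the principal block
  have hkerB : ∀ χ ∈ principalBlock M G, ∀ h ∈ H, (χ : G → ℂ) h = (χ : G → ℂ) 1 :=
    fun χ hχ => BlockB.normal_le_ker_principal hM H hHp hχ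
  have hPp : IsPGroup p (P : Subgroup G) := P.isPGroup'
  have hmapC := CfsgLib.Comp.map_centralizer_eq hHcop hPp
  set Cb := C.map π with hCb
  set K := (Subgroup.centralizer ({π y} : Set (G ⧸ H))).index with hK
  have hcen : Subgroup.centralizer ({π y} : Set (G ⧸ H)) = Cb := by
    rw [← Subgroup.centralizer_closure, ← Subgroup.zpowers_eq_closure, ← MonoidHom.map_zpowers,
      show Subgroup.zpowers y = (P : Subgroup G) from
        Subgroup.eq_of_le_of_card_ge (Subgroup.zpowers_le.2 hyP)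
          (by rw [Nat.card_zpowers, hpn y hyP hy1, hP])]
    exact hmapC.symm
  -- lifting members of the block
  have hlift : ∀ χ ∈ principalBlock M G,
      ∃ ψ : IrrCharacter (G ⧸ H), ∀ g, (ψ : G ⧸ H → ℂ) (π g) = (χ : G → ℂ) g := fun χ hχ => by
    obtain ⟨ψ, hψ, he⟩ := Char.isIrr_quotient_lift H χ.2 (hkerB χ hχ)
    exact ⟨⟨ψ, hψ⟩, fun g => (congrFun he g).symm⟩
  have homega : ∀ (s : Finset (IrrCharacter G)), (∀ i ∈ s, i ∈ principalBlock M G) → ∀ {d : ℕ},
      0 < d → (∀ i ∈ s, (i : G → ℂ) 1 = (d : ℂ)) → ∀ {σ' : ℤ}, σ' = 1 ∨ σ' = -1 →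
      ∑ i ∈ s, (i : G → ℂ) y = (σ' : ℂ) → d ∣ K := by
    intro s hs d hd hdeg σ' hσ' hsum
    choose ψ hψ using fun i : s => hlift i.1 (hs i.1 i.2)
    refine dvd_of_omega_sum Finset.univ ψ (π y) hd (fun i _ => ?_) hσ' ?_
    · rw [show (1 : G ⧸ H) = π 1 from (map_one π).symm, hψ, hdeg i.1 i.2]
    · rw [Finset.sum_congr rfl fun i _ => hψ i y, ← hsum]
      exact Finset.sum_coe_sort s fun i => (i : G → ℂ) y
  -- the index relation
  set c₀ := Nat.card (H.subgroupOf C)
  have hCcard : Nat.card Cb * c₀ = Nat.card C := by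
    have hker : (π.comp C.subtype).ker = H.subgroupOf C := by
      ext z
      simp [MonoidHom.mem_ker, π, Subgroup.mem_subgroupOf, QuotientGroup.eq_one_iff]
    have hrange : (π.comp C.subtype).range = Cb := by
      rw [MonoidHom.range_comp, Subgroup.range_subtype]
    rw [← hrange, ← Subgroup.index_ker, hker, Subgroup.index_mul_card]
  have hGcard : Nat.card (G ⧸ H) * Nat.card H = Nat.card G :=
    (Subgroup.card_eq_card_quotient_mul_card_subgroup H).symm
  have hCidx : C.index = e * (1 + n * p) := by rw [hCdef, index_centralizer, D.e_eq, hn]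
  have hKeq : K * Nat.card H = e * (1 + n * p) * c₀ := by
    refine Nat.eq_of_mul_eq_mul_right (Nat.card_pos : 0 < Nat.card Cb) ?_
    calc K * Nat.card H * Nat.card Cb = (K * Nat.card Cb) * Nat.card H := by ring
      _ = Nat.card G := by rw [hK, hcen, Subgroup.index_mul_card, hGcard]
      _ = C.index * Nat.card C := (Subgroup.index_mul_card _).symm
      _ = _ := by rw [hCidx, ← hCcard]; ring
  have hfix : Nat.card H ≡ c₀ [MOD p] := by
    let act : MulAction (P : Subgroup G) H :=
      MulAction.compHom H ((MulAut.conjNormal (H := H)).comp (P : Subgroup G).subtype)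
    have h := hPp.card_modEq_card_fixedPoints H
    refine h.trans ?_
    suffices hc : Nat.card (MulAction.fixedPoints (P : Subgroup G) H) = c₀ by rw [hc]
    have hfp : ∀ x : H, x ∈ MulAction.fixedPoints (P : Subgroup G) H ↔ (x : G) ∈ C := fun x => by
      rw [MulAction.mem_fixedPoints, hCdef, Subgroup.mem_centralizer_iff]
      constructor
      · intro hx u hu
        have h1 := congrArg Subtype.val (hx ⟨u, hu⟩)
        change u * (x : G) * u⁻¹ = x at h1
        exact mul_inv_eq_iff_eq_mul.1 h1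
      · intro hx u
        refine Subtype.ext ?_
        change (u : G) * (x : G) * (u : G)⁻¹ = x
        exact mul_inv_eq_iff_eq_mul.2 (hx u u.2)
    exact Nat.card_congr
      { toFun := fun x => ⟨⟨(x : H), (hfp x).1 x.2⟩, (x : H).2⟩
        invFun := fun x => ⟨⟨((x : C) : G), x.2⟩, (hfp _).2 (x : C).2⟩
        left_inv := fun x => rfl
        right_inv := fun x => rfl }
  have hKmod : K ≡ e [MOD p] := by
    have hc0 : ¬ p ∣ c₀ := fun h => hHp (((Nat.ModEq.dvd_iff hfix dvd_rfl)).2 h)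
    have h1 : K * c₀ ≡ e * c₀ [MOD p] := by
      refine (Nat.ModEq.mul_left K hfix).symm.trans ?_
      rw [hKeq]
      have : 1 + n * p ≡ 1 [MOD p] := by
        simp [Nat.ModEq]
      simpa using (this.mul_left e).mul_right c₀
    exact Nat.ModEq.cancel_right_of_coprime ((hp.coprime_iff_not_dvd).2 hc0) h1
  have hKle : K ≤ e * (1 + n * p) := by
    have hle : c₀ ≤ Nat.card H :=
      Nat.card_le_card_of_injective (fun x : H.subgroupOf C => (⟨((x : C) : G), x.2⟩ : H))
        fun x z h => Subtype.ext (Subtype.ext (congrArg (fun w : H => (w : G)) h))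
    have h1 : K * Nat.card H ≤ e * (1 + n * p) * Nat.card H := by
      rw [hKeq]; exact Nat.mul_le_mul_left _ hle
    exact Nat.le_of_mul_le_mul_right h1 Nat.card_pos
  have hmemB : ∀ χ, χ ∈ Xp ∨ χ ∈ Xm ∨ χ ∈ Y → χ ∈ principalBlock M G := fun χ h =>
    (D.mem χ).2 (Or.inr h)
  have hep : e < p := by
    have := D.hte; have := D.e_two
    rcases Nat.eq_zero_or_pos t with ht | ht
    · subst ht; have := hp.two_le; omega
    · have : 1 * e ≤ t * e := Nat.mul_le_mul_right _ ht
      omega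
  have hKfull : K = e * (1 + n * p) := by
    rcases D.alt with ⟨hw, -, -⟩ | ⟨-, -, hd, hσ⟩
    · have ha : 0 < a := by
        have h := D.count'
        have := D.e_two
        rcases Nat.eq_zero_or_pos a with ha | ha
        · rw [ha, hw, zero_mul] at h; omega
        · exact ha
      obtain ⟨χ, hχ⟩ := Finset.card_pos.1 (D.card_Xp ▸ ha)
      obtain ⟨k, hk⟩ := homega {χ} (fun i hi => hmemB i (Or.inl (Finset.mem_singleton.1 hi ▸ hχ)))
        (d := 1 + n * p) (by omega) (fun i hi => D.Xp_deg i (Finset.mem_singleton.1 hi ▸ hχ))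
        (σ' := 1) (Or.inl rfl) (by
          rw [Finset.sum_singleton]
          have h := D.Xp_val χ hχ y hyP hy1 1 (Subgroup.one_mem _) hz1
          rw [mul_one] at h; simpa using h)
      have hkle : k ≤ e := by
        refine Nat.le_of_mul_le_mul_left ?_ (by omega : 0 < 1 + n * p)
        rw [← hk, mul_comm]; exact hKle
      have hke : k ≡ e [MOD p] := by
        have h1 : k ≡ K [MOD p] := by
          rw [hk]
          have : 1 + n * p ≡ 1 [MOD p] := by simp [Nat.ModEq]
          simpa using (this.mul_right k).symm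
        exact h1.trans hKmod
      rw [hk, hke.eq_of_lt_of_lt (lt_of_le_of_lt hkle hep) hep, mul_comm]
    · have ht : 0 < t := Nat.pos_of_ne_zero fun h0 => by rw [h0, zero_mul] at hd; omega
      obtain ⟨η, hη⟩ := Finset.card_pos.1 (D.card_Y ▸ ht)
      have hd0 : 0 < d₀ := Nat.pos_of_ne_zero fun h0 => by rw [h0, mul_zero] at hd; omega
      have hrel := D.relation η hη 1 hz1
      rw [D.Y_deg η hη] at hrel
      have hcol : ∑ χ ∈ Y, (χ : G → ℂ) y = ((1 : ℤ) : ℂ) := by
        have h := sum_block_eq_zero_of_regular_singular hM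
          (isPBlock_principalBlock (M := M) (G := G)) (g := 1) (h := y⁻¹) hz1
          (by rw [orderOf_inv, hpn y hyP hy1])
        rw [finsum_mem_eq_finite_toFinset_sum _ (principalBlock M G).toFinite,
          show (principalBlock M G).toFinite.toFinset =
              insert (⟨fun _ => 1, Char.isIrrCharacter_one⟩ : IrrCharacter G) (Xp ∪ Xm ∪ Y) by
            ext χ
            simp only [Set.Finite.mem_toFinset, D.mem, Finset.mem_insert, Finset.mem_union, or_assoc]
            rw [Subtype.ext_iff],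
          Finset.sum_insert (by simp [D.one_not.1, D.one_not.2.1, D.one_not.2.2]),
          Finset.sum_union (Finset.disjoint_union_left.2 ⟨D.disj₂, D.disj₃⟩),
          Finset.sum_union D.disj₁] at h
        simp only [fun χ : IrrCharacter G => irr_conj_eq χ.2 y⁻¹, inv_inv] at h
        have e1 : ∑ χ ∈ Xp, (χ : G → ℂ) 1 * (χ : G → ℂ) y = ∑ χ ∈ Xp, (χ : G → ℂ) 1 :=
          Finset.sum_congr rfl fun χ hχ => by
            have h' := D.Xp_val χ hχ y hyP hy1 1 (Subgroup.one_mem _) hz1
            rw [mul_one] at h'; rw [h', mul_one]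
        have e2 : ∑ χ ∈ Xm, (χ : G → ℂ) 1 * (χ : G → ℂ) y = -∑ χ ∈ Xm, (χ : G → ℂ) 1 := by
          rw [← Finset.sum_neg_distrib]
          exact Finset.sum_congr rfl fun χ hχ => by
            have h' := D.Xm_val χ hχ y hyP hy1 1 (Subgroup.one_mem _) hz1
            rw [mul_one] at h'; rw [h', mul_neg_one]
        have e3 : ∑ χ ∈ Y, (χ : G → ℂ) 1 * (χ : G → ℂ) y = (d₀ : ℂ) * ∑ χ ∈ Y, (χ : G → ℂ) y := by
          rw [Finset.mul_sum]
          exact Finset.sum_congr rfl fun χ hχ => by rw [D.Y_deg χ hχ]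
        rw [e1, e2, e3] at h
        simp only [map_one, mul_one] at h
        rw [hσ] at hrel
        refine mul_left_cancel₀ (Nat.cast_ne_zero.2 hd0.ne' : (d₀ : ℂ) ≠ 0) ?_
        push_cast at hrel ⊢
        linear_combination h - hrel
      obtain ⟨k, hk⟩ := homega Y (fun i hi => hmemB i (Or.inr (Or.inr hi))) hd0 D.Y_deg
        (σ' := 1) (Or.inl rfl) hcol
      have hte := D.hte
      have hkmod : p ∣ k + 1 := by
        have h1 : (p : ℤ) ∣ (e : ℤ) - (K : ℤ) := Nat.modEq_iff_dvd.1 hKmod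
        rw [hk] at h1
        push_cast at h1
        have hd' : (t : ℤ) * d₀ = 1 + n * p := by exact_mod_cast hd
        have hte' : (t : ℤ) * e + 1 = p := by exact_mod_cast hte
        refine Int.natCast_dvd_natCast.1 ?_
        push_cast
        have e1 : (k : ℤ) + 1 = (p : ℤ) * (1 - n * k) - (t : ℤ) * ((e : ℤ) - d₀ * k) := by
          linear_combination (k : ℤ) * (-hd') + hte'
        rw [e1]
        exact dvd_sub (dvd_mul_right _ _) (h1.mul_left _)
      have hkge : p - 1 ≤ k := by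
        have := Nat.le_of_dvd (by omega) hkmod
        omega
      refine le_antisymm hKle ?_
      rw [hk, ← hd]
      calc e * (t * d₀) = d₀ * (t * e) := by ring
        _ ≤ d₀ * k := Nat.mul_le_mul_left _ (by omega)
  have hHC : H ≤ C := by
    have heq : Nat.card H = c₀ := by
      rw [hKfull] at hKeq
      exact Nat.eq_of_mul_eq_mul_left (Nat.mul_pos (by have := D.e_two; omega) (by omega)) hKeq
    have hinj : Function.Injective (fun x : H.subgroupOf C => (⟨((x : C) : G), x.2⟩ : H)) :=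
      fun x z h => Subtype.ext (Subtype.ext (congrArg (fun w : H => (w : G)) h))
    obtain hsur := (hinj.bijective_of_nat_card_le (by rw [heq])).2
    intro x hx
    obtain ⟨z, hz⟩ := hsur ⟨x, hx⟩
    rw [← show ((z : C) : G) = x from congrArg Subtype.val hz]
    exact (z : C).2
  refine ⟨hHC, P.mapSurjective (QuotientGroup.mk'_surjective H), ?_, ?_, ?_⟩
  · refine Eq.trans ?_ hP
    rw [Sylow.coe_mapSurjective]
    refine le_antisymm (Nat.le_of_dvd Nat.card_pos (Subgroup.card_map_dvd _ _)) ?_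
    refine Nat.card_le_card_of_injective
      (fun u : ↥(P : Subgroup G) => (⟨π u, Subgroup.mem_map_of_mem _ u.2⟩ :
        ↥((P : Subgroup G).map π))) fun u v h => ?_
    have h1 : π u = π v := congrArg Subtype.val h
    have h2 : (u : G)⁻¹ * v ∈ H := QuotientGroup.eq.1 h1
    by_contra hne
    have h3 := hpn ((u : G)⁻¹ * v) (Subgroup.mul_mem _ (Subgroup.inv_mem _ u.2) v.2)
      (fun h0 => hne (Subtype.ext (inv_mul_eq_one.1 h0)))
    refine hHp ?_
    have h4 := orderOf_dvd_natCard (⟨_, h2⟩ : H)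
    rwa [Subgroup.orderOf_mk, h3] at h4
  · rw [Sylow.coe_mapSurjective, ← hmapC]
    refine (P.mapSurjective (QuotientGroup.mk'_surjective H)).is_maximal' ?_ ?_
    · intro q
      obtain ⟨g, hg, hgq⟩ := q.2
      refine ⟨1, ?_⟩
      refine Subtype.ext ?_
      rw [pow_one, Subgroup.coe_pow, Subgroup.coe_one, ← hgq, ← map_pow]
      refine (QuotientGroup.eq_one_iff _).2 (hreg _ (Subgroup.pow_mem _ hg p) fun hd => ?_)
      by_cases hgp : p ∣ orderOf g
      · rw [orderOf_pow' g hp.ne_zero, Nat.gcd_eq_right hgp] at hd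
        have hsq : p * p ∣ orderOf g := by
          have := Nat.mul_dvd_mul_right hd p
          rwa [Nat.div_mul_cancel hgp] at this
        have hG : Nat.card G = (Subgroup.normalizer ((P : Subgroup G) : Set G)).index *
            Nat.card (Subgroup.normalizer ((P : Subgroup G) : Set G)) :=
          (Subgroup.index_mul_card _).symm
        have h5 : (Nat.card G).factorization p = 1 := by
          have h := P.card_eq_multiplicity
          rw [hP] at h
          exact (Nat.pow_eq_self_iff hp.one_lt).1 h.symm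
        have h6 := (hp.pow_dvd_iff_le_factorization Nat.card_pos.ne').1
          (show p ^ 2 ∣ Nat.card G by rw [sq]; exact hsq.trans (orderOf_dvd_natCard g))
        omega
      · exact hgp (hd.trans (orderOf_pow_dvd p))
    · rw [Sylow.coe_mapSurjective]
      refine Subgroup.map_mono fun u hu => ?_
      rw [hCdef, Subgroup.mem_centralizer_iff]
      have : IsCyclic (P : Subgroup G) := isCyclic_of_prime_card hP
      let : CommGroup (P : Subgroup G) := IsCyclic.commGroup
      intro v hv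
      exact congrArg Subtype.val (mul_comm (⟨v, hv⟩ : ↥(P : Subgroup G)) ⟨u, hu⟩)
  · rw [Sylow.card_eq_index_normalizer (P.mapSurjective (QuotientGroup.mk'_surjective H)),
      ← hn, Sylow.card_eq_index_normalizer P]
    have h := CfsgLib.Comp.map_normalizer_eq hHcop hPp
    refine Eq.trans (congrArg Subgroup.index h.symm) ?_
    rw [Subgroup.index_map, QuotientGroup.ker_mk', QuotientGroup.range_mk', Subgroup.index_top, mul_one]
    congr 1
    exact sup_eq_left.2 (hHC.trans (Subgroup.centralizer_le_normalizer _))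

/-- **Brauer–Reynolds.** -/
theorem main (hperf : commutator G = ⊤) (P : Sylow p G) (hP : Nat.card P = p) {n : ℕ}
    (hn : Nat.card (Sylow p G) = 1 + n * p) (hF : ¬ Formula n p)
    (hHn : (Cfsg.pPrimeCore p G).Normal) :
    Cfsg.pPrimeCore p G ≤ Subgroup.centralizer ((P : Subgroup G) : Set G) ∧
    p ^ 3 ≤ 3 * Nat.card (G ⧸ Cfsg.pPrimeCore p G) ∧
    ((∃ (F : Type) (_ : Field F) (_ : Fintype F), Fintype.card F = p ∧ 3 < p ∧
        Nonempty (G ⧸ Cfsg.pPrimeCore p G ≃* Matrix.ProjectiveSpecialLinearGroup (Fin 2) F)) ∨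
      (∃ (m : ℕ) (F : Type) (_ : Field F) (_ : Fintype F), Fintype.card F = 2 ^ m ∧ p = 2 ^ m + 1 ∧
        3 < p ∧ Nonempty (G ⧸ Cfsg.pPrimeCore p G ≃* Matrix.SpecialLinearGroup (Fin 2) F))) := by
  obtain ⟨M, hM⟩ := BlockB.exists_isPModular (p := p) hpf.out
  obtain ⟨e, t, a, b, w, d₀, σ, Xp, Xm, Y, D⟩ := exists_data hperf hM P hP hn hF
  obtain ⟨hHC, Q, hQ, hCQ, hnQ⟩ := quotient_data P hP hM hn D hHn
  have hperf' : commutator (G ⧸ Cfsg.pPrimeCore p G) = ⊤ := by
    rw [_root_.commutator_def, ← Subgroup.map_top_of_surjective (QuotientGroup.mk' _)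
      (QuotientGroup.mk'_surjective (Cfsg.pPrimeCore p G)), ← Subgroup.map_commutator,
      ← _root_.commutator_def, hperf]
  obtain ⟨e', t', a', b', w', d', σ', Xp', Xm', Y', D'⟩ := exists_data hperf' hM Q hQ hnQ hF
  have hcard := natCard_group hQ hCQ hM hnQ D'
  have hte := D'.hte
  have he2 := D'.e_two
  rcases dichotomy hQ hCQ hM hnQ D' with ⟨hn1, ht⟩ | ⟨he, hnt, ht4, htm, τ, hτ, hc, hsq, hconj⟩
  · refine ⟨hHC, ?_, Or.inl (psl_prime hQ hCQ hM hnQ D' hperf' hn1 ht)⟩
    rw [hcard, hn1, one_mul]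
    subst ht
    have hp' : p = 2 * e' + 1 := hte.symm
    rw [hp']
    nlinarith [Nat.zero_le e', sq_nonneg ((e' : ℤ) - 1)]
  · obtain ⟨m, F, _, _, hF', hpm, hp3, ⟨ψ⟩⟩ :=
      psl_even hQ hCQ hM hnQ D' hperf' he hnt ht4 htm hτ hc hsq hconj
    have hm0 : 0 < m := Nat.pos_of_ne_zero fun h0 => by rw [h0, pow_zero] at hpm; omega
    obtain ⟨φ⟩ := psl_equiv_sl_char_two F hm0 hF'
    refine ⟨hHC, ?_, Or.inr ⟨m, F, inferInstance, inferInstance, hF', hpm, hp3, ⟨ψ.trans φ⟩⟩⟩
    rw [hcard, he]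
    subst he
    have hp' : p = t' * 2 + 1 := hte.symm
    have hn' : n + 1 = t' := hnt
    obtain ⟨s, rfl⟩ : ∃ s, t' = s + 4 := ⟨t' - 4, by omega⟩
    have hn'' : n = s + 3 := by omega
    rw [hp', hn'']
    nlinarith [Nat.zero_le (s * s), Nat.zero_le s]

/-- The count condition in `|G| < p³`. -/
theorem sylow_data_of_lt_cube (hperf : commutator G = ⊤) (hdvd : p ∣ Nat.card G)
    (hbig : Nat.card G < p ^ 3) (P : Sylow p G) (hnn : ¬ (P : Subgroup G).Normal) :
    Nat.card P = p ∧ ∃ n, Nat.card (Sylow p G) = 1 + n * p ∧ ¬ Formula n p := by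
  have hp : p.Prime := hpf.out
  obtain ⟨k, hk⟩ := IsPGroup.iff_card.1 P.isPGroup'
  have hk0 : 1 ≤ k := Nat.one_le_iff_ne_zero.2 fun h => by
    have := P.dvd_card_of_dvd_card hdvd
    rw [hk, h, pow_zero] at this
    exact hp.not_dvd_one this
  obtain ⟨n, hn⟩ : ∃ n, Nat.card (Sylow p G) = 1 + n * p := by
    have h := card_sylow_modEq_one p G
    have h0 : 0 < Nat.card (Sylow p G) := Nat.card_pos
    obtain ⟨n, hn⟩ := (Nat.modEq_iff_dvd' h0).1 h.symm
    exact ⟨n, by rw [mul_comm n p]; omega⟩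
  have hn0 : 0 < n := Nat.pos_of_ne_zero fun h => hnn (by
    rw [h, zero_mul, add_zero, Sylow.card_eq_index_normalizer P, Subgroup.index_eq_one] at hn
    exact Subgroup.normalizer_eq_top_iff.1 hn)
  set N := Subgroup.normalizer ((P : Subgroup G) : Set G)
  have hGN : Nat.card N * (1 + n * p) = Nat.card G := by
    rw [← hn, Sylow.card_eq_index_normalizer P]; exact Subgroup.card_mul_index _
  have hPN : Nat.card P ≤ Nat.card N :=
    Nat.le_of_dvd Nat.card_pos (Subgroup.card_dvd_of_le Subgroup.le_normalizer)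
  have hNp : p + 1 ≤ 1 + n * p := by nlinarith
  have hk1 : k = 1 := by
    by_contra hne
    have h1 : p ^ 2 ≤ Nat.card N := le_trans (Nat.pow_le_pow_right hp.pos (by omega)) (hk ▸ hPN)
    have h2 : p ^ 2 * (p + 1) ≤ Nat.card G := hGN ▸ Nat.mul_le_mul h1 hNp
    nlinarith
  rw [hk1, pow_one] at hk
  refine ⟨hk, n, hn, fun hF => ?_⟩
  have hb : p + 3 ≤ 2 * n := by
    by_contra hlt
    exact not_formula_of_bound hp.one_le (by omega) hF
  have h2 := two_le_relIndex hperf P hk
  have hC : p ≤ Nat.card (Subgroup.centralizer ((P : Subgroup G) : Set G)) := by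
    have : IsCyclic (P : Subgroup G) := isCyclic_of_prime_card hk
    let : CommGroup (P : Subgroup G) := IsCyclic.commGroup
    refine hk.symm.le.trans (Nat.le_of_dvd Nat.card_pos (Subgroup.card_dvd_of_le fun u hu => ?_))
    rw [Subgroup.mem_centralizer_iff]
    intro v hv
    exact congrArg Subtype.val (mul_comm (⟨v, hv⟩ : ↥(P : Subgroup G)) ⟨u, hu⟩)
  have hN2 : 2 * p ≤ Nat.card N := by
    rw [← ((Subgroup.centralizer ((P : Subgroup G) : Set G)).subgroupOf N).index_mul_card,
      Nat.card_congr (Subgroup.subgroupOfEquivOfLe (Subgroup.centralizer_le_normalizer _)).toEquiv]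
    exact Nat.mul_le_mul h2 hC
  have h3 : 2 * p * (1 + n * p) ≤ Nat.card G := hGN ▸ Nat.mul_le_mul_right _ hN2
  nlinarith

/-- `main` when `O_{p'}(G)` is trivial. -/
theorem main_of_core_eq_bot (hperf : commutator G = ⊤) (P : Sylow p G) (hP : Nat.card P = p) {n : ℕ}
    (hn : Nat.card (Sylow p G) = 1 + n * p) (hF : ¬ Formula n p)
    (hH : Cfsg.pPrimeCore p G = ⊥) :
    (∃ (F : Type) (_ : Field F) (_ : Fintype F), Fintype.card F = p ∧ 3 < p ∧
        Nonempty (G ≃* Matrix.ProjectiveSpecialLinearGroup (Fin 2) F)) ∨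
      (∃ (m : ℕ) (F : Type) (_ : Field F) (_ : Fintype F), Fintype.card F = 2 ^ m ∧ p = 2 ^ m + 1 ∧
        3 < p ∧ Nonempty (G ≃* Matrix.SpecialLinearGroup (Fin 2) F)) := by
  have hHn := CfsgLib.Solvable.pPrimeCore_normal (G := G) p
  let e : G ≃* G ⧸ Cfsg.pPrimeCore p G :=
    (QuotientGroup.quotientBot (G := G)).symm.trans (QuotientGroup.quotientMulEquivOfEq hH.symm)
  rcases (main hperf P hP hn hF hHn).2.2 with ⟨F, iF, iF', h1, h2, ⟨ψ⟩⟩ | ⟨m, F, iF, iF', h1, h2, h3, ⟨ψ⟩⟩
  · exact Or.inl ⟨F, iF, iF', h1, h2, ⟨e.trans ψ⟩⟩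
  · exact Or.inr ⟨m, F, iF, iF', h1, h2, h3, ⟨e.trans ψ⟩⟩

/-- `SL₂` restated as `PSL₂` in the second alternative. -/
theorem psl_form {R : Type u} [Group R]
    (h : (∃ (F : Type) (_ : Field F) (_ : Fintype F), Fintype.card F = p ∧ 3 < p ∧
        Nonempty (R ≃* Matrix.ProjectiveSpecialLinearGroup (Fin 2) F)) ∨
      (∃ (m : ℕ) (F : Type) (_ : Field F) (_ : Fintype F), Fintype.card F = 2 ^ m ∧ p = 2 ^ m + 1 ∧
        3 < p ∧ Nonempty (R ≃* Matrix.SpecialLinearGroup (Fin 2) F))) :
    (∃ (F : Type) (_ : Field F) (_ : Fintype F), Fintype.card F = p ∧ 3 < p ∧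
        Nonempty (R ≃* Matrix.ProjectiveSpecialLinearGroup (Fin 2) F)) ∨
      (∃ (m : ℕ) (F : Type) (_ : Field F) (_ : Fintype F), Fintype.card F = 2 ^ m ∧ p = 2 ^ m + 1 ∧
        3 < p ∧ Nonempty (R ≃* Matrix.ProjectiveSpecialLinearGroup (Fin 2) F)) := by
  rcases h with h | ⟨m, F, iF, iF', h1, h2, h3, ⟨ψ⟩⟩
  · exact Or.inl h
  · have hm : 0 < m := Nat.pos_of_ne_zero fun h0 => by rw [h0, pow_zero] at h2; omega
    obtain ⟨φ⟩ := psl_equiv_sl_char_two F hm h1
    exact Or.inr ⟨m, F, iF, iF', h1, h2, h3, ⟨ψ.trans φ.symm⟩⟩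

end CfsgLib.Block.BrauerReynolds
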