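import Cfsg.Agent.Lib.Block.BrauerTuan
import Cfsg.Agent.Lib.Block.BRTheorem
import Cfsg.Agent.Lib.Classical.PSLTwoPerm
import Cfsg.Agent.Lib.Transfer.Frobenius

/-!
The theorem of Brauer and Tuan.
-/

set_option autoImplicit false

namespace CfsgLib.Block.BrauerTuan

open Cfsg CfsgLib CfsgLib.Block

universe u

variable {G : Type u} [Group G] [Finite G]

theorem commutator_eq_top [IsSimpleGroup G] (hG : ¬ IsCyclic G) : commutator G = ⊤ := by
  rcases (inferInstance : (commutator G).Normal).eq_bot_or_eq_top with h | h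
  · exfalso
    apply hG
    let : CommGroup G := { (inferInstance : Group G) with
      mul_comm := fun a b => by
        have := ((commutator_eq_bot_iff_center_eq_top G).1 h).symm ▸ Subgroup.mem_top a
        exact (Subgroup.mem_center_iff.1 this b).symm }
    infer_instance
  · exact h

/-- The possible primes when `|PSL₂(p)| = p q^b g`. -/
theorem prime_shape {p q b g : ℕ} (hp5 : 5 ≤ p) (hodd : p % 2 = 1) (hq : q.Prime) (hg : g < p - 1)
    (hg0 : 0 < g) (heq : (p - 1) * (p + 1) = 2 * (q ^ b * g)) :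
    q = 2 ∧ ((p + 1 = 2 ^ b ∧ 2 * g + 1 = p) ∨ (p - 1 = 2 ^ b ∧ 2 * g = p + 1)) := by
  have hq2 : q = 2 := by
    by_contra hne
    have hd : q ^ b ∣ (p - 1) * (p + 1) := ⟨2 * g, by rw [heq]; ring⟩
    have hcases : q ^ b ∣ p - 1 ∨ q ^ b ∣ p + 1 := by
      by_cases h : q ∣ p - 1
      · have h' : ¬ q ∣ p + 1 := fun h2 => by
          have h3 := Nat.dvd_sub h2 h
          rw [show p + 1 - (p - 1) = 2 by omega] at h3
          exact hne ((Nat.prime_dvd_prime_iff_eq hq Nat.prime_two).1 h3)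
        exact Or.inl ((((hq.coprime_iff_not_dvd).2 h').pow_left b).dvd_of_dvd_mul_right hd)
      · exact Or.inr ((((hq.coprime_iff_not_dvd).2 h).pow_left b).dvd_of_dvd_mul_left hd)
    have hco : (q ^ b).Coprime 2 :=
      (((hq.coprime_iff_not_dvd).2 fun h => hne ((Nat.prime_dvd_prime_iff_eq hq Nat.prime_two).1 h))).pow_left b
    have hle : 2 * q ^ b ≤ p + 1 := by
      rcases hcases with h | h
      · have h2 := hco.symm.mul_dvd_of_dvd_of_dvd (show 2 ∣ p - 1 by omega) h
        have := Nat.le_of_dvd (by omega) h2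
        omega
      · have h2 := hco.symm.mul_dvd_of_dvd_of_dvd (show 2 ∣ p + 1 by omega) h
        exact Nat.le_of_dvd (by omega) h2
    have h3 : 2 * q ^ b * g < (p + 1) * (p - 1) :=
      lt_of_le_of_lt (Nat.mul_le_mul_right g hle) (Nat.mul_lt_mul_of_pos_left hg (by omega))
    rw [mul_assoc, mul_comm (p + 1)] at h3
    omega
  subst hq2
  refine ⟨rfl, ?_⟩
  have hside : ∀ m, m % 2 = 1 → m ∣ 2 ^ b * g → m ∣ g := fun m hm h =>
    (((Nat.prime_two.coprime_iff_not_dvd).2 (show ¬ 2 ∣ m by omega)).symm.pow_right b).dvd_of_dvd_mul_left h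
  by_cases h4 : p % 4 = 3
  · left
    obtain ⟨a, ha⟩ : ∃ a, p = 2 * a + 1 := ⟨p / 2, by omega⟩
    have h1 : a * (p + 1) = 2 ^ b * g := by
      refine Nat.eq_of_mul_eq_mul_left (show 0 < 2 by norm_num) ?_
      rw [← heq, show p - 1 = 2 * a by omega]; ring
    obtain ⟨c, hc⟩ := hside a (by omega) ⟨p + 1, h1.symm⟩
    have hc1 : c = 1 := by
      rcases Nat.lt_or_ge c 2 with h | h
      · interval_cases c <;> omega
      · have : a * 2 ≤ a * c := Nat.mul_le_mul_left _ h
        omega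
    subst hc1
    rw [mul_one] at hc
    subst hc
    exact ⟨Nat.eq_of_mul_eq_mul_left hg0 (by rw [h1, mul_comm]), by omega⟩
  · right
    obtain ⟨a, ha⟩ : ∃ a, p + 1 = 2 * a := ⟨(p + 1) / 2, by omega⟩
    have h1 : (p - 1) * a = 2 ^ b * g := by
      refine Nat.eq_of_mul_eq_mul_left (show 0 < 2 by norm_num) ?_
      rw [← heq, ha]; ring
    obtain ⟨c, hc⟩ := hside a (by omega) ⟨p - 1, by rw [← h1, mul_comm]⟩
    have hc1 : c = 1 := by
      rcases Nat.lt_or_ge c 2 with h | h
      · interval_cases c <;> omega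
      · have : a * 2 ≤ a * c := Nat.mul_le_mul_left _ h
        omega
    subst hc1
    rw [mul_one] at hc
    subst hc
    exact ⟨Nat.eq_of_mul_eq_mul_right hg0 h1, by omega⟩

/-- **Brauer–Tuan**, with the arithmetic of the two alternatives. -/
theorem main [IsSimpleGroup G] (hG : ¬ IsCyclic G) {p q b g₀ : ℕ} (hp : p.Prime) (hq : q.Prime)
    (hpq : p ≠ q) (hG' : Nat.card G = p * q ^ b * g₀) (hg : g₀ < p - 1) (hqg : ¬ q ∣ g₀) :
    (∃ (F : Type) (_ : Field F) (_ : Fintype F), Fintype.card F = p ∧ 5 ≤ p ∧ q = 2 ∧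
      ((p + 1 = 2 ^ b ∧ 2 * g₀ + 1 = p) ∨ (p - 1 = 2 ^ b ∧ 2 * g₀ = p + 1)) ∧
      Nonempty (G ≃* Matrix.ProjectiveSpecialLinearGroup (Fin 2) F)) ∨
    (∃ (m : ℕ) (F : Type) (_ : Field F) (_ : Fintype F), Fintype.card F = 2 ^ m ∧ p = 2 ^ m + 1 ∧
      3 < p ∧ Nonempty (G ≃* Matrix.ProjectiveSpecialLinearGroup (Fin 2) F)) := by
  haveI : Fact p.Prime := ⟨hp⟩
  have hperf := commutator_eq_top hG
  have hdvd : p ∣ Nat.card G := ⟨q ^ b * g₀, by rw [hG', mul_assoc]⟩
  have hbig := natCard_lt_cube hperf hp hq hpq hG' hg hqg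
  let P : Sylow p G := default
  have hnn : ¬ (P : Subgroup G).Normal := fun hn => by
    rcases hn.eq_bot_or_eq_top with h | h
    · have h1 := P.dvd_card_of_dvd_card hdvd
      rw [h, Subgroup.card_bot] at h1
      exact hp.not_dvd_one h1
    · have hpG : IsPGroup p G :=
        IsPGroup.of_equiv (h ▸ P.isPGroup' : IsPGroup p (⊤ : Subgroup G)) Subgroup.topEquiv
      haveI : Group.IsNilpotent G := hpG.isNilpotent
      exact (Group.IsSolvable.commutator_lt_top_of_nontrivial G).ne hperf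
  obtain ⟨hPc, n, hN, hF⟩ :=
    BrauerReynolds.sylow_data_of_lt_cube hperf hdvd hbig P hnn
  have hH : Cfsg.pPrimeCore p G = ⊥ := by
    rcases (CfsgLib.Solvable.pPrimeCore_normal p G : (Cfsg.pPrimeCore p G).Normal).eq_bot_or_eq_top
      with h | h
    · exact h
    · have h1 := CfsgLib.Solvable.pPrimeCore_coprime (G := G) p
      rw [h, Subgroup.card_top] at h1
      exact absurd hdvd (hp.coprime_iff_not_dvd.1 h1.symm)
  rcases BrauerReynolds.psl_form (BrauerReynolds.main_of_core_eq_bot hperf P hPc hN hF hH) with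
    ⟨F, iF, iF', h1, h2, ⟨ψ⟩⟩ | h
  · left
    have h3 := Classical.card_psl_two_mul (F := F)
    have hodd : p % 2 = 1 := (Nat.Prime.eq_two_or_odd hp).resolve_left (by omega)
    have hg2 : Nat.gcd 2 (p - 1) = 2 := Nat.gcd_eq_left (by omega)
    rw [h1, hg2, ← Nat.card_congr ψ.toEquiv, hG'] at h3
    have hp5 : 5 ≤ p := by
      by_contra hlt
      have : p = 4 := by omega
      omega
    have h4 : (p - 1) * (p + 1) = 2 * (q ^ b * g₀) := by
      refine Nat.eq_of_mul_eq_mul_left hp.pos ?_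
      rw [show (p - 1) * (p + 1) = p ^ 2 - 1 by
        rw [mul_comm, ← Nat.sq_sub_sq], ← h3]
      ring
    have hg0 : 0 < g₀ := Nat.pos_of_ne_zero fun h => hqg (h ▸ dvd_zero q)
    obtain ⟨hq2, hs⟩ := prime_shape hp5 hodd hq hg hg0 h4
    exact ⟨F, iF, iF', h1, hp5, hq2, hs, ⟨ψ⟩⟩
  · exact Or.inr h

/-- The order of a nonabelian simple group is not twice an odd number. -/
theorem four_dvd_of_two_dvd [IsSimpleGroup G] (hG : ¬ IsCyclic G) (h2 : 2 ∣ Nat.card G) :
    4 ∣ Nat.card G := by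
  by_contra h4
  haveI : Fact (Nat.Prime 2) := ⟨Nat.prime_two⟩
  let Q : Sylow 2 G := default
  obtain ⟨k, hk⟩ := IsPGroup.iff_card.1 Q.isPGroup'
  have hQ : Nat.card Q = 2 := by
    have h1 := Q.dvd_card_of_dvd_card h2
    rw [hk] at h1 ⊢
    have hk1 : k ≤ 1 := by
      by_contra h
      exact h4 ((pow_dvd_pow 2 (by omega : 2 ≤ k)).trans (hk ▸ Subgroup.card_subgroup_dvd_card (Q : Subgroup G)))
    interval_cases k
    · simp at h1
    · rfl
  obtain ⟨R, K, hK, hc⟩ := CfsgLib.Transfer.hasNormalPComplement_of_normalizer_le_centralizer Q (fun n hn => by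
    rw [Subgroup.mem_centralizer_iff]
    intro u hu
    by_cases hu1 : u = 1
    · simp [hu1]
    have hnu : n * u * n⁻¹ ∈ (Q : Subgroup G) := (Subgroup.mem_normalizer_iff.1 hn u).1 hu
    obtain ⟨a, c, -, hac⟩ := Nat.card_eq_two_iff.1 hQ
    have hall : ∀ w : (Q : Subgroup G), w = a ∨ w = c := fun w => by
      have : w ∈ ({a, c} : Set (Q : Subgroup G)) := hac ▸ Set.mem_univ w
      simpa using this
    have hne : n * u * n⁻¹ ≠ 1 := fun h => hu1 (by rwa [conj_eq_one_iff] at h)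
    have heq : (⟨n * u * n⁻¹, hnu⟩ : (Q : Subgroup G)) = ⟨u, hu⟩ := by
      rcases hall 1 with e1 | e1 <;> rcases hall ⟨u, hu⟩ with e2 | e2 <;>
        rcases hall ⟨n * u * n⁻¹, hnu⟩ with e3 | e3 <;>
        first
          | exact e3.trans e2.symm
          | exact absurd (congrArg Subtype.val (e2.trans e1.symm)) hu1
          | exact absurd (congrArg Subtype.val (e3.trans e1.symm)) hne
    exact (mul_inv_eq_iff_eq_mul.1 (congrArg Subtype.val heq)).symm)
  have hidx : K.index = 2 := by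
    rw [hc.symm.index_eq_card, Nat.card_congr (Sylow.equiv R Q).toEquiv, hQ]
  rcases hK.eq_bot_or_eq_top with h | h
  · rw [h, Subgroup.index_bot] at hidx
    exact hG (isCyclic_of_prime_card hidx)
  · rw [h, Subgroup.index_top] at hidx
    omega

end CfsgLib.Block.BrauerTuan
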