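import Mathlib.Tactic
import Mathlib.Data.Nat.Prime.Basic

/-!
Brauer–Reynolds arithmetic: divisors of `e * (1 + n * p)` congruent to `±1` modulo `p` force
`n = (h u p + u² + u + h) / (u + 1)`.
-/

set_option autoImplicit false

namespace CfsgLib.Block.BrauerReynolds

/-- The exceptional shape of the number of Sylow subgroups. -/
def Formula (n p : ℕ) : Prop :=
  ∃ h u : ℕ, 0 < h ∧ 0 < u ∧ n * (u + 1) = h * u * p + u ^ 2 + u + h

theorem formula_core {n p U : ℕ} (hp : p.Prime) (hU : 0 < U) (hUn : U < n)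
    (hd : U * p + 1 ∣ (U + 1) * (1 + n * p)) : Formula n p := by
  obtain ⟨m, rfl⟩ : ∃ m, n = U + m := ⟨n - U, by omega⟩
  have h1 : U * p + 1 ∣ (U + 1) * (U * p + 1) + p * ((U + 1) * m) := by
    have he : (U + 1) * (U * p + 1) + p * ((U + 1) * m) = (U + 1) * (1 + (U + m) * p) := by ring
    rw [he]; exact hd
  rw [Nat.dvd_add_right (dvd_mul_left _ _)] at h1
  have hc : Nat.Coprime (U * p + 1) p :=
    (hp.coprime_iff_not_dvd.2 fun h => hp.not_dvd_one
      ((Nat.dvd_add_right (dvd_mul_left p U)).1 h)).symm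
  obtain ⟨h, hh⟩ := hc.dvd_of_dvd_mul_left h1
  refine ⟨h, U, Nat.pos_of_ne_zero ?_, hU, ?_⟩
  · rintro rfl
    rw [mul_zero] at hh
    rcases Nat.mul_eq_zero.1 hh with h | h <;> omega
  · have he : (U + m) * (U + 1) = (U + 1) * m + U ^ 2 + U := by ring
    rw [he, hh]; ring

/-- A bound excludes the shape. -/
theorem not_formula_of_bound {n p : ℕ} (hp : 1 ≤ p) (hb : 2 * n < p + 3) : ¬ Formula n p := by
  rintro ⟨h, u, hh, hu, he⟩
  have h1 : (p + 2) * (u + 1) < 2 * (h * u * p + u ^ 2 + u + h) := by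
    obtain ⟨h', rfl⟩ : ∃ h', h = h' + 1 := ⟨h - 1, by omega⟩
    obtain ⟨u', rfl⟩ : ∃ u', u = u' + 1 := ⟨u - 1, by omega⟩
    nlinarith [Nat.zero_le (h' * u' * p), Nat.zero_le (h' * p), Nat.zero_le (u' * p)]
  have h2 : 2 * (n * (u + 1)) ≤ (p + 2) * (u + 1) := by
    rw [← mul_assoc]; exact Nat.mul_le_mul_right _ (by omega)
  rw [he] at h2
  omega

variable {n p e d k : ℕ}

/-- A divisor congruent to one. -/
theorem pos_case (hp : p.Prime) (he : 0 < e) (hep : e ∣ p - 1) (hF : ¬ Formula n p) {u : ℕ}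
    (hd : d = u * p + 1) (hdk : d * k = e * (1 + n * p)) : d = 1 ∨ d = 1 + n * p := by
  rcases Nat.eq_zero_or_pos u with rfl | hu
  · left; simp [hd]
  rcases lt_trichotomy u n with hlt | rfl | hgt
  · exfalso
    refine hF (formula_core hp hu hlt ?_)
    rw [← hd]
    have h1 : d ∣ Nat.gcd d e * (1 + n * p) := by
      rw [← Nat.gcd_mul_right]
      exact Nat.dvd_gcd (dvd_mul_right _ _) ⟨k, hdk.symm⟩
    refine h1.trans (Nat.mul_dvd_mul_right ?_ _)
    have h2 : Nat.gcd d e ∣ u * (p - 1) + (u + 1) := by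
      have he' : u * (p - 1) + (u + 1) = d := by
        obtain ⟨p', rfl⟩ : ∃ p', p = p' + 1 := ⟨p - 1, by have := hp.one_le; omega⟩
        rw [hd, Nat.add_sub_cancel]; ring
      rw [he']; exact Nat.gcd_dvd_left _ _
    exact (Nat.dvd_add_right (((Nat.gcd_dvd_right d e).trans hep).mul_left u)).1 h2
  · right; rw [hd, add_comm]
  · exfalso
    have hdN : 1 + n * p < d := by rw [hd]; nlinarith [hp.two_le]
    have hk : k < e := by
      by_contra hk
      push Not at hk
      have : e * (1 + n * p) < d * k := by nlinarith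
      omega
    have hep' : e < p := by
      have := Nat.le_of_dvd (by have := hp.two_le; omega) hep; omega
    have hmod : k ≡ e [MOD p] := by
      have h1 : d * k % p = e * (1 + n * p) % p := by rw [hdk]
      rw [hd, Nat.add_mul, Nat.mul_add, one_mul, mul_one,
        show u * p * k = p * (u * k) by ring, show e * (n * p) = p * (e * n) by ring] at h1
      simpa [Nat.ModEq, Nat.add_mod] using h1
    exact absurd (hmod.eq_of_lt_of_lt (by omega) hep') (by omega)

/-- A divisor congruent to minus one. -/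
theorem neg_case (hp : p.Prime) {t : ℕ} (he : 0 < e) (hte : t * e + 1 = p) (hF : ¬ Formula n p)
    (hd : p ∣ d + 1) (hdk : d * k = e * (1 + n * p)) : d ≤ p - 1 ∨ k * t = 1 := by
  by_contra hc
  push Not at hc
  obtain ⟨hdp, hkt⟩ := hc
  have hk0 : k ≠ 0 := by
    rintro rfl; simp at hdk; omega
  have ht0 : t ≠ 0 := by
    rintro rfl; have := hp.two_le; omega
  obtain ⟨u, hu⟩ := hd
  have hke : p ∣ k + e := by
    have h1 : (d + 1) * k = k + e + p * (e * n) := by rw [Nat.add_mul, one_mul, hdk]; ring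
    have h2 : p ∣ k + e + p * (e * n) := h1 ▸ (Dvd.intro u hu.symm).mul_right k
    exact (Nat.dvd_add_left (dvd_mul_right _ _)).1 h2
  obtain ⟨s, hs⟩ := hke
  have hkt1 : k * t + (p - 1) = t * s * p := by
    rw [show t * s * p = t * (p * s) by ring, ← hs, show p - 1 = t * e by omega]; ring
  have hkt2 : 1 < k * t := by
    have : 0 < k * t := Nat.mul_pos (Nat.pos_of_ne_zero hk0) (Nat.pos_of_ne_zero ht0)
    omega
  obtain ⟨U, hU⟩ : ∃ U, t * s = U + 1 := ⟨t * s - 1, by
    have : t * s ≠ 0 := by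
      intro h0; rw [h0, zero_mul] at hkt1; omega
    omega⟩
  have hUkt : U * p + 1 = k * t := by
    rw [hU, Nat.add_mul, one_mul] at hkt1
    have := hp.one_le
    omega
  have hlt : k * t < 1 + n * p := by
    by_contra hle
    push Not at hle
    have h1 : d * (1 + n * p) ≤ d * (k * t) := Nat.mul_le_mul le_rfl hle
    have h2 : d * (k * t) = (p - 1) * (1 + n * p) := by
      rw [← mul_assoc, hdk, show p - 1 = t * e by omega]; ring
    rw [h2] at h1
    have h3 : (p - 1) * (1 + n * p) < d * (1 + n * p) := Nat.mul_lt_mul_of_pos_right hdp (by omega)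
    omega
  refine hF (formula_core (U := U) hp ?_ ?_ ?_)
  · by_contra h0
    have : U = 0 := by omega
    rw [this, zero_mul] at hUkt; omega
  · by_contra h0
    push Not at h0
    have : n * p ≤ U * p := Nat.mul_le_mul_right _ h0
    omega
  · rw [hUkt, ← hU]
    have hpk : Nat.Coprime k p := (hp.coprime_iff_not_dvd.2 fun h => by
      have h1 : p ∣ e := (Nat.dvd_add_right h).1 ⟨s, hs⟩
      have h2 := Nat.le_of_dvd he h1
      have h4 : 1 * e ≤ t * e := Nat.mul_le_mul_right _ (Nat.pos_of_ne_zero ht0)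
      omega).symm
    have h3 : k ∣ p * (s * (1 + n * p)) := by
      rw [← mul_assoc, ← hs, Nat.add_mul, ← hdk]
      exact dvd_add (dvd_mul_right _ _) (dvd_mul_left _ _)
    rw [mul_comm k t, mul_assoc t s]
    exact Nat.mul_dvd_mul_left t (hpk.dvd_of_dvd_mul_left h3)

end CfsgLib.Block.BrauerReynolds
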