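import Cfsg.Agent.Lib.Char.Basic
import Mathlib.RepresentationTheory.Character
import Mathlib.RepresentationTheory.Invariants

/-!
Character sums over subgroups: fixed-space dimensions.
-/

set_option autoImplicit false

namespace CfsgLib.Block.BrauerReynolds

open Cfsg Module

universe u

variable {G : Type u} [Group G] [Finite G]

theorem sum_char_eq_finrank {n : ℕ} (ρ : Representation ℂ G (Fin n → ℂ)) (A : Subgroup G) :
    ∑ᶠ a : A, ρ.character a = (Nat.card A : ℂ) *
      (finrank ℂ (Representation.invariants (ρ.comp A.subtype)) : ℂ) := by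
  have := Fintype.ofFinite A
  have hA : (Nat.card A : ℂ) ≠ 0 := Nat.cast_ne_zero.2 Nat.card_pos.ne'
  have : Invertible (Nat.card A : ℂ) := invertibleOfNonzero hA
  rw [← Representation.card_inv_mul_sum_char_eq_finrank, ← mul_assoc, mul_inv_cancel₀ hA, one_mul,
    finsum_eq_sum_of_fintype]
  rfl

/-- Sums of a character over nested subgroups. -/
theorem exists_fixed_nat {χ : G → ℂ} (hχ : IsCharacter G χ) {A B : Subgroup G} (hAB : A ≤ B) :
    ∃ m m' : ℕ, ∑ᶠ a : A, χ a = (Nat.card A : ℂ) * m ∧ ∑ᶠ b : B, χ b = (Nat.card B : ℂ) * m' ∧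
      m' ≤ m := by
  obtain ⟨n, ρ, rfl⟩ := hχ
  refine ⟨_, _, sum_char_eq_finrank ρ A, sum_char_eq_finrank ρ B,
    Submodule.finrank_mono fun v hv => ?_⟩
  rw [Representation.mem_invariants] at hv ⊢
  exact fun a => hv ⟨a, hAB a.2⟩

/-- If a character has no fixed vectors on a subgroup it sums to zero on each coset. -/
theorem sum_mul_eq_zero {χ : G → ℂ} (hχ : IsCharacter G χ) {A : Subgroup G}
    (h0 : ∑ᶠ a : A, χ a = 0) (g : G) : ∑ᶠ a : A, χ (g * a) = 0 := by
  obtain ⟨n, ρ, rfl⟩ := hχ
  have := Fintype.ofFinite A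
  rw [sum_char_eq_finrank] at h0
  have hbot : Representation.invariants (ρ.comp A.subtype) = ⊥ := by
    rcases mul_eq_zero.1 h0 with h | h
    · exact absurd h (Nat.cast_ne_zero.2 Nat.card_pos.ne')
    · exact Submodule.finrank_eq_zero.1 (by exact_mod_cast h)
  have hT : (∑ a : A, ρ (a : G)) = 0 := by
    refine LinearMap.ext fun v => ?_
    have hv : (∑ a : A, ρ (a : G)) v ∈ Representation.invariants (ρ.comp A.subtype) := by
      rw [Representation.mem_invariants]
      intro b
      change ρ (b : G) ((∑ a : A, ρ (a : G)) v) = _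
      simp only [LinearMap.sum_apply, map_sum]
      refine Fintype.sum_equiv (Equiv.mulLeft b) _ _ fun a => ?_
      rw [Equiv.coe_mulLeft, Subgroup.coe_mul, map_mul]
      rfl
    rw [hbot, Submodule.mem_bot] at hv
    exact hv
  rw [finsum_eq_sum_of_fintype]
  calc ∑ a : A, ρ.character (g * a) = LinearMap.trace ℂ _ (ρ g * ∑ a : A, ρ (a : G)) := by
        simp only [Finset.mul_sum, map_sum, ← map_mul]
        rfl
    _ = 0 := by rw [hT, mul_zero, map_zero]

end CfsgLib.Block.BrauerReynolds
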