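import Cfsg.Agent.Lib.Block.PrimeSylowPrincipal
import Cfsg.Agent.Lib.Block.BRArith
import Cfsg.Agent.Lib.Block.BRFixed
import Cfsg.Agent.Lib.BlockB.PModular
import Cfsg.Agent.Lib.BlockB.ClassMul
import Cfsg.Agent.Lib.Char.Linear
import Cfsg.Agent.Lib.Transfer.Frobenius

/-!
The degrees of the principal block of a perfect group with a Sylow subgroup of prime order `p`
whose number `1 + n p` is not of Brauer's exceptional shape.
-/

set_option autoImplicit false
set_option linter.unusedSectionVars false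
set_option maxHeartbeats 400000

namespace CfsgLib.Block.BrauerReynolds

open Cfsg CfsgLib CfsgLib.Block
open scoped ComplexConjugate

universe u

variable {G : Type u} [Group G] [Finite G] {p : ℕ} [hpf : Fact p.Prime]

/-- The shape of the principal block. -/
structure Data (M : Ideal AlgInt) (P : Sylow p G) (n e t a b w d₀ : ℕ) (σ : ℤ)
    (Xp Xm Y : Finset (IrrCharacter G)) : Prop where
  hte : t * e + 1 = p
  e_two : 2 ≤ e
  n_pos : 0 < n
  e_eq : (Subgroup.centralizer ((P : Subgroup G) : Set G)).relIndex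
    (Subgroup.normalizer ((P : Subgroup G) : Set G)) = e
  card_Xp : Xp.card = a
  card_Xm : Xm.card = b
  b_pos : 0 < b
  card_Y : Y.card = t
  count : a + b + 1 = e
  count' : a * (n + 1) + w + 1 = e
  alt : (w = 0 ∧ d₀ = e ∧ σ = 1) ∨ (0 < w ∧ n + 1 = w * t ∧ t * d₀ = 1 + n * p ∧ σ = -1)
  disj₁ : Disjoint Xp Xm
  disj₂ : Disjoint Xp Y
  disj₃ : Disjoint Xm Y
  one_not : (⟨fun _ => 1, Char.isIrrCharacter_one⟩ : IrrCharacter G) ∉ Xp ∧
    (⟨fun _ => 1, Char.isIrrCharacter_one⟩ : IrrCharacter G) ∉ Xm ∧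
    (⟨fun _ => 1, Char.isIrrCharacter_one⟩ : IrrCharacter G) ∉ Y
  mem : ∀ χ : IrrCharacter G, χ ∈ principalBlock M G ↔
    (χ : G → ℂ) = (fun _ => 1) ∨ χ ∈ Xp ∨ χ ∈ Xm ∨ χ ∈ Y
  Xp_deg : ∀ χ ∈ Xp, (χ : G → ℂ) 1 = ((1 + n * p : ℕ) : ℂ)
  Xp_val : ∀ χ ∈ Xp, ∀ y ∈ (P : Subgroup G), y ≠ 1 →
    ∀ z ∈ Subgroup.centralizer ((P : Subgroup G) : Set G), ¬ p ∣ orderOf z →
      (χ : G → ℂ) (y * z) = 1
  Xm_deg : ∀ χ ∈ Xm, (χ : G → ℂ) 1 = ((p - 1 : ℕ) : ℂ)
  Xm_val : ∀ χ ∈ Xm, ∀ y ∈ (P : Subgroup G), y ≠ 1 →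
    ∀ z ∈ Subgroup.centralizer ((P : Subgroup G) : Set G), ¬ p ∣ orderOf z →
      (χ : G → ℂ) (y * z) = -1
  Y_deg : ∀ χ ∈ Y, (χ : G → ℂ) 1 = (d₀ : ℂ)
  Y_sum : ∀ χ ∈ Y, ∑ᶠ y : (P : Subgroup G), (χ : G → ℂ) y = (d₀ : ℂ) - (σ : ℂ) * (e : ℂ)
  regular : ∀ η ∈ Y, ∀ η' ∈ Y, ∀ g : G, ¬ p ∣ orderOf g → (η : G → ℂ) g = (η' : G → ℂ) g
  relation : ∀ η ∈ Y, ∀ g : G, ¬ p ∣ orderOf g →
    1 + ∑ χ ∈ Xp, (χ : G → ℂ) g - ∑ χ ∈ Xm, (χ : G → ℂ) g = (σ : ℂ) * (η : G → ℂ) g

section

variable (hperf : commutator G = ⊤) (P : Sylow p G) (hP : Nat.card P = p)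
include hperf hP

theorem two_le_relIndex : 2 ≤ (Subgroup.centralizer ((P : Subgroup G) : Set G)).relIndex
    (Subgroup.normalizer ((P : Subgroup G) : Set G)) := by
  by_contra hlt
  set C := Subgroup.centralizer ((P : Subgroup G) : Set G)
  set N := Subgroup.normalizer ((P : Subgroup G) : Set G)
  have h0 : C.relIndex N ≠ 0 := Subgroup.index_ne_zero_of_finite
  have h1 : C.relIndex N = 1 := by omega
  obtain ⟨Q, K, hK, hc⟩ := CfsgLib.Transfer.hasNormalPComplement_of_normalizer_le_centralizer P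
    (Subgroup.relIndex_eq_one.1 h1)
  have hidx : K.index = p := by
    rw [hc.symm.index_eq_card, Nat.card_congr (Sylow.equiv Q P).toEquiv, hP]
  have : IsCyclic (G ⧸ K) := isCyclic_of_prime_card (p := p) (by rw [← hidx, Subgroup.index_eq_card])
  let : CommGroup (G ⧸ K) := IsCyclic.commGroup
  have h2 : commutator G ≤ K := by
    have h := Abelianization.commutator_subset_ker (QuotientGroup.mk' K)
    rwa [QuotientGroup.ker_mk'] at h
  rw [hperf, top_le_iff] at h2
  rw [h2, Subgroup.index_top] at hidx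
  exact hpf.out.ne_one hidx.symm

theorem n_pos {n : ℕ} (hn : Nat.card (Sylow p G) = 1 + n * p) : 0 < n := by
  by_contra h0
  have hn0 : n = 0 := by omega
  rw [hn0, zero_mul, add_zero] at hn
  have hN : Subgroup.normalizer ((P : Subgroup G) : Set G) = ⊤ :=
    Subgroup.index_eq_one.1 ((Sylow.card_eq_index_normalizer P).symm.trans hn)
  obtain ⟨x, ε, -, -, -, hker⟩ := exists_prime_sylow_data P hP
  have h2 := two_le_relIndex hperf P hP
  let f : G →* (ZMod p)ˣ := ε.comp ((MulEquiv.subgroupCongr hN).trans Subgroup.topEquiv).symm.toMonoidHom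
  have hf : f.ker = ⊤ := top_le_iff.1 (hperf ▸ Abelianization.commutator_subset_ker f)
  have h1 : ε.ker = ⊤ := by
    rw [eq_top_iff]
    intro m _
    have : (m : G) ∈ f.ker := hf ▸ Subgroup.mem_top _
    simpa [f, MonoidHom.mem_ker] using this
  rw [hker] at h1
  rw [Subgroup.relIndex, h1, Subgroup.index_top] at h2
  omega

end

theorem centralizer_mem_eq (P : Sylow p G) (hP : Nat.card P = p) {y : G}
    (hy : y ∈ (P : Subgroup G)) (hy1 : y ≠ 1) :
    Subgroup.centralizer ({y} : Set G) = Subgroup.centralizer ((P : Subgroup G) : Set G) := by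
  have h : Subgroup.zpowers y = (P : Subgroup G) := by
    refine Subgroup.eq_of_le_of_card_ge (Subgroup.zpowers_le.2 hy) ?_
    rcases hpf.out.eq_one_or_self_of_dvd (Nat.card (Subgroup.zpowers y))
      ((Subgroup.card_dvd_of_le (Subgroup.zpowers_le.2 hy)).trans (dvd_of_eq hP)) with h | h
    · rw [Nat.card_zpowers, orderOf_eq_one_iff] at h; exact absurd h hy1
    · rw [h, hP]
  rw [← Subgroup.centralizer_closure, ← Subgroup.zpowers_eq_closure, h]

theorem index_centralizer (P : Sylow p G) :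
    (Subgroup.centralizer ((P : Subgroup G) : Set G)).index =
      (Subgroup.centralizer ((P : Subgroup G) : Set G)).relIndex
        (Subgroup.normalizer ((P : Subgroup G) : Set G)) * Nat.card (Sylow p G) := by
  rw [Sylow.card_eq_index_normalizer P]
  exact (Subgroup.relIndex_mul_index (Subgroup.centralizer_le_normalizer _)).symm

/-- Integrality of central characters gives a degree divisibility. -/
theorem dvd_of_omega_sum {ι : Type*} (s : Finset ι) (χ : ι → IrrCharacter G) (y : G) {d : ℕ}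
    (hd : 0 < d) (hdeg : ∀ i ∈ s, (χ i : G → ℂ) 1 = (d : ℂ)) {σ : ℤ} (hσ : σ = 1 ∨ σ = -1)
    (hsum : ∑ i ∈ s, (χ i : G → ℂ) y = (σ : ℂ)) :
    d ∣ (Subgroup.centralizer ({y} : Set G)).index := by
  set K := (Subgroup.centralizer ({y} : Set G)).index
  have h1 : IsIntegral ℤ (((K : ℂ) * (σ : ℂ)) / (d : ℂ)) := by
    rw [← hsum, Finset.mul_sum, Finset.sum_div]
    refine IsIntegral.sum _ fun i hi => ?_
    have h := irr_centralChar_isIntegral (χ i).2 y
    rwa [centralChar, hdeg i hi] at h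
  refine Char.dvd_of_isIntegral_div hd ?_
  rcases hσ with rfl | rfl
  · simpa using h1
  · simpa [neg_div] using h1.neg

theorem eq_one_of_degree_one (hperf : commutator G = ⊤) (χ : IrrCharacter G)
    (h1 : (χ : G → ℂ) 1 = 1) : (χ : G → ℂ) = fun _ => 1 := by
  obtain ⟨lam, hlam⟩ := Char.exists_hom_of_degree_one (Char.irr_isCharacter χ.2) h1
  have hk : lam.ker = ⊤ := top_le_iff.1 (hperf ▸ Abelianization.commutator_subset_ker lam)
  rw [hlam]
  funext g
  rw [MonoidHom.mem_ker.1 (hk ▸ Subgroup.mem_top g), Units.val_one]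

/-- The degrees in the principal block. -/
theorem exists_data (hperf : commutator G = ⊤) {M : Ideal AlgInt} (hM : IsPModular p M)
    (P : Sylow p G) (hP : Nat.card P = p) {n : ℕ} (hn : Nat.card (Sylow p G) = 1 + n * p)
    (hF : ¬ Formula n p) :
    ∃ (e t a b w d₀ : ℕ) (σ : ℤ) (Xp Xm Y : Finset (IrrCharacter G)),
      Data M P n e t a b w d₀ σ Xp Xm Y := by
  classical
  have := isPrime_of_pmodular hM
  have := Fintype.ofFinite G
  have hp : p.Prime := hpf.out
  have hp2 := hp.two_le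
  set e := (Subgroup.centralizer ((P : Subgroup G) : Set G)).relIndex
    (Subgroup.normalizer ((P : Subgroup G) : Set G)) with he_def
  have he2 : 2 ≤ e := two_le_relIndex hperf P hP
  have hn0 : 0 < n := n_pos hperf P hP hn
  have hN0 : 1 < 1 + n * p := by have := Nat.mul_pos hn0 hp.pos; omega
  obtain ⟨E, r, hEcard, hBcard, hshape, hdeg, hval, hgram, hrel, hPsum⟩ :=
    PrimeRows.exists_rows_sum p M hM P hP e rfl
  obtain ⟨t, hte⟩ : ∃ t, p - 1 = t * e := by
    obtain ⟨t, ht⟩ := hEcard ▸ Subgroup.card_subgroup_dvd_card E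
    rw [Nat.card_eq_fintype_card, ZMod.card_units] at ht
    exact ⟨t, ht.trans (mul_comm _ _)⟩
  have hte' : t * e + 1 = p := by omega
  have ht0 : 0 < t := Nat.pos_of_ne_zero fun h => by rw [h, zero_mul] at hte; omega
  have hep : e < p := by
    have h4 : 1 * e ≤ t * e := Nat.mul_le_mul_right _ ht0
    omega
  let one : IrrCharacter G := ⟨fun _ => 1, Char.isIrrCharacter_one⟩
  set Bf := (principalBlock M G).toFinite.toFinset with hBf
  have hmemB : ∀ χ, χ ∈ Bf ↔ χ ∈ principalBlock M G := fun χ => Set.Finite.mem_toFinset _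
  have hfs : ∀ F : IrrCharacter G → ℂ, ∑ᶠ χ ∈ principalBlock M G, F χ = ∑ χ ∈ Bf, F χ :=
    fun F => finsum_mem_eq_finite_toFinset_sum _ _
  have hBcard' : Bf.card * e = e * e + (p - 1) := by
    rw [← hBcard, Nat.card_eq_card_finite_toFinset]
  have hcu : ∀ (c : ℤ), (∑ _v : (ZMod p)ˣ, c) = ((p - 1 : ℕ) : ℤ) * c := fun c => by
    rw [Finset.sum_const, Finset.card_univ, ZMod.card_units, nsmul_eq_mul]
  obtain ⟨y₀, hy₀P, hy₀⟩ : ∃ y ∈ (P : Subgroup G), y ≠ 1 := by
    refine Subgroup.bot_or_exists_ne_one _ |>.resolve_left fun h => ?_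
    rw [h, Subgroup.card_bot] at hP
    exact hp.ne_one hP.symm
  have hidx : ∀ y ∈ (P : Subgroup G), y ≠ 1 →
      (Subgroup.centralizer ({y} : Set G)).index = e * (1 + n * p) := fun y hy hy1 => by
    rw [centralizer_mem_eq P hP hy hy1, index_centralizer, hn]
  have hregone : ¬ p ∣ orderOf (1 : G) := by rw [orderOf_one]; exact hp.not_dvd_one
  -- the constant rows
  set isC : IrrCharacter G → Prop := fun χ => ∀ v, r χ v = r χ 1 with hisC
  set CF := Bf.filter isC with hCF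
  set YF := Bf.filter (fun χ => ¬ isC χ) with hYF
  set ε : IrrCharacter G → ℤ := fun χ => -r χ 1 with hεdef
  have hCFmem : ∀ χ, χ ∈ CF ↔ χ ∈ principalBlock M G ∧ isC χ := fun χ => by
    rw [hCF, Finset.mem_filter, hmemB]
  have hYFmem : ∀ χ, χ ∈ YF ↔ χ ∈ principalBlock M G ∧ ¬ isC χ := fun χ => by
    rw [hYF, Finset.mem_filter, hmemB]
  have hεpm : ∀ χ ∈ CF, ε χ = 1 ∨ ε χ = -1 := fun χ hχ => by
    obtain ⟨hB, hC⟩ := (hCFmem χ).1 hχ
    obtain ⟨c, hc, hsh⟩ := hshape χ hB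
    have h1 : r χ 1 = c := by
      rcases hsh with h | ⟨w, hw⟩
      · exact h 1
      · rw [← hC w]; exact (hw w).1 (by rw [inv_mul_cancel]; exact E.one_mem)
    simp only [hεdef, h1]
    rcases hc with rfl | rfl <;> simp
  have hCval : ∀ χ ∈ CF, ∀ y ∈ (P : Subgroup G), y ≠ 1 →
      ∀ z ∈ Subgroup.centralizer ((P : Subgroup G) : Set G), ¬ p ∣ orderOf z →
        (χ : G → ℂ) (y * z) = (ε χ : ℂ) := fun χ hχ y hy hy1 z hz hzr => by
    obtain ⟨hB, hC⟩ := (hCFmem χ).1 hχ
    rw [hval χ hB (r χ 1) hC y hy hy1 z hz hzr]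
    simp [hεdef]
  have hCval1 : ∀ χ ∈ CF, ∀ y ∈ (P : Subgroup G), y ≠ 1 → (χ : G → ℂ) y = (ε χ : ℂ) :=
    fun χ hχ y hy hy1 => by
      have h := hCval χ hχ y hy hy1 1 (Subgroup.one_mem _) hregone
      rwa [mul_one] at h
  have hCdvd : ∀ χ ∈ CF, charDegree (χ : G → ℂ) ∣ e * (1 + n * p) := fun χ hχ => by
    rw [← hidx y₀ hy₀P hy₀]
    exact dvd_of_omega_sum {χ} id y₀ (BlockB.irr_degree_pos χ)
      (fun i hi => by rw [Finset.mem_singleton.1 hi]; exact (BlockB.irr_degree_cast χ).symm)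
      (hεpm χ hχ) (by rw [Finset.sum_singleton]; exact hCval1 χ hχ y₀ hy₀P hy₀)
  have hCmod : ∀ χ ∈ CF, (p : ℤ) ∣ ε χ - (charDegree (χ : G → ℂ) : ℤ) := fun χ hχ => by
    obtain ⟨hB, hC⟩ := (hCFmem χ).1 hχ
    have h : (p : ℤ) ∣ (∑ v, r χ v) - (charDegree (χ : G → ℂ) : ℤ) :=
      Int.modEq_iff_dvd.1 (hdeg χ hB)
    rw [Finset.sum_congr rfl fun v _ => hC v, hcu] at h
    have e1 : ε χ - (charDegree (χ : G → ℂ) : ℤ) = ((((p - 1 : ℕ) : ℤ) * r χ 1) -
        (charDegree (χ : G → ℂ) : ℤ)) - (p : ℤ) * r χ 1 := by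
      simp only [hεdef]; rw [Nat.cast_sub hp.one_le]; push_cast; ring
    rw [e1]
    exact dvd_sub h (dvd_mul_right _ _)
  have hall : e = p - 1 → ∀ χ ∈ principalBlock M G, isC χ := fun he χ hB => by
    have hEtop : E = ⊤ := Subgroup.eq_top_of_card_eq _ (by
      rw [hEcard, Nat.card_eq_fintype_card, ZMod.card_units, he])
    obtain ⟨c, -, h | ⟨w, hw⟩⟩ := hshape χ hB
    · intro v; rw [h v, h 1]
    · intro v
      rw [(hw v).1 (hEtop ▸ Subgroup.mem_top _), (hw 1).1 (hEtop ▸ Subgroup.mem_top _)]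
  have honeB : one ∈ principalBlock M G := one_mem_principalBlock
  have honeC : one ∈ CF := by
    rw [hCFmem]
    refine ⟨honeB, ?_⟩
    obtain ⟨c, hc, h | ⟨w, hw⟩⟩ := hshape one honeB
    · intro v; rw [h v, h 1]
    refine hall ?_ one honeB
    have hs : ∑ v, r one v = (e : ℤ) * c := by
      rw [Finset.sum_congr rfl fun v _ => show r one v = if w⁻¹ * v ∈ E then c else 0 by
          split_ifs with h; exacts [(hw v).1 h, (hw v).2 h],
        Fintype.sum_equiv (Equiv.mulLeft w⁻¹) (fun v => if w⁻¹ * v ∈ E then c else 0)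
          (fun v => if v ∈ E then c else 0) fun v => rfl,
        ← Finset.sum_filter, Finset.sum_const, nsmul_eq_mul,
        show (Finset.univ.filter fun v : (ZMod p)ˣ => v ∈ E).card = e by
          rw [← hEcard, Nat.card_eq_fintype_card, Fintype.card_subtype]]
    have h := hPsum one honeB
    rw [hs] at h
    simp only [one, finsum_eq_sum_of_fintype, Finset.sum_const, Finset.card_univ, nsmul_eq_mul,
      mul_one, Int.cast_mul, Int.cast_natCast] at h
    rw [← Nat.card_eq_fintype_card, hP] at h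
    have h' : (p : ℤ) = 1 - (e : ℤ) * c := by exact_mod_cast h
    rcases hc with rfl | rfl <;> omega
  have hε1 : ε one = 1 := by
    have h := hCval1 one honeC y₀ hy₀P hy₀
    simp only [one] at h
    exact_mod_cast h.symm
  -- degrees of the constant rows
  have hCdeg : ∀ χ ∈ CF, χ ≠ one →
      (ε χ = 1 ∧ charDegree (χ : G → ℂ) = 1 + n * p) ∨
      (ε χ = -1 ∧ (charDegree (χ : G → ℂ) = p - 1 ∨
        (t = 1 ∧ charDegree (χ : G → ℂ) = e * (1 + n * p)))) := fun χ hχ hne => by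
    set d := charDegree (χ : G → ℂ)
    have hd0 : 0 < d := BlockB.irr_degree_pos χ
    obtain ⟨k, hk⟩ := hCdvd χ hχ
    have hm := hCmod χ hχ
    rcases hεpm χ hχ with hε | hε <;> rw [hε] at hm
    · left
      refine ⟨hε, ?_⟩
      obtain ⟨u, hu⟩ : ∃ u, d = u * p + 1 := by
        have h : (p : ℤ) ∣ ((d - 1 : ℕ) : ℤ) := by
          rw [Nat.cast_sub hd0]; exact dvd_sub_comm.1 hm
        obtain ⟨u, hu⟩ := Int.natCast_dvd_natCast.1 h
        exact ⟨u, by rw [mul_comm u p]; omega⟩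
      rcases pos_case hp (by omega) ⟨t, by rw [hte, mul_comm]⟩ hF hu hk.symm with h | h
      · exfalso
        refine hne (Subtype.ext (eq_one_of_degree_one hperf χ ?_))
        rw [← BlockB.irr_degree_cast χ, show charDegree (χ : G → ℂ) = d from rfl, h, Nat.cast_one]
      · exact h
    · right
      refine ⟨hε, ?_⟩
      have hpd : p ∣ d + 1 := by
        refine Int.natCast_dvd_natCast.1 ?_
        have h := hm.neg_right
        push_cast
        simpa [neg_sub, add_comm] using h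
      rcases neg_case hp (by omega) hte' hF hpd hk.symm with h | h
      · left
        have := Nat.le_of_dvd (by omega) hpd
        omega
      · right
        obtain ⟨hk1, ht1⟩ : k = 1 ∧ t = 1 := mul_eq_one.1 h
        rw [hk1, mul_one] at hk
        exact ⟨ht1, hk.symm⟩
  -- splitting the constant rows
  set Xp₀ := (CF.erase one).filter (fun χ => ε χ = 1) with hXp₀
  set Xm₀ := (CF.erase one).filter (fun χ => ε χ = -1) with hXm₀
  have hXmem : ∀ χ, χ ∈ CF ↔ χ = one ∨ χ ∈ Xp₀ ∨ χ ∈ Xm₀ := fun χ => by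
    simp only [hXp₀, hXm₀, Finset.mem_filter, Finset.mem_erase]
    constructor
    · intro h
      by_cases h1 : χ = one
      · exact Or.inl h1
      rcases hεpm χ h with hε | hε
      · exact Or.inr (Or.inl ⟨⟨h1, h⟩, hε⟩)
      · exact Or.inr (Or.inr ⟨⟨h1, h⟩, hε⟩)
    · rintro (rfl | h | h)
      exacts [honeC, h.1.2, h.1.2]
  have hXdisj : Disjoint Xp₀ Xm₀ := Finset.disjoint_left.2 fun χ h1 h2 => by
    have := (Finset.mem_filter.1 h1).2.symm.trans (Finset.mem_filter.1 h2).2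
    norm_num at this
  have honeX : one ∉ Xp₀ ∧ one ∉ Xm₀ := ⟨fun h => (Finset.mem_erase.1 (Finset.mem_filter.1 h).1).1 rfl,
    fun h => (Finset.mem_erase.1 (Finset.mem_filter.1 h).1).1 rfl⟩
  have hXcard : CF.card = 1 + Xp₀.card + Xm₀.card := by
    rw [show CF = insert one (Xp₀ ∪ Xm₀) by ext χ; simp [hXmem χ],
      Finset.card_insert_of_notMem (by simp [honeX.1, honeX.2]),
      Finset.card_union_of_disjoint hXdisj]
    ring
  set R : G → ℂ := fun g => ∑ χ ∈ CF, (ε χ : ℂ) * (χ : G → ℂ) g with hR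
  have hRsplit : ∀ g, R g = 1 + ∑ χ ∈ Xp₀, (χ : G → ℂ) g - ∑ χ ∈ Xm₀, (χ : G → ℂ) g := fun g => by
    simp only [hR]
    rw [show CF = insert one (Xp₀ ∪ Xm₀) by ext χ; simp [hXmem χ],
      Finset.sum_insert (by simp [honeX.1, honeX.2]), Finset.sum_union hXdisj,
      Finset.sum_congr rfl (g := fun χ : IrrCharacter G => (χ : G → ℂ) g) fun χ h => by
        rw [(Finset.mem_filter.1 h).2, Int.cast_one, one_mul],
      Finset.sum_congr (s₁ := Xm₀) rfl (g := fun χ : IrrCharacter G => -(χ : G → ℂ) g) fun χ h => by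
        rw [(Finset.mem_filter.1 h).2, Int.cast_neg, Int.cast_one, neg_one_mul],
      Finset.sum_neg_distrib, hε1, Int.cast_one, one_mul]
    ring
  have hXpdeg : ∀ χ ∈ Xp₀, charDegree (χ : G → ℂ) = 1 + n * p := fun χ h => by
    obtain ⟨h1, hε⟩ := Finset.mem_filter.1 h
    obtain ⟨hne, hC⟩ := Finset.mem_erase.1 h1
    rcases hCdeg χ hC hne with h | ⟨h, -⟩
    · exact h.2
    · rw [hε] at h; norm_num at h
  have hR1 : R 1 = 1 + (Xp₀.card : ℂ) * ((1 + n * p : ℕ) : ℂ) -
      ((∑ χ ∈ Xm₀, charDegree (χ : G → ℂ) : ℕ) : ℂ) := by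
    rw [hRsplit, Finset.sum_congr (s₁ := Xp₀) rfl fun χ h => show (χ : G → ℂ) 1 = ((1 + n * p : ℕ) : ℂ) by
        rw [← BlockB.irr_degree_cast χ, hXpdeg χ h], Finset.sum_const, nsmul_eq_mul, Nat.cast_sum]
    simp only [BlockB.irr_degree_cast]
  have hXp_val : ∀ χ ∈ Xp₀, ∀ y ∈ (P : Subgroup G), y ≠ 1 →
      ∀ z ∈ Subgroup.centralizer ((P : Subgroup G) : Set G), ¬ p ∣ orderOf z →
        (χ : G → ℂ) (y * z) = 1 := fun χ h y hy hy1 z hz hzr => by
    obtain ⟨h1, hε⟩ := Finset.mem_filter.1 h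
    rw [hCval χ (Finset.mem_erase.1 h1).2 y hy hy1 z hz hzr, hε, Int.cast_one]
  have hXm_val : ∀ χ ∈ Xm₀, ∀ y ∈ (P : Subgroup G), y ≠ 1 →
      ∀ z ∈ Subgroup.centralizer ((P : Subgroup G) : Set G), ¬ p ∣ orderOf z →
        (χ : G → ℂ) (y * z) = -1 := fun χ h y hy hy1 z hz hzr => by
    obtain ⟨h1, hε⟩ := Finset.mem_filter.1 h
    rw [hCval χ (Finset.mem_erase.1 h1).2 y hy hy1 z hz hzr, hε, Int.cast_neg, Int.cast_one]
  have hmem₀ : ∀ χ, χ ∈ principalBlock M G ↔
      (χ : G → ℂ) = (fun _ => 1) ∨ χ ∈ Xp₀ ∨ χ ∈ Xm₀ ∨ χ ∈ YF := fun χ => by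
    constructor
    · intro hB
      by_cases hC : isC χ
      · rcases (hXmem χ).1 ((hCFmem χ).2 ⟨hB, hC⟩) with h | h | h
        exacts [Or.inl (congrArg Subtype.val h), Or.inr (Or.inl h), Or.inr (Or.inr (Or.inl h))]
      · exact Or.inr (Or.inr (Or.inr ((hYFmem χ).2 ⟨hB, hC⟩)))
    · rintro (h | h | h | h)
      · rw [show χ = one from Subtype.ext h]; exact honeB
      · exact ((hCFmem χ).1 ((hXmem χ).2 (Or.inr (Or.inl h)))).1
      · exact ((hCFmem χ).1 ((hXmem χ).2 (Or.inr (Or.inr h)))).1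
      · exact ((hYFmem χ).1 h).1
  have hrelF : ∀ g : G, ¬ p ∣ orderOf g → ∀ v : (ZMod p)ˣ,
      R g = ∑ χ ∈ YF, (r χ v : ℂ) * (χ : G → ℂ) g := fun g hg v => by
    have h := hrel g hg v
    rw [hfs, ← Finset.sum_filter_add_sum_filter_not Bf isC] at h
    have h1 : ∑ χ ∈ CF, (r χ v : ℂ) * (χ : G → ℂ) g = -R g := by
      simp only [hR, ← Finset.sum_neg_distrib]
      refine Finset.sum_congr rfl fun χ hχ => ?_
      rw [((hCFmem χ).1 hχ).2 v]
      simp [hεdef]
    rw [← hCF, ← hYF, h1] at h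
    linear_combination -h
  have hCcard_le : Xp₀.card + Xm₀.card + 1 ≤ Bf.card := by
    have : CF.card ≤ Bf.card := Finset.card_filter_le _ _
    omega
  by_cases ht1 : t = 1
  · -- a single row shape
    have hep1 : e = p - 1 := by rw [hte, ht1, one_mul]
    have hY0 : YF = ∅ := Finset.filter_eq_empty_iff.2 fun χ hχ h => h (hall hep1 χ ((hmemB χ).1 hχ))
    have hBC : Bf.card = CF.card := by
      rw [hCF, Finset.filter_true_of_mem fun χ hχ => hall hep1 χ ((hmemB χ).1 hχ)]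
    have hBe : Bf.card = e + 1 := by
      rw [← hep1, show e * e + e = (e + 1) * e by ring] at hBcard'
      exact Nat.eq_of_mul_eq_mul_right (by omega) hBcard'
    have hR0 : R 1 = 0 := by rw [hrelF 1 hregone 1, hY0, Finset.sum_empty]
    rw [hR1, sub_eq_zero] at hR0
    have hR0' : 1 + Xp₀.card * (1 + n * p) = ∑ χ ∈ Xm₀, charDegree (χ : G → ℂ) := by
      exact_mod_cast hR0
    have hab : Xp₀.card + Xm₀.card = e := by omega
    have hXmdeg : ∀ χ ∈ Xm₀, charDegree (χ : G → ℂ) = p - 1 := fun χ h => by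
      obtain ⟨h1, hε⟩ := Finset.mem_filter.1 h
      obtain ⟨hne, hC⟩ := Finset.mem_erase.1 h1
      rcases hCdeg χ hC hne with h' | ⟨-, h' | ⟨-, h'⟩⟩
      · rw [hε] at h'; norm_num at h'
      · exact h'
      · exfalso
        have h2 : charDegree (χ : G → ℂ) ≤ ∑ χ ∈ Xm₀, charDegree (χ : G → ℂ) :=
          Finset.single_le_sum (f := fun χ : IrrCharacter G => charDegree (χ : G → ℂ))
            (fun _ _ => Nat.zero_le _) h
        have h3 : Xp₀.card + 1 ≤ e := by
          have : 0 < Xm₀.card := Finset.card_pos.2 ⟨χ, h⟩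
          omega
        have h4 : (Xp₀.card + 1) * (1 + n * p) ≤ e * (1 + n * p) := Nat.mul_le_mul_right _ h3
        rw [Nat.add_mul, one_mul] at h4
        omega
    rw [Finset.sum_congr rfl hXmdeg, Finset.sum_const, smul_eq_mul] at hR0'
    have hcount : Xp₀.card * (n + 1) + 1 = e := by
      have h1 : ((Xp₀.card : ℤ) * (n + 1) + 1 - e) * p = 0 := by
        have e1 : (1 : ℤ) + Xp₀.card * (1 + n * p) = Xm₀.card * ((p : ℤ) - 1) := by
          have := congrArg (Nat.cast (R := ℤ)) hR0'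
          push_cast [Nat.cast_sub hp.one_le] at this
          exact this
        have e2 : (Xm₀.card : ℤ) = e - Xp₀.card := by omega
        have e3 : (e : ℤ) = p - 1 := by omega
        rw [e2] at e1
        linear_combination e1 - e3
      have h2 := (mul_eq_zero.1 h1).resolve_right (by exact_mod_cast hp.ne_zero)
      have h3 : ((Xp₀.card * (n + 1) + 1 : ℕ) : ℤ) = (e : ℤ) := by push_cast; linarith
      exact_mod_cast h3
    have ha : 2 * Xp₀.card ≤ Xp₀.card * (n + 1) := by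
      rw [mul_comm 2]; exact Nat.mul_le_mul_left _ (by omega)
    obtain ⟨η, hη⟩ : Xm₀.Nonempty := Finset.card_pos.1 (by omega)
    refine ⟨e, t, Xp₀.card, (Xm₀.erase η).card, 0, e, 1, Xp₀, Xm₀.erase η, {η}, ?_⟩
    refine
      { hte := hte', e_two := he2, n_pos := hn0, e_eq := rfl, card_Xp := rfl, card_Xm := rfl
        b_pos := by rw [Finset.card_erase_of_mem hη]; omega
        card_Y := by rw [Finset.card_singleton, ht1]
        count := by rw [Finset.card_erase_of_mem hη]; omega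
        count' := by omega
        alt := Or.inl ⟨rfl, rfl, rfl⟩
        disj₁ := hXdisj.mono_right (Finset.erase_subset _ _)
        disj₂ := Finset.disjoint_singleton_right.2 fun h => Finset.disjoint_left.1 hXdisj h hη
        disj₃ := Finset.disjoint_singleton_right.2 (Finset.notMem_erase _ _)
        one_not := ⟨honeX.1, fun h => honeX.2 (Finset.mem_of_mem_erase h),
          fun h => by rw [← Finset.mem_singleton.1 h] at hη; exact honeX.2 hη⟩
        mem := fun χ => by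
          rw [hmem₀, hY0]
          by_cases h : χ = η
          · subst h; simp [hη]
          · simp [h]
        Xp_deg := fun χ h => by rw [← BlockB.irr_degree_cast χ, hXpdeg χ h]
        Xp_val := hXp_val
        Xm_deg := fun χ h => by
          rw [← BlockB.irr_degree_cast χ, hXmdeg χ (Finset.mem_of_mem_erase h)]
        Xm_val := fun χ h => hXm_val χ (Finset.mem_of_mem_erase h)
        Y_deg := fun χ h => by
          rw [Finset.mem_singleton.1 h, ← BlockB.irr_degree_cast η, hXmdeg η hη, hep1]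
        Y_sum := fun χ h => by
          obtain ⟨h1, hε⟩ := Finset.mem_filter.1 hη
          obtain ⟨hB, hC⟩ := (hCFmem η).1 (Finset.mem_erase.1 h1).2
          rw [Finset.mem_singleton.1 h, hPsum η hB, Finset.sum_congr rfl fun v _ => hC v, hcu,
            ← BlockB.irr_degree_cast η, hXmdeg η hη]
          have hr1 : r η 1 = 1 := by simp only [hεdef] at hε; omega
          rw [hr1, hep1]; simp
        regular := fun a ha b hb g _ => by
          rw [Finset.mem_singleton.1 ha, Finset.mem_singleton.1 hb]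
        relation := fun a ha g hg => by
          have h := hrelF g hg 1
          rw [hY0, Finset.sum_empty, hRsplit, ← Finset.add_sum_erase _ _ hη] at h
          rw [Finset.mem_singleton.1 ha]
          push_cast
          linear_combination h }
  -- exceptional rows
  have ht2 : 2 ≤ t := by omega
  have hex : ∀ χ ∈ YF, ∃ c : ℤ, ∃ w : (ZMod p)ˣ, (c = 1 ∨ c = -1) ∧
      ∀ v, (w⁻¹ * v ∈ E → r χ v = c) ∧ (w⁻¹ * v ∉ E → r χ v = 0) := fun χ hχ => by
    obtain ⟨hB, hC⟩ := (hYFmem χ).1 hχ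
    obtain ⟨c, hc, h | ⟨w, hw⟩⟩ := hshape χ hB
    · exact absurd (fun v => by rw [h v, h 1]) hC
    · exact ⟨c, w, hc, hw⟩
  have hCr : ∀ χ ∈ CF, ∀ v w, r χ v * r χ w = 1 := fun χ hχ v w => by
    rw [((hCFmem χ).1 hχ).2 v, ((hCFmem χ).1 hχ).2 w]
    have := hεpm χ hχ
    simp only [hεdef] at this
    rcases this with h | h
    · rw [show r χ 1 = -1 by omega]; norm_num
    · rw [show r χ 1 = 1 by omega]; norm_num
  obtain ⟨s₀, hs₀⟩ : ∃ s, s ∉ E := by
    by_contra hall'
    push Not at hall'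
    have : E = ⊤ := (Subgroup.eq_top_iff' E).2 hall'
    rw [this, Subgroup.card_top, Nat.card_eq_fintype_card, ZMod.card_units] at hEcard
    have : 2 * e ≤ t * e := Nat.mul_le_mul_right _ ht2
    omega
  have hCFcard : CF.card = e := by
    have h := hgram 1 s₀
    rw [finsum_mem_eq_finite_toFinset_sum _ (principalBlock M G).toFinite,
      ← Finset.sum_filter_add_sum_filter_not Bf isC, inv_one, one_mul, if_neg hs₀, zero_add,
      ← hCF, ← hYF, Finset.sum_congr rfl fun χ hχ => hCr χ hχ 1 s₀,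
      Finset.sum_eq_zero (s := YF) fun χ hχ => ?_, add_zero, Finset.sum_const, nsmul_eq_mul,
      mul_one] at h
    · exact_mod_cast h
    · obtain ⟨c, w, -, hw⟩ := hex χ hχ
      by_cases h1 : w⁻¹ * 1 ∈ E
      · rw [(hw s₀).2 fun h2 => hs₀ ?_, mul_zero]
        have h3 := E.mul_mem (E.inv_mem h1) h2
        simpa using h3
      · rw [(hw 1).2 h1, zero_mul]
  have hdiag : ∀ v : (ZMod p)ˣ, ∑ χ ∈ YF, r χ v * r χ v = 1 := fun v => by
    have h := hgram v v
    rw [finsum_mem_eq_finite_toFinset_sum _ (principalBlock M G).toFinite,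
      ← Finset.sum_filter_add_sum_filter_not Bf isC, inv_mul_cancel, if_pos E.one_mem,
      ← hCF, ← hYF, Finset.sum_congr rfl fun χ hχ => hCr χ hχ v v, Finset.sum_const,
      nsmul_eq_mul, mul_one, hCFcard] at h
    linarith
  -- `R g = c η(g)`
  have hRη : ∀ χ ∈ YF, ∀ c : ℤ, ∀ w : (ZMod p)ˣ, (c = 1 ∨ c = -1) → r χ w = c →
      ∀ g, ¬ p ∣ orderOf g → R g = (c : ℂ) * (χ : G → ℂ) g := fun χ hχ c w hc hrc g hg => by
    rw [hrelF g hg w, Finset.sum_eq_single_of_mem χ hχ fun ψ hψ hne => ?_, hrc]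
    have h := hdiag w
    rw [← Finset.add_sum_erase _ _ hχ, hrc,
      show c * c = 1 by rcases hc with rfl | rfl <;> norm_num, add_eq_left] at h
    have h1 := (Finset.sum_eq_zero_iff_of_nonneg fun i _ => mul_self_nonneg (r i w)).1 h ψ
      (Finset.mem_erase.2 ⟨hne, hψ⟩)
    rw [mul_self_eq_zero.1 h1, Int.cast_zero, zero_mul]
  have hYcard : YF.card = t := by
    have h : CF.card + YF.card = Bf.card := Finset.card_filter_add_card_filter_not (s := Bf) isC
    rw [← h, hCFcard, hte, Nat.add_mul] at hBcard'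
    exact Nat.eq_of_mul_eq_mul_right (by omega) (Nat.add_left_cancel hBcard')
  obtain ⟨η₀, hη₀⟩ : YF.Nonempty := Finset.card_pos.1 (by omega)
  obtain ⟨σ, w₀, hσ, hw₀⟩ := hex η₀ hη₀
  set d₀ := charDegree (η₀ : G → ℂ) with hd₀
  have hd₀pos : 0 < d₀ := BlockB.irr_degree_pos η₀
  have hrη : ∀ g, ¬ p ∣ orderOf g → R g = (σ : ℂ) * (η₀ : G → ℂ) g :=
    hRη η₀ hη₀ σ w₀ hσ ((hw₀ w₀).1 (by rw [inv_mul_cancel]; exact E.one_mem))
  have hsame : ∀ χ ∈ YF, charDegree (χ : G → ℂ) = d₀ ∧ (∃ w, ∀ v, (w⁻¹ * v ∈ E → r χ v = σ) ∧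
      (w⁻¹ * v ∉ E → r χ v = 0)) ∧ ∀ g, ¬ p ∣ orderOf g → R g = (σ : ℂ) * (χ : G → ℂ) g := by
    intro χ hχ
    obtain ⟨c, w, hc, hw⟩ := hex χ hχ
    have hr := hRη χ hχ c w hc ((hw w).1 (by rw [inv_mul_cancel]; exact E.one_mem))
    have h1 := hr 1 hregone
    rw [hrη 1 hregone, ← BlockB.irr_degree_cast χ, ← BlockB.irr_degree_cast η₀, ← hd₀] at h1
    have h2 : σ * (d₀ : ℤ) = c * (charDegree (χ : G → ℂ) : ℤ) := by exact_mod_cast h1
    have h3 : 0 < charDegree (χ : G → ℂ) := BlockB.irr_degree_pos χ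
    obtain rfl : c = σ := by
      rcases hc with rfl | rfl <;> rcases hσ with rfl | rfl <;> first | rfl | omega
    refine ⟨?_, ⟨w, hw⟩, hr⟩
    rcases hc with rfl | rfl <;> omega
  have hYsumr : ∀ χ ∈ YF, ∑ v, r χ v = (e : ℤ) * σ := fun χ hχ => by
    obtain ⟨-, ⟨w, hw⟩, -⟩ := hsame χ hχ
    rw [Finset.sum_congr rfl fun v _ => show r χ v = if w⁻¹ * v ∈ E then σ else 0 by
        split_ifs with h; exacts [(hw v).1 h, (hw v).2 h],
      Fintype.sum_equiv (Equiv.mulLeft w⁻¹) (fun v => if w⁻¹ * v ∈ E then σ else 0)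
        (fun v => if v ∈ E then σ else 0) fun v => rfl,
      ← Finset.sum_filter, Finset.sum_const, nsmul_eq_mul,
      show (Finset.univ.filter fun v : (ZMod p)ˣ => v ∈ E).card = e by
        rw [← hEcard, Nat.card_eq_fintype_card, Fintype.card_subtype]]
  -- the exceptional degree divides `e N`
  have hcol : ∑ χ ∈ YF, (χ : G → ℂ) y₀ = ((-σ : ℤ) : ℂ) := by
    have h := sum_block_eq_zero_of_regular_singular hM (isPBlock_principalBlock (M := M) (G := G))
      (g := 1) (h := y₀⁻¹) hregone (by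
        rw [orderOf_inv, orderOf_eq_prime (p := p) _ hy₀]
        have h := pow_card_eq_one' (x := (⟨y₀, hy₀P⟩ : (P : Subgroup G)))
        rw [hP] at h
        exact congrArg Subtype.val h)
    rw [hfs, ← Finset.sum_filter_add_sum_filter_not Bf isC, ← hCF, ← hYF] at h
    simp only [fun χ : IrrCharacter G => irr_conj_eq χ.2 y₀⁻¹, inv_inv] at h
    have h1 : ∑ χ ∈ CF, (χ : G → ℂ) 1 * (χ : G → ℂ) y₀ = (σ : ℂ) * (d₀ : ℂ) := by
      rw [hd₀, BlockB.irr_degree_cast η₀, ← hrη 1 hregone, hR]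
      exact Finset.sum_congr rfl fun χ hχ => by rw [hCval1 χ hχ y₀ hy₀P hy₀]; ring
    have h2 : ∑ χ ∈ YF, (χ : G → ℂ) 1 * (χ : G → ℂ) y₀ = (d₀ : ℂ) * ∑ χ ∈ YF, (χ : G → ℂ) y₀ := by
      rw [Finset.mul_sum]
      exact Finset.sum_congr rfl fun χ hχ => by rw [← BlockB.irr_degree_cast χ, (hsame χ hχ).1]
    rw [h1, h2] at h
    refine mul_left_cancel₀ (Nat.cast_ne_zero.2 hd₀pos.ne' : (d₀ : ℂ) ≠ 0) ?_
    push_cast
    linear_combination h
  obtain ⟨k, hk⟩ : d₀ ∣ e * (1 + n * p) := by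
    rw [← hidx y₀ hy₀P hy₀]
    exact dvd_of_omega_sum YF id y₀ hd₀pos
      (fun i hi => by rw [id, ← BlockB.irr_degree_cast i, (hsame i hi).1])
      (by rcases hσ with rfl | rfl <;> simp) hcol
  have hmod : (p : ℤ) ∣ (e : ℤ) * σ - d₀ := by
    rw [← hYsumr η₀ hη₀]; exact Int.modEq_iff_dvd.1 (hdeg η₀ ((hYFmem η₀).1 hη₀).1)
  have hkmod : (p : ℤ) ∣ (k : ℤ) - σ := by
    have h1 : (p : ℤ) ∣ (e : ℤ) * ((k : ℤ) - σ) * σ + (e : ℤ) * (1 - σ * σ) := by
      rw [show σ * σ = 1 by rcases hσ with rfl | rfl <;> norm_num]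
      have hk' : (d₀ : ℤ) * k = e * (1 + n * p) := by exact_mod_cast hk.symm
      rw [show (e : ℤ) * ((k : ℤ) - σ) * σ + e * (1 - 1) =
        ((e : ℤ) * σ - d₀) * k + (((d₀ : ℤ) * k) - e * (σ * σ)) by ring,
        show σ * σ = 1 by rcases hσ with rfl | rfl <;> norm_num, hk',
        show (e : ℤ) * (1 + n * p) - e * 1 = p * (e * n) by ring]
      exact dvd_add (hmod.mul_right _) (dvd_mul_right _ _)
    rw [show σ * σ = 1 by rcases hσ with rfl | rfl <;> norm_num, sub_self, mul_zero, add_zero] at h1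
    have hpi : Prime (p : ℤ) := Nat.prime_iff_prime_int.1 hp
    rcases hpi.dvd_mul.1 h1 with h | h
    · rcases hpi.dvd_mul.1 h with h | h
      · have := Nat.le_of_dvd (by omega) (Int.natCast_dvd_natCast.1 h); omega
      · exact h
    · rcases hσ with rfl | rfl
      · exact absurd (isUnit_of_dvd_one h) hpi.not_unit
      · exact absurd (isUnit_of_dvd_one (dvd_neg.1 h)) hpi.not_unit
  have hab : Xp₀.card + Xm₀.card + 1 = e := by omega
  have hXmdeg : ∀ χ ∈ Xm₀, charDegree (χ : G → ℂ) = p - 1 := fun χ h => by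
    obtain ⟨h1, hε⟩ := Finset.mem_filter.1 h
    obtain ⟨hne, hC⟩ := Finset.mem_erase.1 h1
    rcases hCdeg χ hC hne with h' | ⟨-, h' | ⟨h', -⟩⟩
    · rw [hε] at h'; norm_num at h'
    · exact h'
    · omega
  have hR1' : (1 : ℤ) + Xp₀.card * (1 + n * p) - Xm₀.card * ((p : ℤ) - 1) = σ * d₀ := by
    have h := hrη 1 hregone
    rw [hR1, ← BlockB.irr_degree_cast η₀, ← hd₀, Finset.sum_congr rfl hXmdeg, Finset.sum_const,
      smul_eq_mul] at h
    have h' : ((1 + (Xp₀.card : ℤ) * (1 + n * p) - Xm₀.card * ((p : ℤ) - 1) : ℤ) : ℂ) =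
        ((σ * d₀ : ℤ) : ℂ) := by
      push_cast [Nat.cast_sub hp.one_le] at h ⊢
      linear_combination h
    exact_mod_cast h'
  have hte2 : (t : ℤ) * e + 1 = p := by exact_mod_cast hte'
  have hab2 : (Xm₀.card : ℤ) = e - 1 - Xp₀.card := by omega
  obtain ⟨w, hcount, halt⟩ : ∃ w, Xp₀.card * (n + 1) + w + 1 = e ∧
      ((w = 0 ∧ d₀ = e ∧ σ = 1) ∨ (0 < w ∧ n + 1 = w * t ∧ t * d₀ = 1 + n * p ∧ σ = -1)) := by
    rcases hσ with rfl | rfl
    · obtain ⟨u, hu⟩ : ∃ u, k = u * p + 1 := by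
        have hk0 : 0 < k := Nat.pos_of_ne_zero fun h => by
          rw [h, mul_zero] at hk
          rcases Nat.mul_eq_zero.1 hk with h | h <;> omega
        have h : (p : ℤ) ∣ ((k - 1 : ℕ) : ℤ) := by rw [Nat.cast_sub hk0]; exact hkmod
        obtain ⟨u, hu⟩ := Int.natCast_dvd_natCast.1 h
        exact ⟨u, by rw [mul_comm u p]; omega⟩
      have hd0e : d₀ = e := by
        rcases pos_case (e := e) (k := d₀) hp (by omega) ⟨t, by rw [hte, mul_comm]⟩ hF hu
          (by rw [mul_comm, hk]) with h | h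
        · exfalso
          rw [h, mul_one] at hk
          have h1 : (Xp₀.card + 1 : ℕ) * (1 + n * p) ≤ e * (1 + n * p) :=
            Nat.mul_le_mul_right _ (by omega)
          have h2 : ((Xp₀.card + 1 : ℕ) : ℤ) * (1 + n * p) ≤ (d₀ : ℤ) := by
            rw [← hk]; exact_mod_cast h1
          have h3 : (0 : ℤ) ≤ Xm₀.card * ((p : ℤ) - 1) := mul_nonneg (by omega) (by omega)
          have h4 : (2 : ℤ) ≤ 1 + n * p := by exact_mod_cast hN0
          push_cast at h2
          nlinarith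
        · rw [h] at hk
          exact (Nat.eq_of_mul_eq_mul_right (by omega) hk).symm
      refine ⟨0, ?_, Or.inl ⟨rfl, hd0e, rfl⟩⟩
      rw [hd0e, hab2] at hR1'
      have h : ((Xp₀.card : ℤ) * (n + 1) + 1 - e) * p = 0 := by linear_combination hR1'
      have h2 := (mul_eq_zero.1 h).resolve_right (by exact_mod_cast hp.ne_zero)
      have h3 : ((Xp₀.card * (n + 1) + 0 + 1 : ℕ) : ℤ) = (e : ℤ) := by push_cast; linarith
      exact_mod_cast h3
    · have hpk : p ∣ k + 1 := by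
        refine Int.natCast_dvd_natCast.1 ?_
        push_cast
        simpa using hkmod
      have hkp : k = p - 1 := by
        rcases neg_case hp (by omega) hte' hF hpk (by rw [mul_comm, hk]) with h | h
        · have := Nat.le_of_dvd (by omega) hpk; omega
        · rw [mul_eq_one] at h; omega
      have htd : t * d₀ = 1 + n * p := by
        refine Nat.eq_of_mul_eq_mul_left (by omega : 0 < e) ?_
        calc e * (t * d₀) = d₀ * (t * e) := by ring
          _ = _ := by rw [← hte, ← hkp, hk]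
      rw [hab2] at hR1'
      have htd' : (t : ℤ) * d₀ = 1 + n * p := by exact_mod_cast htd
      have h : ((t : ℤ) * Xp₀.card * (n + 1) + (n + 1) - t * (e - 1)) * p = 0 := by
        linear_combination (t : ℤ) * hR1' - htd' - hte2
      have h2 := (mul_eq_zero.1 h).resolve_right (by exact_mod_cast hp.ne_zero)
      have h3 : (t : ℤ) * ((e : ℤ) - 1 - Xp₀.card * (n + 1)) = n + 1 := by linarith
      have h4 : Xp₀.card * (n + 1) + 1 < e := by
        by_contra hc
        push Not at hc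
        have : (e : ℤ) - 1 - Xp₀.card * (n + 1) ≤ 0 := by
          have : ((e : ℕ) : ℤ) ≤ ((Xp₀.card * (n + 1) + 1 : ℕ) : ℤ) := by exact_mod_cast hc
          push_cast at this
          linarith
        nlinarith
      refine ⟨e - 1 - Xp₀.card * (n + 1), by omega, Or.inr ⟨by omega, ?_, htd, rfl⟩⟩
      have h5 : ((n + 1 : ℕ) : ℤ) = (((e - 1 - Xp₀.card * (n + 1)) * t : ℕ) : ℤ) := by
        rw [Nat.cast_mul, Nat.cast_sub (by omega), Nat.cast_sub (by omega)]
        push_cast; linarith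
      exact_mod_cast h5
  have hb : 0 < Xm₀.card := by
    have : 2 * Xp₀.card ≤ Xp₀.card * (n + 1) := by
      rw [mul_comm 2]; exact Nat.mul_le_mul_left _ (by omega)
    omega
  refine ⟨e, t, Xp₀.card, Xm₀.card, w, d₀, σ, Xp₀, Xm₀, YF, ?_⟩
  have hdisj : ∀ χ ∈ YF, χ ∉ CF := fun χ h h' => ((hYFmem χ).1 h).2 ((hCFmem χ).1 h').2
  exact
    { hte := hte', e_two := he2, n_pos := hn0, e_eq := rfl, card_Xp := rfl, card_Xm := rfl
      b_pos := hb, card_Y := hYcard, count := hab, count' := hcount, alt := halt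
      disj₁ := hXdisj
      disj₂ := Finset.disjoint_left.2 fun χ h h' => hdisj χ h' ((hXmem χ).2 (Or.inr (Or.inl h)))
      disj₃ := Finset.disjoint_left.2 fun χ h h' => hdisj χ h' ((hXmem χ).2 (Or.inr (Or.inr h)))
      one_not := ⟨honeX.1, honeX.2, fun h => hdisj _ h honeC⟩
      mem := hmem₀
      Xp_deg := fun χ h => by rw [← BlockB.irr_degree_cast χ, hXpdeg χ h]
      Xp_val := hXp_val
      Xm_deg := fun χ h => by rw [← BlockB.irr_degree_cast χ, hXmdeg χ h]
      Xm_val := hXm_val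
      Y_deg := fun χ h => by rw [← BlockB.irr_degree_cast χ, (hsame χ h).1]
      Y_sum := fun χ h => by
        rw [hPsum χ ((hYFmem χ).1 h).1, hYsumr χ h, ← BlockB.irr_degree_cast χ, (hsame χ h).1]
        push_cast; ring
      regular := fun x hx z hz g hg => by
        have h := ((hsame x hx).2.2 g hg).symm.trans ((hsame z hz).2.2 g hg)
        exact mul_left_cancel₀ (by rcases hσ with rfl | rfl <;> norm_num) h
      relation := fun x hx g hg => by rw [← hRsplit, (hsame x hx).2.2 g hg] }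

end CfsgLib.Block.BrauerReynolds
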