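import Cfsg.Agent.Lib.Block.BRPoints

/-!
Brauer–Reynolds, self-centralizing case: the numerical dichotomy.
-/

set_option autoImplicit false
set_option linter.unusedSectionVars false

namespace CfsgLib.Block.BrauerReynolds

open Cfsg CfsgLib CfsgLib.Block
open scoped ComplexConjugate

universe u

variable {G : Type u} [Group G] [Finite G] {p : ℕ} [hpf : Fact p.Prime]

variable {P : Sylow p G} (hP : Nat.card P = p)
  (hC : Subgroup.centralizer ((P : Subgroup G) : Set G) = (P : Subgroup G))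
  {M : Ideal AlgInt} (hM : IsPModular p M)
  {n e t a b w d₀ : ℕ} {σ : ℤ} {Xp Xm Y : Finset (IrrCharacter G)}
  (hn : Nat.card (Sylow p G) = 1 + n * p)
  (D : Data M P n e t a b w d₀ σ Xp Xm Y)
include hP hC hM hn D

theorem odd_prime : Odd p := by
  refine hpf.out.odd_of_ne_two fun h2 => ?_
  have h := D.hte
  have h1 := D.e_two
  rcases Nat.eq_zero_or_pos t with ht | ht
  · rw [ht, zero_mul] at h; omega
  · have : 1 * e ≤ t * e := Nat.mul_le_mul_right _ ht
    omega

theorem e_lt : e < p ∧ 0 < t := by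
  have h := D.hte
  have h1 := D.e_two
  rcases Nat.eq_zero_or_pos t with ht | ht
  · rw [ht, zero_mul] at h; have := hpf.out.two_le; omega
  · have : 1 * e ≤ t * e := Nat.mul_le_mul_right _ ht
    omega

/-- The cyclic complement of `P` in its normalizer. -/
theorem exists_generator : ∃ y₀ ∈ Subgroup.normalizer ((P : Subgroup G) : Set G), orderOf y₀ = e ∧
    ∀ y ∈ Subgroup.normalizer ((P : Subgroup G) : Set G), y ∉ (P : Subgroup G) →
      ∃ a ∈ (P : Subgroup G), ∃ i : ℕ, a * y * a⁻¹ = y₀ ^ i := by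
  have hp : p.Prime := hpf.out
  set N := Subgroup.normalizer ((P : Subgroup G) : Set G) with hNdef
  obtain ⟨x, ε, -, -, -, hker⟩ : ∃ (x : G) (ε : N →* (ZMod p)ˣ), orderOf x = p ∧
      (P : Subgroup G) = Subgroup.zpowers x ∧
      (∀ m : N, (m : G) * x * (m : G)⁻¹ = x ^ ((ε m : ZMod p)).val) ∧
      ε.ker = (Subgroup.centralizer ((P : Subgroup G) : Set G)).subgroupOf N :=
    exists_prime_sylow_data P hP
  rw [hC] at hker
  have hrange : Nat.card ε.range = e := by
    rw [← Subgroup.index_ker, hker]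
    have h := D.e_eq
    rwa [hC] at h
  obtain ⟨⟨u, ⟨g₀, rfl⟩⟩, hu⟩ := IsCyclic.exists_ofOrder_eq_natCard (α := ε.range)
  rw [← Subgroup.orderOf_coe, hrange] at hu
  replace hu : orderOf (ε g₀) = e := hu
  have hpow : ε g₀ ^ p = ε g₀ := by
    refine Units.ext ?_
    rw [Units.val_pow_eq_pow_val, ZMod.pow_card]
  have hge : ((g₀ : G) ^ p) ^ e = 1 := by
    have h1 : ε (g₀ ^ e) = 1 := by rw [map_pow, ← hu, pow_orderOf_eq_one]
    have h2 : g₀ ^ e ∈ (P : Subgroup G).subgroupOf N := hker ▸ MonoidHom.mem_ker.2 h1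
    rw [Subgroup.mem_subgroupOf, Subgroup.coe_pow] at h2
    have h3 := pow_card_eq_one' (x := (⟨_, h2⟩ : ↥(P : Subgroup G)))
    rw [hP] at h3
    rw [← pow_mul, mul_comm p e, pow_mul]
    exact congrArg Subtype.val h3
  refine ⟨(g₀ : G) ^ p, (g₀ ^ p).2, ?_, fun y hy hyP => ?_⟩
  · refine Nat.dvd_antisymm (orderOf_dvd_of_pow_eq_one hge) ?_
    rw [← hu, ← hpow, ← map_pow, show (g₀ : G) ^ p = ((g₀ ^ p : N) : G) from rfl,
      Subgroup.orderOf_coe]
    exact orderOf_map_dvd ε _
  · obtain ⟨i, hi⟩ : ∃ i : ℕ, ε g₀ ^ i = ε ⟨y, hy⟩ := by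
      have hmem : ε ⟨y, hy⟩ ∈ Subgroup.zpowers (ε g₀) := by
        have : Subgroup.zpowers (ε g₀) = ε.range := Subgroup.eq_of_le_of_card_ge
          (Subgroup.zpowers_le.2 ⟨g₀, rfl⟩) (by rw [Nat.card_zpowers, hu, hrange])
        rw [this]; exact ⟨_, rfl⟩
      exact mem_powers_iff_mem_zpowers.2 hmem
    have hz : (⟨y, hy⟩ : N)⁻¹ * (g₀ ^ p) ^ i ∈ (P : Subgroup G).subgroupOf N := by
      rw [← hker, MonoidHom.mem_ker, map_mul, map_inv, map_pow, map_pow, hpow, hi, inv_mul_cancel]
    rw [Subgroup.mem_subgroupOf] at hz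
    obtain ⟨a, ha, haz⟩ := exists_conj_eq_mul hP hC hy hyP hz
    refine ⟨a, ha, i, ?_⟩
    rw [haz]
    simp

/-- The main numerical consequences of the fixed point structure. -/
theorem core_lemma (y₀ : G) (hy₀N : y₀ ∈ Subgroup.normalizer ((P : Subgroup G) : Set G))
    (hy₀ : orderOf y₀ = e)
    (hgen : ∀ y ∈ Subgroup.normalizer ((P : Subgroup G) : Set G), y ∉ (P : Subgroup G) →
      ∃ a ∈ (P : Subgroup G), ∃ i : ℕ, a * y * a⁻¹ = y₀ ^ i) :
    Nat.card (Subgroup.normalizer ((Subgroup.zpowers y₀ : Subgroup G) : Set G)) = (n + 1) * e ∧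
      n + 1 ∣ p - 1 ∧
      (∀ k ∈ Subgroup.normalizer ((Subgroup.zpowers y₀ : Subgroup G) : Set G),
        ∀ s : G ⧸ Subgroup.normalizer ((P : Subgroup G) : Set G),
          s ∈ MulAction.fixedPoints (Subgroup.zpowers y₀)
            (G ⧸ Subgroup.normalizer ((P : Subgroup G) : Set G)) →
          k • s = s → k ∈ Subgroup.zpowers y₀) ∧
      (∀ i : ℕ, y₀ ^ i ≠ 1 → MulAction.fixedPoints (Subgroup.zpowers (y₀ ^ i))
          (G ⧸ Subgroup.normalizer ((P : Subgroup G) : Set G)) =
        MulAction.fixedPoints (Subgroup.zpowers y₀)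
          (G ⧸ Subgroup.normalizer ((P : Subgroup G) : Set G))) := by
  classical
  have := Fintype.ofFinite G
  have hp : p.Prime := hpf.out
  obtain ⟨hep, ht0⟩ := e_lt hP hC hM hn D
  have he2 := D.e_two
  set N := Subgroup.normalizer ((P : Subgroup G) : Set G) with hNdef
  set E := Subgroup.zpowers y₀ with hEdef
  set H := Subgroup.normalizer ((E : Subgroup G) : Set G) with hHdef
  have hEN : E ≤ N := Subgroup.zpowers_le.2 hy₀N
  have hEP : ∀ x ∈ E, x ∈ (P : Subgroup G) → x = 1 := by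
    intro x hx hxP
    have h1 : orderOf x ∣ e := by
      rw [← hy₀]
      obtain ⟨j, rfl⟩ := mem_powers_iff_mem_zpowers.2 hx
      exact orderOf_pow_dvd j
    have h2 : orderOf x ∣ p := by
      have h := orderOf_dvd_natCard (⟨x, hxP⟩ : ↥(P : Subgroup G))
      rwa [hP, Subgroup.orderOf_mk] at h
    rcases hp.eq_one_or_self_of_dvd _ h2 with h | h
    · exact orderOf_eq_one_iff.1 h
    · rw [h] at h1
      have := Nat.le_of_dvd (by omega) h1
      omega
  have hy₀P : y₀ ∉ (P : Subgroup G) := fun h => by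
    rw [hEP y₀ (Subgroup.mem_zpowers _) h, orderOf_one] at hy₀; omega
  have hfix : ∀ i : ℕ, y₀ ^ i ≠ 1 → MulAction.fixedPoints (Subgroup.zpowers (y₀ ^ i)) (G ⧸ N) =
      MulAction.fixedPoints E (G ⧸ N) := by
    intro i hi
    refine (Set.eq_of_subset_of_ncard_le (fun s hs x => ?_) ?_ (Set.toFinite _)).symm
    · exact hs ⟨x, Subgroup.zpowers_le.2 (Subgroup.pow_mem _ (Subgroup.mem_zpowers y₀) i) x.2⟩
    · rw [← Nat.card_coe_set_eq, ← Nat.card_coe_set_eq]
      have h1 := fx_eq hP hC hM hn D (Subgroup.pow_mem _ hy₀N i)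
        (fun h => hi (hEP _ (Subgroup.pow_mem _ (Subgroup.mem_zpowers _) i) h))
      have h2 := fx_eq hP hC hM hn D hy₀N hy₀P
      simp only [fx] at h1 h2
      exact le_of_eq (h1.trans h2.symm)
  have hmemfix : ∀ s : G, (s : G ⧸ N) ∈ MulAction.fixedPoints E (G ⧸ N) ↔ s⁻¹ * y₀ * s ∈ N :=
    fun s => BlockB.mem_fixedPoints_zpowers_iff N y₀ s
  set o : G ⧸ N := ((1 : G) : G ⧸ N)
  have hstabo : ∀ g : G, g • o = o ↔ g ∈ N := fun g => by
    simp only [o, MulAction.Quotient.smul_coe, smul_eq_mul, mul_one, QuotientGroup.eq]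
    exact N.inv_mem_iff
  have hnorm : ∀ k ∈ H, ∀ x, x ∈ E ↔ k * x * k⁻¹ ∈ E := fun k hk x =>
    Subgroup.mem_normalizer_iff.1 hk x
  -- orbit
  have horb : MulAction.orbit H o = MulAction.fixedPoints E (G ⧸ N) := by
    ext s
    obtain ⟨s, rfl⟩ := QuotientGroup.mk_surjective s
    rw [hmemfix]
    constructor
    · rintro ⟨k, hk⟩
      have hk' : (((k : G)) : G ⧸ N) = (s : G ⧸ N) := by
        rw [← hk]
        change _ = (k : G) • o
        simp [o, MulAction.Quotient.smul_coe]
      have h1 : (k : G)⁻¹ * y₀ * (k : G) ∈ E := by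
        have := (hnorm _ (H.inv_mem k.2) y₀).1 (Subgroup.mem_zpowers _)
        rwa [inv_inv] at this
      have h2 : (k : G)⁻¹ * s ∈ N := QuotientGroup.eq.1 hk'
      rw [show s⁻¹ * y₀ * s = ((k : G)⁻¹ * s)⁻¹ * ((k : G)⁻¹ * y₀ * k) * ((k : G)⁻¹ * s) by group]
      exact N.mul_mem (N.mul_mem (N.inv_mem h2) (hEN h1)) h2
    · intro hv
      have hvo : orderOf (s⁻¹ * y₀ * s) = e := by
        rw [← hy₀]
        simpa using MulEquiv.orderOf_eq (MulAut.conj s⁻¹) y₀
      have hvP : s⁻¹ * y₀ * s ∉ (P : Subgroup G) := fun h => by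
        have h' := orderOf_dvd_natCard (⟨_, h⟩ : ↥(P : Subgroup G))
        rw [hP, Subgroup.orderOf_mk, hvo] at h'
        rcases hp.eq_one_or_self_of_dvd _ h' with h'' | h'' <;> omega
      obtain ⟨a, ha, i, hai⟩ := hgen _ hv hvP
      have hk : (s * a⁻¹) ∈ H := by
        have hmap : E.map (MulAut.conj (s * a⁻¹)⁻¹).toMonoidHom = E := by
          refine Subgroup.eq_of_le_of_card_ge ?_ ?_
          · rw [hEdef, MonoidHom.map_zpowers, Subgroup.zpowers_le]
            simp only [MulEquiv.coe_toMonoidHom, MulAut.conj_apply, inv_inv]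
            rw [show (s * a⁻¹)⁻¹ * y₀ * (s * a⁻¹) = a * (s⁻¹ * y₀ * s) * a⁻¹ by group, hai]
            exact Subgroup.pow_mem _ (Subgroup.mem_zpowers _) i
          · exact le_of_eq (Nat.card_congr (E.equivMapOfInjective _ (MulAut.conj _).injective).toEquiv)
        rw [← H.inv_mem_iff, hHdef, Subgroup.mem_normalizer_iff]
        intro x
        have h := Subgroup.mem_map_iff_mem (f := (MulAut.conj (s * a⁻¹)⁻¹).toMonoidHom)
          (MulAut.conj (s * a⁻¹)⁻¹).injective (K := E) (x := x)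
        rw [hmap] at h
        exact h.symm
      refine ⟨⟨_, hk⟩, ?_⟩
      change (s * a⁻¹) • o = _
      simp only [o, MulAction.Quotient.smul_coe, smul_eq_mul, mul_one]
      rw [QuotientGroup.eq]
      have haN : a ∈ N := Subgroup.le_normalizer ha
      simpa [mul_assoc] using haN
  -- stabilizer
  have hHN : ∀ k ∈ H, k ∈ N → k ∈ E := by
    have hP1 : ∀ k ∈ H, k ∈ (P : Subgroup G) → k = 1 := by
      intro k hk hkP
      have h1 : k * y₀ * k⁻¹ * y₀⁻¹ ∈ E :=
        E.mul_mem ((hnorm k hk y₀).1 (Subgroup.mem_zpowers _)) (E.inv_mem (Subgroup.mem_zpowers _))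
      have h2 : k * y₀ * k⁻¹ * y₀⁻¹ ∈ (P : Subgroup G) := by
        rw [show k * y₀ * k⁻¹ * y₀⁻¹ = k * (y₀ * k⁻¹ * y₀⁻¹) by group]
        exact Subgroup.mul_mem _ hkP
          ((Subgroup.mem_normalizer_iff.1 hy₀N k⁻¹).1 (Subgroup.inv_mem _ hkP))
      have h3 := hEP _ h1 h2
      by_contra hk1
      refine hy₀P (eq_one_of_commute hP hC hkP hk1 ?_)
      rw [mul_inv_eq_one, mul_inv_eq_iff_eq_mul] at h3
      exact h3
    intro k hk hkN
    by_cases hkP : k ∈ (P : Subgroup G)
    · rw [hP1 k hk hkP]; exact E.one_mem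
    obtain ⟨a, ha, i, hai⟩ := hgen k hkN hkP
    have hEH : E ≤ H := Subgroup.le_normalizer
    have hzP : (y₀ ^ i)⁻¹ * k ∈ (P : Subgroup G) := by
      rw [← hai, show (a * k * a⁻¹)⁻¹ * k = a * (k⁻¹ * a⁻¹ * k) by group]
      exact Subgroup.mul_mem _ ha
        ((Subgroup.mem_normalizer_iff''.1 hkN a⁻¹).1 (Subgroup.inv_mem _ ha))
    have hz := hP1 _ (H.mul_mem (H.inv_mem (hEH (Subgroup.pow_mem _ (Subgroup.mem_zpowers _) i))) hk)
      hzP
    rw [inv_mul_eq_one] at hz
    exact hz ▸ Subgroup.pow_mem _ (Subgroup.mem_zpowers _) i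
  have hstab : MulAction.stabilizer H o = E.subgroupOf H := by
    ext k
    rw [MulAction.mem_stabilizer_iff, Subgroup.mem_subgroupOf]
    constructor
    · intro h
      exact hHN k k.2 ((hstabo k).1 h)
    · intro h
      exact (hstabo k).2 (hEN h)
  have hcardH : Nat.card H = (n + 1) * e := by
    rw [← (MulAction.stabilizer H o).index_mul_card]
    rw [MulAction.index_stabilizer, horb, hstab,
      Nat.card_congr (Subgroup.subgroupOfEquivOfLe (Subgroup.le_normalizer : E ≤ H)).toEquiv,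
      ← Nat.card_coe_set_eq, hEdef, Nat.card_zpowers, hy₀]
    have h2 := fx_eq hP hC hM hn D hy₀N hy₀P
    simp only [fx] at h2
    rw [h2]
  have hpH : ¬ p ∣ n + 1 := by
    intro hd
    obtain ⟨z, hz⟩ := exists_prime_orderOf_dvd_card' (G := H) p (hcardH ▸ hd.mul_right e)
    rw [← Subgroup.orderOf_coe] at hz
    obtain ⟨i, hi⟩ := mem_powers_iff_mem_zpowers.2
      ((hnorm _ z.2 y₀).1 (Subgroup.mem_zpowers y₀))
    have hit : ∀ k : ℕ, (z : G) ^ k * y₀ * ((z : G) ^ k)⁻¹ = y₀ ^ (i ^ k) := by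
      intro k
      induction k with
      | zero => simp
      | succ k ih =>
        rw [pow_succ' (z : G), show (z : G) * (z : G) ^ k * y₀ * ((z : G) * (z : G) ^ k)⁻¹ =
          (z : G) * ((z : G) ^ k * y₀ * ((z : G) ^ k)⁻¹) * (z : G)⁻¹ by group, ih, ← conj_pow,
          show (z : G) * y₀ * (z : G)⁻¹ = y₀ ^ i from hi.symm, ← pow_mul, pow_succ']
    have h1 := hit p
    rw [← hz, pow_orderOf_eq_one] at h1
    simp only [one_mul, inv_one, mul_one] at h1
    rw [hz] at h1
    have h2 : i ^ p ≡ 1 [MOD e] := by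
      rw [← hy₀, ← pow_eq_pow_iff_modEq, pow_one, ← h1]
    haveI : NeZero e := ⟨by omega⟩
    have h3 : ((i : ZMod e)) ^ p = 1 := by
      have := (ZMod.natCast_eq_natCast_iff _ _ _).2 h2
      push_cast at this
      exact this
    let u : (ZMod e)ˣ := Units.ofPowEqOne _ p h3 hp.ne_zero
    have hu : u = 1 := by
      rw [← orderOf_eq_one_iff]
      refine (hp.eq_one_or_self_of_dvd _
        (orderOf_dvd_of_pow_eq_one (Units.pow_ofPowEqOne h3 hp.ne_zero))).resolve_right fun h => ?_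
      have h4 : orderOf u ≤ Fintype.card (ZMod e)ˣ := orderOf_le_card_univ
      rw [h, ZMod.card_units_eq_totient] at h4
      have := Nat.totient_le e
      omega
    have h5 : (i : ZMod e) = ((1 : ℕ) : ZMod e) := by
      rw [Nat.cast_one]
      exact congrArg Units.val hu
    have h6 : y₀ ^ i = y₀ := by
      conv_rhs => rw [← pow_one y₀]
      rw [pow_eq_pow_iff_modEq, hy₀]
      exact (ZMod.natCast_eq_natCast_iff _ _ _).1 h5
    have hcomm : Commute (z : G) y₀ := by
      have h7 : (z : G) * y₀ * (z : G)⁻¹ = y₀ := hi.symm.trans h6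
      exact mul_inv_eq_iff_eq_mul.1 h7
    obtain ⟨s, hs, hs1⟩ := exists_conj_mem hP hC (g := (z : G)) (by rw [hz])
    have hmem := eq_one_of_commute hP hC hs hs1 (g := s⁻¹ * y₀ * s) (by
      change _ = _
      calc s⁻¹ * z * s * (s⁻¹ * y₀ * s) = s⁻¹ * ((z : G) * y₀) * s := by group
        _ = s⁻¹ * (y₀ * z) * s := by rw [hcomm.eq]
        _ = _ := by group)
    have h' := orderOf_dvd_natCard (⟨_, hmem⟩ : ↥(P : Subgroup G))
    rw [hP, Subgroup.orderOf_mk,
      show orderOf (s⁻¹ * y₀ * s) = e from hy₀ ▸ by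
        simpa using MulEquiv.orderOf_eq (MulAut.conj s⁻¹) y₀] at h'
    rcases hp.eq_one_or_self_of_dvd _ h' with h'' | h'' <;> omega
  have hdvd : n + 1 ∣ p - 1 := by
    have h1 : (n + 1) * e ∣ p * e * (1 + n * p) := by
      rw [← natCard_group hP hC hM hn D, ← hcardH]
      exact Subgroup.card_subgroup_dvd_card _
    rw [show p * e * (1 + n * p) = p * (1 + n * p) * e by ring,
      Nat.mul_dvd_mul_iff_right (by omega)] at h1
    have h2 : n + 1 ∣ 1 + n * p :=
      (Nat.Coprime.symm ((hp.coprime_iff_not_dvd).2 hpH)).dvd_of_dvd_mul_left h1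
    have h3 : (n + 1) * p = (1 + n * p) + (p - 1) := by
      have := hp.one_le
      rw [Nat.add_mul, one_mul]; omega
    exact (Nat.dvd_add_right h2).1 (h3 ▸ dvd_mul_right _ _)
  refine ⟨hcardH, hdvd, fun k hk s hs hks => ?_, hfix⟩
  rw [← horb] at hs
  obtain ⟨h, hh⟩ := hs
  have hh' : (h : G) • o = s := hh
  have h1 : (h : G)⁻¹ * k * (h : G) ∈ E := by
    refine hHN _ (H.mul_mem (H.mul_mem (H.inv_mem h.2) hk) h.2) ((hstabo _).1 ?_)
    rw [mul_smul, mul_smul, hh', hks, ← hh', inv_smul_smul]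
  have h2 := (hnorm _ h.2 _).1 h1
  rwa [show (h : G) * ((h : G)⁻¹ * k * h) * (h : G)⁻¹ = k by group] at h2

/-- Case of a faithful character of degree `e`: then `n = 1` and `e = (p-1)/2`. -/
theorem case_zero (hw : w = 0) (hdvd : n + 1 ∣ p - 1) : n = 1 ∧ t = 2 := by
  classical
  have := Fintype.ofFinite G
  have := Fintype.ofFinite (IrrCharacter G)
  have := isPrime_of_pmodular hM
  have hp : p.Prime := hpf.out
  obtain ⟨hep, ht0⟩ := e_lt hP hC hM hn D
  have he2 := D.e_two
  have hte := D.hte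
  have hn0 := D.n_pos
  obtain ⟨-, hd0, hσ⟩ := D.alt.resolve_right fun h => by omega
  have hcount := D.count'
  have ht2 : 2 ≤ t := by
    by_contra hlt
    obtain rfl : t = 1 := by omega
    have h1 : n + 1 ∣ e := by rwa [show p - 1 = e by omega] at hdvd
    rw [← hcount, hw, add_zero] at h1
    have := Nat.le_of_dvd one_pos ((Nat.dvd_add_right (dvd_mul_left _ _)).1 h1)
    omega
  obtain ⟨y, hyP, hy1⟩ : ∃ y ∈ (P : Subgroup G), y ≠ 1 := by
    refine Subgroup.bot_or_exists_ne_one _ |>.resolve_left fun h => ?_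
    rw [h, Subgroup.card_bot] at hP
    exact hp.ne_one hP.symm
  have hz1 : ¬ p ∣ orderOf (1 : G) := by rw [orderOf_one]; exact hp.not_dvd_one
  have hPne : ∀ z ∈ (P : Subgroup G), z ≠ 1 → orderOf z = p := fun z hz hz1 => by
    refine orderOf_eq_prime ?_ hz1
    have h := pow_card_eq_one' (x := (⟨z, hz⟩ : (P : Subgroup G)))
    rw [hP] at h
    exact congrArg Subtype.val h
  set one : IrrCharacter G := ⟨fun _ => 1, Char.isIrrCharacter_one⟩
  obtain ⟨ho1, ho2, ho3⟩ := D.one_not
  set Out := (Finset.univ : Finset (IrrCharacter G)).filter (fun χ => χ ∉ principalBlock M G)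
  have hsplit : ∀ F : IrrCharacter G → ℂ, ∑ χ : IrrCharacter G, F χ =
      F one + ∑ χ ∈ Xp, F χ + ∑ χ ∈ Xm, F χ + ∑ χ ∈ Y, F χ + ∑ χ ∈ Out, F χ := by
    intro F
    rw [← Finset.sum_filter_add_sum_filter_not Finset.univ (fun χ => χ ∈ principalBlock M G),
      show (Finset.univ.filter fun χ : IrrCharacter G => χ ∈ principalBlock M G) =
        insert one (Xp ∪ Xm ∪ Y) by
        ext χ
        simp only [Finset.mem_filter, Finset.mem_univ, true_and, D.mem, Finset.mem_insert,
          Finset.mem_union, one, or_assoc]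
        rw [Subtype.ext_iff],
      Finset.sum_insert (by simp [one, ho1, ho2, ho3]),
      Finset.sum_union (Finset.disjoint_union_left.2 ⟨D.disj₂, D.disj₃⟩),
      Finset.sum_union D.disj₁]
    ring
  -- the character `∑ η η̄`
  set S : G → ℂ := fun g => ∑ η ∈ Y, (η : G → ℂ) g * conj ((η : G → ℂ) g) with hS
  have hScl : IsClassFunction G S := fun a b => by
    simp only [hS]
    exact Finset.sum_congr rfl fun η _ => by rw [Char.irr_isClassFunction η.2 a b]
  have hSchar : Cfsg.IsCharacter G S := by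
    have : S = ∑ η ∈ Y, (fun g => (η : G → ℂ) g * conj ((η : G → ℂ) g)) := by
      funext g; simp [hS, Finset.sum_apply]
    rw [this]
    exact Char.isCharacter_sum _ fun η _ => Char.isCharacter_mul (Char.irr_isCharacter η.2)
      (Char.isCharacter_conj (Char.irr_isCharacter η.2))
  choose c hc using fun χ : IrrCharacter G =>
    Char.classInner_isCharacter_nat hSchar (Char.irr_isCharacter χ.2)
  have hexp : ∀ g, S g = ∑ χ : IrrCharacter G, (c χ : ℂ) * (χ : G → ℂ) g := fun g => by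
    rw [Char.classFunction_apply_eq_sum hScl g]
    exact Finset.sum_congr rfl fun χ _ => by rw [hc χ]
  have hc1 : c one = t := by
    have h := hc one
    rw [Char.classInner_def] at h
    simp only [one, hS, map_one, mul_one] at h
    rw [Finset.sum_comm, Finset.mul_sum,
      Finset.sum_congr rfl fun (η : IrrCharacter G) _ => show (Nat.card G : ℂ)⁻¹ *
          ∑ g : G, (η : G → ℂ) g * conj ((η : G → ℂ) g) = 1 by
        rw [← Char.classInner_def]; exact Char.irr_classInner_self η.2,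
      Finset.sum_const, D.card_Y, nsmul_eq_mul, mul_one] at h
    exact_mod_cast h.symm
  have hYconst : ∀ z ∈ (P : Subgroup G), z ≠ 1 → S z = ((p - e : ℕ) : ℂ) := by
    intro z hz hz1'
    have hcen := cen_eq hP hC hz hz1'
    have hnc : Cfsg.HasNormalPComplement p (Subgroup.centralizer ({z} : Set G)) := by
      obtain ⟨T⟩ := (inferInstance : Nonempty (Sylow p (Subgroup.centralizer ({z} : Set G))))
      refine ⟨T, ⊥, inferInstance, ?_⟩
      have hpg : IsPGroup p (Subgroup.centralizer ({z} : Set G)) := by rw [hcen]; exact P.isPGroup'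
      rw [(T.is_maximal' (Q := ⊤) (hpg.to_subgroup ⊤) le_top).symm]
      exact Subgroup.isComplement'_bot_top
    obtain ⟨-, hnorm⟩ := principal_section hM (x := z) ⟨1, by rw [hPne z hz hz1', pow_one]⟩ hnc
    rw [show Nat.card (Subgroup.centralizer ({z} : Set G)) = p by rw [hcen, hP],
      hp.factorization_self, pow_one,
      finsum_mem_eq_finite_toFinset_sum _ (principalBlock M G).toFinite,
      show (principalBlock M G).toFinite.toFinset = insert one (Xp ∪ Xm ∪ Y) by
        ext χ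
        simp only [Set.Finite.mem_toFinset, D.mem, Finset.mem_insert, Finset.mem_union, one,
          or_assoc]
        rw [Subtype.ext_iff],
      Finset.sum_insert (by simp [one, ho1, ho2, ho3]),
      Finset.sum_union (Finset.disjoint_union_left.2 ⟨D.disj₂, D.disj₃⟩),
      Finset.sum_union D.disj₁,
      Finset.sum_congr (s₁ := Xp) rfl fun χ hχ => show (χ : G → ℂ) z * conj ((χ : G → ℂ) z) = 1 by
        have h := D.Xp_val χ hχ z hz hz1' 1 (Subgroup.one_mem _) hz1
        rw [mul_one] at h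
        rw [h, map_one, mul_one],
      Finset.sum_congr (s₁ := Xm) rfl fun χ hχ => show (χ : G → ℂ) z * conj ((χ : G → ℂ) z) = 1 by
        have h := D.Xm_val χ hχ z hz hz1' 1 (Subgroup.one_mem _) hz1
        rw [mul_one] at h
        rw [h, map_neg, map_one, neg_mul_neg, mul_one]] at hnorm
    simp only [one, map_one, mul_one, Finset.sum_const, D.card_Xp, D.card_Xm, nsmul_eq_mul] at hnorm
    have hce : (a : ℂ) + b + 1 = e := by exact_mod_cast congrArg (Nat.cast (R := ℂ)) D.count
    rw [Nat.cast_sub (by omega : e ≤ p)]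
    simp only [hS]
    linear_combination hnorm - hce
  -- summing over `P`
  have := Fintype.ofFinite (P : Subgroup G)
  have hPsum : ∀ (χ : IrrCharacter G) (v : ℂ),
      (∀ z ∈ (P : Subgroup G), z ≠ 1 → (χ : G → ℂ) z = v) →
      ∑ z ∈ Finset.univ.erase (1 : ↥(P : Subgroup G)), (χ : G → ℂ) z = ((p - 1 : ℕ) : ℂ) * v := by
    intro χ v hv
    rw [Finset.sum_congr rfl (g := fun _ => v) fun (z : ↥(P : Subgroup G)) hz =>
        hv z z.2 fun h => (Finset.mem_erase.1 hz).1 (Subtype.ext h),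
      Finset.sum_const, Finset.card_erase_of_mem (Finset.mem_univ _), Finset.card_univ,
      ← Nat.card_eq_fintype_card, hP, nsmul_eq_mul]
  have h1 : ∑ z ∈ Finset.univ.erase (1 : ↥(P : Subgroup G)), S z =
      ((p - 1 : ℕ) : ℂ) * ((p - e : ℕ) : ℂ) := by
    rw [Finset.sum_congr rfl (g := fun _ => ((p - e : ℕ) : ℂ)) fun (z : ↥(P : Subgroup G)) hz =>
        hYconst z z.2 fun h => (Finset.mem_erase.1 hz).1 (Subtype.ext h),
      Finset.sum_const, Finset.card_erase_of_mem (Finset.mem_univ _), Finset.card_univ,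
      ← Nat.card_eq_fintype_card, hP, nsmul_eq_mul]
  have hrhs : ∑ z ∈ Finset.univ.erase (1 : ↥(P : Subgroup G)), S z =
      ∑ χ : IrrCharacter G, (c χ : ℂ) *
        ∑ z ∈ Finset.univ.erase (1 : ↥(P : Subgroup G)), (χ : G → ℂ) z := by
    simp only [hexp, Finset.mul_sum]
    exact Finset.sum_comm
  rw [h1, hsplit, hc1, hPsum one 1 (fun _ _ _ => rfl),
    Finset.sum_congr (s₁ := Xp) rfl fun χ hχ => show (c χ : ℂ) *
        ∑ z ∈ Finset.univ.erase (1 : ↥(P : Subgroup G)), (χ : G → ℂ) z =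
        (c χ : ℂ) * ((p - 1 : ℕ) : ℂ) by
      rw [hPsum χ 1 fun z hz hz' => by
        have h := D.Xp_val χ hχ z hz hz' 1 (Subgroup.one_mem _) hz1
        rwa [mul_one] at h, mul_one],
    Finset.sum_congr (s₁ := Xm) rfl fun χ hχ => show (c χ : ℂ) *
        ∑ z ∈ Finset.univ.erase (1 : ↥(P : Subgroup G)), (χ : G → ℂ) z =
        (c χ : ℂ) * -((p - 1 : ℕ) : ℂ) by
      rw [hPsum χ (-1) fun z hz hz' => by
        have h := D.Xm_val χ hχ z hz hz' 1 (Subgroup.one_mem _) hz1
        rwa [mul_one] at h, mul_neg_one],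
    Finset.sum_congr (s₁ := Y) rfl fun χ hχ => show (c χ : ℂ) *
        ∑ z ∈ Finset.univ.erase (1 : ↥(P : Subgroup G)), (χ : G → ℂ) z = (c χ : ℂ) * -(e : ℂ) by
      congr 1
      have h := D.Y_sum χ hχ
      rw [hd0, hσ, Int.cast_one, one_mul, sub_self, finsum_eq_sum_of_fintype,
        ← Finset.add_sum_erase _ _ (Finset.mem_univ (1 : ↥(P : Subgroup G))), Subgroup.coe_one,
        D.Y_deg χ hχ, hd0] at h
      exact eq_neg_of_add_eq_zero_right h,
    Finset.sum_eq_zero (s := Out) fun χ hχ => by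
      rw [hPsum χ 0 fun z hz hz' =>
        apply_eq_zero_of_not_principal hP hC hM χ (Finset.mem_filter.1 hχ).2 hz hz', mul_zero,
        mul_zero]] at hrhs
  simp only [mul_one, mul_neg, Finset.sum_neg_distrib, ← Finset.sum_mul, ← Nat.cast_sum, add_zero]
    at hrhs
  set xp := ∑ χ ∈ Xp, c χ with hxp
  have hineq : p - e ≤ t + xp := by
    have h : (p - 1) * (p - e) + (∑ χ ∈ Xm, c χ) * (p - 1) + (∑ χ ∈ Y, c χ) * e =
        t * (p - 1) + xp * (p - 1) := by
      have h' : (((p - 1) * (p - e) + (∑ χ ∈ Xm, c χ) * (p - 1) + (∑ χ ∈ Y, c χ) * e : ℕ) : ℂ) =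
          ((t * (p - 1) + xp * (p - 1) : ℕ) : ℂ) := by
        push_cast at hrhs ⊢
        linear_combination hrhs
      exact_mod_cast h'
    refine Nat.le_of_mul_le_mul_left ?_ (by omega : 0 < p - 1)
    rw [Nat.mul_add, mul_comm (p - 1) t, mul_comm (p - 1) xp]
    omega
  have hdeg : t + xp * (1 + n * p) ≤ t * e ^ 2 := by
    have h := hexp 1
    rw [show S 1 = ((t * e ^ 2 : ℕ) : ℂ) by
        simp only [hS]
        rw [Finset.sum_congr rfl fun (η : IrrCharacter G) hη => show (η : G → ℂ) 1 * conj ((η : G → ℂ) 1) =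
            ((e ^ 2 : ℕ) : ℂ) by rw [D.Y_deg η hη, hd0, map_natCast, sq, Nat.cast_mul],
          Finset.sum_const, D.card_Y, nsmul_eq_mul, Nat.cast_mul],
      Finset.sum_congr rfl fun (χ : IrrCharacter G) _ => show (c χ : ℂ) * (χ : G → ℂ) 1 =
        ((c χ * charDegree (χ : G → ℂ) : ℕ) : ℂ) by
          rw [Nat.cast_mul, BlockB.irr_degree_cast], ← Nat.cast_sum, Nat.cast_inj] at h
    rw [h]
    have hsub : insert one Xp ⊆ (Finset.univ : Finset (IrrCharacter G)) := Finset.subset_univ _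
    refine le_trans ?_ (Finset.sum_le_sum_of_subset hsub)
    rw [Finset.sum_insert (by simp [one, ho1]), hc1, hxp, Finset.sum_mul]
    refine Nat.add_le_add (le_of_eq ?_) (Finset.sum_le_sum fun χ hχ => le_of_eq ?_)
    · simp [one, charDegree]
    · congr 1
      have := D.Xp_deg χ hχ
      rw [← BlockB.irr_degree_cast] at this
      exact_mod_cast this.symm
  have hn1 : n = 1 := by
    by_contra hne
    have hn2 : 2 ≤ n := by omega
    obtain ⟨t', rfl⟩ : ∃ t', t = t' + 2 := ⟨t - 2, by omega⟩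
    obtain ⟨e', rfl⟩ : ∃ e', e = e' + 2 := ⟨e - 2, by omega⟩
    have hp' : p = (t' + 2) * (e' + 2) + 1 := hte.symm
    have hxp2 : (t' + 1) * (e' + 1) ≤ xp := by
      have h' : p - (e' + 2) = (t' + 1) * (e' + 1) + (t' + 2) := by
        rw [hp']
        have : (t' + 2) * (e' + 2) + 1 = (t' + 1) * (e' + 1) + (t' + 2) + (e' + 2) := by ring
        omega
      omega
    have h2 : (t' + 1) * (e' + 1) * (1 + n * p) ≤ xp * (1 + n * p) := Nat.mul_le_mul_right _ hxp2
    have h3 : 1 + 2 * p ≤ 1 + n * p := Nat.add_le_add_left (Nat.mul_le_mul_right _ hn2) 1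
    have h4 := Nat.mul_le_mul_left ((t' + 1) * (e' + 1)) h3
    rw [hp'] at h4 h2 hdeg
    have h5 : 0 ≤ (t' + 2) * (e' + 2) * (t' * (e' + 1)) := Nat.zero_le _
    have h6 : 0 ≤ (t' + 2) * (e' + 2) * e' := Nat.zero_le _
    nlinarith
  refine ⟨hn1, ?_⟩
  obtain ⟨φ, hφ⟩ := Finset.card_pos.1 (D.card_Xm ▸ D.b_pos)
  have hdv := dvd_of_omega_sum {φ} id y (d := p - 1) (σ := -1) (by omega)
    (fun i hi => by rw [Finset.mem_singleton.1 hi]; exact D.Xm_deg φ hφ) (Or.inr rfl) (by
      rw [Finset.sum_singleton]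
      have h := D.Xm_val φ hφ y hyP hy1 1 (Subgroup.one_mem _) hz1
      rw [mul_one] at h
      simpa using h)
  rw [cen_eq hP hC hyP hy1] at hdv
  have hidx := index_centralizer (G := G) P
  rw [D.e_eq, hC, hn] at hidx
  rw [hidx, hn1, show p - 1 = t * e by omega, mul_comm t e,
    Nat.mul_dvd_mul_iff_left (by omega), one_mul] at hdv
  have h2 : 1 + p = t * e + 2 := by omega
  rw [h2] at hdv
  have := Nat.le_of_dvd (by omega) ((Nat.dvd_add_right (dvd_mul_right t e)).1 hdv)
  omega

/-- The dichotomy. -/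
theorem dichotomy :
    (n = 1 ∧ t = 2) ∨
    (e = 2 ∧ n + 1 = t ∧ 4 ≤ t ∧ (∃ m : ℕ, t = 2 ^ m) ∧ ∃ τ : G, orderOf τ = 2 ∧
      Nat.card (Subgroup.centralizer ({τ} : Set G)) = 2 * t ∧
      (∀ x ∈ Subgroup.centralizer ({τ} : Set G), x ^ 2 = 1) ∧
      ∀ g : G, orderOf g = 2 → IsConj g τ) := by
  classical
  have := Fintype.ofFinite G
  have hp : p.Prime := hpf.out
  obtain ⟨hep, ht0⟩ := e_lt hP hC hM hn D
  have he2 := D.e_two
  have hte := D.hte
  have hn0 := D.n_pos
  obtain ⟨y₀, hy₀N, hy₀, hgen⟩ := exists_generator hP hC hM hn D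
  obtain ⟨hH, hdvd, hfree, hfix⟩ := core_lemma hP hC hM hn D y₀ hy₀N hy₀ hgen
  rcases D.alt with ⟨hw, -, -⟩ | ⟨hw, hwt, -, -⟩
  · exact Or.inl (case_zero hP hC hM hn D hw hdvd)
  have hw1 : w = 1 := by
    have h1 : w * t ∣ t * e := by rwa [← hwt, show t * e = p - 1 by omega]
    rw [mul_comm w t, Nat.mul_dvd_mul_iff_left ht0] at h1
    have h2 : w ∣ a * (n + 1) + w + 1 := D.count' ▸ h1
    rw [add_assoc, hwt] at h2
    have h3 : w ∣ w + 1 := (Nat.dvd_add_right ((dvd_mul_right w t).mul_left a)).1 h2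
    exact Nat.dvd_one.1 ((Nat.dvd_add_right dvd_rfl).1 h3)
  subst hw1
  rw [one_mul] at hwt
  rcases eq_or_ne t 2 with ht2 | ht2
  · exact Or.inl ⟨by omega, ht2⟩
  right
  have ht3 : 3 ≤ t := by omega
  have hcount : a * t + 2 = e := by
    have h := D.count'
    rw [hwt] at h; omega
  have hpodd := odd_prime hP hC hM hn D
  have heven : 2 ∣ e := by
    by_contra hodd
    have he' : Odd e := Nat.odd_iff.2 (by omega)
    have hat : Odd (a * t) := by
      rcases Nat.even_or_odd (a * t) with h | h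
      · exfalso; rw [← hcount] at hodd
        obtain ⟨k, hk⟩ := h; omega
      · exact h
    have hte' : Odd (t * e) := (Nat.odd_mul.1 hat).2.mul he'
    obtain ⟨k, hk⟩ := hte'
    obtain ⟨j, hj⟩ := hpodd
    omega
  have hN : (1 + n * p) = t * (1 + n * e) := by
    rw [show 1 + n * p = n * (t * e) + (n + 1) by rw [← hte]; ring, hwt]; ring
  have hpN : ∀ g : G, g ≠ 1 → 2 ∣ Nat.card (Subgroup.centralizer ({g} : Set G)) →
      ∃ (s : G) (i : ℕ), s⁻¹ * g * s = y₀ ^ i := by
    intro g hg h2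
    by_cases h0 : fx P g = 0
    · exfalso
      have h := dvd_of_fx_eq_zero hP hC hM hn D (by omega) h0
      rw [hN, show p * (t * (1 + n * e)) = t * (p * (1 + n * e)) by ring,
        Nat.mul_dvd_mul_iff_left ht0] at h
      rcases Nat.prime_two.dvd_mul.1 (h2.trans h) with h' | h'
      · obtain ⟨j, hj⟩ := hpodd; omega
      · have : 2 ∣ n * e := heven.mul_left n
        omega
    obtain ⟨⟨x, hx⟩⟩ : Nonempty (MulAction.fixedPoints (Subgroup.zpowers g)
        (G ⧸ Subgroup.normalizer ((P : Subgroup G) : Set G))) :=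
      (Nat.card_pos_iff.1 (Nat.pos_of_ne_zero h0)).1
    obtain ⟨s, rfl⟩ := QuotientGroup.mk_surjective x
    have hs := (BlockB.mem_fixedPoints_zpowers_iff _ g s).1 hx
    by_cases hsP : s⁻¹ * g * s ∈ (P : Subgroup G)
    · exfalso
      have hs1 : s⁻¹ * g * s ≠ 1 := fun h => hg (by
        rw [show g = s * (s⁻¹ * g * s) * s⁻¹ by group, h]; group)
      have hcard : Nat.card (Subgroup.centralizer ({g} : Set G)) =
          Nat.card (Subgroup.centralizer ({s⁻¹ * g * s} : Set G)) := by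
        refine Nat.card_congr ((MulAut.conj s⁻¹).toEquiv.subtypeEquiv fun c => ?_)
        simp only [Subgroup.mem_centralizer_singleton_iff, MulEquiv.toEquiv_eq_coe,
          MulEquiv.coe_toEquiv, MulAut.conj_apply, inv_inv]
        constructor
        · intro h
          calc s⁻¹ * c * s * (s⁻¹ * g * s) = s⁻¹ * (c * g) * s := by group
            _ = _ := by rw [h]; group
        · intro h
          have h' : s * (s⁻¹ * c * s * (s⁻¹ * g * s)) * s⁻¹ =
            s * (s⁻¹ * g * s * (s⁻¹ * c * s)) * s⁻¹ := by rw [h]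
          simpa [mul_assoc] using h'
      rw [hcard, cen_eq hP hC hsP hs1, hP] at h2
      obtain ⟨j, hj⟩ := hpodd; omega
    obtain ⟨c, -, i, hci⟩ := hgen _ hs hsP
    exact ⟨s * c⁻¹, i, by rw [← hci]; group⟩
  have hord : ∀ g : G, g ≠ 1 → 2 ∣ Nat.card (Subgroup.centralizer ({g} : Set G)) → orderOf g ∣ e :=
    fun g hg h2 => by
      obtain ⟨s, i, hsi⟩ := hpN g hg h2
      rw [show orderOf g = orderOf (s⁻¹ * g * s) by
        simpa using (MulEquiv.orderOf_eq (MulAut.conj s⁻¹) g).symm, hsi, ← hy₀]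
      exact orderOf_pow_dvd i
  set τ := y₀ ^ (e / 2) with hτdef
  have hτ : orderOf τ = 2 := by
    have := orderOf_pow_orderOf_div (orderOf_pos y₀).ne' (hy₀.symm ▸ heven : (2 : ℕ) ∣ orderOf y₀)
    rwa [hy₀] at this
  -- the unique involution of the complement
  have huniq : ∀ i : ℕ, orderOf (y₀ ^ i) = 2 → y₀ ^ i = τ := by
    intro i hi
    have h2 : (y₀ ^ i) ^ 2 = 1 := by rw [← hi]; exact pow_orderOf_eq_one _
    rw [← pow_mul, ← orderOf_dvd_iff_pow_eq_one, hy₀] at h2
    rw [hτdef, pow_eq_pow_iff_modEq, hy₀]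
    obtain ⟨k, hk⟩ := h2
    obtain ⟨h, hh⟩ := heven
    subst hh
    rw [Nat.mul_div_cancel_left _ (by norm_num : 0 < 2)]
    have hik : i = h * k := Nat.eq_of_mul_eq_mul_right (by norm_num : 0 < 2) (by rw [hk]; ring)
    rcases Nat.even_or_odd k with ⟨j, rfl⟩ | ⟨j, rfl⟩
    · exfalso
      have : y₀ ^ i = 1 := by
        rw [hik, show h * (j + j) = 2 * h * j by ring, pow_mul, ← hy₀, pow_orderOf_eq_one, one_pow]
      rw [this, orderOf_one] at hi; omega
    · rw [hik, show h * (2 * j + 1) = h + 2 * h * j by ring]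
      exact (Nat.modEq_iff_dvd' (Nat.le_add_right _ _)).2 (by simp) |>.symm
  set H := Subgroup.normalizer ((Subgroup.zpowers y₀ : Subgroup G) : Set G) with hHdef
  have hHτ : ∀ k ∈ H, Commute k τ := by
    intro k hk
    obtain ⟨i, hi⟩ := mem_powers_iff_mem_zpowers.2
      ((Subgroup.mem_normalizer_iff.1 hk τ).1 (Subgroup.pow_mem _ (Subgroup.mem_zpowers y₀) _))
    have h := huniq i (by
      rw [show y₀ ^ i = k * τ * k⁻¹ from hi, ← hτ]
      exact MulEquiv.orderOf_eq (MulAut.conj k) τ)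
    rw [show y₀ ^ i = k * τ * k⁻¹ from hi] at h
    exact mul_inv_eq_iff_eq_mul.1 h
  have hHord : ∀ k ∈ H, k ≠ 1 → orderOf k ∣ e := fun k hk hk1 => by
    refine hord k hk1 ?_
    have hmem : τ ∈ Subgroup.centralizer ({k} : Set G) := by
      rw [Subgroup.mem_centralizer_singleton_iff]
      exact (hHτ k hk).eq.symm
    have h := orderOf_dvd_natCard (⟨τ, hmem⟩ : Subgroup.centralizer ({k} : Set G))
    rwa [Subgroup.orderOf_mk, hτ] at h
  -- `t` is a power of two
  have htpow : ∀ r : ℕ, r.Prime → r ∣ t → r = 2 := by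
    intro r hr hrt
    by_contra hr2
    have := Fact.mk hr
    obtain ⟨k, hk⟩ := exists_prime_orderOf_dvd_card' (G := H) r
      (by rw [hH, hwt]; exact hrt.mul_right e)
    rw [← Subgroup.orderOf_coe] at hk
    have h := hHord k k.2 fun h1 => by rw [h1, orderOf_one] at hk; exact hr.ne_one hk.symm
    rw [hk, ← hcount] at h
    exact hr2 ((Nat.prime_dvd_prime_iff_eq hr Nat.prime_two).1
      ((Nat.dvd_add_right (hrt.mul_left a)).1 h))
  obtain ⟨m, hm⟩ : ∃ m, t = 2 ^ m :=
    ⟨_, Nat.eq_prime_pow_of_unique_prime_dvd ht0.ne' fun {r} hr hrt => htpow r hr hrt⟩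
  have hm2 : 2 ≤ m := by
    by_contra hlt
    have : 2 ^ m ≤ 2 ^ 1 := Nat.pow_le_pow_right (by norm_num) (by omega)
    omega
  have ht4 : 4 ∣ t := hm ▸ pow_dvd_pow 2 hm2
  obtain ⟨e', he'⟩ : ∃ e', e = 4 * e' + 2 := by
    obtain ⟨q, hq⟩ := ht4
    exact ⟨a * q, by rw [← hcount, hq]; ring⟩
  have := Fact.mk Nat.prime_two
  obtain ⟨S, hS⟩ := Sylow.exists_subgroup_card_pow_prime (G := H) 2 (n := m + 1) (by
    rw [hH, hwt, hm, pow_succ]
    exact Nat.mul_dvd_mul_left _ heven)
  have hSsq : ∀ s ∈ S, (s : G) ^ 2 = 1 := by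
    intro s hs
    by_cases h1 : (s : G) = 1
    · rw [h1, one_pow]
    have h2 : orderOf (s : G) ∣ 2 ^ (m + 1) := by
      rw [Subgroup.orderOf_coe, ← Subgroup.orderOf_mk s hs, ← hS]
      exact orderOf_dvd_natCard _
    obtain ⟨k, -, hk⟩ := (Nat.dvd_prime_pow Nat.prime_two).1 h2
    have h3 := hHord s s.2 h1
    rw [hk] at h3
    have hk1 : k ≤ 1 := by
      by_contra hk'
      have := (pow_dvd_pow 2 (by omega : 2 ≤ k)).trans h3
      omega
    rw [← orderOf_dvd_iff_pow_eq_one, hk]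
    exact (pow_dvd_pow 2 hk1).trans (by norm_num)
  -- `a = 0`
  have ha0 : a = 0 := by
    by_contra ha
    have he6 : 0 < e' := Nat.pos_of_ne_zero fun h0 => by
      have : 1 * t ≤ a * t := Nat.mul_le_mul_right _ (Nat.pos_of_ne_zero ha)
      omega
    obtain ⟨r, hr, hre⟩ := Nat.exists_prime_and_dvd (n := 2 * e' + 1) (by omega)
    have hr2 : r ≠ 2 := by rintro rfl; omega
    have hre' : r ∣ e := hre.trans ⟨2, by omega⟩
    set y := y₀ ^ (e / r) with hydef
    have hyo : orderOf y = r := by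
      have := orderOf_pow_orderOf_div (orderOf_pos y₀).ne' (hy₀.symm ▸ hre' : r ∣ orderOf y₀)
      rwa [hy₀] at this
    have hy1 : y ≠ 1 := fun h => by rw [h, orderOf_one] at hyo; exact hr.ne_one hyo.symm
    have hEmem : ∀ s ∈ S, Commute (s : G) y → (s : G) = 1 ∨ (s : G) = τ := by
      intro s hs hc
      by_cases hs1 : (s : G) = 1
      · exact Or.inl hs1
      right
      have hso : orderOf (s : G) = 2 := orderOf_eq_prime (hSsq s hs) hs1
      have hmemτ : τ ∈ Subgroup.centralizer ({(s : G)} : Set G) := by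
        rw [Subgroup.mem_centralizer_singleton_iff]; exact (hHτ s s.2).eq.symm
      obtain ⟨c, i, hci⟩ := hpN (s : G) hs1 (by
        have h := orderOf_dvd_natCard (⟨τ, hmemτ⟩ : Subgroup.centralizer ({(s : G)} : Set G))
        rwa [Subgroup.orderOf_mk, hτ] at h)
      set N := Subgroup.normalizer ((P : Subgroup G) : Set G)
      have hcard : Nat.card (MulAction.fixedPoints (Subgroup.zpowers (s : G)) (G ⧸ N)) = t := by
        rw [← hwt, ← fx_eq hP hC hM hn D (y := c⁻¹ * s * c)
          (by rw [hci]; exact Subgroup.pow_mem _ hy₀N i) (fun hmem => ?_), fx]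
        · refine Nat.card_congr ((MulAction.toPerm c⁻¹).subtypeEquiv fun x => ?_)
          obtain ⟨x, rfl⟩ := QuotientGroup.mk_surjective x
          rw [MulAction.toPerm_apply, MulAction.Quotient.smul_coe, smul_eq_mul,
            BlockB.mem_fixedPoints_zpowers_iff, BlockB.mem_fixedPoints_zpowers_iff]
          congr! 1
          group
        · have h := orderOf_dvd_natCard (⟨_, hmem⟩ : ↥(P : Subgroup G))
          rw [hP, Subgroup.orderOf_mk, show orderOf (c⁻¹ * (s : G) * c) = 2 by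
            rw [← hso]; simpa using MulEquiv.orderOf_eq (MulAut.conj c⁻¹) (s : G)] at h
          obtain ⟨j, hj⟩ := hpodd
          have := (Nat.prime_dvd_prime_iff_eq Nat.prime_two hp).1 h
          omega
      -- `y` has a fixed point among those of `s`
      have hyfix : ∀ x ∈ MulAction.fixedPoints (Subgroup.zpowers (s : G)) (G ⧸ N),
          ∀ z : Subgroup.zpowers y,
            (z : G) • x ∈ MulAction.fixedPoints (Subgroup.zpowers (s : G)) (G ⧸ N) := by
        intro x hx z u
        have hcu : Commute (u : G) (z : G) := by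
          obtain ⟨k, hk⟩ := u.2
          obtain ⟨j, hj⟩ := z.2
          rw [← hk, ← hj]
          exact (hc.zpow_left k).zpow_right j
        change (u : G) • (z : G) • x = (z : G) • x
        rw [smul_smul, hcu.eq, ← smul_smul]
        congr 1
        exact hx u
      let act : MulAction (Subgroup.zpowers y)
          (MulAction.fixedPoints (Subgroup.zpowers (s : G)) (G ⧸ N)) :=
        { smul := fun z x => ⟨(z : G) • (x : G ⧸ N), hyfix x x.2 z⟩
          one_smul := fun x => Subtype.ext (one_smul G (x : G ⧸ N))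
          mul_smul := fun z z' x => Subtype.ext (mul_smul (z : G) (z' : G) (x : G ⧸ N)) }
      have := Fact.mk hr
      have hpg : IsPGroup r (Subgroup.zpowers y) :=
        IsPGroup.of_card (n := 1) (by rw [Nat.card_zpowers, hyo, pow_one])
      obtain ⟨x, hx⟩ := hpg.nonempty_fixed_point_of_prime_not_dvd_card
        (MulAction.fixedPoints (Subgroup.zpowers (s : G)) (G ⧸ N)) (by
          rw [hcard]; exact fun hd => hr2 (htpow r hr hd))
      have hxy : (x : G ⧸ N) ∈ MulAction.fixedPoints (Subgroup.zpowers y) (G ⧸ N) := fun z =>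
        congrArg Subtype.val (hx z)
      rw [hydef, hfix _ hy1] at hxy
      have hxs : (s : G) • (x : G ⧸ N) = x := x.2 ⟨s, Subgroup.mem_zpowers _⟩
      obtain ⟨j, hj⟩ := mem_powers_iff_mem_zpowers.2 (hfree s s.2 x hxy hxs)
      rw [← show y₀ ^ j = (s : G) from hj]
      exact huniq j (by rw [show y₀ ^ j = (s : G) from hj]; exact hso)
    have hinv : ∀ s ∈ S, ¬ Commute (s : G) y → (s : G) * y * (s : G)⁻¹ = y⁻¹ := by
      intro s hs hnc
      obtain ⟨i, hi⟩ := mem_powers_iff_mem_zpowers.2 ((Subgroup.mem_normalizer_iff.1 s.2 y).1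
        (Subgroup.pow_mem _ (Subgroup.mem_zpowers y₀) _))
      have hyr : (y₀ ^ i) ^ r = 1 := by
        rw [show y₀ ^ i = (s : G) * y * (s : G)⁻¹ from hi, conj_pow, ← hyo, pow_orderOf_eq_one]
        group
      rw [← pow_mul, ← orderOf_dvd_iff_pow_eq_one, hy₀] at hyr
      obtain ⟨j, hj⟩ : e / r ∣ i := by
        rw [← Nat.mul_dvd_mul_iff_right hr.pos, Nat.div_mul_cancel hre']; exact hyr
      replace hi : y ^ j = (s : G) * y * (s : G)⁻¹ := by rw [hydef, ← pow_mul, ← hj]; exact hi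
      have h2 : y ^ (j * j) = y := by
        have e1 : (s : G) * ((s : G) * y * (s : G)⁻¹) * (s : G)⁻¹ = y := by
          rw [show (s : G) * ((s : G) * y * (s : G)⁻¹) * (s : G)⁻¹ =
            (s : G) ^ 2 * y * ((s : G) ^ 2)⁻¹ by rw [sq]; group, hSsq s hs]
          group
        rw [← show y ^ j = (s : G) * y * (s : G)⁻¹ from hi, ← conj_pow,
          ← show y ^ j = (s : G) * y * (s : G)⁻¹ from hi, ← pow_mul] at e1
        exact e1
      have := Fact.mk hr
      have hcast : (j : ZMod r) * (j : ZMod r) = 1 := by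
        have h := h2
        conv_rhs at h => rw [← pow_one y]
        rw [pow_eq_pow_iff_modEq, hyo, ← ZMod.natCast_eq_natCast_iff] at h
        push_cast at h
        exact h
      rcases mul_self_eq_one_iff.1 hcast with h | h
      · exfalso
        refine hnc ?_
        have h' : y ^ j = y := by
          conv_rhs => rw [← pow_one y]
          rw [pow_eq_pow_iff_modEq, hyo, ← ZMod.natCast_eq_natCast_iff, h, Nat.cast_one]
        rw [h'] at hi
        exact mul_inv_eq_iff_eq_mul.1 hi.symm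
      · rw [← show y ^ j = (s : G) * y * (s : G)⁻¹ from hi, eq_inv_iff_mul_eq_one, ← pow_succ,
          ← orderOf_dvd_iff_pow_eq_one, hyo, ← ZMod.natCast_eq_zero_iff]
        push_cast
        rw [h]; ring
    have hScard : Nat.card S ≤ 4 := by
      by_cases hall : ∀ s ∈ S, Commute (s : G) y
      · have hsub : ((↑) : H → G) '' (S : Set H) ⊆ {1, τ} := by
          rintro _ ⟨s, hs, rfl⟩
          exact hEmem s hs (hall s hs)
        have h1 := Set.ncard_le_ncard hsub (Set.toFinite _)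
        rw [Set.ncard_image_of_injective _ Subtype.val_injective, ← Nat.card_coe_set_eq] at h1
        have h2 : ({1, τ} : Set G).ncard ≤ 2 := (Set.ncard_insert_le _ _).trans (by simp)
        have h3 : Nat.card S ≤ 2 := le_trans h1 h2
        omega
      push Not at hall
      obtain ⟨s₁, hs₁, hns₁⟩ := hall
      have hsub : ((↑) : H → G) '' (S : Set H) ⊆ {1, τ, (s₁ : G), (s₁ : G) * τ} := by
        rintro _ ⟨s, hs, rfl⟩
        by_cases hc : Commute (s : G) y
        · rcases hEmem s hs hc with h | h <;> simp [h]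
        have hprod : Commute ((s₁ * s : H) : G) y := by
          have e1 : (s₁ : G) * ((s : G) * y * (s : G)⁻¹) * (s₁ : G)⁻¹ = y := by
            rw [hinv s hs hc, show (s₁ : G) * y⁻¹ * (s₁ : G)⁻¹ = ((s₁ : G) * y * (s₁ : G)⁻¹)⁻¹ by
              group, hinv s₁ hs₁ hns₁, inv_inv]
          refine mul_inv_eq_iff_eq_mul.1 ?_
          rw [Subgroup.coe_mul]
          calc (s₁ : G) * s * y * ((s₁ : G) * s)⁻¹ =
              (s₁ : G) * ((s : G) * y * (s : G)⁻¹) * (s₁ : G)⁻¹ := by group
            _ = y := e1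
        have hs₁2 : (s₁ : G) * (s₁ : G) = 1 := by rw [← sq]; exact hSsq s₁ hs₁
        rcases hEmem _ (S.mul_mem hs₁ hs) hprod with h | h <;> rw [Subgroup.coe_mul] at h
        · have : (s : G) = (s₁ : G) := by
            calc (s : G) = (s₁ : G) * ((s₁ : G) * s) := by rw [← mul_assoc, hs₁2, one_mul]
              _ = _ := by rw [h, mul_one]
          simp [this]
        · have : (s : G) = (s₁ : G) * τ := by
            calc (s : G) = (s₁ : G) * ((s₁ : G) * s) := by rw [← mul_assoc, hs₁2, one_mul]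
              _ = _ := by rw [h]
          simp [this]
      have h1 := Set.ncard_le_ncard hsub (Set.toFinite _)
      rw [Set.ncard_image_of_injective _ Subtype.val_injective, ← Nat.card_coe_set_eq] at h1
      have h2 : ({1, τ, (s₁ : G), (s₁ : G) * τ} : Set G).ncard ≤ 4 :=
        (Set.ncard_insert_le _ _).trans (Nat.succ_le_succ ((Set.ncard_insert_le _ _).trans
          (Nat.succ_le_succ ((Set.ncard_insert_le _ _).trans (by simp)))))
      exact le_trans h1 h2
    rw [hS] at hScard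
    have h8 : 2 ^ 3 ≤ 2 ^ (m + 1) := Nat.pow_le_pow_right (by norm_num) (by omega)
    omega
  -- the case `e = 2`
  have he2' : e = 2 := by rw [← hcount, ha0, zero_mul, zero_add]
  have hτy : τ = y₀ := by rw [hτdef, he2', Nat.div_self (by norm_num), pow_one]
  refine ⟨he2', hwt, by have := Nat.le_of_dvd ht0 ht4; omega, ⟨m, hm⟩, τ, hτ, ?_⟩
  have hCH : Subgroup.centralizer ({τ} : Set G) = H := by
    refine le_antisymm (fun k hk => ?_) fun k hk => ?_
    · rw [Subgroup.mem_centralizer_singleton_iff] at hk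
      have hky : k * y₀ * k⁻¹ = y₀ := by rw [← hτy, hk, mul_inv_cancel_right]
      rw [hHdef, Subgroup.mem_normalizer_iff]
      intro x
      constructor
      · intro hx
        obtain ⟨i, rfl⟩ := mem_powers_iff_mem_zpowers.2 hx
        change k * y₀ ^ i * k⁻¹ ∈ _
        rw [← conj_pow, hky]
        exact Subgroup.pow_mem _ (Subgroup.mem_zpowers _) i
      · intro hx
        obtain ⟨i, hi⟩ := mem_powers_iff_mem_zpowers.2 hx
        have : y₀ ^ i = x := by
          refine mul_right_cancel (b := k⁻¹) (mul_left_cancel (a := k) ?_)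
          rw [← mul_assoc, ← mul_assoc, ← conj_pow, hky]
          exact hi
        rw [← this]
        exact Subgroup.pow_mem _ (Subgroup.mem_zpowers _) i
    · rw [Subgroup.mem_centralizer_singleton_iff]
      exact (hHτ k hk).eq
  refine ⟨by rw [hCH, hH, hwt, he2', mul_comm], ?_, fun g hg => ?_⟩
  · intro x hx
    rw [hCH] at hx
    by_cases h1 : x = 1
    · rw [h1, one_pow]
    rw [← orderOf_dvd_iff_pow_eq_one, ← he2']
    exact hHord x hx h1
  · have hgc : g ∈ Subgroup.centralizer ({g} : Set G) := by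
      rw [Subgroup.mem_centralizer_singleton_iff]
    have h2 : 2 ∣ Nat.card (Subgroup.centralizer ({g} : Set G)) := by
      have h := orderOf_dvd_natCard (⟨g, hgc⟩ : Subgroup.centralizer ({g} : Set G))
      rwa [Subgroup.orderOf_mk, hg] at h
    obtain ⟨s, i, hsi⟩ := hpN g (fun h => by rw [h, orderOf_one] at hg; omega) h2
    have := huniq i (by rw [← hsi, ← hg]; simpa using MulEquiv.orderOf_eq (MulAut.conj s⁻¹) g)
    rw [this] at hsi
    exact isConj_iff.2 ⟨s⁻¹, by rw [inv_inv]; exact hsi⟩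

end CfsgLib.Block.BrauerReynolds
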