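import Cfsg.Agent.Lib.Block.BRDegrees

/-!
Brauer–Reynolds, self-centralizing case: fixed points of the elements on the Sylow subgroups.
-/

set_option autoImplicit false
set_option linter.unusedSectionVars false

namespace CfsgLib.Block.BrauerReynolds

open Cfsg CfsgLib CfsgLib.Block
open scoped ComplexConjugate

universe u

variable {G : Type u} [Group G] [Finite G] {p : ℕ} [hpf : Fact p.Prime]

section SelfCen

variable {P : Sylow p G} (hP : Nat.card P = p)
  (hC : Subgroup.centralizer ((P : Subgroup G) : Set G) = (P : Subgroup G))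
include hP hC

theorem cen_eq {y : G} (hy : y ∈ (P : Subgroup G)) (hy1 : y ≠ 1) :
    Subgroup.centralizer ({y} : Set G) = (P : Subgroup G) := by
  rw [centralizer_mem_eq P hP hy hy1, hC]

theorem eq_one_of_commute {y g : G} (hy : y ∈ (P : Subgroup G)) (hy1 : y ≠ 1) (h : Commute y g) :
    g ∈ (P : Subgroup G) := by
  rw [← cen_eq hP hC hy hy1, Subgroup.mem_centralizer_singleton_iff]
  exact h.symm.eq

/-- Elements of order divisible by `p` are conjugate into `P`. -/
theorem exists_conj_mem {g : G} (hg : p ∣ orderOf g) :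
    ∃ s : G, s⁻¹ * g * s ∈ (P : Subgroup G) ∧ s⁻¹ * g * s ≠ 1 := by
  have hz : orderOf (g ^ (orderOf g / p)) = p :=
    orderOf_pow_orderOf_div (orderOf_pos g).ne' hg
  obtain ⟨Q, hQ⟩ := (IsPGroup.of_card (n := 1) (G := Subgroup.zpowers (g ^ (orderOf g / p)))
    (by rw [Nat.card_zpowers, hz, pow_one])).exists_le_sylow
  obtain ⟨x, hx⟩ := MulAction.exists_smul_eq G Q P
  have hxP : x * g ^ (orderOf g / p) * x⁻¹ ∈ (P : Subgroup G) := by
    rw [← hx, Sylow.coe_subgroup_smul]
    exact Subgroup.smul_mem_pointwise_smul _ (MulAut.conj x) (Q : Subgroup G)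
      (hQ (Subgroup.mem_zpowers _))
  refine ⟨x⁻¹, ?_, ?_⟩
  · rw [inv_inv]
    refine eq_one_of_commute hP hC hxP (fun h => ?_) ?_
    · have : g ^ (orderOf g / p) = 1 := by simpa using h
      rw [this, orderOf_one] at hz
      exact hpf.out.ne_one hz.symm
    · rw [← conj_pow]
      exact (Commute.refl (x * g * x⁻¹)).pow_left _
  · rw [inv_inv]
    intro h
    have : g = 1 := by simpa using h
    rw [this, orderOf_one] at hg
    exact hpf.out.not_dvd_one hg

/-- The elements of `N(P)` outside `P` are `p`-regular. -/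
theorem not_dvd_orderOf_normalizer {y : G}
    (hy : y ∈ Subgroup.normalizer ((P : Subgroup G) : Set G)) (hyP : y ∉ (P : Subgroup G)) :
    ¬ p ∣ orderOf y := by
  intro hd
  have hz : orderOf (y ^ (orderOf y / p)) = p := orderOf_pow_orderOf_div (orderOf_pos y).ne' hd
  have hzP : y ^ (orderOf y / p) ∈ (P : Subgroup G) := by
    have hzN : y ^ (orderOf y / p) ∈ Subgroup.normalizer ((P : Subgroup G) : Set G) :=
      Subgroup.pow_mem _ hy _
    have hpg : IsPGroup p ((Subgroup.zpowers (y ^ (orderOf y / p))) ⊔ (P : Subgroup G) : Subgroup G) :=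
      IsPGroup.to_sup_of_normal_right' (IsPGroup.of_card (n := 1) (by
        rw [Nat.card_zpowers, hz, pow_one])) P.isPGroup' (Subgroup.zpowers_le.2 hzN)
    exact (P.is_maximal' hpg le_sup_right) ▸ Subgroup.mem_sup_left (Subgroup.mem_zpowers _)
  refine hyP (eq_one_of_commute hP hC hzP (fun h => ?_) ((Commute.refl y).pow_left _))
  rw [h, orderOf_one] at hz
  exact hpf.out.ne_one hz.symm

/-- `N(P)` is a Frobenius group: `y P` is the class of `y` under `P`. -/
theorem exists_conj_eq_mul {y : G} (hy : y ∈ Subgroup.normalizer ((P : Subgroup G) : Set G))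
    (hyP : y ∉ (P : Subgroup G)) {z : G} (hz : z ∈ (P : Subgroup G)) :
    ∃ a ∈ (P : Subgroup G), a * y * a⁻¹ = y * z := by
  let f : ↥(P : Subgroup G) → ↥(P : Subgroup G) := fun a => ⟨y⁻¹ * a * y * (a : G)⁻¹,
    Subgroup.mul_mem _ ((Subgroup.mem_normalizer_iff''.1 hy (a : G)).1 a.2) (Subgroup.inv_mem _ a.2)⟩
  have hf : Function.Injective f := by
    intro a b h
    have h1 : y⁻¹ * a * y * (a : G)⁻¹ = y⁻¹ * b * y * (b : G)⁻¹ := congrArg Subtype.val h
    by_contra hne
    refine hyP (eq_one_of_commute hP hC (y := (b : G)⁻¹ * a)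
      (Subgroup.mul_mem _ (Subgroup.inv_mem _ b.2) a.2) (fun h0 => hne ?_) ?_)
    · exact Subtype.ext (inv_mul_eq_one.1 h0).symm
    · have h3 : (a : G) * y * (a : G)⁻¹ = (b : G) * y * (b : G)⁻¹ :=
        mul_left_cancel (a := y⁻¹) (by simpa [mul_assoc] using h1)
      calc (b : G)⁻¹ * a * y = (b : G)⁻¹ * ((a : G) * y * (a : G)⁻¹) * a := by group
        _ = (b : G)⁻¹ * ((b : G) * y * (b : G)⁻¹) * a := by rw [h3]
        _ = y * ((b : G)⁻¹ * a) := by group
  obtain ⟨a, ha⟩ := (Finite.injective_iff_surjective.1 hf) ⟨z, hz⟩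
  refine ⟨a, a.2, ?_⟩
  rw [← show y⁻¹ * a * y * (a : G)⁻¹ = z from congrArg Subtype.val ha]
  group

/-- A class function which sums to zero on `P` and its translates vanishes on `N(P) ∖ P`. -/
theorem apply_eq_zero_of_sum (χ : IrrCharacter G)
    (h0 : ∑ᶠ a : (P : Subgroup G), (χ : G → ℂ) a = 0) {y : G}
    (hy : y ∈ Subgroup.normalizer ((P : Subgroup G) : Set G)) (hyP : y ∉ (P : Subgroup G)) :
    (χ : G → ℂ) y = 0 := by
  have h := sum_mul_eq_zero (Char.irr_isCharacter χ.2) h0 y
  have hconst : ∀ a : (P : Subgroup G), (χ : G → ℂ) (y * a) = (χ : G → ℂ) y := fun a => by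
    obtain ⟨c, -, hc⟩ := exists_conj_eq_mul hP hC hy hyP a.2
    rw [← hc]
    exact Char.irr_isClassFunction χ.2 y c
  have := Fintype.ofFinite (P : Subgroup G)
  rw [finsum_eq_sum_of_fintype, Finset.sum_congr rfl fun a _ => hconst a, Finset.sum_const,
    Finset.card_univ, ← Nat.card_eq_fintype_card, hP, nsmul_eq_mul] at h
  exact (mul_eq_zero.1 h).resolve_left (Nat.cast_ne_zero.2 hpf.out.ne_zero)

/-- Characters outside the principal block vanish on the non-trivial elements of `P`. -/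
theorem apply_eq_zero_of_not_principal {M : Ideal AlgInt} (hM : IsPModular p M) (χ : IrrCharacter G)
    (hχ : χ ∉ principalBlock M G) {y : G} (hy : y ∈ (P : Subgroup G)) (hy1 : y ≠ 1) :
    (χ : G → ℂ) y = 0 := by
  classical
  have := Fintype.ofFinite G
  have := Fintype.ofFinite (IrrCharacter G)
  have hcen := cen_eq hP hC hy hy1
  have hpg : IsPGroup p (Subgroup.centralizer ({y} : Set G)) := by rw [hcen]; exact P.isPGroup'
  have hcard : Nat.card (Subgroup.centralizer ({y} : Set G)) = p := by rw [hcen, hP]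
  have hnc : Cfsg.HasNormalPComplement p (Subgroup.centralizer ({y} : Set G)) := by
    obtain ⟨T⟩ := (inferInstance : Nonempty (Sylow p (Subgroup.centralizer ({y} : Set G))))
    refine ⟨T, ⊥, inferInstance, ?_⟩
    rw [(T.is_maximal' (Q := ⊤) (hpg.to_subgroup ⊤) le_top).symm]
    exact Subgroup.isComplement'_bot_top
  have hyord : orderOf y = p := by
    refine orderOf_eq_prime ?_ hy1
    have h := pow_card_eq_one' (x := (⟨y, hy⟩ : (P : Subgroup G)))
    rw [hP] at h
    exact congrArg Subtype.val h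
  obtain ⟨-, hnorm⟩ := principal_section hM (x := y) ⟨1, by rw [hyord, pow_one]⟩ hnc
  rw [hcard, hpf.out.factorization_self, pow_one,
    finsum_mem_eq_finite_toFinset_sum _ (principalBlock M G).toFinite] at hnorm
  have htot := Char.column_orthogonality y y
  rw [if_pos (IsConj.refl y), hcard, ← Finset.sum_add_sum_compl (principalBlock M G).toFinite.toFinset,
    hnorm, add_eq_left] at htot
  have hre : ∑ ψ ∈ ((principalBlock M G).toFinite.toFinset)ᶜ,
      Complex.normSq ((ψ : G → ℂ) y) = 0 := by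
    have h := congrArg Complex.re htot
    simpa [Complex.re_sum, Complex.mul_conj] using h
  have h1 := (Finset.sum_eq_zero_iff_of_nonneg fun ψ _ => Complex.normSq_nonneg _).1 hre χ
    (by simp [hχ])
  exact Complex.normSq_eq_zero.1 h1

end SelfCen

section Points

open BlockB in
/-- The number of points fixed by `g` on the cosets of `N(P)`. -/
noncomputable def fx (P : Sylow p G) (g : G) : ℕ :=
  Nat.card (MulAction.fixedPoints (Subgroup.zpowers g)
    (G ⧸ Subgroup.normalizer ((P : Subgroup G) : Set G)))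

variable {P : Sylow p G} (hP : Nat.card P = p)
  (hC : Subgroup.centralizer ((P : Subgroup G) : Set G) = (P : Subgroup G))
  {M : Ideal AlgInt} (hM : IsPModular p M)
  {n e t a b w d₀ : ℕ} {σ : ℤ} {Xp Xm Y : Finset (IrrCharacter G)}
  (hn : Nat.card (Sylow p G) = 1 + n * p)
  (D : Data M P n e t a b w d₀ σ Xp Xm Y)
include hP hC hM hn D

theorem natCard_normalizer :
    Nat.card (Subgroup.normalizer ((P : Subgroup G) : Set G)) = p * e := by
  have h := (((P : Subgroup G)).subgroupOf
    (Subgroup.normalizer ((P : Subgroup G) : Set G))).card_mul_index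
  rw [Nat.card_congr (Subgroup.subgroupOfEquivOfLe Subgroup.le_normalizer).toEquiv, hP,
    ← Subgroup.relIndex] at h
  have he := D.e_eq
  rw [hC] at he
  rw [← h, he]

theorem natCard_group : Nat.card G = p * e * (1 + n * p) := by
  rw [← natCard_normalizer hP hC hM hn D, ← hn, Sylow.card_eq_index_normalizer P]
  exact (Subgroup.card_mul_index _).symm

/-- The virtual permutation character identity. -/
theorem count_identity [Fintype G] (g : G) :
    (e : ℂ) * (BlockB.conjMemCount (P : Subgroup G) g : ℂ) -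
      (BlockB.conjMemCount (Subgroup.normalizer ((P : Subgroup G) : Set G)) g : ℂ) =
    (p * e : ℕ) * (((n + 1 : ℕ) : ℂ) * ∑ χ ∈ Xp, (χ : G → ℂ) g +
      (w : ℂ) * ∑ χ ∈ Y, (χ : G → ℂ) g) := by
  classical
  have := isPrime_of_pmodular hM
  have := Fintype.ofFinite (IrrCharacter G)
  have := Fintype.ofFinite (P : Subgroup G)
  have := Fintype.ofFinite (Subgroup.normalizer ((P : Subgroup G) : Set G))
  have hp : p.Prime := hpf.out
  set N := Subgroup.normalizer ((P : Subgroup G) : Set G)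
  have hNcard : Nat.card N = p * e := natCard_normalizer hP hC hM hn D
  have hG := natCard_group hP hC hM hn D
  have he0 : 0 < e := by have := D.e_two; omega
  choose m r hm hr hrm using fun χ : IrrCharacter G =>
    exists_fixed_nat (Char.irr_isCharacter χ.2) (A := (P : Subgroup G)) (B := N) Subgroup.le_normalizer
  rw [hP] at hm
  simp only [hNcard] at hr
  -- multiplicities
  have hexp : ∀ (A : Subgroup G) (mA : IrrCharacter G → ℕ),
      (∀ χ : IrrCharacter G, ∑ᶠ a : A, (χ : G → ℂ) a = (Nat.card A : ℂ) * mA χ) → ∀ h : G,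
      (BlockB.conjMemCount A h : ℂ) =
        (Nat.card A : ℂ) * ∑ χ : IrrCharacter G, (mA χ : ℂ) * (χ : G → ℂ) h := by
    intro A mA hA h
    refine (Char.classFunction_apply_eq_sum (BlockB.conjMemCount_isClassFunction A) h).trans ?_
    rw [Finset.mul_sum]
    refine Finset.sum_congr rfl fun χ _ => ?_
    rw [BlockB.classInner_conjMemCount, ← map_sum, ← finsum_eq_sum_of_fintype, hA χ, map_mul, map_natCast, map_natCast]
    ring
  have hexpP := hexp (P : Subgroup G) m (fun χ => by rw [hP]; exact hm χ)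
  have hexpN := hexp N r (fun χ => by rw [hNcard]; exact hr χ)
  rw [hexpP, hexpN, hP, hNcard]
  -- values of the multiplicities
  have hPsum : ∀ (χ : IrrCharacter G) (c : ℂ),
      (∀ y ∈ (P : Subgroup G), y ≠ 1 → (χ : G → ℂ) y = c) →
      (p : ℂ) * m χ = (χ : G → ℂ) 1 + ((p - 1 : ℕ) : ℂ) * c := by
    intro χ c hc
    rw [← hm χ, finsum_eq_sum_of_fintype, ← Finset.add_sum_erase _ _ (Finset.mem_univ 1),
      Finset.sum_congr rfl (g := fun _ => c) fun (y : ↥(P : Subgroup G)) hy => hc y y.2 fun h =>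
        (Finset.mem_erase.1 hy).1 (Subtype.ext h),
      Finset.sum_const, Finset.card_erase_of_mem (Finset.mem_univ _), Finset.card_univ,
      ← Nat.card_eq_fintype_card, hP, nsmul_eq_mul]
    rfl
  have hz1 : ¬ p ∣ orderOf (1 : G) := by rw [orderOf_one]; exact hp.not_dvd_one
  set one : IrrCharacter G := ⟨fun _ => 1, Char.isIrrCharacter_one⟩
  have hm1 : m one = 1 := by
    have h := hPsum one 1 (fun _ _ _ => rfl)
    simp only [one, mul_one] at h
    rw [Nat.cast_sub hp.one_le, Nat.cast_one, add_sub_cancel] at h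
    exact_mod_cast (mul_eq_left₀ (Nat.cast_ne_zero.2 hp.ne_zero)).1 h
  have hr1 : r one = 1 := by
    have h := hr one
    simp only [one, finsum_eq_sum_of_fintype, Finset.sum_const, Finset.card_univ,
      ← Nat.card_eq_fintype_card, hNcard, nsmul_eq_mul, mul_one] at h
    have hpe : ((p * e : ℕ) : ℂ) ≠ 0 := Nat.cast_ne_zero.2 (Nat.mul_pos hp.pos he0).ne'
    exact_mod_cast (mul_eq_left₀ hpe).1 h.symm
  have hmXp : ∀ χ ∈ Xp, m χ = n + 1 := fun χ hχ => by
    have h := hPsum χ 1 fun y hy hy1 => by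
      have h' := D.Xp_val χ hχ y hy hy1 1 (Subgroup.one_mem _) hz1
      rwa [mul_one] at h'
    rw [D.Xp_deg χ hχ, mul_one] at h
    have h' : p * m χ = (1 + n * p) + (p - 1) := by exact_mod_cast h
    refine Nat.eq_of_mul_eq_mul_left hp.pos ?_
    rw [h', Nat.mul_add, mul_one, mul_comm p n]
    have := hp.one_le
    omega
  have hmXm : ∀ χ ∈ Xm, m χ = 0 := fun χ hχ => by
    have h := hPsum χ (-1) fun y hy hy1 => by
      have h' := D.Xm_val χ hχ y hy hy1 1 (Subgroup.one_mem _) hz1
      rwa [mul_one] at h'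
    rw [D.Xm_deg χ hχ, mul_neg_one, add_neg_cancel] at h
    exact_mod_cast (mul_eq_zero.1 h).resolve_left (Nat.cast_ne_zero.2 hp.ne_zero)
  have hte := D.hte
  have hmY : ∀ χ ∈ Y, m χ = w := fun χ hχ => by
    have h := (hm χ).symm.trans (D.Y_sum χ hχ)
    rcases D.alt with ⟨hw, hd, hσ⟩ | ⟨-, hw, hd, hσ⟩
    · rw [hd, hσ, Int.cast_one, one_mul, sub_self] at h
      rw [hw]
      exact_mod_cast (mul_eq_zero.1 h).resolve_left (Nat.cast_ne_zero.2 hp.ne_zero)
    · rw [hσ] at h
      push_cast at h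
      have h' : p * m χ = d₀ + e := by
        have : ((p * m χ : ℕ) : ℂ) = ((d₀ + e : ℕ) : ℂ) := by push_cast; linear_combination h
        exact_mod_cast this
      refine Nat.eq_of_mul_eq_mul_left hp.pos (Nat.eq_of_mul_eq_mul_left
        (Nat.pos_of_ne_zero fun h0 : t = 0 => by rw [h0, zero_mul] at hd; omega) ?_)
      rw [h', Nat.mul_add, hd]
      calc 1 + n * p + t * e = n * p + (t * e + 1) := by ring
        _ = p * (n + 1) := by rw [hte]; ring
        _ = _ := by rw [hw]; ring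
  -- the partition of the irreducible characters
  set Out := (Finset.univ : Finset (IrrCharacter G)).filter (fun χ => χ ∉ principalBlock M G)
  have hOutm : ∀ χ ∈ Out, charDegree (χ : G → ℂ) = p * m χ := fun χ hχ => by
    have h := hPsum χ 0 fun y hy hy1 =>
      apply_eq_zero_of_not_principal hP hC hM χ (Finset.mem_filter.1 hχ).2 hy hy1
    rw [mul_zero, add_zero, ← BlockB.irr_degree_cast] at h
    exact_mod_cast h.symm
  obtain ⟨ho1, ho2, ho3⟩ := D.one_not
  have hsplit : ∀ F : IrrCharacter G → ℂ, ∑ χ : IrrCharacter G, F χ =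
      F one + ∑ χ ∈ Xp, F χ + ∑ χ ∈ Xm, F χ + ∑ χ ∈ Y, F χ + ∑ χ ∈ Out, F χ := by
    intro F
    rw [← Finset.sum_filter_add_sum_filter_not Finset.univ (fun χ => χ ∈ principalBlock M G),
      show (Finset.univ.filter fun χ : IrrCharacter G => χ ∈ principalBlock M G) =
        insert one (Xp ∪ Xm ∪ Y) by
        ext χ
        simp only [Finset.mem_filter, Finset.mem_univ, true_and, D.mem, Finset.mem_insert,
          Finset.mem_union, one, or_assoc]
        rw [Subtype.ext_iff],
      Finset.sum_insert (by simp [one, ho1, ho2, ho3]),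
      Finset.sum_union (Finset.disjoint_union_left.2 ⟨D.disj₂, D.disj₃⟩),
      Finset.sum_union D.disj₁]
    ring
  have hwd : w * (t * d₀) = w * (1 + n * p) := by
    rcases D.alt with ⟨hw, -, -⟩ | ⟨-, -, hd, -⟩
    · rw [hw, zero_mul, zero_mul]
    · rw [hd]
  -- total degrees
  have hdegm : ∑ χ ∈ Out, charDegree (χ : G → ℂ) * m χ + 1 = 1 + n * p := by
    have h := hexpP 1
    have hone : BlockB.conjMemCount (P : Subgroup G) (1 : G) = Nat.card G := by
      simp [BlockB.conjMemCount, Finset.card_univ, Subgroup.one_mem, Nat.card_eq_fintype_card]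
    rw [hone, hG, hP, hsplit, hm1,
      Finset.sum_congr (s₁ := Xp) rfl fun χ hχ => show (m χ : ℂ) * (χ : G → ℂ) 1 =
        (((n + 1) * (1 + n * p) : ℕ) : ℂ) by rw [hmXp χ hχ, D.Xp_deg χ hχ, Nat.cast_mul],
      Finset.sum_congr (s₁ := Xm) rfl fun χ hχ => show (m χ : ℂ) * (χ : G → ℂ) 1 = 0 by
        rw [hmXm χ hχ, Nat.cast_zero, zero_mul],
      Finset.sum_congr (s₁ := Y) rfl fun χ hχ => show (m χ : ℂ) * (χ : G → ℂ) 1 =
        ((w * d₀ : ℕ) : ℂ) by rw [hmY χ hχ, D.Y_deg χ hχ, Nat.cast_mul],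
      Finset.sum_congr (s₁ := Out) rfl fun χ hχ => show (m χ : ℂ) * (χ : G → ℂ) 1 =
        ((charDegree (χ : G → ℂ) * m χ : ℕ) : ℂ) by
          rw [Nat.cast_mul, BlockB.irr_degree_cast, mul_comm],
      Finset.sum_const_zero, Finset.sum_const, Finset.sum_const, D.card_Xp, D.card_Y,
      ← Nat.cast_sum, add_zero] at h
    simp only [one, mul_one, Nat.cast_one, nsmul_eq_mul] at h
    have h' : p * e * (1 + n * p) = p * (1 + a * ((n + 1) * (1 + n * p)) + t * (w * d₀) +
        ∑ χ ∈ Out, charDegree (χ : G → ℂ) * m χ) := by exact_mod_cast h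
    rw [mul_assoc] at h'
    have h'' := Nat.eq_of_mul_eq_mul_left hp.pos h'
    have e1 : a * ((n + 1) * (1 + n * p)) + t * (w * d₀) + (1 + n * p) = e * (1 + n * p) := by
      calc a * ((n + 1) * (1 + n * p)) + t * (w * d₀) + (1 + n * p)
          = (a * (n + 1)) * (1 + n * p) + w * (t * d₀) + (1 + n * p) := by ring
        _ = (a * (n + 1) + w + 1) * (1 + n * p) := by rw [hwd]; ring
        _ = _ := by rw [D.count']
    omega
  have hdegr : 1 + ∑ χ ∈ Xp, charDegree (χ : G → ℂ) * r χ + ∑ χ ∈ Xm, charDegree (χ : G → ℂ) * r χ +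
      ∑ χ ∈ Y, charDegree (χ : G → ℂ) * r χ + ∑ χ ∈ Out, charDegree (χ : G → ℂ) * r χ =
      1 + n * p := by
    have h := hexpN 1
    have hone : BlockB.conjMemCount N (1 : G) = Nat.card G := by
      simp [BlockB.conjMemCount, Finset.card_univ, Subgroup.one_mem, Nat.card_eq_fintype_card]
    have hF : ∀ χ : IrrCharacter G, (r χ : ℂ) * (χ : G → ℂ) 1 =
        ((charDegree (χ : G → ℂ) * r χ : ℕ) : ℂ) := fun χ => by
      rw [Nat.cast_mul, BlockB.irr_degree_cast, mul_comm]
    rw [hone, hG, hNcard, hsplit] at h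
    simp only [hF, ← Nat.cast_sum] at h
    rw [show charDegree ((one : IrrCharacter G) : G → ℂ) * r one = 1 by
      simp [one, hr1, charDegree]] at h
    have h' : p * e * (1 + n * p) = p * e * (1 + ∑ χ ∈ Xp, charDegree (χ : G → ℂ) * r χ +
        ∑ χ ∈ Xm, charDegree (χ : G → ℂ) * r χ + ∑ χ ∈ Y, charDegree (χ : G → ℂ) * r χ +
        ∑ χ ∈ Out, charDegree (χ : G → ℂ) * r χ) := by exact_mod_cast h
    exact (Nat.eq_of_mul_eq_mul_left (Nat.mul_pos hp.pos he0) h').symm
  have hrXp : ∀ χ ∈ Xp, r χ = 0 := fun χ hχ => by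
    have h1 : charDegree (χ : G → ℂ) * r χ ≤ ∑ χ ∈ Xp, charDegree (χ : G → ℂ) * r χ :=
      Finset.single_le_sum (f := fun χ : IrrCharacter G => charDegree (χ : G → ℂ) * r χ)
        (fun _ _ => Nat.zero_le _) hχ
    have hd : charDegree (χ : G → ℂ) = 1 + n * p := by
      have := D.Xp_deg χ hχ
      rw [← BlockB.irr_degree_cast] at this
      exact_mod_cast this
    rw [hd] at h1
    by_contra h0
    have : (1 + n * p) * 1 ≤ (1 + n * p) * r χ := Nat.mul_le_mul_left _ (Nat.pos_of_ne_zero h0)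
    omega
  have hrXm : ∀ χ ∈ Xm, r χ = 0 := fun χ hχ => Nat.le_zero.1 (hmXm χ hχ ▸ hrm χ)
  have hrY : ∀ χ ∈ Y, r χ = 0 := by
    intro χ hχ
    rcases D.alt with ⟨hw, -, -⟩ | ⟨-, -, hd, -⟩
    · exact Nat.le_zero.1 (hw ▸ hmY χ hχ ▸ hrm χ)
    have hsame : ∀ η ∈ Y, r η = r χ := fun η hη => by
      have h := hr η
      have h' := hr χ
      rw [finsum_eq_sum_of_fintype,
        ← Finset.sum_filter_add_sum_filter_not Finset.univ (fun u : N => (u : G) ∈ (P : Subgroup G))]
        at h h'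
      have e1 : ∀ ξ : IrrCharacter G, ∑ u ∈ Finset.univ.filter
          (fun u : N => (u : G) ∈ (P : Subgroup G)), (ξ : G → ℂ) u =
          ∑ u : (P : Subgroup G), (ξ : G → ℂ) u := fun ξ =>
        Finset.sum_bij' (fun u hu => (⟨u, (Finset.mem_filter.1 hu).2⟩ : (P : Subgroup G)))
          (fun u _ => (⟨u, Subgroup.le_normalizer u.2⟩ : N)) (fun _ _ => Finset.mem_univ _)
          (fun u _ => Finset.mem_filter.2 ⟨Finset.mem_univ _, u.2⟩) (fun _ _ => rfl) (fun _ _ => rfl)
          (fun _ _ => rfl)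
      have e2 : ∑ u ∈ Finset.univ.filter (fun u : N => ¬ (u : G) ∈ (P : Subgroup G)),
            (η : G → ℂ) u =
          ∑ u ∈ Finset.univ.filter (fun u : N => ¬ (u : G) ∈ (P : Subgroup G)),
            (χ : G → ℂ) u :=
        Finset.sum_congr rfl fun u hu => D.regular η hη χ hχ u
          (not_dvd_orderOf_normalizer hP hC u.2 (Finset.mem_filter.1 hu).2)
      have e3 : ∀ ξ ∈ Y, ∑ u : (P : Subgroup G), (ξ : G → ℂ) u = (d₀ : ℂ) - (σ : ℂ) * (e : ℂ) :=
        fun ξ hξ => by rw [← finsum_eq_sum_of_fintype]; exact D.Y_sum ξ hξ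
      rw [e1, e3 η hη, e2] at h
      rw [e1, e3 χ hχ, h] at h'
      exact_mod_cast mul_left_cancel₀
        (Nat.cast_ne_zero.2 (Nat.mul_pos hp.pos he0).ne' : ((p * e : ℕ) : ℂ) ≠ 0) h'
    have h1 : ∑ η ∈ Y, charDegree ((η : IrrCharacter G) : G → ℂ) * r η = (1 + n * p) * r χ := by
      rw [Finset.sum_congr rfl fun (η : IrrCharacter G) hη => show charDegree (η : G → ℂ) * r η = d₀ * r χ by
        rw [hsame η hη]
        congr 1
        have := D.Y_deg η hη
        rw [← BlockB.irr_degree_cast] at this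
        exact_mod_cast this, Finset.sum_const, D.card_Y, smul_eq_mul, ← mul_assoc, hd]
    by_contra h0
    have : (1 + n * p) * 1 ≤ (1 + n * p) * r χ := Nat.mul_le_mul_left _ (Nat.pos_of_ne_zero h0)
    omega
  have hrOut : ∀ χ ∈ Out, r χ = m χ := by
    have hle : ∀ χ ∈ Out, charDegree (χ : G → ℂ) * r χ ≤ charDegree (χ : G → ℂ) * m χ :=
      fun χ _ => Nat.mul_le_mul_left _ (hrm χ)
    rw [Finset.sum_eq_zero (s := Xp) fun χ hχ => by rw [hrXp χ hχ, mul_zero],
      Finset.sum_eq_zero (s := Xm) fun χ hχ => by rw [hrXm χ hχ, mul_zero],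
      Finset.sum_eq_zero (s := Y) fun χ hχ => by rw [hrY χ hχ, mul_zero]] at hdegr
    have heq := (Finset.sum_eq_sum_iff_of_le hle).1 (by omega)
    exact fun χ hχ => Nat.eq_of_mul_eq_mul_left (BlockB.irr_degree_pos χ) (heq χ hχ)
  rw [← mul_assoc, ← Nat.cast_mul, mul_comm e p, ← mul_sub, ← Finset.sum_sub_distrib]
  congr 1
  rw [hsplit, hm1, hr1, sub_self,
    Finset.sum_congr (s₁ := Xp) rfl fun χ hχ => show (m χ : ℂ) * (χ : G → ℂ) g -
      (r χ : ℂ) * (χ : G → ℂ) g = ((n + 1 : ℕ) : ℂ) * (χ : G → ℂ) g by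
      rw [hmXp χ hχ, hrXp χ hχ, Nat.cast_zero, zero_mul, sub_zero],
    Finset.sum_eq_zero (s := Xm) fun χ hχ => by rw [hmXm χ hχ, hrXm χ hχ, sub_self],
    Finset.sum_congr (s₁ := Y) rfl fun χ hχ => show (m χ : ℂ) * (χ : G → ℂ) g -
      (r χ : ℂ) * (χ : G → ℂ) g = (w : ℂ) * (χ : G → ℂ) g by
      rw [hmY χ hχ, hrY χ hχ, Nat.cast_zero, zero_mul, sub_zero],
    Finset.sum_eq_zero (s := Out) fun χ hχ => by rw [hrOut χ hχ, sub_self],
    ← Finset.mul_sum, ← Finset.mul_sum]
  ring

/-- Every element of `N(P) ∖ P` fixes exactly `n + 1` points. -/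
theorem fx_eq {y : G} (hy : y ∈ Subgroup.normalizer ((P : Subgroup G) : Set G))
    (hyP : y ∉ (P : Subgroup G)) : fx P y = n + 1 := by
  classical
  have := Fintype.ofFinite G
  have := isPrime_of_pmodular hM
  have hp : p.Prime := hpf.out
  have hreg := not_dvd_orderOf_normalizer hP hC hy hyP
  have h := count_identity hP hC hM hn D y
  have hcP : BlockB.conjMemCount (P : Subgroup G) y = 0 :=
    BlockB.conjMemCount_eq_zero_of_not_isPPower _ P.isPGroup' y fun ⟨k, hk⟩ => by
      rcases k with _ | k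
      · rw [pow_zero, orderOf_eq_one_iff] at hk; exact hyP (hk ▸ Subgroup.one_mem _)
      · exact hreg (hk ▸ dvd_pow_self p k.succ_ne_zero)
  have hcN : BlockB.conjMemCount (Subgroup.normalizer ((P : Subgroup G) : Set G)) y =
      p * e * fx P y := by
    rw [BlockB.conjMemCount_eq, natCard_normalizer hP hC hM hn D]
    rfl
  rw [hcP, hcN, Nat.cast_zero, mul_zero, zero_sub, Nat.cast_mul] at h
  obtain ⟨η, hη⟩ : Y.Nonempty := by
    rw [← Finset.card_pos, D.card_Y]
    have h1 := D.hte; have := hp.two_le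
    refine Nat.pos_of_ne_zero fun h0 => ?_
    rw [h0, zero_mul] at h1; omega
  have hXm0 : ∑ χ ∈ Xm, (χ : G → ℂ) y = 0 := Finset.sum_eq_zero fun χ hχ =>
    apply_eq_zero_of_sum hP hC χ (by
      have := Fintype.ofFinite (P : Subgroup G)
      rw [finsum_eq_sum_of_fintype, ← Finset.add_sum_erase _ _ (Finset.mem_univ 1),
        Finset.sum_congr rfl (g := fun _ => (-1 : ℂ)) fun (z : ↥(P : Subgroup G)) hz =>
          show (χ : G → ℂ) (z : G) = -1 by
          have h' := D.Xm_val χ hχ z z.2 (fun h => (Finset.mem_erase.1 hz).1 (Subtype.ext h)) 1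
            (Subgroup.one_mem _) (by rw [orderOf_one]; exact hp.not_dvd_one)
          rwa [mul_one] at h',
        Finset.sum_const, Finset.card_erase_of_mem (Finset.mem_univ _), Finset.card_univ,
        ← Nat.card_eq_fintype_card, hP, Subgroup.coe_one, D.Xm_deg χ hχ, nsmul_eq_mul, mul_neg_one,
        add_neg_cancel]) hy hyP
  have hrel := D.relation η hη y hreg
  rw [hXm0, sub_zero] at hrel
  have hY : ∑ χ ∈ Y, (χ : G → ℂ) y = (t : ℂ) * (η : G → ℂ) y := by
    rw [Finset.sum_congr rfl fun χ hχ => D.regular χ hχ η hη y hreg, Finset.sum_const, D.card_Y,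
      nsmul_eq_mul]
  have hpe : ((p * e : ℕ) : ℂ) ≠ 0 :=
    Nat.cast_ne_zero.2 (Nat.mul_pos hp.pos (by have := D.e_two; omega)).ne'
  have h2 : -(fx P y : ℂ) = ((n + 1 : ℕ) : ℂ) * ∑ χ ∈ Xp, (χ : G → ℂ) y +
      (w : ℂ) * ((t : ℂ) * (η : G → ℂ) y) := by
    rw [← hY]
    exact mul_left_cancel₀ hpe (by rw [mul_neg]; exact h)
  have h3 : -(fx P y : ℂ) = -((n + 1 : ℕ) : ℂ) := by
    rcases D.alt with ⟨hw, hd, hσ⟩ | ⟨-, hw, -, hσ⟩
    · have hη0 : (η : G → ℂ) y = 0 := apply_eq_zero_of_sum hP hC η (by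
        rw [D.Y_sum η hη, hd, hσ]; simp) hy hyP
      rw [hη0, mul_zero] at hrel
      rw [h2, hw, Nat.cast_zero, zero_mul, add_zero, eq_neg_of_add_eq_zero_right hrel, mul_neg_one]
    · rw [hσ] at hrel
      push_cast at hrel
      rw [h2, ← mul_assoc, ← Nat.cast_mul, ← hw]
      linear_combination ((n + 1 : ℕ) : ℂ) * hrel
  exact_mod_cast neg_injective h3

/-- An element fixing no point has centralizer of order dividing `p N / t` when `0 < w`. -/
theorem dvd_of_fx_eq_zero (hw : 0 < w) {g : G} (hg : fx P g = 0) :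
    t * Nat.card (Subgroup.centralizer ({g} : Set G)) ∣ p * (1 + n * p) := by
  classical
  have := Fintype.ofFinite G
  have := isPrime_of_pmodular hM
  have hp : p.Prime := hpf.out
  have hreg : ¬ p ∣ orderOf g := fun hd => by
    obtain ⟨s, hs, -⟩ := exists_conj_mem hP hC hd
    have hmem := (BlockB.mem_fixedPoints_zpowers_iff
      (Subgroup.normalizer ((P : Subgroup G) : Set G)) g s).2 (Subgroup.le_normalizer hs)
    have : Nonempty (MulAction.fixedPoints (Subgroup.zpowers g)
      (G ⧸ Subgroup.normalizer ((P : Subgroup G) : Set G))) := ⟨⟨_, hmem⟩⟩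
    exact Nat.card_pos.ne' hg
  have hcN : BlockB.conjMemCount (Subgroup.normalizer ((P : Subgroup G) : Set G)) g = 0 := by
    rw [BlockB.conjMemCount_eq]
    exact Nat.mul_eq_zero.2 (Or.inr hg)
  have hcP : BlockB.conjMemCount (P : Subgroup G) g = 0 := Nat.le_zero.1 (hcN ▸ by
    simp only [BlockB.conjMemCount]
    exact Finset.card_le_card fun s hs =>
      Finset.mem_filter.2 ⟨Finset.mem_univ _, Subgroup.le_normalizer (Finset.mem_filter.1 hs).2⟩)
  have h := count_identity hP hC hM hn D g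
  rw [hcP, hcN, Nat.cast_zero, mul_zero, sub_zero, eq_comm, mul_eq_zero] at h
  obtain ⟨h0, hwt, -, hσ⟩ := (D.alt.resolve_left fun h' => by omega)
  obtain ⟨η, hη⟩ : Y.Nonempty := by
    rw [← Finset.card_pos, D.card_Y]
    exact Nat.pos_of_ne_zero fun h0 => by rw [h0, mul_zero] at hwt; omega
  have h1 := h.resolve_left (Nat.cast_ne_zero.2 (Nat.mul_pos hp.pos (by have := D.e_two; omega)).ne')
  rw [Finset.sum_congr (s₁ := Y) rfl fun χ hχ => D.regular χ hχ η hη g hreg, Finset.sum_const,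
    D.card_Y, nsmul_eq_mul, ← mul_assoc, ← Nat.cast_mul, ← hwt, ← mul_add, mul_eq_zero] at h1
  have h2 := h1.resolve_left (Nat.cast_ne_zero.2 (Nat.succ_ne_zero n))
  have hrel := D.relation η hη g hreg
  rw [hσ] at hrel
  have hphi : ∑ χ ∈ Xm, (χ : G → ℂ) g = ((1 : ℤ) : ℂ) := by
    push_cast at hrel ⊢
    linear_combination h2 - hrel
  obtain ⟨k, hk⟩ := dvd_of_omega_sum Xm id g (by have := hp.two_le; omega : 0 < p - 1)
    (fun i hi => D.Xm_deg i hi) (Or.inl rfl) hphi
  have hG := natCard_group hP hC hM hn D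
  rw [← (Subgroup.centralizer ({g} : Set G)).index_mul_card, hk] at hG
  have hte := D.hte
  rw [show p - 1 = t * e by omega] at hG
  refine ⟨k, Nat.eq_of_mul_eq_mul_left (by have := D.e_two; omega : 0 < e) ?_⟩
  calc e * (p * (1 + n * p)) = p * e * (1 + n * p) := by ring
    _ = t * e * k * Nat.card (Subgroup.centralizer ({g} : Set G)) := hG.symm
    _ = _ := by ring

end Points

end CfsgLib.Block.BrauerReynolds
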