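import Cfsg.Agent.Lib.Block.BRMain
import Cfsg.Agent.Lib.Perm.ZassenhausClassify
import Cfsg.Agent.Lib.Invol.CAInvol
import Mathlib.GroupTheory.GroupAction.MultipleTransitivity

/-!
Brauer–Reynolds, self-centralizing case: recognition of `PSL(2, p)` and `PSL(2, p - 1)`.
-/

set_option autoImplicit false
set_option linter.unusedSectionVars false

namespace CfsgLib.Block.BrauerReynolds

open Cfsg CfsgLib CfsgLib.Block

universe u

variable {G : Type u} [Group G] [Finite G] {p : ℕ} [hpf : Fact p.Prime]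
  {P : Sylow p G} (hP : Nat.card P = p)
  (hC : Subgroup.centralizer ((P : Subgroup G) : Set G) = (P : Subgroup G))
  {M : Ideal AlgInt} (hM : IsPModular p M)
  {n e t a b w d₀ : ℕ} {σ : ℤ} {Xp Xm Y : Finset (IrrCharacter G)}
  (hn : Nat.card (Sylow p G) = 1 + n * p)
  (D : Data M P n e t a b w d₀ σ Xp Xm Y)
include hP hC hM hn D

theorem psl_prime (hperf : commutator G = ⊤) (hn1 : n = 1) (ht2 : t = 2) :
    ∃ (F : Type) (_ : Field F) (_ : Fintype F), Fintype.card F = p ∧ 3 < p ∧
      Nonempty (G ≃* Matrix.ProjectiveSpecialLinearGroup (Fin 2) F) := by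
  classical
  have hp : p.Prime := hpf.out
  subst hn1 ht2
  have he2 := D.e_two
  have hte := D.hte
  obtain ⟨hep, -⟩ := e_lt hP hC hM hn D
  set N := Subgroup.normalizer ((P : Subgroup G) : Set G) with hNdef
  have := Fintype.ofFinite (G ⧸ N)
  have hΩ : Fintype.card (G ⧸ N) = p + 1 := by
    rw [← Nat.card_eq_fintype_card, ← Subgroup.index_eq_card]
    refine Eq.trans (Sylow.card_eq_index_normalizer P).symm ?_
    rw [hn, one_mul, add_comm]
  set o : G ⧸ N := ((1 : G) : G ⧸ N)
  have hstabo : ∀ g : G, g • o = o ↔ g ∈ N := fun g => by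
    simp only [o, MulAction.Quotient.smul_coe, smul_eq_mul, mul_one, QuotientGroup.eq]
    exact N.inv_mem_iff
  have hPN : ∀ z ∈ (P : Subgroup G), z ∈ N := fun z hz => Subgroup.le_normalizer hz
  -- non-trivial elements of `P` fix only `o`
  have hPfix : ∀ z ∈ (P : Subgroup G), z ≠ 1 → ∀ x : G ⧸ N, z • x = x → x = o := by
    intro z hz hz1 x hx
    obtain ⟨s, rfl⟩ := QuotientGroup.mk_surjective x
    have hsN : s⁻¹ * z * s ∈ N := by
      rw [MulAction.Quotient.smul_coe, smul_eq_mul, QuotientGroup.eq, ← N.inv_mem_iff] at hx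
      simpa [mul_assoc] using hx
    have hs1 : s⁻¹ * z * s ≠ 1 := fun h => hz1 (by
      rw [show z = s * (s⁻¹ * z * s) * s⁻¹ by group, h]; group)
    have hzo : orderOf (s⁻¹ * z * s) = p := by
      refine orderOf_eq_prime ?_ hs1
      have h := pow_card_eq_one' (x := (⟨z, hz⟩ : ↥(P : Subgroup G)))
      rw [hP] at h
      rw [show s⁻¹ * z * s = s⁻¹ * z * s⁻¹⁻¹ by group, conj_pow,
        show z ^ p = 1 from congrArg Subtype.val h]
      group
    have hsP : s⁻¹ * z * s ∈ (P : Subgroup G) := by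
      by_contra hnot
      exact not_dvd_orderOf_normalizer hP hC hsN hnot (by rw [hzo])
    -- `s` normalizes `P`
    have hgen : ∀ w ∈ (P : Subgroup G), w ≠ 1 → Subgroup.zpowers w = (P : Subgroup G) := by
      intro w hw hw1
      refine Subgroup.eq_of_le_of_card_ge (Subgroup.zpowers_le.2 hw) ?_
      rcases hp.eq_one_or_self_of_dvd (Nat.card (Subgroup.zpowers w))
        ((Subgroup.card_dvd_of_le (Subgroup.zpowers_le.2 hw)).trans (dvd_of_eq hP)) with h | h
      · rw [Nat.card_zpowers, orderOf_eq_one_iff] at h; exact absurd h hw1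
      · rw [h, hP]
    have hmap : (P : Subgroup G).map (MulAut.conj s⁻¹).toMonoidHom = (P : Subgroup G) := by
      conv_lhs => rw [← hgen z hz hz1, MonoidHom.map_zpowers]
      simp only [MulEquiv.coe_toMonoidHom, MulAut.conj_apply, inv_inv]
      exact hgen _ hsP hs1
    rw [QuotientGroup.eq, mul_one, hNdef, Subgroup.mem_normalizer_iff]
    intro w
    have h := Subgroup.mem_map_iff_mem (f := (MulAut.conj s⁻¹).toMonoidHom)
      (MulAut.conj s⁻¹).injective (K := (P : Subgroup G)) (x := w)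
    rw [hmap] at h
    exact h.symm
  -- `P` is regular on the remaining points
  have hreg : ∀ y z : G ⧸ N, y ≠ o → z ≠ o → ∃! u : (P : Subgroup G), (u : G) • y = z := by
    intro y z hy hz
    let f : ↥(P : Subgroup G) → {x : G ⧸ N // x ≠ o} := fun u => ⟨(u : G) • y, fun h => hy (by
      have h1 : (u : G)⁻¹ • ((u : G) • y) = (u : G)⁻¹ • o := by rw [h]
      rwa [inv_smul_smul, (hstabo _).2 (N.inv_mem (hPN _ u.2))] at h1)⟩
    have hf : Function.Injective f := by
      intro u v h
      have h1 : (u : G) • y = (v : G) • y := congrArg Subtype.val h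
      by_contra hne
      refine hy (hPfix ((v : G)⁻¹ * u) (Subgroup.mul_mem _ (Subgroup.inv_mem _ v.2) u.2)
        (fun h0 => hne ?_) y ?_)
      · exact Subtype.ext (inv_mul_eq_one.1 h0).symm
      · rw [mul_smul, h1, inv_smul_smul]
    have hbij : Function.Bijective f := by
      refine hf.bijective_of_nat_card_le ?_
      rw [hP, Nat.card_eq_fintype_card, Fintype.card_subtype_compl, Fintype.card_subtype_eq, hΩ]
      omega
    obtain ⟨u, hu⟩ := hbij.2 ⟨z, hz⟩
    exact ⟨u, congrArg Subtype.val hu, fun v hv => hbij.1 (Subtype.ext (hv.trans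
      (congrArg Subtype.val hu).symm))⟩
  have h2t : MulAction.IsMultiplyPretransitive G (G ⧸ N) 2 := by
    rw [MulAction.is_two_pretransitive_iff]
    intro a b c d hab hcd
    obtain ⟨g, hg⟩ := MulAction.exists_smul_eq G a o
    obtain ⟨k, hk⟩ := MulAction.exists_smul_eq G c o
    obtain ⟨u, hu, -⟩ := hreg (g • b) (k • d)
      (fun h => hab (smul_left_cancel g (hg.trans h.symm)))
      (fun h => hcd (smul_left_cancel k (hk.trans h.symm)))
    refine ⟨k⁻¹ * (u : G) * g, ?_, ?_⟩
    · rw [mul_smul, mul_smul, hg, (hstabo _).2 (hPN _ u.2), ← hk, inv_smul_smul]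
    · rw [mul_smul, mul_smul, hu, inv_smul_smul]
  -- at most two fixed points
  have h3 : ∀ g : G, ∀ a b c : G ⧸ N, a ≠ b → b ≠ c → a ≠ c → g • a = a → g • b = b → g • c = c →
      g = 1 := by
    intro g a b c hab hbc hac ha hb hc
    by_contra hg
    obtain ⟨k, hk⟩ := MulAction.exists_smul_eq G a o
    set g' := k * g * k⁻¹
    have hfix : ∀ x : G ⧸ N, g • x = x → g' • (k • x) = k • x := fun x hx => by
      rw [smul_smul, show k * g * k⁻¹ * k = k * g by group, mul_smul, hx]
    have hgN : g' ∈ N := (hstabo _).1 (by rw [← hk]; exact hfix a ha)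
    have hg1 : g' ≠ 1 := fun h => hg (by
      rw [show g = k⁻¹ * g' * k by simp only [g']; group, h]; group)
    by_cases hgP : g' ∈ (P : Subgroup G)
    · exact hab (smul_left_cancel k (hk.trans (hPfix g' hgP hg1 _ (hfix b hb)).symm))
    have h := fx_eq hP hC hM hn D hgN hgP
    have hmem : ∀ x : G ⧸ N, g' • x = x → x ∈ MulAction.fixedPoints (Subgroup.zpowers g') (G ⧸ N) :=
      fun x hx z => by
        obtain ⟨j, hj⟩ := z.2
        have hs : g' ^ j ∈ MulAction.stabilizer G x :=
          Subgroup.zpow_mem _ (MulAction.mem_stabilizer_iff.2 hx) j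
        change (z : G) • x = x
        rw [← hj]
        exact hs
    have hsub : ({k • a, k • b, k • c} : Set (G ⧸ N)) ⊆
        MulAction.fixedPoints (Subgroup.zpowers g') (G ⧸ N) := by
      rintro x (rfl | rfl | rfl)
      exacts [hmem _ (hfix _ ha), hmem _ (hfix _ hb), hmem _ (hfix _ hc)]
    have hle := Set.ncard_le_ncard hsub (Set.toFinite _)
    rw [← Nat.card_coe_set_eq (MulAction.fixedPoints (Subgroup.zpowers g') (G ⧸ N)),
      show Nat.card (MulAction.fixedPoints (Subgroup.zpowers g') (G ⧸ N)) = 2 from h,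
      Set.ncard_insert_of_notMem (by simp [hab, hac]), Set.ncard_pair (by simp [hbc])] at hle
    omega
  obtain ⟨y₀, hy₀N, hy₀, -⟩ := exists_generator hP hC hM hn D
  have hy₀1 : y₀ ≠ 1 := fun h => by rw [h, orderOf_one] at hy₀; omega
  have hy₀P : y₀ ∉ (P : Subgroup G) := fun h => by
    have h1 := orderOf_dvd_natCard (⟨y₀, h⟩ : ↥(P : Subgroup G))
    rw [hP, Subgroup.orderOf_mk, hy₀] at h1
    rcases hp.eq_one_or_self_of_dvd _ h1 with h2 | h2 <;> omega
  obtain ⟨b₀, hb₀, hb₀o⟩ : ∃ b, y₀ • b = b ∧ b ≠ o := by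
    by_contra hcon
    push Not at hcon
    have h := fx_eq hP hC hM hn D hy₀N hy₀P
    have hsub : MulAction.fixedPoints (Subgroup.zpowers y₀) (G ⧸ N) ⊆ {o} := fun x hx =>
      hcon x (hx ⟨y₀, Subgroup.mem_zpowers _⟩)
    have hle := Set.ncard_le_ncard hsub (Set.toFinite _)
    rw [Set.ncard_singleton, ← Nat.card_coe_set_eq,
      show Nat.card (MulAction.fixedPoints (Subgroup.zpowers y₀) (G ⧸ N)) = 2 from h] at hle
    omega
  have hfaith : FaithfulSMul G (G ⧸ N) := ⟨fun {g₁ g₂} hg => by
    have hy3 : ∃ c : G ⧸ N, c ≠ o ∧ c ≠ b₀ := by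
      by_contra hcon
      push Not at hcon
      have hsub : (Finset.univ : Finset (G ⧸ N)) ⊆ {o, b₀} := fun x _ => by
        by_cases h : x = o
        · simp [h]
        · simp [hcon x h]
      have h := Finset.card_le_card hsub
      rw [Finset.card_univ, hΩ] at h
      have := Finset.card_le_two (a := o) (b := b₀)
      omega
    obtain ⟨c, hc1, hc2⟩ := hy3
    have h := h3 (g₂⁻¹ * g₁) o b₀ c hb₀o.symm hc2.symm hc1.symm
      (by rw [mul_smul, hg, inv_smul_smul]) (by rw [mul_smul, hg, inv_smul_smul])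
      (by rw [mul_smul, hg, inv_smul_smul])
    exact (inv_mul_eq_one.1 h).symm⟩
  have hstabN : MulAction.stabilizer G o = N := by
    ext g; rw [MulAction.mem_stabilizer_iff, hstabo]
  have hZ : Cfsg.IsZassenhausGroup G (G ⧸ N) := by
    refine ⟨hfaith, h2t, h3, ⟨y₀, hy₀1, o, b₀, hb₀o.symm, (hstabo _).2 hy₀N, hb₀⟩,
      fun K hK htr => ?_⟩
    by_contra hcon
    push Not at hcon
    have hfree : ∀ k ∈ K, k ∈ N → k = 1 := by
      intro k hk hkN
      have h := hcon o
      rw [Subgroup.eq_bot_iff_forall] at h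
      exact congrArg Subtype.val (h ⟨k, hk⟩ ((hstabo k).2 hkN))
    obtain ⟨x, ε, -, -, -, hker⟩ : ∃ (x : G) (ε : N →* (ZMod p)ˣ), orderOf x = p ∧
        (P : Subgroup G) = Subgroup.zpowers x ∧
        (∀ m : N, (m : G) * x * (m : G)⁻¹ = x ^ ((ε m : ZMod p)).val) ∧
        ε.ker = (Subgroup.centralizer ((P : Subgroup G) : Set G)).subgroupOf N :=
      exists_prime_sylow_data P hP
    let π : N →* G ⧸ K := (QuotientGroup.mk' K).comp N.subtype
    have hπ : Function.Bijective π := by
      refine ⟨?_, ?_⟩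
      · rw [injective_iff_map_eq_one]
        intro m hm
        have hmem : (m : G) ∈ K := (QuotientGroup.eq_one_iff (m : G)).1 hm
        exact Subtype.ext (hfree _ hmem m.2)
      · intro q
        obtain ⟨g, rfl⟩ := QuotientGroup.mk_surjective q
        obtain ⟨k, hk⟩ := htr.exists_smul_eq o (g • o)
        have hk' : (k : G) • o = g • o := hk
        refine ⟨⟨(k : G)⁻¹ * g, (hstabo _).1 (by rw [mul_smul, ← hk', inv_smul_smul])⟩, ?_⟩
        change ((((k : G)⁻¹ * g : G)) : G ⧸ K) = (g : G ⧸ K)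
        rw [QuotientGroup.eq, show ((k : G)⁻¹ * g)⁻¹ * g = g⁻¹ * (k : G) * g by group]
        exact hK.conj_mem' (k : G) k.2 g
    let f : G →* (ZMod p)ˣ := ε.comp ((MulEquiv.ofBijective π hπ).symm.toMonoidHom.comp
      (QuotientGroup.mk' K))
    have hf : f.ker = ⊤ := top_le_iff.1 (hperf ▸ Abelianization.commutator_subset_ker f)
    have hε : ∀ m : N, ε m = 1 := fun m => by
      have h : (m : G) ∈ f.ker := hf ▸ Subgroup.mem_top _
      rw [MonoidHom.mem_ker] at h
      have hm : (MulEquiv.ofBijective π hπ).symm (QuotientGroup.mk' K (m : G)) = m :=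
        (MulEquiv.ofBijective π hπ).symm_apply_apply m
      rw [← hm]
      exact h
    have h := MonoidHom.mem_ker.2 (hε ⟨y₀, hy₀N⟩)
    rw [hker, Subgroup.mem_subgroupOf, hC] at h
    exact hy₀P h
  have hcardstab : Nat.card (MulAction.stabilizer G o ⊓ MulAction.stabilizer G b₀ : Subgroup G) = e := by
    have horb : MulAction.orbit N b₀ = {x : G ⧸ N | x ≠ o} := by
      ext x
      constructor
      · rintro ⟨m, rfl⟩ h
        refine hb₀o ?_
        have h1 : (m : G)⁻¹ • ((m : G) • b₀) = (m : G)⁻¹ • o := congrArg _ h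
        rwa [inv_smul_smul, (hstabo _).2 (N.inv_mem m.2)] at h1
      · intro hx
        obtain ⟨u, hu, -⟩ := hreg b₀ x hb₀o hx
        exact ⟨⟨u, hPN _ u.2⟩, hu⟩
    have h1 := (MulAction.stabilizer N b₀).index_mul_card
    rw [MulAction.index_stabilizer, horb, natCard_normalizer hP hC hM hn D,
      show ({x : G ⧸ N | x ≠ o} : Set (G ⧸ N)).ncard = p by
        rw [show {x : G ⧸ N | x ≠ o} = ({o} : Set (G ⧸ N))ᶜ by ext; simp, Set.ncard_compl,
          Set.ncard_singleton, Nat.card_eq_fintype_card, hΩ]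
        rfl] at h1
    have h2 : MulAction.stabilizer N b₀ = (MulAction.stabilizer G b₀).subgroupOf N := by
      ext m; rfl
    rw [h2] at h1
    rw [hstabN, ← Nat.eq_of_mul_eq_mul_left hp.pos h1,
      ← Nat.card_congr (Subgroup.subgroupOfEquivOfLe
        (inf_le_left : N ⊓ MulAction.stabilizer G b₀ ≤ N)).toEquiv, Subgroup.inf_subgroupOf_left]
  have hPnormal : ((P : Subgroup G).subgroupOf (MulAction.stabilizer G o)).Normal := by
    constructor
    intro v hv g
    rw [Subgroup.mem_subgroupOf] at hv ⊢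
    have hg : (g : G) ∈ N := (hstabo _).1 g.2
    simpa using (Subgroup.mem_normalizer_iff.1 hg v).1 hv
  have hPab : IsMulCommutative (P : Subgroup G) := by
    have : IsCyclic (P : Subgroup G) := isCyclic_of_prime_card hP
    let : CommGroup (P : Subgroup G) := IsCyclic.commGroup
    exact ⟨⟨mul_comm⟩⟩
  rcases CfsgLib.Perm.ZassenhausClass.classify hZ hb₀o.symm (P : Subgroup G)
    (fun z hz => (hstabo z).2 (hPN z hz)) hPnormal hPab hreg with ⟨h, -⟩ | ⟨-, K, _, _, -, hK, hiso⟩
  · rw [hcardstab, hΩ] at h; omega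
  · exact ⟨K, inferInstance, inferInstance, by omega, by omega, hiso⟩

theorem psl_even (hperf : commutator G = ⊤) (he : e = 2) (hnt : n + 1 = t) (ht4 : 4 ≤ t)
    (htm : ∃ m : ℕ, t = 2 ^ m) {τ : G} (hτ : orderOf τ = 2)
    (hcard : Nat.card (Subgroup.centralizer ({τ} : Set G)) = 2 * t)
    (hsq : ∀ x ∈ Subgroup.centralizer ({τ} : Set G), x ^ 2 = 1)
    (hconj : ∀ g : G, orderOf g = 2 → IsConj g τ) :
    ∃ (m : ℕ) (F : Type) (_ : Field F) (_ : Fintype F), Fintype.card F = 2 ^ m ∧ p = 2 ^ m + 1 ∧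
      3 < p ∧ Nonempty (G ≃* Matrix.ProjectiveSpecialLinearGroup (Fin 2) F) := by
  classical
  have hp : p.Prime := hpf.out
  obtain ⟨m, hm⟩ := htm
  have hte := D.hte
  subst he
  have hG := natCard_group hP hC hM hn D
  have hodd : ¬ 2 ∣ p * (n * 2 + 1) := by
    intro h
    rcases Nat.prime_two.dvd_mul.1 h with h' | h' <;> omega
  have hG' : Nat.card G = 2 ^ (m + 1) * (p * (n * 2 + 1)) := by
    rw [hG, pow_succ, ← hm, show 1 + n * p = t * (n * 2 + 1) by
      rw [show 1 + n * p = n * (t * 2) + (n + 1) by rw [← hte]; ring, hnt]; ring]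
    ring
  have := Fact.mk Nat.prime_two
  set C := Subgroup.centralizer ({τ} : Set G) with hCdef
  have hCcard : Nat.card C = 2 ^ (m + 1) := by rw [hcard, hm, pow_succ, mul_comm]
  have hfac : (Nat.card G).factorization 2 = m + 1 := by
    rw [hG', Nat.factorization_mul (pow_ne_zero _ two_ne_zero) (fun h => hodd (by rw [h]; exact dvd_zero 2)),
      Finsupp.add_apply,
      Nat.factorization_pow_self Nat.prime_two, Nat.factorization_eq_zero_of_not_dvd hodd, add_zero]
  let T : Sylow 2 G := Sylow.ofCard C (by rw [hfac, hCcard])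
  have hTC : (T : Subgroup G) = C := rfl
  have hT : CfsgLib.Invol.CAHyp T := by
    refine ⟨?_, ?_, ?_⟩
    · intro hcyc
      rw [hTC] at hcyc
      obtain ⟨g, hg⟩ := IsCyclic.exists_ofOrder_eq_natCard (α := C)
      have h2 : orderOf g ∣ 2 :=
        orderOf_dvd_of_pow_eq_one (Subtype.ext (by rw [Subgroup.coe_pow]; exact hsq g g.2))
      rw [hg, hcard] at h2
      have := Nat.le_of_dvd (by norm_num) h2
      omega
    · intro hnorm
      rw [hTC] at hnorm
      have hsub : (ConjClasses.mk τ).carrier ⊆ (C : Set G) := by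
        intro x hx
        rw [ConjClasses.mem_carrier_iff_mk_eq, ConjClasses.mk_eq_mk_iff_isConj] at hx
        obtain ⟨c, hc⟩ := isConj_iff.1 hx.symm
        rw [← hc]
        refine hnorm.conj_mem _ ?_ c
        rw [hCdef, Subgroup.mem_centralizer_singleton_iff]
      have hle := Nat.card_mono (Set.toFinite _) hsub
      have := Fintype.ofFinite G
      have hmul := Char.natCard_carrier_mul_centralizer τ
      rw [← hCdef, hG', hCcard, mul_comm (2 ^ (m + 1))] at hmul
      have heq : Nat.card (ConjClasses.mk τ).carrier = p * (n * 2 + 1) :=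
        Nat.eq_of_mul_eq_mul_right (by positivity) hmul
      rw [heq] at hle
      change p * (n * 2 + 1) ≤ Nat.card C at hle
      rw [hcard] at hle
      have : p * 1 < p * (n * 2 + 1) := Nat.mul_lt_mul_of_pos_left (by omega) hp.pos
      omega
    · intro g hg
      obtain ⟨c, hc⟩ := isConj_iff.1 (hconj g hg)
      have hsq' : ∀ x ∈ Subgroup.centralizer ({g} : Set G), x ^ 2 = 1 := fun x hx => by
        have hmem : c * x * c⁻¹ ∈ C := by
          rw [hCdef, Subgroup.mem_centralizer_singleton_iff, ← hc]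
          rw [Subgroup.mem_centralizer_singleton_iff] at hx
          calc c * x * c⁻¹ * (c * g * c⁻¹) = c * (x * g) * c⁻¹ := by group
            _ = c * (g * x) * c⁻¹ := by rw [hx]
            _ = _ := by group
        have h := hsq _ hmem
        rw [conj_pow] at h
        exact conj_eq_one_iff.1 h
      refine ⟨⟨⟨fun x y => ?_⟩⟩, hsq'⟩
      have h1 := hsq' _ (x * y).2
      have h2 := hsq' _ x.2
      have h3 := hsq' _ y.2
      rw [sq] at h1 h2 h3
      refine Subtype.ext ?_
      rw [Subgroup.coe_mul] at h1 ⊢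
      rw [Subgroup.coe_mul]
      calc (x : G) * y = ((x : G) * y)⁻¹ := (inv_eq_of_mul_eq_one_right h1).symm
        _ = (y : G)⁻¹ * (x : G)⁻¹ := mul_inv_rev _ _
        _ = _ := by rw [inv_eq_of_mul_eq_one_right h2, inv_eq_of_mul_eq_one_right h3]
  obtain ⟨F, _, _, hF, hiso⟩ := hT.exists_psl
  refine ⟨m + 1, F, inferInstance, inferInstance, ?_, ?_, by omega, hiso⟩
  · rw [hF]
    exact hCcard
  · rw [pow_succ, ← hm]; omega

end CfsgLib.Block.BrauerReynolds
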