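import Cfsg.Agent.Lib.Block.BTInvolution

/-!
In a simple group with a self-centralizing Sylow subgroup of order `p` whose normalizer is dihedral
of order `2p`, every involution normalizes a Sylow `p`-subgroup.
-/

set_option autoImplicit false
set_option linter.unusedSectionVars false

namespace CfsgLib.Block.BrauerTuan

open Cfsg CfsgLib CfsgLib.Block CfsgLib.Block.BrauerReynolds
open scoped ComplexConjugate

universe u

variable {G : Type u} [Group G] [Finite G] {p : ℕ} [hpf : Fact p.Prime]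

/-- All involutions are conjugate to one in the normalizer. -/
theorem isConj_involution_of_e_two [IsSimpleGroup G] (hperf : commutator G = ⊤) (hp5 : 5 ≤ p)
    {M : Ideal AlgInt} (hM : IsPModular p M) (P : Sylow p G) (hP : Nat.card P = p)
    (hC : Subgroup.centralizer ((P : Subgroup G) : Set G) = (P : Subgroup G))
    {t d₀ : ℕ} {σ : ℤ} {CF YF : Finset (IrrCharacter G)} {ε : IrrCharacter G → ℤ}
    (D : RowData M P 2 t d₀ σ CF YF ε) :
    ∃ z : G, orderOf z = 2 ∧ z ∈ Subgroup.normalizer ((P : Subgroup G) : Set G) ∧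
      ∀ s : G, orderOf s = 2 → IsConj s z := by
  classical
  have := isPrime_of_pmodular hM
  have := Fintype.ofFinite G
  have := Fintype.ofFinite (IrrCharacter G)
  have hp := hpf.out
  haveI : Fact (Nat.Prime 2) := ⟨Nat.prime_two⟩
  set Q := (P : Subgroup G)
  set N := Subgroup.normalizer (Q : Set G)
  have hQc : Nat.card Q = p := hP
  have hNcard : Nat.card N = p * 2 := by
    have h := D.e_eq
    rw [hC] at h
    rw [← (Q.subgroupOf N).card_mul_index, Nat.card_congr (Subgroup.subgroupOfEquivOfLe Subgroup.le_normalizer).toEquiv,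
      hQc]
    exact congrArg (p * ·) h
  have h2N : (2 : ℕ) ∣ Nat.card N := ⟨p, by rw [hNcard, mul_comm]⟩
  obtain ⟨⟨z, hzN⟩, hz⟩ := exists_prime_orderOf_dvd_card' (G := N) 2 h2N
  rw [Subgroup.orderOf_mk] at hz
  have hpodd : p % 2 = 1 := (Nat.Prime.eq_two_or_odd hp).resolve_left (by omega)
  have hQ2 : ∀ u ∈ Q, orderOf u ≠ 2 := fun u hu h2 => by
    have h := orderOf_dvd_natCard (⟨u, hu⟩ : Q)
    rw [Subgroup.orderOf_mk, h2, hQc] at h
    omega
  have hzP : z ∉ Q := fun h => hQ2 z h hz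
  have hz1 : z ≠ 1 := fun h => by rw [h, orderOf_one] at hz; omega
  have hzz : z * z = 1 := by rw [← sq, ← hz, pow_orderOf_eq_one]
  have hzinv : z⁻¹ = z := inv_eq_of_mul_eq_one_right hzz
  have hQcomm : ∀ a ∈ Q, ∀ c ∈ Q, a * c = c * a := fun a ha c hc => by
    have : IsCyclic Q := isCyclic_of_prime_card hQc
    let : CommGroup Q := IsCyclic.commGroup
    exact congrArg Subtype.val (mul_comm (⟨a, ha⟩ : Q) ⟨c, hc⟩)
  have hcompl : ∀ u ∈ Q, z * u * z = u⁻¹ := fun u hu => by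
    have hzu : z * u * z ∈ Q := by
      have h := (Subgroup.mem_normalizer_iff.1 hzN u).1 hu
      rwa [hzinv] at h
    by_contra hne
    have hw1 : u * (z * u * z) ≠ 1 := fun h => hne (eq_inv_of_mul_eq_one_right h)
    have hcomm : Commute (u * (z * u * z)) z := by
      change u * (z * u * z) * z = z * (u * (z * u * z))
      calc u * (z * u * z) * z = u * z * u * (z * z) := by simp only [mul_assoc]
        _ = u * z * u * 1 := by rw [hzz]
        _ = (u * (z * u * z)) * z := by rw [mul_one]; simp only [mul_assoc, hzz, mul_one]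
        _ = ((z * u * z) * u) * z := by rw [hQcomm u hu _ hzu]
        _ = _ := by simp only [mul_assoc]
    exact hzP (eq_one_of_commute hP hC (Q.mul_mem hu hzu) hw1 hcomm)
  -- the involutions of the normalizer
  have hidx : (Q.subgroupOf N).index = 2 := by
    have h := (Q.subgroupOf N).card_mul_index
    rw [Nat.card_congr (Subgroup.subgroupOfEquivOfLe Subgroup.le_normalizer).toEquiv, hQc, hNcard] at h
    exact Nat.eq_of_mul_eq_mul_left hp.pos h
  have hconjN : ∀ w ∈ N, w ∉ Q → IsConj w z := fun w hw hwQ => by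
    have hmem : z⁻¹ * w ∈ Q := by
      have h := (Subgroup.mul_mem_iff_of_index_two hidx (a := (⟨z, hzN⟩ : N)⁻¹) (b := ⟨w, hw⟩)).2
        (iff_of_false (fun h => hzP (by simpa [Subgroup.mem_subgroupOf] using h))
          (fun h => hwQ (by simpa [Subgroup.mem_subgroupOf] using h)))
      simpa [Subgroup.mem_subgroupOf] using h
    obtain ⟨a, -, ha⟩ := exists_conj_eq_mul hP hC hzN hzP hmem
    rw [mul_inv_cancel_left] at ha
    exact (isConj_iff.2 ⟨a, ha⟩).symm
  obtain ⟨x, hxQ, hx1⟩ : ∃ x ∈ Q, x ≠ 1 := by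
    refine Subgroup.bot_or_exists_ne_one _ |>.resolve_left fun h => ?_
    rw [h, Subgroup.card_bot] at hQc
    exact hp.ne_one hQc.symm
  have hcenx : Subgroup.centralizer ({x} : Set G) = Q := cen_eq hP hC hxQ hx1
  -- the block
  obtain ⟨hCFcard, hYcard, hsig, hYB, hdisj, hcover, hYdeg, hmod, hcol, hrel⟩ :=
    D.exc (by have := D.hte; omega)
  set one : IrrCharacter G := ⟨fun _ => 1, Char.isIrrCharacter_one⟩
  obtain ⟨χ₁, hχ₁⟩ : ∃ χ₁, CF.erase one = {χ₁} :=
    Finset.card_eq_one.1 (by rw [Finset.card_erase_of_mem D.one_mem, hCFcard])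
  have hCFeq : CF = insert one {χ₁} := by rw [← hχ₁, Finset.insert_erase D.one_mem]
  have hne : χ₁ ≠ one := (Finset.mem_erase.1 (by rw [hχ₁]; exact Finset.mem_singleton_self _)).1
  have hχ₁CF : χ₁ ∈ CF := by rw [hCFeq]; simp
  have hrel' : ∀ η ∈ YF, ∀ g : G, ¬ p ∣ orderOf g →
      (ε χ₁ : ℂ) * (χ₁ : G → ℂ) g = (σ : ℂ) * (η : G → ℂ) g - 1 := fun η hη g hg => by
    have h := hrel η hη g hg
    rw [hCFeq, Finset.sum_insert (by simp [Ne.symm hne]), Finset.sum_singleton, D.eps_one] at h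
    simp only [one, Int.cast_one, one_mul] at h
    linear_combination h
  have ht0 : 0 < YF.card := by have := D.t_pos; omega
  obtain ⟨η₀, hη₀⟩ := Finset.card_pos.1 ht0
  have hreg1 : ¬ p ∣ orderOf (1 : G) := by rw [orderOf_one]; exact hp.not_dvd_one
  set D₁ := charDegree (χ₁ : G → ℂ)
  have hD₁0 : 0 < D₁ := BlockB.irr_degree_pos χ₁
  have hd₀pos : 0 < d₀ := hYdeg η₀ hη₀ ▸ BlockB.irr_degree_pos η₀
  have hσ2 : (σ : ℂ) * σ = 1 := by rcases hsig with h | h <;> simp [h]
  have hε2 : (ε χ₁ : ℂ) * ε χ₁ = 1 := by rcases D.eps_pm χ₁ hχ₁CF with h | h <;> simp [h]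
  -- values at involutions
  have hreal : ∀ (χ : IrrCharacter G) (g : G), g * g = 1 →
      (((χ : G → ℂ) g).re : ℂ) = (χ : G → ℂ) g := fun χ g hg => by
    refine Complex.conj_eq_iff_re.1 ?_
    rw [irr_conj_eq χ.2, inv_eq_of_mul_eq_one_right hg]
  have hinvreg : ∀ g : G, orderOf g = 2 → ¬ p ∣ orderOf g := fun g hg h => by
    rw [hg] at h; have := Nat.le_of_dvd (by omega) h; omega
  have hnz : ∀ χ : IrrCharacter G, χ ∉ principalBlock M G → (χ : G → ℂ) x = 0 :=
    fun χ hχ => apply_eq_zero_of_not_principal hP hC hM χ hχ hxQ hx1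
  set F : G → ℂ := fun g => ∑ χ : IrrCharacter G, (χ : G → ℂ) g * conj ((χ : G → ℂ) x) with hFdef
  have hF : ∀ g, F g = if IsConj g x then (p : ℂ) else 0 := fun g => by
    rw [hFdef]
    dsimp only
    rw [Char.column_orthogonality g x]
    split_ifs with hg
    · obtain ⟨c, hc⟩ := isConj_iff.1 hg
      have : Nat.card (Subgroup.centralizer ({g} : Set G)) = p := by
        have h1 := Char.natCard_carrier_mul_centralizer g
        rw [ConjClasses.mk_eq_mk_iff_isConj.2 hg, ← Char.natCard_carrier_mul_centralizer x, hcenx, hQc] at h1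
        exact Nat.eq_of_mul_eq_mul_left (by
          have : Nonempty (ConjClasses.mk x).carrier := ⟨⟨x, ConjClasses.mem_carrier_mk⟩⟩
          exact Nat.card_pos) h1
      rw [this]
    · rfl
  have key : ∀ s : G, orderOf s = 2 →
      (Finset.univ.filter fun t : G => IsConj (s * (t * s * t⁻¹)) x) = ∅ →
      (η₀ : G → ℂ) s = (d₀ : ℂ) := by
    intro s hs hempty
    have hss : s * s = 1 := by rw [← sq, ← hs, pow_orderOf_eq_one]
    set a := (η₀ : G → ℂ) s
    have hY : ∀ η ∈ YF, (η : G → ℂ) s = a := fun η hη => by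
      have h1 := hrel' η hη s (hinvreg s hs)
      have h2 := hrel' η₀ hη₀ s (hinvreg s hs)
      have h3 : (σ : ℂ) * (η : G → ℂ) s = (σ : ℂ) * a := by linear_combination h2 - h1
      exact mul_left_cancel₀ (fun h0 => by rw [h0, zero_mul] at hσ2; exact zero_ne_one hσ2) h3
    have hD : (σ : ℂ) * (d₀ : ℂ) - 1 = (ε χ₁ : ℂ) * (D₁ : ℂ) := by
      have h := hrel' η₀ hη₀ 1 hreg1
      rw [← BlockB.irr_degree_cast χ₁, ← BlockB.irr_degree_cast η₀, hYdeg η₀ hη₀] at h
      exact h.symm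
    have hc1 : (χ₁ : G → ℂ) s = (ε χ₁ : ℂ) * ((σ : ℂ) * a - 1) := by
      rw [← hrel' η₀ hη₀ s (hinvreg s hs), ← mul_assoc, hε2, one_mul]
    have hsum : ∑ t : G, F (s * (t * s * t⁻¹)) = (Nat.card G : ℂ) *
        (1 + ((σ : ℂ) * a - 1) ^ 2 / (D₁ : ℂ) * (ε χ₁ : ℂ) - (σ : ℂ) * a ^ 2 / (d₀ : ℂ)) := by
      simp only [hFdef]
      rw [Finset.sum_comm]
      simp only [← Finset.sum_mul]
      rw [Finset.sum_congr rfl fun χ _ => by rw [BlockB.sum_irr_mul_conj],
        ← Finset.sum_subset (Finset.subset_univ (CF ∪ YF)) fun χ _ hχ => ?_,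
        Finset.sum_union hdisj, hCFeq, Finset.sum_insert (by simp [Ne.symm hne]), Finset.sum_singleton,
        Finset.sum_congr rfl (g := fun η : IrrCharacter G =>
          (Nat.card G : ℂ) * (a ^ 2 / (d₀ : ℂ)) * conj ((η : G → ℂ) x)) fun η hη => ?_,
        ← Finset.mul_sum, ← map_sum, hcol x hxQ hx1, hc1, D.CF_val χ₁ hχ₁CF x hxQ hx1,
        ← BlockB.irr_degree_cast χ₁, show charDegree (χ₁ : G → ℂ) = D₁ from rfl]
      · simp only [one, mul_one, div_one, map_one, map_intCast, pow_two]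
        push_cast
        linear_combination ((Nat.card G : ℂ) * ((σ : ℂ) * a - 1) * ((σ : ℂ) * a - 1) / (D₁ : ℂ) *
          (ε χ₁ : ℂ)) * hε2
      · rw [hY η hη, ← BlockB.irr_degree_cast η, hYdeg η hη]
        ring
      · rw [hnz χ fun hB => hχ (Finset.mem_union.2 (hcover χ hB)), map_zero, mul_zero]
    simp only [hF] at hsum
    rw [Finset.sum_ite, hempty, Finset.sum_empty, Finset.sum_const_zero, add_zero, eq_comm,
      mul_eq_zero, or_iff_right (Nat.cast_ne_zero.2 Nat.card_pos.ne')] at hsum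
    have e1 : (D₁ : ℂ) ≠ 0 := Nat.cast_ne_zero.2 hD₁0.ne'
    have e2 : (d₀ : ℂ) ≠ 0 := Nat.cast_ne_zero.2 hd₀pos.ne'
    field_simp at hsum
    have hsq : ((σ : ℂ) * a - (σ : ℂ) * (d₀ : ℂ)) ^ 2 = 0 := by
      linear_combination (σ : ℂ) * (ε χ₁ : ℂ) * hsum + (σ : ℂ) * ((d₀ : ℂ) - (σ : ℂ) * a ^ 2) * hD
        - (σ : ℂ) * ((σ : ℂ) * a - 1) ^ 2 * (d₀ : ℂ) * hε2
    have h3 := (pow_eq_zero_iff two_ne_zero).1 hsq
    rw [← mul_sub, mul_eq_zero, or_iff_right (fun h0 => by rw [h0, zero_mul] at hσ2; exact zero_ne_one hσ2),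
      sub_eq_zero] at h3
    exact h3
  -- all involutions are conjugate to z
  refine ⟨z, hz, hzN, fun s hs => ?_⟩
  by_contra hnc
  have hss : s * s = 1 := by rw [← sq, ← hs, pow_orderOf_eq_one]
  have hempty : (Finset.univ.filter fun t : G => IsConj (s * (t * s * t⁻¹)) x) = ∅ := by
    refine Finset.filter_eq_empty_iff.2 fun t _ ht => hnc ?_
    obtain ⟨c, hc⟩ := isConj_iff.1 ht
    set s1 := c * s * c⁻¹ with hs1
    set s2 := c * (t * s * t⁻¹) * c⁻¹ with hs2
    have hmul : s1 * s2 = x := by rw [← hc, hs1, hs2]; group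
    have h11 : s1 * s1 = 1 := by
      rw [hs1, show c * s * c⁻¹ * (c * s * c⁻¹) = c * (s * s) * c⁻¹ by group, hss]; group
    have h22 : s2 * s2 = 1 := by
      rw [hs2, show c * (t * s * t⁻¹) * c⁻¹ * (c * (t * s * t⁻¹) * c⁻¹) = c * t * (s * s) * t⁻¹ * c⁻¹ by group,
        hss]; group
    have hinv : s1 * x * s1 = x⁻¹ := by
      rw [← hmul, mul_inv_rev, inv_eq_of_mul_eq_one_right h11, inv_eq_of_mul_eq_one_right h22,
        show s1 * (s1 * s2) * s1 = (s1 * s1) * (s2 * s1) by simp only [mul_assoc], h11, one_mul]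
    have hgen : Subgroup.zpowers x = Q :=
      Subgroup.eq_of_le_of_card_ge (Subgroup.zpowers_le.2 hxQ) (by
        rcases hp.eq_one_or_self_of_dvd _ ((Subgroup.card_dvd_of_le (Subgroup.zpowers_le.2 hxQ)).trans
          (dvd_of_eq hQc)) with h | h
        · rw [Nat.card_zpowers, orderOf_eq_one_iff] at h; exact absurd h hx1
        · rw [h, hQc])
    have hs1inv : s1⁻¹ = s1 := inv_eq_of_mul_eq_one_right h11
    have hsN : s1 ∈ N := by
      have hfwd : ∀ u ∈ Q, s1 * u * s1⁻¹ ∈ Q := fun u hu => by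
        rw [← hgen] at hu ⊢
        obtain ⟨i, rfl⟩ := Subgroup.mem_zpowers_iff.1 hu
        rw [← conj_zpow, hs1inv, hinv]
        exact Subgroup.zpow_mem _ (Subgroup.inv_mem _ (Subgroup.mem_zpowers x)) i
      refine Subgroup.mem_normalizer_iff.2 fun u => ⟨hfwd u, fun hu => ?_⟩
      have h2 := hfwd _ hu
      rwa [show s1 * (s1 * u * s1⁻¹) * s1⁻¹ = (s1 * s1) * u * (s1 * s1)⁻¹ by group, h11, one_mul,
        inv_one, mul_one] at h2
    have ho1 : orderOf s1 = 2 := by
      rw [hs1, ← MulAut.conj_apply, MulEquiv.orderOf_eq, hs]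
    exact (isConj_iff.2 ⟨c, hs1.symm⟩).trans (hconjN s1 hsN fun h => hQ2 s1 h ho1)
  have h := key s hs hempty
  have hval : (η₀ : G → ℂ) s = (η₀ : G → ℂ) 1 := by
    rw [h, ← BlockB.irr_degree_cast η₀, hYdeg η₀ hη₀]
  obtain ⟨m, ρ, hρ, hρη⟩ := η₀.2
  have hsk : s ∈ (MonoidHom.ker ρ : Subgroup G) := by rw [Char.mem_ker_iff_char, hρη]; exact hval
  rcases (inferInstance : (MonoidHom.ker ρ : Subgroup G).Normal).eq_bot_or_eq_top with hk | hk
  · rw [hk, Subgroup.mem_bot] at hsk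
    rw [hsk, orderOf_one] at hs; omega
  · have hxk : x ∈ (MonoidHom.ker ρ : Subgroup G) := hk ▸ Subgroup.mem_top x
    rw [Char.mem_ker_iff_char, hρη] at hxk
    have hall : ∀ η ∈ YF, (η : G → ℂ) 1 = (d₀ : ℂ) := fun η hη => by
      rw [← BlockB.irr_degree_cast η, hYdeg η hη]
    have h1 : ∀ u : G, (η₀ : G → ℂ) u = (η₀ : G → ℂ) 1 := fun u => by
      have : u ∈ (MonoidHom.ker ρ : Subgroup G) := hk ▸ Subgroup.mem_top u
      rwa [Char.mem_ker_iff_char, hρη] at this
    have hn := sum_norm_sq_irr η₀.2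
    simp only [h1, hall η₀ hη₀, Complex.norm_natCast, Finset.sum_const, Finset.card_univ,
      nsmul_eq_mul, ← Nat.card_eq_fintype_card] at hn
    have h2 : (d₀ : ℝ) ^ 2 = 1 := (mul_eq_left₀ (Nat.cast_ne_zero.2 Nat.card_pos.ne')).1 hn
    have h3 : d₀ ^ 2 = 1 := by exact_mod_cast h2
    obtain rfl : d₀ = 1 := (Nat.pow_eq_one.1 h3).resolve_right two_ne_zero
    have h4 : (p : ℤ) ∣ (2 : ℤ) * σ - 1 := by exact_mod_cast hmod
    rcases hsig with h | h <;> rw [h] at h4 <;> norm_num at h4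
    · have := Int.le_of_dvd one_pos h4; omega
    · have := Int.le_of_dvd (show (0 : ℤ) < 3 by norm_num) h4; omega

end CfsgLib.Block.BrauerTuan
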