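import Cfsg.Prelude.Def_Blocks
import Cfsg.Agent.Lib.Char.Monomial
import Cfsg.Agent.Lib.Char.Linear
import Cfsg.Agent.Lib.Char.Inner
import Cfsg.Agent.Lib.Char.Diag

/-!
Auxiliary character facts for bounds on small degrees.
-/

set_option autoImplicit false
set_option linter.unusedSectionVars false

namespace CfsgLib.Block

open Cfsg
open scoped ComplexConjugate

universe u

variable {A : Type u} [Group A] [Fintype A]

theorem charDegree_spec {χ : A → ℂ} (hχ : IsCharacter A χ) : χ 1 = (charDegree χ : ℂ) := by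
  obtain ⟨d, hd⟩ := CfsgLib.Char.char_apply_one_eq_nat hχ
  rw [charDegree, hd, Complex.natCast_re, Nat.floor_natCast]

/-- An element acting as a scalar. -/
theorem norm_char_of_center {χ : A → ℂ} (hχ : IsIrrCharacter A χ) {k : A}
    (hk : k ∈ Subgroup.center A) : ‖χ k‖ = (charDegree χ : ℝ) := by
  obtain ⟨m, ρ, hρ, rfl⟩ := hχ
  obtain ⟨c, hc⟩ := CfsgLib.Char.exists_scalar_of_commute ρ (ρ k) fun g => by
    rw [← Module.End.mul_eq_comp, ← Module.End.mul_eq_comp, ← map_mul, ← map_mul,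
      Subgroup.mem_center_iff.1 hk g]
  have hpow : ∀ j : ℕ, ρ (k ^ j) = c ^ j • (LinearMap.id : (Fin m → ℂ) →ₗ[ℂ] (Fin m → ℂ)) := by
    intro j
    induction j with
    | zero => simp [Module.End.one_eq_id]
    | succ j ih =>
      rw [pow_succ, map_mul, ih, hc, Module.End.mul_eq_comp, LinearMap.smul_comp, LinearMap.id_comp,
        smul_smul, pow_succ]
  have h1 : (ρ.character k) = c * (charDegree ρ.character : ℂ) := by
    rw [← charDegree_spec (CfsgLib.Char.isCharacter_of_rep ρ), Representation.char_one,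
      Representation.character, hc, map_smul, smul_eq_mul, LinearMap.trace_id]
  rcases Nat.eq_zero_or_pos (charDegree ρ.character) with h0 | hpos
  · rw [h1, h0]; simp
  have hcd : c ^ orderOf k = 1 := by
    have h := hpow (orderOf k)
    rw [pow_orderOf_eq_one, map_one, Module.End.one_eq_id] at h
    have h2 := congrArg (LinearMap.trace ℂ (Fin m → ℂ)) h
    rw [map_smul, smul_eq_mul, LinearMap.trace_id] at h2
    have hm : ((Module.finrank ℂ (Fin m → ℂ) : ℕ) : ℂ) ≠ 0 := by
      intro h3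
      have h4 := charDegree_spec (CfsgLib.Char.isCharacter_of_rep ρ)
      rw [Representation.char_one, h3] at h4
      exact (Nat.cast_ne_zero.2 hpos.ne') h4.symm
    exact (mul_eq_right₀ hm).1 h2.symm
  rw [h1, norm_mul, Complex.norm_natCast,
    Complex.norm_eq_one_of_pow_eq_one hcd (orderOf_pos k).ne', one_mul]

theorem norm_char_le_degree {χ : A → ℂ} (hχ : IsCharacter A χ) (a : A) :
    ‖χ a‖ ≤ (charDegree χ : ℝ) := by
  obtain ⟨m, ρ, rfl⟩ := hχ
  have h := CfsgLib.Char.norm_char_le (ρ := ρ) a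
  rwa [charDegree, Representation.char_one, Complex.natCast_re, Nat.floor_natCast]

theorem sum_norm_sq (φ : A → ℂ) :
    ((∑ a, ‖φ a‖ ^ 2 : ℝ) : ℂ) = (Nat.card A : ℂ) * classInner φ φ := by
  rw [CfsgLib.Char.classInner_self_eq_norm, Complex.ofReal_mul, Complex.ofReal_inv,
    Complex.ofReal_natCast, ← mul_assoc,
    mul_inv_cancel₀ (Nat.cast_ne_zero.2 Nat.card_pos.ne'), one_mul]

theorem sum_norm_sq_irr {χ : A → ℂ} (hχ : IsIrrCharacter A χ) :
    ∑ a, ‖χ a‖ ^ 2 = (Nat.card A : ℝ) := by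
  have h := sum_norm_sq χ
  rw [CfsgLib.Char.irr_classInner_self hχ, mul_one] at h
  exact_mod_cast h

/-- The square of the degree times the order of a central subgroup is at most the group order. -/
theorem sq_mul_card_le {χ : A → ℂ} (hχ : IsIrrCharacter A χ) (K : Subgroup A)
    (hK : K ≤ Subgroup.center A) : charDegree χ ^ 2 * Nat.card K ≤ Nat.card A := by
  classical
  have h : ∑ a ∈ (Finset.univ.filter fun a => a ∈ K), ‖χ a‖ ^ 2 ≤ ∑ a, ‖χ a‖ ^ 2 :=
    Finset.sum_le_sum_of_subset_of_nonneg (Finset.subset_univ _) fun a _ _ => sq_nonneg _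
  rw [sum_norm_sq_irr hχ, Finset.sum_congr rfl (g := fun _ => (charDegree χ : ℝ) ^ 2) fun a ha => by
    rw [norm_char_of_center hχ (hK (Finset.mem_filter.1 ha).2)],
    Finset.sum_const, nsmul_eq_mul] at h
  have hc : (Finset.univ.filter fun a => a ∈ K).card = Nat.card K := by
    rw [Nat.card_eq_fintype_card, Fintype.card_subtype]
  rw [hc, mul_comm] at h
  exact_mod_cast h

/-- A nonnegative class function summed over a controlled subset. -/
theorem mul_sum_le_of_ti (C N : Subgroup A) (Z : Subgroup A) [DecidablePred (· ∈ C)]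
    [DecidablePred (· ∈ Z)]
    (hTI : ∀ (g u : A), u ∈ C → u ∉ Z → g * u * g⁻¹ ∈ C → g ∈ N) (f : A → ℝ)
    (hf : ∀ g u, f (g * u * g⁻¹) = f u) (hnn : ∀ u, 0 ≤ f u) :
    (Nat.card A : ℝ) * ∑ u ∈ Finset.univ.filter (fun u => u ∈ C ∧ u ∉ Z), f u ≤
      (Nat.card N : ℝ) * ∑ g, f g := by
  classical
  set U := Finset.univ.filter fun u : A => u ∈ C ∧ u ∉ Z
  have h1 : (Nat.card A : ℝ) * ∑ u ∈ U, f u = ∑ q ∈ (Finset.univ : Finset A) ×ˢ U,
      f (q.1 * q.2 * q.1⁻¹) := by
    rw [Finset.sum_product, Nat.card_eq_fintype_card]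
    simp only [hf, Finset.sum_const, Finset.card_univ, nsmul_eq_mul]
  rw [h1, ← Finset.sum_fiberwise ((Finset.univ : Finset A) ×ˢ U) (fun q => q.1 * q.2 * q.1⁻¹),
    Finset.mul_sum]
  refine Finset.sum_le_sum fun y _ => ?_
  rw [Finset.sum_congr rfl (g := fun _ => f y) fun q hq => by rw [(Finset.mem_filter.1 hq).2],
    Finset.sum_const, nsmul_eq_mul]
  refine mul_le_mul_of_nonneg_right (Nat.cast_le.2 ?_) (hnn y)
  set F := ((Finset.univ : Finset A) ×ˢ U).filter fun q => q.1 * q.2 * q.1⁻¹ = y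
  rcases F.eq_empty_or_nonempty with h | ⟨q₀, hq₀⟩
  · simp [h]
  obtain ⟨hq0, hy0⟩ := Finset.mem_filter.1 hq₀
  have hmem : ∀ q ∈ F, q₀.1⁻¹ * q.1 ∈ N := fun q hq => by
    obtain ⟨hq1, hy1⟩ := Finset.mem_filter.1 hq
    obtain ⟨-, hC, hZ⟩ := Finset.mem_filter.1 (Finset.mem_product.1 hq1).2
    refine hTI _ q.2 hC hZ ?_
    have he : q₀.1⁻¹ * q.1 * q.2 * (q₀.1⁻¹ * q.1)⁻¹ = q₀.1⁻¹ * (q.1 * q.2 * q.1⁻¹) * q₀.1 := by group
    rw [he, hy1, ← hy0]
    have he2 : q₀.1⁻¹ * (q₀.1 * q₀.2 * q₀.1⁻¹) * q₀.1 = q₀.2 := by group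
    rw [he2]
    exact (Finset.mem_filter.1 (Finset.mem_product.1 hq0).2).2.1
  calc F.card = Fintype.card F := (Fintype.card_coe F).symm
    _ ≤ Fintype.card N := by
        refine Fintype.card_le_of_injective (fun q : F => (⟨q₀.1⁻¹ * q.1.1, hmem q q.2⟩ : N))
          fun q q' h => ?_
        have h1 : q.1.1 = q'.1.1 := mul_left_cancel (congrArg Subtype.val h)
        refine Subtype.ext (Prod.ext h1 ?_)
        have e1 := (Finset.mem_filter.1 q.2).2
        have e2 := (Finset.mem_filter.1 q'.2).2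
        rw [← e2, h1] at e1
        exact mul_left_cancel (mul_right_cancel e1)
    _ = Nat.card N := Nat.card_eq_fintype_card.symm

/-- Multiplicities in a restriction are linear in the constituents. -/
theorem classInner_restrict_eq_sum {H : Subgroup A} [Fintype H] [Fintype (IrrCharacter A)]
    {F : A → ℂ} (hF : IsClassFunction A F) (φ : H → ℂ) :
    classInner (fun c : H => F c) φ =
      ∑ η : IrrCharacter A, classInner F (η : A → ℂ) *
        classInner (fun c : H => (η : A → ℂ) c) φ := by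
  have h : (fun c : H => F c) = ∑ η : IrrCharacter A,
      classInner F (η : A → ℂ) • (fun c : H => (η : A → ℂ) c) := by
    funext c
    simp only [Finset.sum_apply, Pi.smul_apply, smul_eq_mul]
    exact CfsgLib.Char.classFunction_apply_eq_sum hF (c : A)
  conv_lhs => rw [h]
  rw [CfsgLib.Char.classInner_sum_left]
  exact Finset.sum_congr rfl fun η _ => CfsgLib.Char.classInner_smul_left _ _ _

end CfsgLib.Block
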