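import Cfsg.Agent.Lib.Block.BTRows
import Cfsg.Agent.Lib.Block.BRPoints
import Cfsg.Agent.Lib.Char.Column
import Cfsg.Agent.Lib.Block.DegreeAux

/-!
A simple group with dihedral Sylow normalizer `D_{2p}` and a principal block character of degree `p - 2`.
-/

set_option autoImplicit false
set_option linter.unusedSectionVars false

namespace CfsgLib.Block.BrauerTuan

open Cfsg CfsgLib CfsgLib.Block CfsgLib.Block.BrauerReynolds
open scoped ComplexConjugate

universe u

/-- The final estimate. -/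
theorem involution_bound {q a C K : ℝ} (hq : 4 ≤ q) (hC1 : 0 < C) (hK0 : 0 < K)
    (hlow : (q / 2) * a ^ 2 ≤ C) (hKC : K ≤ C * (q - 1))
    (heq : C ^ 2 * q * (q - 1) ≤ K * (q - 1 - a) ^ 2) :
    K < (q - 1) * (q + 3) := by
  have hf : 0 < q - 1 := by linarith
  have h1 : q * C ≤ (q - 1 - a) ^ 2 := by
    have h := heq.trans (mul_le_mul_of_nonneg_right hKC (sq_nonneg (q - 1 - a)))
    nlinarith [mul_pos hC1 hf]
  have h2 : q ^ 2 * a ^ 2 ≤ 2 * (q - 1 - a) ^ 2 := by nlinarith
  have ha : -2.2 ≤ a := by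
    by_contra hlt
    push Not at hlt
    have hs : q * (-a) * (7 : ℝ) / 5 ≤ 2 * (q - 1 - a) := by
      by_contra h3
      push Not at h3
      nlinarith [mul_nonneg (mul_nonneg (by linarith : (0:ℝ) ≤ q) (by linarith : (0:ℝ) ≤ -a))
        (mul_nonneg (by linarith : (0:ℝ) ≤ q) (by linarith : (0:ℝ) ≤ -a))]
    nlinarith
  rcases le_or_gt a (q - 1) with hle | hgt
  · have h3 : (q - 1 - a) ^ 2 ≤ (q + 1.2) ^ 2 :=
      pow_le_pow_left₀ (by linarith) (by linarith) 2
    have h4 : K * K * q ≤ K * (q - 1) * (q + 1.2) ^ 2 := by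
      have h5 : K * K ≤ C * (q - 1) * (C * (q - 1)) := mul_le_mul hKC hKC hK0.le (by positivity)
      nlinarith [mul_le_mul_of_nonneg_left h3 (mul_nonneg hK0.le hf.le),
        mul_le_mul_of_nonneg_right heq hf.le, mul_le_mul_of_nonneg_right h5 (by linarith : (0:ℝ) ≤ q)]
    have h6 : K * q ≤ (q - 1) * (q + 1.2) ^ 2 := by nlinarith
    nlinarith
  · nlinarith [mul_le_mul_of_nonneg_left (show (q - 1) ^ 2 ≤ a ^ 2 by nlinarith) (sq_nonneg q)]

variable {G : Type u} [Group G] [Finite G] {p : ℕ} [hpf : Fact p.Prime]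

theorem natCard_lt_cube_of_e_two [IsSimpleGroup G] (hperf : commutator G = ⊤) (hp5 : 5 ≤ p)
    {M : Ideal AlgInt} (hM : IsPModular p M) (P : Sylow p G) (hP : Nat.card P = p)
    (hC : Subgroup.centralizer ((P : Subgroup G) : Set G) = (P : Subgroup G))
    {t d₀ : ℕ} {CF YF : Finset (IrrCharacter G)} {ε : IrrCharacter G → ℤ}
    (D : RowData M P 2 t d₀ (-1) CF YF ε) (hd₀ : d₀ = p - 2)
    (hb : ∃ b, Nat.card G = p * 2 ^ b * (p - 2)) : Nat.card G < p ^ 3 := by
  classical
  have := isPrime_of_pmodular hM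
  have := Fintype.ofFinite G
  have := Fintype.ofFinite (IrrCharacter G)
  have hp := hpf.out
  haveI : Fact (Nat.Prime 2) := ⟨Nat.prime_two⟩
  obtain ⟨b, hb⟩ := hb
  set Q := (P : Subgroup G)
  set N := Subgroup.normalizer (Q : Set G)
  have hQc : Nat.card Q = p := hP
  have hNcard : Nat.card N = p * 2 := by
    have h := D.e_eq
    rw [hC] at h
    rw [← (Q.subgroupOf N).card_mul_index, Nat.card_congr (Subgroup.subgroupOfEquivOfLe Subgroup.le_normalizer).toEquiv,
      hQc]
    exact congrArg (p * ·) h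
  have h2N : (2 : ℕ) ∣ Nat.card N := ⟨p, by rw [hNcard, mul_comm]⟩
  obtain ⟨⟨z, hzN⟩, hz⟩ := exists_prime_orderOf_dvd_card' (G := N) 2 h2N
  rw [Subgroup.orderOf_mk] at hz
  have hpodd : p % 2 = 1 := (Nat.Prime.eq_two_or_odd hp).resolve_left (by omega)
  have hQ2 : ∀ u ∈ Q, orderOf u ≠ 2 := fun u hu h2 => by
    have h := orderOf_dvd_natCard (⟨u, hu⟩ : Q)
    rw [Subgroup.orderOf_mk, h2, hQc] at h
    omega
  have hzP : z ∉ Q := fun h => hQ2 z h hz
  have hz1 : z ≠ 1 := fun h => by rw [h, orderOf_one] at hz; omega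
  have hzz : z * z = 1 := by rw [← sq, ← hz, pow_orderOf_eq_one]
  have hzinv : z⁻¹ = z := inv_eq_of_mul_eq_one_right hzz
  have hQcomm : ∀ a ∈ Q, ∀ c ∈ Q, a * c = c * a := fun a ha c hc => by
    have : IsCyclic Q := isCyclic_of_prime_card hQc
    let : CommGroup Q := IsCyclic.commGroup
    exact congrArg Subtype.val (mul_comm (⟨a, ha⟩ : Q) ⟨c, hc⟩)
  have hcompl : ∀ u ∈ Q, z * u * z = u⁻¹ := fun u hu => by
    have hzu : z * u * z ∈ Q := by
      have h := (Subgroup.mem_normalizer_iff.1 hzN u).1 hu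
      rwa [hzinv] at h
    by_contra hne
    have hw1 : u * (z * u * z) ≠ 1 := fun h => hne (eq_inv_of_mul_eq_one_right h)
    have hcomm : Commute (u * (z * u * z)) z := by
      change u * (z * u * z) * z = z * (u * (z * u * z))
      calc u * (z * u * z) * z = u * z * u * (z * z) := by simp only [mul_assoc]
        _ = u * z * u * 1 := by rw [hzz]
        _ = (u * (z * u * z)) * z := by rw [mul_one]; simp only [mul_assoc, hzz, mul_one]
        _ = ((z * u * z) * u) * z := by rw [hQcomm u hu _ hzu]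
        _ = _ := by simp only [mul_assoc]
    exact hzP (eq_one_of_commute hP hC (Q.mul_mem hu hzu) hw1 hcomm)
  -- the involutions of the normalizer
  have hidx : (Q.subgroupOf N).index = 2 := by
    have h := (Q.subgroupOf N).card_mul_index
    rw [Nat.card_congr (Subgroup.subgroupOfEquivOfLe Subgroup.le_normalizer).toEquiv, hQc, hNcard] at h
    exact Nat.eq_of_mul_eq_mul_left hp.pos h
  have hconjN : ∀ w ∈ N, w ∉ Q → IsConj w z := fun w hw hwQ => by
    have hmem : z⁻¹ * w ∈ Q := by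
      have h := (Subgroup.mul_mem_iff_of_index_two hidx (a := (⟨z, hzN⟩ : N)⁻¹) (b := ⟨w, hw⟩)).2
        (iff_of_false (fun h => hzP (by simpa [Subgroup.mem_subgroupOf] using h))
          (fun h => hwQ (by simpa [Subgroup.mem_subgroupOf] using h)))
      simpa [Subgroup.mem_subgroupOf] using h
    obtain ⟨a, -, ha⟩ := exists_conj_eq_mul hP hC hzN hzP hmem
    rw [mul_inv_cancel_left] at ha
    exact (isConj_iff.2 ⟨a, ha⟩).symm
  obtain ⟨x, hxQ, hx1⟩ : ∃ x ∈ Q, x ≠ 1 := by
    refine Subgroup.bot_or_exists_ne_one _ |>.resolve_left fun h => ?_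
    rw [h, Subgroup.card_bot] at hQc
    exact hp.ne_one hQc.symm
  have hcenx : Subgroup.centralizer ({x} : Set G) = Q := cen_eq hP hC hxQ hx1
  -- the block
  obtain ⟨hCFcard, hYcard, -, hYB, hdisj, hcover, hYdeg, -, hcol, hrel⟩ :=
    D.exc (by have := D.hte; omega)
  set one : IrrCharacter G := ⟨fun _ => 1, Char.isIrrCharacter_one⟩
  obtain ⟨χ₁, hχ₁⟩ : ∃ χ₁, CF.erase one = {χ₁} :=
    Finset.card_eq_one.1 (by rw [Finset.card_erase_of_mem D.one_mem, hCFcard])
  have hCFeq : CF = insert one {χ₁} := by rw [← hχ₁, Finset.insert_erase D.one_mem]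
  have hne : χ₁ ≠ one := (Finset.mem_erase.1 (by rw [hχ₁]; exact Finset.mem_singleton_self _)).1
  have hχ₁CF : χ₁ ∈ CF := by rw [hCFeq]; simp
  have hrel' : ∀ η ∈ YF, ∀ g : G, ¬ p ∣ orderOf g →
      (ε χ₁ : ℂ) * (χ₁ : G → ℂ) g = -(η : G → ℂ) g - 1 := fun η hη g hg => by
    have h := hrel η hη g hg
    rw [hCFeq, Finset.sum_insert (by simp [Ne.symm hne]), Finset.sum_singleton, D.eps_one] at h
    simp only [one, Int.cast_one, one_mul, Int.cast_neg] at h
    linear_combination h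
  have ht0 : 0 < YF.card := by have := D.t_pos; omega
  obtain ⟨η₀, hη₀⟩ := Finset.card_pos.1 ht0
  have hreg1 : ¬ p ∣ orderOf (1 : G) := by rw [orderOf_one]; exact hp.not_dvd_one
  set D₁ := charDegree (χ₁ : G → ℂ)
  obtain ⟨hε₁, hD₁⟩ : ε χ₁ = -1 ∧ D₁ = p - 1 := by
    have h := hrel' η₀ hη₀ 1 hreg1
    rw [← BlockB.irr_degree_cast χ₁, ← BlockB.irr_degree_cast η₀, hYdeg η₀ hη₀, hd₀] at h
    have h' : ε χ₁ * (D₁ : ℤ) = -((p - 2 : ℕ) : ℤ) - 1 := by exact_mod_cast h
    have hpos : 0 < D₁ := BlockB.irr_degree_pos χ₁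
    rcases D.eps_pm χ₁ hχ₁CF with he | he
    · rw [he, one_mul] at h'; omega
    · rw [he] at h'; exact ⟨he, by omega⟩
  -- values at involutions
  have hreal : ∀ (χ : IrrCharacter G) (g : G), g * g = 1 →
      (((χ : G → ℂ) g).re : ℂ) = (χ : G → ℂ) g := fun χ g hg => by
    refine Complex.conj_eq_iff_re.1 ?_
    rw [irr_conj_eq χ.2, inv_eq_of_mul_eq_one_right hg]
  have hinvreg : ∀ g : G, orderOf g = 2 → ¬ p ∣ orderOf g := fun g hg h => by
    rw [hg] at h; have := Nat.le_of_dvd (by omega) h; omega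
  have hnz : ∀ χ : IrrCharacter G, χ ∉ principalBlock M G → (χ : G → ℂ) x = 0 :=
    fun χ hχ => apply_eq_zero_of_not_principal hP hC hM χ hχ hxQ hx1
  set F : G → ℂ := fun g => ∑ χ : IrrCharacter G, (χ : G → ℂ) g * conj ((χ : G → ℂ) x) with hFdef
  have hF : ∀ g, F g = if IsConj g x then (p : ℂ) else 0 := fun g => by
    rw [hFdef]
    dsimp only
    rw [Char.column_orthogonality g x]
    split_ifs with hg
    · obtain ⟨c, hc⟩ := isConj_iff.1 hg
      have : Nat.card (Subgroup.centralizer ({g} : Set G)) = p := by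
        have h1 := Char.natCard_carrier_mul_centralizer g
        rw [ConjClasses.mk_eq_mk_iff_isConj.2 hg, ← Char.natCard_carrier_mul_centralizer x, hcenx, hQc] at h1
        exact Nat.eq_of_mul_eq_mul_left (by
          have : Nonempty (ConjClasses.mk x).carrier := ⟨⟨x, ConjClasses.mem_carrier_mk⟩⟩
          exact Nat.card_pos) h1
      rw [this]
    · rfl
  have key : ∀ s : G, orderOf s = 2 →
      (Nat.card G : ℝ) * ((p : ℝ) - 2 - ((η₀ : G → ℂ) s).re) ^ 2 =
      ((p : ℝ) - 1) * ((p : ℝ) - 2) * p *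
        ((Finset.univ.filter fun t : G => IsConj (s * (t * s * t⁻¹)) x).card : ℝ) := by
    intro s hs
    have hss : s * s = 1 := by rw [← sq, ← hs, pow_orderOf_eq_one]
    set a := ((η₀ : G → ℂ) s).re
    have ha : (η₀ : G → ℂ) s = (a : ℂ) := (hreal η₀ s hss).symm
    have hY : ∀ η ∈ YF, (η : G → ℂ) s = (a : ℂ) := fun η hη => by
      have h1 := hrel' η hη s (hinvreg s hs)
      have h2 := hrel' η₀ hη₀ s (hinvreg s hs)
      rw [← ha]
      linear_combination h1 - h2
    have hc1 : (χ₁ : G → ℂ) s = (a : ℂ) + 1 := by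
      have h := hrel' η₀ hη₀ s (hinvreg s hs)
      rw [hε₁, ha] at h
      push_cast at h
      linear_combination -h
    have hsum : ∑ t : G, F (s * (t * s * t⁻¹)) = (Nat.card G : ℂ) *
        (1 - ((a : ℂ) + 1) ^ 2 / ((p : ℂ) - 1) + (a : ℂ) ^ 2 / ((p : ℂ) - 2)) := by
      simp only [hFdef]
      rw [Finset.sum_comm]
      simp only [← Finset.sum_mul]
      rw [Finset.sum_congr rfl fun χ _ => by rw [BlockB.sum_irr_mul_conj],
        ← Finset.sum_subset (Finset.subset_univ (CF ∪ YF)) fun χ _ hχ => ?_,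
        Finset.sum_union hdisj, hCFeq, Finset.sum_insert (by simp [Ne.symm hne]), Finset.sum_singleton,
        Finset.sum_congr rfl (g := fun η : IrrCharacter G =>
          (Nat.card G : ℂ) * ((a : ℂ) ^ 2 / ((p : ℂ) - 2)) * conj ((η : G → ℂ) x)) fun η hη => ?_,
        ← Finset.mul_sum, ← map_sum, hcol x hxQ hx1, hc1, D.CF_val χ₁ hχ₁CF x hxQ hx1, hε₁,
        ← BlockB.irr_degree_cast χ₁, show charDegree (χ₁ : G → ℂ) = D₁ from rfl, hD₁,
        Nat.cast_sub (by omega)]
      · simp only [one, mul_one, div_one, map_one, Int.cast_neg, Int.cast_one, map_neg, Nat.cast_one,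
          neg_neg, map_intCast]
        ring
      · rw [hY η hη, ← BlockB.irr_degree_cast η, hYdeg η hη, hd₀, Nat.cast_sub (by omega)]
        push_cast
        ring
      · rw [hnz χ fun hB => hχ (Finset.mem_union.2 (hcover χ hB)), map_zero, mul_zero]
    simp only [hF] at hsum
    rw [Finset.sum_ite, Finset.sum_const, Finset.sum_const_zero, add_zero, nsmul_eq_mul] at hsum
    have hp' : (5 : ℝ) ≤ p := by exact_mod_cast hp5
    have hr : ((Finset.univ.filter fun t : G => IsConj (s * (t * s * t⁻¹)) x).card : ℝ) * p =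
        (Nat.card G : ℝ) * (1 - (a + 1) ^ 2 / ((p : ℝ) - 1) + a ^ 2 / ((p : ℝ) - 2)) := by
      apply Complex.ofReal_injective
      push_cast
      exact hsum
    have e1 : (p : ℝ) - 1 ≠ 0 := by linarith
    have e2 : (p : ℝ) - 2 ≠ 0 := by linarith
    calc (Nat.card G : ℝ) * ((p : ℝ) - 2 - a) ^ 2
        = ((p : ℝ) - 1) * ((p : ℝ) - 2) *
            ((Nat.card G : ℝ) * (1 - (a + 1) ^ 2 / ((p : ℝ) - 1) + a ^ 2 / ((p : ℝ) - 2))) := by
          field_simp; ring
      _ = _ := by rw [← hr]; ring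
  -- all involutions are conjugate to z
  have hallconj : ∀ s : G, orderOf s = 2 → IsConj s z := fun s hs => by
    by_contra hnc
    have hss : s * s = 1 := by rw [← sq, ← hs, pow_orderOf_eq_one]
    have hempty : (Finset.univ.filter fun t : G => IsConj (s * (t * s * t⁻¹)) x) = ∅ := by
      refine Finset.filter_eq_empty_iff.2 fun t _ ht => hnc ?_
      obtain ⟨c, hc⟩ := isConj_iff.1 ht
      set s1 := c * s * c⁻¹ with hs1
      set s2 := c * (t * s * t⁻¹) * c⁻¹ with hs2
      have hmul : s1 * s2 = x := by rw [← hc, hs1, hs2]; group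
      have h11 : s1 * s1 = 1 := by
        rw [hs1, show c * s * c⁻¹ * (c * s * c⁻¹) = c * (s * s) * c⁻¹ by group, hss]; group
      have h22 : s2 * s2 = 1 := by
        rw [hs2, show c * (t * s * t⁻¹) * c⁻¹ * (c * (t * s * t⁻¹) * c⁻¹) = c * t * (s * s) * t⁻¹ * c⁻¹ by group,
          hss]; group
      have hinv : s1 * x * s1 = x⁻¹ := by
        rw [← hmul, mul_inv_rev, inv_eq_of_mul_eq_one_right h11, inv_eq_of_mul_eq_one_right h22,
          show s1 * (s1 * s2) * s1 = (s1 * s1) * (s2 * s1) by simp only [mul_assoc], h11, one_mul]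
      have hgen : Subgroup.zpowers x = Q :=
        Subgroup.eq_of_le_of_card_ge (Subgroup.zpowers_le.2 hxQ) (by
          rcases hp.eq_one_or_self_of_dvd _ ((Subgroup.card_dvd_of_le (Subgroup.zpowers_le.2 hxQ)).trans
            (dvd_of_eq hQc)) with h | h
          · rw [Nat.card_zpowers, orderOf_eq_one_iff] at h; exact absurd h hx1
          · rw [h, hQc])
      have hs1inv : s1⁻¹ = s1 := inv_eq_of_mul_eq_one_right h11
      have hsN : s1 ∈ N := by
        have hfwd : ∀ u ∈ Q, s1 * u * s1⁻¹ ∈ Q := fun u hu => by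
          rw [← hgen] at hu ⊢
          obtain ⟨i, rfl⟩ := Subgroup.mem_zpowers_iff.1 hu
          rw [← conj_zpow, hs1inv, hinv]
          exact Subgroup.zpow_mem _ (Subgroup.inv_mem _ (Subgroup.mem_zpowers x)) i
        refine Subgroup.mem_normalizer_iff.2 fun u => ⟨hfwd u, fun hu => ?_⟩
        have h2 := hfwd _ hu
        rwa [show s1 * (s1 * u * s1⁻¹) * s1⁻¹ = (s1 * s1) * u * (s1 * s1)⁻¹ by group, h11, one_mul,
          inv_one, mul_one] at h2
      have ho1 : orderOf s1 = 2 := by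
        rw [hs1, ← MulAut.conj_apply, MulEquiv.orderOf_eq, hs]
      exact (isConj_iff.2 ⟨c, hs1.symm⟩).trans (hconjN s1 hsN fun h => hQ2 s1 h ho1)
    have h := key s hs
    rw [hempty, Finset.card_empty, Nat.cast_zero, mul_zero, mul_eq_zero,
      or_iff_right (Nat.cast_ne_zero.2 Nat.card_pos.ne'), sq_eq_zero_iff, sub_eq_zero] at h
    have hval : (η₀ : G → ℂ) s = (η₀ : G → ℂ) 1 := by
      rw [← hreal η₀ s hss, ← h, ← BlockB.irr_degree_cast η₀, hYdeg η₀ hη₀, hd₀, Nat.cast_sub (by omega)]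
      push_cast; ring
    obtain ⟨m, ρ, hρ, hρη⟩ := η₀.2
    have hsk : s ∈ (MonoidHom.ker ρ : Subgroup G) := by rw [Char.mem_ker_iff_char, hρη]; exact hval
    rcases (inferInstance : (MonoidHom.ker ρ : Subgroup G).Normal).eq_bot_or_eq_top with hk | hk
    · rw [hk, Subgroup.mem_bot] at hsk
      rw [hsk, orderOf_one] at hs; omega
    · have hxk : x ∈ (MonoidHom.ker ρ : Subgroup G) := hk ▸ Subgroup.mem_top x
      rw [Char.mem_ker_iff_char, hρη] at hxk
      have hall : ∀ η ∈ YF, (η : G → ℂ) 1 = ((p - 2 : ℕ) : ℂ) := fun η hη => by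
        rw [← BlockB.irr_degree_cast η, hYdeg η hη, hd₀]
      have h1 : ∀ u : G, (η₀ : G → ℂ) u = (η₀ : G → ℂ) 1 := fun u => by
        have : u ∈ (MonoidHom.ker ρ : Subgroup G) := hk ▸ Subgroup.mem_top u
        rwa [Char.mem_ker_iff_char, hρη] at this
      have hn := sum_norm_sq_irr η₀.2
      simp only [h1, hall η₀ hη₀, Complex.norm_natCast, Finset.sum_const, Finset.card_univ,
        nsmul_eq_mul, ← Nat.card_eq_fintype_card] at hn
      have h2 : ((p - 2 : ℕ) : ℝ) ^ 2 = 1 := (mul_eq_left₀ (Nat.cast_ne_zero.2 Nat.card_pos.ne')).1 hn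
      have h3 : (p - 2) ^ 2 = 1 := by exact_mod_cast h2
      have : 3 ^ 2 ≤ (p - 2) ^ 2 := Nat.pow_le_pow_left (by omega) 2
      omega
  -- centralizer of z
  set C := Subgroup.centralizer ({z} : Set G)
  obtain ⟨h', hh'⟩ := isConj_iff.1 (hallconj (z * x) (by
    refine orderOf_eq_prime ?_ fun h => hzP ?_
    · rw [sq, show z * x * (z * x) = z * x * z * x by simp only [mul_assoc], hcompl x hxQ, inv_mul_cancel]
    · rw [← mul_eq_one_iff_eq_inv.1 h |>.symm] at *
      exact (mul_eq_one_iff_eq_inv.1 h) ▸ Q.inv_mem hxQ)).symm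
  have hCx : ∀ c ∈ C, Commute c x → c = 1 := fun c hc hcx => by
    have hcQ : c ∈ Q := eq_one_of_commute hP hC hxQ hx1 hcx.symm
    by_contra hc1
    exact hzP (eq_one_of_commute hP hC hcQ hc1 (Subgroup.mem_centralizer_singleton_iff.1 hc))
  have hS : Nat.card C * Nat.card C ≤
      (Finset.univ.filter fun t : G => IsConj (z * (t * z * t⁻¹)) x).card := by
    rw [← Nat.card_prod, Nat.card_eq_fintype_card, ← Finset.card_univ]
    refine Finset.card_le_card_of_injOn (fun cc => (cc.1 : G) * h' * (cc.2 : G)) ?_ ?_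
    · rintro ⟨⟨c, hc⟩, ⟨c', hc'⟩⟩ -
      simp only [Finset.mem_coe, Finset.mem_filter, Finset.mem_univ, true_and]
      have e1 : c' * z * c'⁻¹ = z := by
        rw [Subgroup.mem_centralizer_singleton_iff.1 hc', mul_inv_cancel_right]
      refine (isConj_iff.2 ⟨c, ?_⟩).symm
      have e2 : c * z = z * c := Subgroup.mem_centralizer_singleton_iff.1 hc
      calc c * x * c⁻¹ = c * z * (z * x) * c⁻¹ := by
            simp only [← mul_assoc]; rw [mul_assoc c z z, hzz, mul_one]
        _ = z * (c * (h' * z * h'⁻¹) * c⁻¹) := by rw [e2, hh']; simp only [mul_assoc]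
        _ = z * (c * (h' * (c' * z * c'⁻¹) * h'⁻¹) * c⁻¹) := by rw [e1]
        _ = _ := by group
    · rintro ⟨⟨c1, hc1⟩, ⟨c2, hc2⟩⟩ - ⟨⟨d1, hd1⟩, ⟨d2, hd2⟩⟩ - he
      simp only at he
      set c := d1⁻¹ * c1 with hcdef
      have hcC : c ∈ C := C.mul_mem (C.inv_mem hd1) hc1
      have hconj : h'⁻¹ * c * h' ∈ C := by
        have : h'⁻¹ * c * h' = d2 * c2⁻¹ := by
          rw [hcdef]
          calc h'⁻¹ * (d1⁻¹ * c1) * h' = h'⁻¹ * d1⁻¹ * (c1 * h' * c2) * c2⁻¹ := by group
            _ = _ := by rw [he]; group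
        rw [this]; exact C.mul_mem hd2 (C.inv_mem hc2)
      have hcz : Commute c z := Subgroup.mem_centralizer_singleton_iff.1 hcC
      have hczx : Commute c (z * x) := by
        rw [← hh']
        have h2 : Commute (h'⁻¹ * c * h') z := Subgroup.mem_centralizer_singleton_iff.1 hconj
        change c * (h' * z * h'⁻¹) = h' * z * h'⁻¹ * c
        calc c * (h' * z * h'⁻¹) = h' * (h'⁻¹ * c * h' * z) * h'⁻¹ := by group
          _ = _ := by rw [h2.eq]; group
      have hcx : Commute c x := by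
        have h3 := hcz.inv_right.mul_right hczx
        rwa [inv_mul_cancel_left] at h3
      have hc1' := hCx c hcC hcx
      have e1 : c1 = d1 := by
        rw [hcdef, inv_mul_eq_one] at hc1'; exact hc1'.symm
      subst e1
      exact Prod.ext rfl (Subtype.ext (mul_left_cancel he))
  -- the 2-part
  obtain ⟨T⟩ := (inferInstance : Nonempty (Sylow 2 G))
  have h2G : 2 ∣ Nat.card G := h2N.trans (Subgroup.card_subgroup_dvd_card N)
  have hTb : Nat.card (T : Subgroup G) = 2 ^ b := by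
    have hnd : ¬ 2 ∣ p * (p - 2) := fun h => by
      rcases (Nat.Prime.dvd_mul Nat.prime_two).1 h with h | h <;> omega
    refine (T.card_eq_multiplicity).trans (congrArg (2 ^ ·) ?_)
    rw [hb, show p * 2 ^ b * (p - 2) = 2 ^ b * (p * (p - 2)) by ring,
      Nat.factorization_mul (by positivity) (Nat.mul_ne_zero hp.ne_zero (by omega)), Finsupp.add_apply,
      Nat.factorization_eq_zero_of_not_dvd hnd, add_zero, Nat.prime_two.factorization_pow, Finsupp.single_eq_same]
  have hTne : (T : Subgroup G) ≠ ⊥ := fun h => by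
    have := T.dvd_card_of_dvd_card h2G
    rw [h, Subgroup.card_bot] at this
    omega
  haveI : Nontrivial (T : Subgroup G) := (Subgroup.nontrivial_iff_ne_bot _).2 hTne
  haveI := T.isPGroup'.center_nontrivial
  obtain ⟨k, hk0, hk⟩ := ((T.isPGroup'.to_subgroup (Subgroup.center (T : Subgroup G))).nontrivial_iff_card).1 inferInstance
  obtain ⟨⟨⟨s, hsT⟩, hscen⟩, hso⟩ := exists_prime_orderOf_dvd_card' (G := Subgroup.center (T : Subgroup G)) 2
    (by rw [hk]; exact dvd_pow_self 2 hk0.ne')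
  rw [Subgroup.orderOf_mk, Subgroup.orderOf_mk] at hso
  obtain ⟨c, hc⟩ := isConj_iff.1 (hallconj s hso)
  have hTC : 2 ^ b ≤ Nat.card C := by
    rw [← hTb]
    refine Nat.card_le_card_of_injective
      (fun u : (T : Subgroup G) => (⟨c * (u : G) * c⁻¹, ?_⟩ : C)) fun u v huv => ?_
    · rw [Subgroup.mem_centralizer_singleton_iff, ← hc]
      have hcomm : (u : G) * s = s * (u : G) :=
        congrArg Subtype.val (Subgroup.mem_center_iff.1 hscen u)
      calc c * (u : G) * c⁻¹ * (c * s * c⁻¹) = c * ((u : G) * s) * c⁻¹ := by group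
        _ = _ := by rw [hcomm]; group
    · exact Subtype.ext (mul_left_cancel (mul_right_cancel (congrArg Subtype.val huv)))
  -- the estimate
  set a := ((η₀ : G → ℂ) z).re
  have hlow : ((p : ℝ) - 1) / 2 * a ^ 2 ≤ (Nat.card C : ℝ) := by
    have hcolz := Char.column_orthogonality z z
    rw [if_pos (IsConj.refl z)] at hcolz
    have h1 := congrArg Complex.re hcolz
    simp only [Complex.re_sum, Complex.mul_conj, Complex.ofReal_re, Complex.natCast_re] at h1
    have hY : ∀ η ∈ YF, Complex.normSq ((η : G → ℂ) z) = a ^ 2 := fun η hη => by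
      have e1 := hrel' η hη z (hinvreg z hz)
      have e2 := hrel' η₀ hη₀ z (hinvreg z hz)
      have e3 : (η : G → ℂ) z = (a : ℂ) := by rw [hreal η₀ z hzz]; linear_combination e1 - e2
      rw [e3, Complex.normSq_ofReal, sq]
    have h2 : ∑ η ∈ YF, Complex.normSq ((η : G → ℂ) z) ≤ (Nat.card C : ℝ) := h1 ▸
      Finset.sum_le_sum_of_subset_of_nonneg (Finset.subset_univ _) fun _ _ _ => Complex.normSq_nonneg _
    rw [Finset.sum_congr rfl hY, Finset.sum_const, nsmul_eq_mul, hYcard] at h2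
    have ht : (t : ℝ) * 2 + 1 = p := by exact_mod_cast D.hte
    rw [← ht]; linarith
  have hp' : (5 : ℝ) ≤ p := by exact_mod_cast hp5
  set K : ℝ := ((2 ^ b * (p - 2) : ℕ) : ℝ) with hKdef
  have hG : (Nat.card G : ℝ) = p * K := by
    rw [hKdef, hb, mul_assoc, Nat.cast_mul]
  have hfC : K ≤ (Nat.card C : ℝ) * ((p : ℝ) - 1 - 1) := by
    rw [show (p : ℝ) - 1 - 1 = ((p - 2 : ℕ) : ℝ) by rw [Nat.cast_sub (by omega)]; push_cast; ring, hKdef,
      ← Nat.cast_mul]
    exact_mod_cast Nat.mul_le_mul_right _ hTC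
  have heq : (Nat.card C : ℝ) ^ 2 * ((p : ℝ) - 1) * ((p : ℝ) - 1 - 1) ≤
      K * ((p : ℝ) - 1 - 1 - a) ^ 2 := by
    have h := key z hz
    rw [hG] at h
    have hS' : (Nat.card C : ℝ) ^ 2 ≤
        ((Finset.univ.filter fun t : G => IsConj (z * (t * z * t⁻¹)) x).card : ℝ) := by
      rw [sq]; exact_mod_cast hS
    have h' : K * ((p : ℝ) - 1 - 1 - a) ^ 2 = ((p : ℝ) - 1) * ((p : ℝ) - 1 - 1) *
        ((Finset.univ.filter fun t : G => IsConj (z * (t * z * t⁻¹)) x).card : ℝ) := by
      refine mul_left_cancel₀ (by linarith : (p : ℝ) ≠ 0) ?_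
      linear_combination h
    rw [h', mul_assoc, mul_comm]
    exact mul_le_mul_of_nonneg_left hS' (by nlinarith)
  have hK0 : 0 < K := by
    rw [hKdef]; exact_mod_cast Nat.mul_pos (Nat.two_pow_pos b) (by omega)
  have hbound := involution_bound (by linarith) (Nat.cast_pos.2 Nat.card_pos) hK0 hlow hfC heq
  have hfinal : (Nat.card G : ℝ) < (p : ℝ) ^ 3 := by
    rw [hG]
    calc (p : ℝ) * K < p * (((p : ℝ) - 1 - 1) * ((p : ℝ) - 1 + 3)) :=
          mul_lt_mul_of_pos_left hbound (by linarith)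
      _ ≤ _ := by nlinarith
  exact_mod_cast hfinal

end CfsgLib.Block.BrauerTuan
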