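import Cfsg.Agent.Lib.Block.BTSquare

/-!
A simple group with self-centralizing Sylow subgroup of order `p`, dihedral normalizer and principal
block characters of degree `p - 2` has order at most `p (p - 1) (p - 2)`.
-/

set_option autoImplicit false
set_option linter.unusedSectionVars false

namespace CfsgLib.Block.BrauerTuan

open Cfsg CfsgLib CfsgLib.Block CfsgLib.Block.BrauerReynolds
open scoped ComplexConjugate

universe u

variable {G : Type u} [Group G] [Finite G] {p : ℕ} [hpf : Fact p.Prime]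

/-- The order bound. -/
theorem natCard_le_of_e_two [IsSimpleGroup G] (hperf : commutator G = ⊤) (hp5 : 5 ≤ p)
    {M : Ideal AlgInt} (hM : IsPModular p M) (P : Sylow p G) (hP : Nat.card P = p)
    (hC : Subgroup.centralizer ((P : Subgroup G) : Set G) = (P : Subgroup G))
    {t d₀ : ℕ} {CF YF : Finset (IrrCharacter G)} {ε : IrrCharacter G → ℤ}
    (D : RowData M P 2 t d₀ (-1) CF YF ε) (hd₀ : d₀ = p - 2) :
    Nat.card G ≤ p * (p - 1) * (p - 2) := by
  classical
  have := isPrime_of_pmodular hM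
  have := Fintype.ofFinite G
  have := Fintype.ofFinite (IrrCharacter G)
  have hp := hpf.out
  have hte := D.hte
  have hpodd : p % 2 = 1 := (Nat.Prime.eq_two_or_odd hp).resolve_left (by omega)
  set Q := (P : Subgroup G)
  set N := Subgroup.normalizer (Q : Set G)
  have hQc : Nat.card Q = p := hP
  have hNcard : Nat.card N = p * 2 := by
    have h := D.e_eq
    rw [hC] at h
    rw [← (Q.subgroupOf N).card_mul_index, Nat.card_congr (Subgroup.subgroupOfEquivOfLe Subgroup.le_normalizer).toEquiv,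
      hQc]
    exact congrArg (p * ·) h
  obtain ⟨z, hz, hzN, hallconj⟩ := isConj_involution_of_e_two hperf hp5 hM P hP hC D
  have hQ2 : ∀ u ∈ Q, orderOf u ≠ 2 := fun u hu h2 => by
    have h := orderOf_dvd_natCard (⟨u, hu⟩ : Q)
    rw [Subgroup.orderOf_mk, h2, hQc] at h
    omega
  have hzP : z ∉ Q := fun h => hQ2 z h hz
  have hz1 : z ≠ 1 := fun h => by rw [h, orderOf_one] at hz; omega
  have hzz : z * z = 1 := by rw [← sq, ← hz, pow_orderOf_eq_one]
  have hzinv : z⁻¹ = z := inv_eq_of_mul_eq_one_right hzz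
  have hQcomm : ∀ a ∈ Q, ∀ c ∈ Q, a * c = c * a := fun a ha c hc => by
    have : IsCyclic Q := isCyclic_of_prime_card hQc
    let : CommGroup Q := IsCyclic.commGroup
    exact congrArg Subtype.val (mul_comm (⟨a, ha⟩ : Q) ⟨c, hc⟩)
  have hcompl : ∀ u ∈ Q, z * u * z = u⁻¹ := fun u hu => by
    have hzu : z * u * z ∈ Q := by
      have h := (Subgroup.mem_normalizer_iff.1 hzN u).1 hu
      rwa [hzinv] at h
    by_contra hne
    have hw1 : u * (z * u * z) ≠ 1 := fun h => hne (eq_inv_of_mul_eq_one_right h)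
    have hcomm : Commute (u * (z * u * z)) z := by
      change u * (z * u * z) * z = z * (u * (z * u * z))
      calc u * (z * u * z) * z = u * z * u * (z * z) := by simp only [mul_assoc]
        _ = u * z * u * 1 := by rw [hzz]
        _ = (u * (z * u * z)) * z := by rw [mul_one]; simp only [mul_assoc, hzz, mul_one]
        _ = ((z * u * z) * u) * z := by rw [hQcomm u hu _ hzu]
        _ = _ := by simp only [mul_assoc]
    exact hzP (eq_one_of_commute hP hC (Q.mul_mem hu hzu) hw1 hcomm)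
  have hidx : (Q.subgroupOf N).index = 2 := by
    have h := (Q.subgroupOf N).card_mul_index
    rw [Nat.card_congr (Subgroup.subgroupOfEquivOfLe Subgroup.le_normalizer).toEquiv, hQc, hNcard] at h
    exact Nat.eq_of_mul_eq_mul_left hp.pos h
  have hconjN : ∀ w ∈ N, w ∉ Q → ∃ a ∈ Q, a * z * a⁻¹ = w := fun w hw hwQ => by
    have hmem : z⁻¹ * w ∈ Q := by
      have h := (Subgroup.mul_mem_iff_of_index_two hidx (a := (⟨z, hzN⟩ : N)⁻¹) (b := ⟨w, hw⟩)).2
        (iff_of_false (fun h => hzP (by simpa [Subgroup.mem_subgroupOf] using h))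
          (fun h => hwQ (by simpa [Subgroup.mem_subgroupOf] using h)))
      simpa [Subgroup.mem_subgroupOf] using h
    obtain ⟨a, haQ, ha⟩ := exists_conj_eq_mul hP hC hzN hzP hmem
    rw [mul_inv_cancel_left] at ha
    exact ⟨a, haQ, ha⟩
  obtain ⟨x, hxQ, hx1⟩ : ∃ x ∈ Q, x ≠ 1 := by
    refine Subgroup.bot_or_exists_ne_one _ |>.resolve_left fun h => ?_
    rw [h, Subgroup.card_bot] at hQc
    exact hp.ne_one hQc.symm
  have hxo : orderOf x = p := by
    have h1 := orderOf_dvd_natCard (⟨x, hxQ⟩ : Q)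
    rw [Subgroup.orderOf_mk, hQc] at h1
    exact (hp.eq_one_or_self_of_dvd _ h1).resolve_left fun h => hx1 (orderOf_eq_one_iff.1 h)
  have hcenx : Subgroup.centralizer ({x} : Set G) = Q := cen_eq hP hC hxQ hx1
  -- the block
  obtain ⟨-, hYcard, -, -, hdisj, hcover, hYdeg, -, hcol, -⟩ := D.exc (by omega)
  obtain ⟨χ₁, hne, hχ₁CF, hall, hdeg, hval, hrel⟩ := exists_row_two hp5 D hd₀
  set one : IrrCharacter G := ⟨fun _ => 1, Char.isIrrCharacter_one⟩ with hone
  have honeY : one ∉ YF := Finset.disjoint_left.1 hdisj D.one_mem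
  have hχ₁Y : χ₁ ∉ YF := Finset.disjoint_left.1 hdisj hχ₁CF
  have ht0 : 0 < YF.card := by rw [hYcard]; exact D.t_pos
  obtain ⟨η₀, hη₀⟩ := Finset.card_pos.1 ht0
  have hdegv : ∀ η ∈ YF, (η : G → ℂ) 1 = ((p - 2 : ℕ) : ℂ) := fun η hη => by
    rw [← BlockB.irr_degree_cast η, hYdeg η hη, hd₀]
  have hreal := fun η (hη : η ∈ YF) u => conj_exceptional hperf hp5 hM hP hC D hd₀ (η := η) hη u
  have hsqv := fun u (hu : ¬ p ∣ orderOf u) => sq_apply_exceptional hperf hp5 hM hP hC D hd₀ hη₀ (g := u) hu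
  have hint : ∀ u, ¬ p ∣ orderOf u → ∃ k : ℤ, (η₀ : G → ℂ) u = k := fun u hu => by
    obtain ⟨k, hk⟩ := exists_int_row hp5 hM hP hC D hd₀ hall hdeg hval u
    exact ⟨k - 1, by rw [hrel η₀ hη₀ u hu, hk]; push_cast; ring⟩
  have hle : ∀ (u : G) (k : ℤ), (η₀ : G → ℂ) u = k → k ≤ (p : ℤ) - 2 ∧ (k = (p : ℤ) - 2 → u = 1) :=
    fun u k hk => by
    have h := norm_char_le_degree (Char.irr_isCharacter η₀.2) u
    rw [hk, Complex.norm_intCast, hYdeg η₀ hη₀, hd₀] at h
    refine ⟨?_, fun he => eq_one_of_apply_eq_degree η₀.2 (by rw [hYdeg η₀ hη₀]; omega)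
      (by rw [hk, hdegv η₀ hη₀, he, Nat.cast_sub (show 2 ≤ p by omega)]; push_cast; ring)⟩
    have h2 : |(k : ℝ)| ≤ ((p - 2 : ℕ) : ℝ) := h
    have h3 := (abs_le.1 h2).2
    rw [Nat.cast_sub (by omega)] at h3
    have : (k : ℝ) ≤ ((p : ℤ) - 2 : ℤ) := by push_cast; exact h3
    exact_mod_cast this
  have hzreg : ¬ p ∣ orderOf z := fun h => by rw [hz] at h; have := Nat.le_of_dvd (by omega) h; omega
  have hYz : ∀ η ∈ YF, (η : G → ℂ) z = -1 := by
    obtain ⟨k, hk⟩ := hint z hzreg
    have h := hsqv z hzreg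
    rw [hzz, hdegv η₀ hη₀, hk, Nat.cast_sub (show 2 ≤ p by omega)] at h
    have h' : (k + 1) * (k - ((p : ℤ) - 2)) = 0 := by
      have h'' : (k : ℂ) ^ 2 - ((p : ℂ) - (2 : ℕ)) = ((p : ℂ) - 3) * (k : ℂ) := h
      have : ((((k + 1) * (k - ((p : ℤ) - 2)) : ℤ)) : ℂ) = 0 := by
        push_cast at h'' ⊢
        linear_combination h''
      exact_mod_cast this
    intro η hη
    rcases mul_eq_zero.1 h' with h1 | h1
    · rw [hrel η hη z hzreg, ← hrel η₀ hη₀ z hzreg, hk, show k = -1 by omega]; norm_num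
    · exact absurd ((hle z k hk).2 (by omega)) hz1
  have hc1z : (χ₁ : G → ℂ) z = 0 := by
    have h := hrel η₀ hη₀ z hzreg
    rw [hYz η₀ hη₀] at h
    linear_combination -h
  -- class multiplication
  set S := (Finset.univ.filter fun t : G => IsConj (z * (t * z * t⁻¹)) x).card
  have hSeq : Nat.card G * (p - 1) = p * (p - 2) * S := by
    set F : G → ℂ := fun g => ∑ χ : IrrCharacter G, (χ : G → ℂ) g * conj ((χ : G → ℂ) x) with hFdef
    have hF : ∀ g, F g = if IsConj g x then (p : ℂ) else 0 := fun g => by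
      rw [hFdef]
      dsimp only
      rw [Char.column_orthogonality g x]
      split_ifs with hg
      · obtain ⟨c, hc⟩ := isConj_iff.1 hg
        have : Nat.card (Subgroup.centralizer ({g} : Set G)) = p := by
          have h1 := Char.natCard_carrier_mul_centralizer g
          rw [ConjClasses.mk_eq_mk_iff_isConj.2 hg, ← Char.natCard_carrier_mul_centralizer x, hcenx, hQc] at h1
          exact Nat.eq_of_mul_eq_mul_left (by
            have : Nonempty (ConjClasses.mk x).carrier := ⟨⟨x, ConjClasses.mem_carrier_mk⟩⟩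
            exact Nat.card_pos) h1
        rw [this]
      · rfl
    have hsum : ∑ t : G, F (z * (t * z * t⁻¹)) = (Nat.card G : ℂ) * (1 + 1 / ((p - 2 : ℕ) : ℂ)) := by
      simp only [hFdef]
      rw [Finset.sum_comm]
      simp only [← Finset.sum_mul]
      rw [Finset.sum_congr rfl fun χ _ => by rw [BlockB.sum_irr_mul_conj],
        ← Finset.sum_subset (Finset.subset_univ ({one, χ₁} ∪ YF)) fun χ _ hχ => ?_,
        Finset.sum_union (by simp [Finset.disjoint_left, honeY, hχ₁Y]),
        Finset.sum_insert (by simp [Ne.symm hne]), Finset.sum_singleton, hc1z,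
        Finset.sum_congr rfl (g := fun η : IrrCharacter G =>
          (Nat.card G : ℂ) * (1 / ((p - 2 : ℕ) : ℂ)) * conj ((η : G → ℂ) x)) fun η hη => ?_,
        ← Finset.mul_sum, ← map_sum, hcol x hxQ hx1]
      · simp [hone]; ring
      · rw [hYz η hη, hdegv η hη]; ring
      · rw [apply_eq_zero_of_not_principal hP hC hM χ (fun hB => hχ ?_) hxQ hx1, map_zero, mul_zero]
        rcases hcover χ hB with h | h
        · rcases hall χ h with h | h <;> simp [h, hone]
        · exact Finset.mem_union_right _ h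
    simp only [hF] at hsum
    rw [Finset.sum_ite, Finset.sum_const, Finset.sum_const_zero, add_zero, nsmul_eq_mul] at hsum
    have e2 : ((p - 2 : ℕ) : ℂ) ≠ 0 := Nat.cast_ne_zero.2 (by omega)
    field_simp at hsum
    have : ((Nat.card G * (p - 1) : ℕ) : ℂ) = ((p * (p - 2) * S : ℕ) : ℂ) := by
      rw [show p - 1 = p - 2 + 1 by omega]
      push_cast
      linear_combination -hsum
    exact_mod_cast this
  set C := Subgroup.centralizer ({z} : Set G)
  obtain ⟨h', hh'⟩ := isConj_iff.1 (hallconj (z * x) (by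
    refine orderOf_eq_prime ?_ fun h => hzP ?_
    · rw [sq, show z * x * (z * x) = z * x * z * x by simp only [mul_assoc], hcompl x hxQ, inv_mul_cancel]
    · rw [← mul_eq_one_iff_eq_inv.1 h |>.symm] at *
      exact (mul_eq_one_iff_eq_inv.1 h) ▸ Q.inv_mem hxQ)).symm
  have hS : Nat.card C * Nat.card C ≤ S := by
    rw [← Nat.card_prod, Nat.card_eq_fintype_card, ← Finset.card_univ]
    refine Finset.card_le_card_of_injOn (fun cc => (cc.1 : G) * h' * (cc.2 : G)) ?_ ?_
    · rintro ⟨⟨c, hc⟩, ⟨c', hc'⟩⟩ -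
      simp only [Finset.mem_coe, Finset.mem_filter, Finset.mem_univ, true_and]
      have e1 : c' * z * c'⁻¹ = z := by
        rw [Subgroup.mem_centralizer_singleton_iff.1 hc', mul_inv_cancel_right]
      refine (isConj_iff.2 ⟨c, ?_⟩).symm
      have e2 : c * z = z * c := Subgroup.mem_centralizer_singleton_iff.1 hc
      calc c * x * c⁻¹ = c * z * (z * x) * c⁻¹ := by
            simp only [← mul_assoc]; rw [mul_assoc c z z, hzz, mul_one]
        _ = z * (c * (h' * z * h'⁻¹) * c⁻¹) := by rw [e2, hh']; simp only [mul_assoc]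
        _ = z * (c * (h' * (c' * z * c'⁻¹) * h'⁻¹) * c⁻¹) := by rw [e1]
        _ = _ := by group
    · rintro ⟨⟨c1, hc1⟩, ⟨c2, hc2⟩⟩ - ⟨⟨d1, hd1⟩, ⟨d2, hd2⟩⟩ - he
      simp only at he
      set c := d1⁻¹ * c1 with hcdef
      have hcC : c ∈ C := C.mul_mem (C.inv_mem hd1) hc1
      have hconj : h'⁻¹ * c * h' ∈ C := by
        have : h'⁻¹ * c * h' = d2 * c2⁻¹ := by
          rw [hcdef]
          calc h'⁻¹ * (d1⁻¹ * c1) * h' = h'⁻¹ * d1⁻¹ * (c1 * h' * c2) * c2⁻¹ := by group
            _ = _ := by rw [he]; group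
        rw [this]; exact C.mul_mem hd2 (C.inv_mem hc2)
      have hcz : Commute c z := Subgroup.mem_centralizer_singleton_iff.1 hcC
      have hczx : Commute c (z * x) := by
        rw [← hh']
        have h2 : Commute (h'⁻¹ * c * h') z := Subgroup.mem_centralizer_singleton_iff.1 hconj
        change c * (h' * z * h'⁻¹) = h' * z * h'⁻¹ * c
        calc c * (h' * z * h'⁻¹) = h' * (h'⁻¹ * c * h' * z) * h'⁻¹ := by group
          _ = _ := by rw [h2.eq]; group
      have hcx : Commute c x := by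
        have h3 := hcz.inv_right.mul_right hczx
        rwa [inv_mul_cancel_left] at h3
      have hc1' : c = 1 := by
        have hcQ : c ∈ Q := eq_one_of_commute hP hC hxQ hx1 hcx.symm
        by_contra hc
        exact hzP (eq_one_of_commute hP hC hcQ hc hcz)
      have e1 : c1 = d1 := by
        rw [hcdef, inv_mul_eq_one] at hc1'; exact hc1'.symm
      subst e1
      exact Prod.ext rfl (Subtype.ext (mul_left_cancel he))
  have hS' : S ≤ Nat.card C * Nat.card C := by
    rw [← Nat.card_prod, Nat.card_eq_fintype_card, ← Finset.card_univ]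
    refine le_trans (Finset.card_le_card fun t ht => Finset.mem_image.2 ?_)
      (Finset.card_image_le (f := fun cc : C × C => (cc.1 : G) * h' * (cc.2 : G)))
    obtain ⟨c, hc⟩ := isConj_iff.1 (Finset.mem_filter.1 ht).2
    set s1 := c * z * c⁻¹ with hs1
    set s2 := c * (t * z * t⁻¹) * c⁻¹ with hs2
    have hmul : s1 * s2 = x := by rw [← hc, hs1, hs2]; group
    have h11 : s1 * s1 = 1 := by
      rw [hs1, show c * z * c⁻¹ * (c * z * c⁻¹) = c * (z * z) * c⁻¹ by group, hzz]; group
    have h22 : s2 * s2 = 1 := by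
      rw [hs2, show c * (t * z * t⁻¹) * c⁻¹ * (c * (t * z * t⁻¹) * c⁻¹) = c * t * (z * z) * t⁻¹ * c⁻¹ by group,
        hzz]; group
    have hinv : s1 * x * s1 = x⁻¹ := by
      rw [← hmul, mul_inv_rev, inv_eq_of_mul_eq_one_right h11, inv_eq_of_mul_eq_one_right h22,
        show s1 * (s1 * s2) * s1 = (s1 * s1) * (s2 * s1) by simp only [mul_assoc], h11, one_mul]
    have hgen : Subgroup.zpowers x = Q :=
      Subgroup.eq_of_le_of_card_ge (Subgroup.zpowers_le.2 hxQ) (by rw [Nat.card_zpowers, hxo, hQc])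
    have hs1inv : s1⁻¹ = s1 := inv_eq_of_mul_eq_one_right h11
    have hsN : s1 ∈ N := by
      have hfwd : ∀ u ∈ Q, s1 * u * s1⁻¹ ∈ Q := fun u hu => by
        rw [← hgen] at hu ⊢
        obtain ⟨i, rfl⟩ := Subgroup.mem_zpowers_iff.1 hu
        rw [← conj_zpow, hs1inv, hinv]
        exact Subgroup.zpow_mem _ (Subgroup.inv_mem _ (Subgroup.mem_zpowers x)) i
      refine Subgroup.mem_normalizer_iff.2 fun u => ⟨hfwd u, fun hu => ?_⟩
      have h2 := hfwd _ hu
      rwa [show s1 * (s1 * u * s1⁻¹) * s1⁻¹ = (s1 * s1) * u * (s1 * s1)⁻¹ by group, h11, one_mul,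
        inv_one, mul_one] at h2
    have ho1 : orderOf s1 = 2 := by
      rw [hs1, ← MulAut.conj_apply, MulEquiv.orderOf_eq, hz]
    obtain ⟨a, haQ, ha⟩ := hconjN s1 hsN fun h => hQ2 s1 h ho1
    set k := a⁻¹ * c with hk
    have hkz : k * z * k⁻¹ = z := by
      rw [hk]
      calc a⁻¹ * c * z * (a⁻¹ * c)⁻¹ = a⁻¹ * (c * z * c⁻¹) * a := by group
        _ = a⁻¹ * (a * z * a⁻¹) * a := by rw [ha, hs1]
        _ = z := by group
    have hkC : k ∈ C := Subgroup.mem_centralizer_singleton_iff.2 (mul_inv_eq_iff_eq_mul.1 hkz)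
    have hzz' : k * (z * (t * z * t⁻¹)) * k⁻¹ = x := by
      rw [hk]
      calc a⁻¹ * c * (z * (t * z * t⁻¹)) * (a⁻¹ * c)⁻¹ = a⁻¹ * (c * (z * (t * z * t⁻¹)) * c⁻¹) * a := by
            group
        _ = a⁻¹ * (x * a) := by rw [hc, mul_assoc]
        _ = x := by rw [← hQcomm a haQ x hxQ]; group
    have hconj : k * (t * z * t⁻¹) * k⁻¹ = h' * z * h'⁻¹ := by
      rw [hh', ← hzz']
      calc k * (t * z * t⁻¹) * k⁻¹ = z * z * (k * (t * z * t⁻¹) * k⁻¹) := by rw [hzz, one_mul]
        _ = z * (k * z * k⁻¹) * (k * (t * z * t⁻¹) * k⁻¹) := by rw [hkz]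
        _ = _ := by group
    have hc2 : h'⁻¹ * k * t ∈ C := Subgroup.mem_centralizer_singleton_iff.2 (mul_inv_eq_iff_eq_mul.1 (by
      calc h'⁻¹ * k * t * z * (h'⁻¹ * k * t)⁻¹ = h'⁻¹ * (k * (t * z * t⁻¹) * k⁻¹) * h' := by group
        _ = h'⁻¹ * (h' * z * h'⁻¹) * h' := by rw [hconj]
        _ = z := by group))
    exact ⟨(⟨k⁻¹, C.inv_mem hkC⟩, ⟨_, hc2⟩), Finset.mem_univ _, by
      show k⁻¹ * h' * (h'⁻¹ * k * t) = t
      group⟩
  -- counting over the regular elements
  set sing := (Finset.univ.filter fun u : G => p ∣ orderOf u)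
  set reg := (Finset.univ.filter fun u : G => ¬ p ∣ orderOf u)
  have hpart : ∀ F : G → ℂ, ∑ u : G, F u = ∑ u ∈ sing, F u + ∑ u ∈ reg, F u :=
    fun F => (Finset.sum_filter_add_sum_filter_not _ _ _).symm
  have hsingv : ∀ u ∈ sing, (∑ η ∈ YF, (η : G → ℂ) u = 1) ∧ (χ₁ : G → ℂ) u = -1 ∧
      ∑ η ∈ YF, (η : G → ℂ) u ^ 2 = (p : ℂ) - 2 := fun u hu => by
    obtain ⟨y, hy, hy1, -, hc⟩ :=
      apply_singular hP hC (Char.irr_isClassFunction η₀.2) (Finset.mem_filter.1 hu).2
    have e : ∀ χ : IrrCharacter G, (χ : G → ℂ) u = (χ : G → ℂ) y := fun χ =>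
      Char.isClassFunction_isConj (Char.irr_isClassFunction χ.2) hc
    simp only [e]
    refine ⟨by rw [hcol y hy hy1]; norm_num, hval y hy hy1, ?_⟩
    have h := Char.column_orthogonality y y
    rw [if_pos (IsConj.refl y), cen_eq hP hC hy hy1, hQc,
      ← Finset.sum_subset (Finset.subset_univ ({one, χ₁} ∪ YF)) fun χ _ hχ => ?_,
      Finset.sum_union (by simp [Finset.disjoint_left, honeY, hχ₁Y]),
      Finset.sum_insert (by simp [Ne.symm hne]), Finset.sum_singleton, hval y hy hy1] at h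
    · rw [Finset.sum_congr rfl fun (η : IrrCharacter G) (hη : η ∈ YF) => show (η : G → ℂ) y ^ 2 =
        (η : G → ℂ) y * conj ((η : G → ℂ) y) by rw [hreal η hη y, sq]]
      simp [hone] at h
      linear_combination h
    · rw [apply_eq_zero_of_not_principal hP hC hM χ (fun hB => hχ ?_) hy hy1, zero_mul]
      rcases hcover χ hB with h | h
      · rcases hall χ h with h | h <;> simp [h, hone]
      · exact Finset.mem_union_right _ h
  have heq : ∀ η ∈ YF, ∀ u ∈ reg, (η : G → ℂ) u = (η₀ : G → ℂ) u := fun η hη u hu => by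
    rw [hrel η hη u (Finset.mem_filter.1 hu).2, hrel η₀ hη₀ u (Finset.mem_filter.1 hu).2]
  have hinner : ∀ χ : IrrCharacter G, χ ≠ one → ∑ u : G, (χ : G → ℂ) u = 0 := fun χ hχ => by
    have h := Char.irr_classInner χ.2 (Char.isIrrCharacter_one (G := G))
    rw [if_neg fun he => hχ (Subtype.ext he), Char.classInner_def] at h
    simpa [Nat.card_pos.ne'] using h
  have hE1 : (t : ℂ) * ∑ u ∈ reg, (η₀ : G → ℂ) u + (sing.card : ℂ) = 0 := by
    have h : ∑ u : G, ∑ η ∈ YF, (η : G → ℂ) u = 0 := by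
      rw [Finset.sum_comm]
      exact Finset.sum_eq_zero fun η hη => hinner η fun he => honeY (he ▸ hη)
    rw [hpart, Finset.sum_congr rfl fun u hu => (hsingv u hu).1,
      Finset.sum_congr rfl fun u hu => Finset.sum_congr rfl fun η hη => heq η hη u hu] at h
    simp only [Finset.sum_const, hYcard, nsmul_eq_mul, mul_one, ← Finset.mul_sum] at h
    linear_combination h
  have hE2 : (reg.card : ℂ) + ∑ u ∈ reg, (η₀ : G → ℂ) u - (sing.card : ℂ) = 0 := by
    have h := hinner χ₁ hne
    rw [hpart, Finset.sum_congr rfl fun u hu => (hsingv u hu).2.1,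
      Finset.sum_congr rfl fun u hu => show (χ₁ : G → ℂ) u = (η₀ : G → ℂ) u + 1 by
        rw [hrel η₀ hη₀ u (Finset.mem_filter.1 hu).2]; ring,
      Finset.sum_add_distrib] at h
    simp only [Finset.sum_const, nsmul_eq_mul, mul_one, mul_neg] at h
    linear_combination h
  have hE3 : (t : ℂ) * ∑ u ∈ reg, (η₀ : G → ℂ) u ^ 2 + (sing.card : ℂ) * ((p : ℂ) - 2) =
      (t : ℂ) * (Nat.card G : ℂ) := by
    have h : ∑ u : G, ∑ η ∈ YF, (η : G → ℂ) u ^ 2 = (t : ℂ) * (Nat.card G : ℂ) := by
      rw [Finset.sum_comm, Finset.sum_congr rfl (g := fun _ => (Nat.card G : ℂ)) fun η hη => ?_,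
        Finset.sum_const, hYcard, nsmul_eq_mul]
      have h1 := Char.irr_classInner_self η.2
      rw [Char.classInner_def, inv_mul_eq_one₀ (Nat.cast_ne_zero.2 Nat.card_pos.ne')] at h1
      rw [h1]
      exact Finset.sum_congr rfl fun u _ => by rw [hreal η hη u, sq]
    rw [hpart, Finset.sum_congr rfl fun u hu => (hsingv u hu).2.2,
      Finset.sum_congr rfl fun u hu => Finset.sum_congr rfl fun η hη => by rw [heq η hη u hu]] at h
    simp only [Finset.sum_const, hYcard, nsmul_eq_mul, ← Finset.mul_sum] at h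
    linear_combination h
  have hE4 : (reg.card : ℂ) + (sing.card : ℂ) = (Nat.card G : ℂ) := by
    rw [add_comm, ← Nat.cast_add, Finset.card_filter_add_card_filter_not, Finset.card_univ,
      Nat.card_eq_fintype_card]
  have hcount : (p : ℂ) * ∑ u ∈ reg, (η₀ : G → ℂ) (u * u) = ((p : ℂ) - 1) * (Nat.card G : ℂ) := by
    have h : ∑ u ∈ reg, (η₀ : G → ℂ) (u * u) = ∑ u ∈ reg, (η₀ : G → ℂ) u ^ 2 -
        ((p : ℂ) - 3) * ∑ u ∈ reg, (η₀ : G → ℂ) u := by
      rw [Finset.mul_sum, ← Finset.sum_sub_distrib]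
      exact Finset.sum_congr rfl fun u hu => by
        rw [← hsqv u (Finset.mem_filter.1 hu).2]; ring
    have htne : (t : ℂ) ≠ 0 := Nat.cast_ne_zero.2 (by omega)
    have hpt : (p : ℂ) = 2 * t + 1 := by rw [← hte]; push_cast; ring
    refine mul_left_cancel₀ htne ?_
    rw [hpt] at hE3
    rw [h, hpt]
    -- eliminate the number of singular elements
    have hT : ((2 * (t : ℂ) + 1)) * (sing.card : ℂ) = (t : ℂ) * (Nat.card G : ℂ) := by
      linear_combination hE1 - (t : ℂ) * hE2 + (t : ℂ) * hE4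
    linear_combination (2 * (t : ℂ) + 1) * hE3 - (2 * (t : ℂ) + 1) * (2 * t + 1 - 3) * hE1 - hT
  set K := (Finset.univ.filter fun u : G => IsConj z u).card
  have hK : K * Nat.card C = Nat.card G := by
    rw [← Char.natCard_carrier_mul_centralizer z]
    refine congrArg (· * Nat.card C) ?_
    rw [Nat.card_eq_fintype_card, Fintype.card_subtype]
    refine congrArg Finset.card (Finset.ext fun u => ?_)
    simp [ConjClasses.mem_carrier_iff_mk_eq, ConjClasses.mk_eq_mk_iff_isConj, isConj_comm,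
      -isConj_iff]
  have hroots : (Finset.univ.filter fun u : G => u * u = 1).card ≤ K + 1 := by
    refine le_trans (Finset.card_le_card fun u hu => ?_) (Finset.card_insert_le (1 : G) _)
    have hu' := (Finset.mem_filter.1 hu).2
    by_cases h1 : u = 1
    · exact Finset.mem_insert.2 (Or.inl h1)
    · exact Finset.mem_insert_of_mem (Finset.mem_filter.2 ⟨Finset.mem_univ _,
        (hallconj u (orderOf_eq_prime (by rw [sq, hu']) h1)).symm⟩)
  have hle2 : (p - 1) * Nat.card G ≤ p * ((p - 2) * (K + 1)) := by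
    have hre := congrArg Complex.re hcount
    rw [← Complex.ofReal_natCast, Complex.re_ofReal_mul, Complex.re_sum] at hre
    rw [show ((p : ℂ) - 1) * (Nat.card G : ℂ) = ((((p : ℝ) - 1) * (Nat.card G : ℝ) : ℝ) : ℂ) by
      push_cast; ring] at hcount
    have hbd : ∑ u ∈ reg, ((η₀ : G → ℂ) (u * u)).re ≤
        ((p - 2 : ℕ) : ℝ) * ((K + 1 : ℕ) : ℝ) := by
      calc ∑ u ∈ reg, ((η₀ : G → ℂ) (u * u)).re
          ≤ ∑ u ∈ reg, if u * u = 1 then ((p - 2 : ℕ) : ℝ) else 0 := Finset.sum_le_sum fun u hu => ?_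
        _ ≤ ∑ u : G, if u * u = 1 then ((p - 2 : ℕ) : ℝ) else 0 :=
          Finset.sum_le_sum_of_subset_of_nonneg (Finset.subset_univ _) fun u _ _ => by
            split_ifs <;> positivity
        _ = ((p - 2 : ℕ) : ℝ) * ((Finset.univ.filter fun u : G => u * u = 1).card : ℝ) := by
          rw [← Finset.sum_filter, Finset.sum_const, nsmul_eq_mul, mul_comm]
        _ ≤ _ := mul_le_mul_of_nonneg_left (by exact_mod_cast hroots) (Nat.cast_nonneg _)
      split_ifs with hu2
      · rw [hu2, hdegv η₀ hη₀, Complex.natCast_re]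
      · have hureg := (Finset.mem_filter.1 hu).2
        have hgg : ¬ p ∣ orderOf (u * u) := fun h => hureg (by
          rw [← sq] at h
          exact h.trans (orderOf_pow_dvd 2))
        obtain ⟨k, hk⟩ := hint u hureg
        obtain ⟨l, hl⟩ := hint _ hgg
        have h := hsqv u hureg
        rw [hk, hl] at h
        have h' : k ^ 2 - l = ((p : ℤ) - 3) * k := by exact_mod_cast h
        have h2 := hle (u * u) l hl
        have h3 := hle u k hk
        rw [hl, Complex.intCast_re]
        have : l ≤ 0 := by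
          rcases lt_or_ge k 0 with hneg | hpos
          · exact absurd (h2.2 (by nlinarith)) hu2
          · rcases lt_or_ge ((p : ℤ) - 3) k with hbig | hsmall
            · exact absurd (show u * u = 1 by rw [h3.2 (by omega), mul_one]) hu2
            · nlinarith
        exact_mod_cast this
    have hfin : ((p : ℝ) - 1) * (Nat.card G : ℝ) ≤ (p : ℝ) * (((p - 2 : ℕ) : ℝ) * ((K + 1 : ℕ) : ℝ)) := by
      have h := congrArg Complex.re hcount
      rw [Complex.ofReal_re] at h
      rw [← h, ← Complex.ofReal_natCast p, Complex.re_ofReal_mul, Complex.re_sum]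
      exact mul_le_mul_of_nonneg_left hbd (Nat.cast_nonneg _)
    rw [show ((p : ℝ) - 1) = ((p - 1 : ℕ) : ℝ) by rw [Nat.cast_sub (by omega)]; simp] at hfin
    exact_mod_cast hfin
  -- conclusion
  have hSC : S = Nat.card C * Nat.card C := le_antisymm hS' hS
  rw [hSC] at hSeq
  set c := Nat.card C
  have hc0 : 0 < c := Nat.card_pos
  obtain ⟨q, rfl⟩ : ∃ q, p = q + 2 := ⟨p - 2, by omega⟩
  simp only [Nat.add_sub_cancel, show q + 2 - 1 = q + 1 by omega] at hSeq hle2 ⊢
  have h1 : c * c ≤ K + 1 := by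
    refine Nat.le_of_mul_le_mul_left (c := (q + 2) * q) ?_ (Nat.mul_pos (by omega) (by omega))
    rw [← hSeq]
    calc Nat.card G * (q + 1) = (q + 1) * Nat.card G := mul_comm _ _
      _ ≤ _ := hle2
      _ = _ := by ring
  have h2 : c ≤ q + 1 := by
    by_contra hlt
    push Not at hlt
    have h3 : (q + 1) * (c * c) * c ≤ ((q + 2) * q * (c * c)) + (q + 1) * c := by
      calc (q + 1) * (c * c) * c ≤ (q + 1) * (K + 1) * c := by gcongr
        _ = (q + 1) * (K * c) + (q + 1) * c := by ring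
        _ = _ := by rw [hK, mul_comm (q + 1) (Nat.card G), hSeq]
    have h4 : (q + 2) * q * (c * c) + c * c ≤ (q + 1) * (c * c) * c := by
      have : (q + 2) * q + 1 ≤ (q + 1) * c := by nlinarith
      calc (q + 2) * q * (c * c) + c * c = ((q + 2) * q + 1) * (c * c) := by ring
        _ ≤ (q + 1) * c * (c * c) := Nat.mul_le_mul_right _ this
        _ = _ := by ring
    nlinarith
  refine Nat.le_of_mul_le_mul_right (c := q + 1) ?_ (by omega)
  rw [hSeq]
  calc (q + 2) * q * (c * c) ≤ (q + 2) * q * ((q + 1) * (q + 1)) := by gcongr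
    _ = _ := by ring

end CfsgLib.Block.BrauerTuan
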