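import Cfsg.Agent.Lib.Block.BTOrder
import Cfsg.Agent.Lib.Block.BRTheorem
import Cfsg.Agent.Lib.Geom.SimpleSixty
import Cfsg.Agent.Lib.Classical.PSLTwoMaximal
import Cfsg.Agent.Lib.ClassK.SmallSimple
import Cfsg.Agent.Lib.Solvable.PCore
import Mathlib.FieldTheory.Finite.GaloisField

/-!
The simple groups with dihedral Sylow normalizer of order `2p` and principal block characters of
degree `p - 2` are the groups `SL(2, 2^m)` with `p = 2^m + 1`.
-/

set_option autoImplicit false

namespace CfsgLib.Block.BrauerTuan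

open Cfsg CfsgLib CfsgLib.Block

universe u

variable {G : Type u} [Group G] [Finite G] {p : ℕ} [hpf : Fact p.Prime]

/-- Recognition. -/
theorem sl_two_of_e_two [IsSimpleGroup G] (hperf : commutator G = ⊤) (hp5 : 5 ≤ p)
    {M : Ideal AlgInt} (hM : IsPModular p M) (P : Sylow p G) (hP : Nat.card P = p)
    (hC : Subgroup.centralizer ((P : Subgroup G) : Set G) = (P : Subgroup G))
    {t d₀ : ℕ} {CF YF : Finset (IrrCharacter G)} {ε : IrrCharacter G → ℤ}
    (D : RowData M P 2 t d₀ (-1) CF YF ε) (hd₀ : d₀ = p - 2) :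
    ∃ (m : ℕ) (F : Type) (_ : Field F) (_ : Fintype F), Fintype.card F = 2 ^ m ∧ p = 2 ^ m + 1 ∧
      Nonempty (G ≃* Matrix.SpecialLinearGroup (Fin 2) F) := by
  classical
  have hp := hpf.out
  have hle := natCard_le_of_e_two hperf hp5 hM P hP hC D hd₀
  have hbig : Nat.card G < p ^ 3 := by
    have h1 : p * (p - 1) * (p - 2) ≤ p * p * (p - 2) :=
      Nat.mul_le_mul_right _ (Nat.mul_le_mul_left _ (Nat.sub_le _ _))
    have h2 : p * p * (p - 2) < p * p * p :=
      Nat.mul_lt_mul_of_pos_left (by omega) (Nat.mul_pos hp.pos hp.pos)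
    calc Nat.card G ≤ _ := hle
      _ < p * p * p := lt_of_le_of_lt h1 h2
      _ = p ^ 3 := by ring
  set N := Subgroup.normalizer ((P : Subgroup G) : Set G) with hNdef
  have hNcard : Nat.card N = p * 2 := by
    have h := D.e_eq
    rw [hC] at h
    rw [← ((P : Subgroup G).subgroupOf N).card_mul_index,
      Nat.card_congr (Subgroup.subgroupOfEquivOfLe Subgroup.le_normalizer).toEquiv,
      show Nat.card (P : Subgroup G) = p from hP]
    exact congrArg (p * ·) h
  have hdvd : p ∣ Nat.card G :=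
    (Dvd.intro 2 hNcard.symm).trans (Subgroup.card_subgroup_dvd_card _)
  have hnn : ¬ (P : Subgroup G).Normal := fun hn => by
    rcases hn.eq_bot_or_eq_top with h | h
    · have hQ : Nat.card (P : Subgroup G) = p := hP
      rw [h, Subgroup.card_bot] at hQ
      exact hp.ne_one hQ.symm
    · have h1 : Nat.card N = Nat.card G := by
        rw [hNdef, h, Subgroup.normalizer_eq_top_iff.2 inferInstance, Subgroup.card_top]
      have h2 : Nat.card (P : Subgroup G) = p := hP
      rw [h, Subgroup.card_top] at h2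
      omega
  obtain ⟨-, n, hN, hF⟩ := BrauerReynolds.sylow_data_of_lt_cube hperf hdvd hbig P hnn
  have hH : Cfsg.pPrimeCore p G = ⊥ := by
    rcases (CfsgLib.Solvable.pPrimeCore_normal p G : (Cfsg.pPrimeCore p G).Normal).eq_bot_or_eq_top
      with h | h
    · exact h
    · have h1 := CfsgLib.Solvable.pPrimeCore_coprime (G := G) p
      rw [h, Subgroup.card_top] at h1
      exact absurd hdvd (hp.coprime_iff_not_dvd.1 h1.symm)
  rcases BrauerReynolds.main_of_core_eq_bot hperf P hP hN hF hH with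
    ⟨F, iF, iF', hcard, -, ⟨φ⟩⟩ | ⟨m, F, iF, iF', h1, h2, -, hiso⟩
  swap
  · exact ⟨m, F, iF, iF', h1, h2, hiso⟩
  -- the case `PSL(2, p)` forces `p = 5`
  have hG : 2 * Nat.card G = p * (p ^ 2 - 1) := by
    have hg : Nat.gcd 2 (p - 1) = 2 := Nat.gcd_eq_left (by
      rcases hp.eq_two_or_odd with h | h <;> omega)
    have hev : 2 ∣ p * (p ^ 2 - 1) := Dvd.dvd.mul_left (by
      have h1 : p % 2 = 1 := hp.eq_two_or_odd.resolve_left (by omega)
      have h2 : p ^ 2 % 2 = 1 := by rw [Nat.pow_mod, h1]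
      omega) p
    rw [Nat.card_congr φ.toEquiv, CfsgLib.Classical.card_psl_two_eq hcard (p * (p ^ 2 - 1) / 2)
      (by rw [hg, Nat.mul_div_cancel' hev]), Nat.mul_div_cancel' hev]
  have hGN : p * 2 * (1 + n * p) = Nat.card G := by
    rw [← hN, Sylow.card_eq_index_normalizer P, ← hNcard]; exact Subgroup.card_mul_index _
  have h4 : 4 * (1 + n * p) + 1 = p ^ 2 := by
    have h : p * (4 * (1 + n * p)) = p * (p ^ 2 - 1) := by rw [← hG, ← hGN]; ring
    have := Nat.eq_of_mul_eq_mul_left hp.pos h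
    have : 1 ≤ p ^ 2 := Nat.one_le_pow _ _ hp.pos
    omega
  have hp5' : p = 5 := by
    have h5 : p ∣ 5 := by
      refine (Nat.dvd_add_right (Dvd.intro (4 * n) (by ring : p * (4 * n) = 4 * n * p))).1 ?_
      rw [show 4 * n * p + 5 = p ^ 2 by rw [← h4]; ring]
      exact dvd_pow_self p two_ne_zero
    exact (Nat.prime_dvd_prime_iff_eq hp (by norm_num)).1 h5
  have hG60 : Nat.card G = 60 := by rw [hp5'] at hG; norm_num at hG; omega
  obtain ⟨ψ⟩ := CfsgLib.Geom.equiv_altFive_of_simple_sixty hG60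
  haveI : Fact (Nat.Prime 2) := ⟨Nat.prime_two⟩
  have := Fintype.ofFinite (GaloisField 2 2)
  have hF4 : Fintype.card (GaloisField 2 2) = 4 := by
    rw [← Nat.card_eq_fintype_card, GaloisField.card 2 2 two_ne_zero]
    norm_num
  haveI := CfsgLib.ClassK.isSimpleGroup_psl_two (F := GaloisField 2 2) (by omega)
  obtain ⟨χ⟩ := CfsgLib.Geom.equiv_altFive_of_simple_sixty
    (G := Matrix.ProjectiveSpecialLinearGroup (Fin 2) (GaloisField 2 2))
    (CfsgLib.Classical.card_psl_two_four (Or.inl hF4))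
  obtain ⟨θ⟩ := BrauerReynolds.psl_equiv_sl_char_two (GaloisField 2 2) (m := 2) two_pos
    (by rw [hF4]; norm_num)
  exact ⟨2, GaloisField 2 2, inferInstance, inferInstance, by rw [hF4]; norm_num,
    by rw [hp5']; norm_num, ⟨(ψ.trans χ.symm).trans θ⟩⟩

end CfsgLib.Block.BrauerTuan
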