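import Cfsg.Agent.Lib.Block.BTSquare
import Cfsg.Agent.Lib.Char.FS
import Cfsg.Agent.Lib.Block.BRDegrees

/-!
The principal block rows of a simple group with dihedral Sylow normalizer acting, not doubly
transitively, on `2p` points without fixed points on the Sylow subgroup.
-/

set_option autoImplicit false
set_option linter.unusedSectionVars false

namespace CfsgLib.Block.BrauerTuan

open Cfsg CfsgLib CfsgLib.Block CfsgLib.Block.BrauerReynolds
open scoped ComplexConjugate

universe u v

variable {G : Type u} [Group G] [Finite G] {p : ℕ} [hpf : Fact p.Prime]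

/-- `σ = -1` and `d₀ = p - 2`. -/
theorem row_of_degree_two_p (hperf : commutator G = ⊤) (hp5 : 5 ≤ p)
    {M : Ideal AlgInt} (hM : IsPModular p M) (P : Sylow p G) (hP : Nat.card P = p)
    (hC : Subgroup.centralizer ((P : Subgroup G) : Set G) = (P : Subgroup G))
    {t d₀ : ℕ} {σ : ℤ} {CF YF : Finset (IrrCharacter G)} {ε : IrrCharacter G → ℤ}
    (D : RowData M P 2 t d₀ σ CF YF ε) (X : Type v) [MulAction G X] [Finite X]
    [MulAction.IsPretransitive G X] (hX : Nat.card X = 2 * p)
    (hfree : ∀ y ∈ (P : Subgroup G), y ≠ 1 → ∀ a : X, y • a ≠ a)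
    (hnot2 : ¬ MulAction.IsMultiplyPretransitive G X 2) : σ = -1 ∧ d₀ = p - 2 := by
  classical
  have := Fintype.ofFinite G
  have := Fintype.ofFinite (IrrCharacter G)
  have hp := hpf.out
  have hte := D.hte
  obtain ⟨hCFcard, hYcard, hsig, -, hdisj, hcover, hYdeg, hmod, hcol, hrel⟩ := D.exc (by omega)
  set one : IrrCharacter G := ⟨fun _ => 1, Char.isIrrCharacter_one⟩ with hone
  obtain ⟨χ₁, hχ₁⟩ : ∃ χ₁, CF.erase one = {χ₁} :=
    Finset.card_eq_one.1 (by rw [Finset.card_erase_of_mem D.one_mem, hCFcard])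
  have hCFeq : CF = insert one {χ₁} := by rw [← hχ₁, Finset.insert_erase D.one_mem]
  have hne : χ₁ ≠ one := (Finset.mem_erase.1 (by rw [hχ₁]; exact Finset.mem_singleton_self _)).1
  have hχ₁CF : χ₁ ∈ CF := by rw [hCFeq]; simp
  have honeY : one ∉ YF := Finset.disjoint_left.1 hdisj D.one_mem
  have hχ₁Y : χ₁ ∉ YF := Finset.disjoint_left.1 hdisj hχ₁CF
  have hrel' : ∀ η ∈ YF, ∀ g : G, ¬ p ∣ orderOf g →
      1 + (ε χ₁ : ℂ) * (χ₁ : G → ℂ) g = (σ : ℂ) * (η : G → ℂ) g := fun η hη g hg => by
    have h := hrel η hη g hg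
    rw [hCFeq, Finset.sum_insert (by simp [Ne.symm hne]), Finset.sum_singleton, hone, D.eps_one] at h
    simpa using h
  obtain ⟨η₀, hη₀⟩ := Finset.card_pos.1 (show 0 < YF.card by rw [hYcard]; exact D.t_pos)
  have hσ0 : (σ : ℂ) ≠ 0 := by rcases hsig with h | h <;> simp [h]
  have heq : ∀ η ∈ YF, ∀ u : G, ¬ p ∣ orderOf u → (η : G → ℂ) u = (η₀ : G → ℂ) u := fun η hη u hu =>
    mul_left_cancel₀ hσ0 (by rw [← hrel' η hη u hu, ← hrel' η₀ hη₀ u hu])
  set D₁ := charDegree (χ₁ : G → ℂ)
  have hdeg1 : 1 + ε χ₁ * (D₁ : ℤ) = σ * (d₀ : ℤ) := by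
    have h := hrel' η₀ hη₀ 1 (by rw [orderOf_one]; exact hp.not_dvd_one)
    rw [← BlockB.irr_degree_cast χ₁, ← BlockB.irr_degree_cast η₀, hYdeg η₀ hη₀] at h
    exact_mod_cast h
  have hD1 : 2 ≤ D₁ := by
    have hpos : 0 < D₁ := BlockB.irr_degree_pos χ₁
    by_contra hlt
    have h1 : (χ₁ : G → ℂ) 1 = 1 := by
      rw [← BlockB.irr_degree_cast χ₁, show charDegree (χ₁ : G → ℂ) = D₁ from rfl,
        show D₁ = 1 by omega, Nat.cast_one]
    exact hne (Subtype.ext (eq_one_of_degree_one hperf χ₁ h1))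
  -- the permutation character
  let π : G → ℂ := fun g => (Nat.card (MulAction.fixedBy X g) : ℂ)
  obtain ⟨a₀⟩ : Nonempty X := (Nat.card_ne_zero.1 (by omega)).1
  have := Fintype.ofFinite (MulAction.stabilizer G a₀)
  have eπ : π = Cfsg.indFun (MulAction.stabilizer G a₀) (fun _ => 1) :=
    funext fun g => Char.natCard_fixedBy_eq_indFun X a₀ g
  have hπ : IsCharacter G π := eπ ▸ Char.isCharacter_indFun _ Char.isCharacter_one
  have hπ1 : classInner π (one : G → ℂ) = 1 := by
    rw [hone, eπ, Char.frobenius_reciprocity _ _ _ (Char.irr_isClassFunction Char.isIrrCharacter_one)]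
    exact Char.irr_classInner_self Char.isIrrCharacter_one
  choose m hm using fun χ : IrrCharacter G =>
    Char.classInner_isCharacter_nat hπ (Char.irr_isCharacter χ.2)
  have hexp : ∀ u, π u = ∑ χ : IrrCharacter G, (m χ : ℂ) * (χ : G → ℂ) u := fun u => by
    rw [Char.classFunction_apply_eq_sum (Char.isCharacter_isClassFunction hπ) u]
    exact Finset.sum_congr rfl fun χ _ => by rw [hm χ]
  have hm1 : m one = 1 := by
    have : (m one : ℂ) = 1 := by rw [← hm one, hπ1]
    exact_mod_cast this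
  set rest := (Finset.univ \ ({one, χ₁} ∪ YF) : Finset (IrrCharacter G))
  have hdec : ∀ u, π u = 1 + (m χ₁ : ℂ) * (χ₁ : G → ℂ) u + ∑ η ∈ YF, (m η : ℂ) * (η : G → ℂ) u +
      ∑ χ ∈ rest, (m χ : ℂ) * (χ : G → ℂ) u := fun u => by
    rw [hexp u, ← Finset.sum_sdiff (Finset.subset_univ ({one, χ₁} ∪ YF)), add_comm,
      Finset.sum_union (by simp [Finset.disjoint_left, honeY, hχ₁Y]),
      Finset.sum_insert (by simp [Ne.symm hne]), Finset.sum_singleton, hm1, Nat.cast_one, one_mul]
  obtain ⟨n, hn⟩ : ∃ n : ℤ, n = σ * (1 + ε χ₁ * (m χ₁ : ℤ)) := ⟨_, rfl⟩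
  let f : G → ℂ := fun u => ∑ η ∈ YF, ((m η : ℂ) - n) * (η : G → ℂ) u
  have hfP : ∀ y ∈ (P : Subgroup G), y ≠ 1 → f y = 0 := fun y hy hy1 => by
    have h0 : π y = 0 := by
      have : IsEmpty (MulAction.fixedBy X y) := ⟨fun a => hfree y hy hy1 a.1 a.2⟩
      simp only [π, Nat.card_of_isEmpty, Nat.cast_zero]
    have h := hdec y
    rw [h0, D.CF_val χ₁ hχ₁CF y hy hy1, Finset.sum_eq_zero (s := rest) fun χ hχ => ?_, add_zero] at h
    · simp only [f, sub_mul, Finset.sum_sub_distrib, ← Finset.mul_sum, hcol y hy hy1]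
      rw [hn]
      push_cast
      have hσ2 : (σ : ℂ) * σ = 1 := by rcases hsig with h | h <;> simp [h]
      linear_combination -h + (1 + (ε χ₁ : ℂ) * (m χ₁ : ℂ)) * hσ2
    · rw [apply_eq_zero_of_not_principal hP hC hM χ (fun hB => (Finset.mem_sdiff.1 hχ).2 ?_) hy hy1,
        mul_zero]
      rcases hcover χ hB with h | h
      · rw [hCFeq] at h; exact Finset.mem_union_left _ h
      · exact Finset.mem_union_right _ h
  have hfcl : IsClassFunction G f := fun a b => Finset.sum_congr rfl fun η _ => by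
    rw [Char.irr_isClassFunction η.2 a b]
  have hsum0 : ∀ η ∈ YF, ∑ u : G, (η : G → ℂ) u = 0 := fun η hη => by
    have h := Char.irr_classInner η.2 (Char.isIrrCharacter_one (G := G))
    rw [if_neg (fun he => honeY (by
      have : η = one := Subtype.ext he
      rwa [← this])), Char.classInner_def] at h
    simpa [Nat.card_pos.ne'] using h
  set Cst : ℂ := ∑ η ∈ YF, ((m η : ℂ) - n)
  have hfsing : ∀ u, p ∣ orderOf u → f u = 0 := fun u hu => by
    obtain ⟨y, hy, hy1, he, -⟩ := apply_singular hP hC hfcl hu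
    rw [he, hfP y hy hy1]
  have hfreg : ∀ u, ¬ p ∣ orderOf u → f u = Cst * (η₀ : G → ℂ) u := fun u hu => by
    rw [Finset.sum_mul]
    exact Finset.sum_congr rfl fun η hη => by rw [heq η hη u hu]
  have hC0 : Cst = 0 := by
    set R := ∑ u ∈ Finset.univ.filter (fun u : G => ¬ p ∣ orderOf u), (η₀ : G → ℂ) u
    have hR : (t : ℂ) * R + ((Finset.univ.filter fun u : G => p ∣ orderOf u).card : ℂ) * (-σ) = 0 := by
      have h : ∑ u : G, ∑ η ∈ YF, (η : G → ℂ) u = 0 := by
        rw [Finset.sum_comm]; exact Finset.sum_eq_zero hsum0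
      rw [← Finset.sum_filter_add_sum_filter_not _ (fun u : G => p ∣ orderOf u), add_comm] at h
      rw [← h, Finset.card_eq_sum_ones, Nat.cast_sum, Finset.mul_sum, Finset.sum_mul]
      refine congrArg₂ (· + ·) (Finset.sum_congr rfl fun u hu => ?_) (Finset.sum_congr rfl fun u hu => ?_)
      · rw [Finset.sum_congr rfl fun η hη => heq η hη u (Finset.mem_filter.1 hu).2, Finset.sum_const,
          hYcard, nsmul_eq_mul]
      · obtain ⟨y, hy, hy1, -, hc⟩ :=
          apply_singular hP hC (Char.irr_isClassFunction η₀.2) (Finset.mem_filter.1 hu).2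
        rw [Finset.sum_congr rfl fun η _ => Char.isClassFunction_isConj
          (Char.irr_isClassFunction η.2) hc, hcol y hy hy1]
        push_cast; ring
    have hf0 : ∑ u : G, f u = 0 := by
      simp only [f]
      rw [Finset.sum_comm]
      exact Finset.sum_eq_zero fun η hη => by rw [← Finset.mul_sum, hsum0 η hη, mul_zero]
    rw [← Finset.sum_filter_add_sum_filter_not _ (fun u : G => p ∣ orderOf u),
      Finset.sum_eq_zero fun u hu => hfsing u (Finset.mem_filter.1 hu).2, zero_add,
      Finset.sum_congr rfl fun u hu => hfreg u (Finset.mem_filter.1 hu).2, ← Finset.mul_sum] at hf0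
    refine (mul_eq_zero.1 hf0).resolve_right fun (h : R = 0) => ?_
    rw [h, mul_zero, zero_add, mul_eq_zero, or_iff_left (neg_ne_zero.2 hσ0), Nat.cast_eq_zero,
      Finset.card_eq_zero] at hR
    obtain ⟨x, hx⟩ := exists_prime_orderOf_dvd_card' (G := (P : Subgroup G)) p (dvd_of_eq hP.symm)
    exact (Finset.filter_eq_empty_iff.1 hR (Finset.mem_univ (x : G)))
      (by rw [Subgroup.orderOf_coe, hx])
  have hmY : ∀ η ∈ YF, (m η : ℤ) = n := fun η hη => by
    have h : classInner f (η : G → ℂ) = (m η : ℂ) - n := by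
      rw [show f = ∑ θ ∈ YF, ((m θ : ℂ) - n) • (θ : G → ℂ) from funext fun u => by
        simp [f, Finset.sum_apply], Char.classInner_sum_left, Finset.sum_eq_single_of_mem η hη]
      · rw [Char.classInner_smul_left, Char.irr_classInner_self η.2, mul_one]
      · intro θ _ hne'
        rw [Char.classInner_smul_left, Char.irr_classInner_ne θ.2 η.2 (fun he => hne' (Subtype.ext he)),
          mul_zero]
    have h0 : classInner f (η : G → ℂ) = 0 := by
      rw [Char.classInner_def]
      simp [show ∀ u, f u = 0 from fun u => by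
        by_cases hu : p ∣ orderOf u
        · exact hfsing u hu
        · rw [hfreg u hu, hC0, zero_mul]]
    rw [h0, eq_comm, sub_eq_zero] at h
    exact_mod_cast h
  have hd : 2 * p = 1 + m χ₁ * D₁ + t * m η₀ * d₀ + ∑ χ ∈ rest, m χ * charDegree (χ : G → ℂ) := by
    have h1 : π 1 = ((2 * p : ℕ) : ℂ) := by
      simp only [π]
      rw [MulAction.fixedBy_one_eq_univ, Nat.card_congr (Equiv.Set.univ X), hX]
    have h := hdec 1
    rw [h1, ← BlockB.irr_degree_cast χ₁,
      Finset.sum_congr rfl fun (η : IrrCharacter G) (hη : η ∈ YF) =>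
        show (m η : ℂ) * (η : G → ℂ) 1 = ((m η₀ * d₀ : ℕ) : ℂ) by
          have e : m η = m η₀ := by
            have := hmY η hη
            have := hmY η₀ hη₀
            omega
          rw [e, ← BlockB.irr_degree_cast η, hYdeg η hη]; push_cast; ring,
      Finset.sum_const, hYcard, nsmul_eq_mul,
      Finset.sum_congr rfl fun χ _ => by rw [← BlockB.irr_degree_cast χ, ← Nat.cast_mul]] at h
    rw [mul_assoc t]
    exact_mod_cast h
  have hmodD : (p : ℤ) ∣ ε χ₁ - (D₁ : ℤ) := D.CF_mod χ₁ hχ₁CF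
  have hd₀pos : 0 < d₀ := hYdeg η₀ hη₀ ▸ BlockB.irr_degree_pos η₀
  have hε := D.eps_pm χ₁ hχ₁CF
  rcases Nat.eq_zero_or_pos (m η₀) with hz | hpos
  · -- the exceptional characters do not occur
    have h0 : σ * (1 + ε χ₁ * (m χ₁ : ℤ)) = 0 := by
      have := hmY η₀ hη₀
      rw [hz, hn] at this
      exact this.symm
    obtain ⟨hε1, hm1'⟩ : ε χ₁ = -1 ∧ m χ₁ = 1 := by
      rcases hsig with hs | hs <;> rcases hε with he | he <;> rw [hs, he] at h0 <;>
        first
          | (exfalso; omega)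
          | exact ⟨he, by omega⟩
    rw [hε1] at hdeg1 hmodD
    rw [hz, hm1'] at hd
    simp only [mul_zero, zero_mul, add_zero, one_mul] at hd
    obtain ⟨k, hk⟩ := hmodD
    have hk1 : k = -1 ∨ k = -2 := by
      have h1 : (D₁ : ℤ) < 2 * p := by
        have : D₁ < 2 * p := by omega
        exact_mod_cast this
      have h2 : (p : ℤ) * k < 0 := by omega
      have h3 : (p : ℤ) * (-3) < p * k := by omega
      have hp0 : (0 : ℤ) < p := by exact_mod_cast hp.pos
      have h4 := Int.lt_of_mul_lt_mul_left (a := (p : ℤ)) h3 hp0.le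
      have h5 : k < 0 := by
        by_contra h'
        push Not at h'
        nlinarith
      omega
    rcases hk1 with rfl | rfl
    · rcases hsig with hs | hs <;> rw [hs] at hdeg1
      · omega
      · exact ⟨hs, by omega⟩
    · exfalso
      apply hnot2
      refine (Char.isIrr_perm_iff X (by omega)).1 ?_
      have hrest : ∀ χ ∈ rest, m χ = 0 := fun χ hχ => by
        have h1 : ∑ χ ∈ rest, m χ * charDegree (χ : G → ℂ) = 0 := by omega
        exact (mul_eq_zero.1 (Finset.sum_eq_zero_iff.1 h1 χ hχ)).resolve_right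
          (BlockB.irr_degree_pos χ).ne'
      have e : (fun g => (Nat.card (MulAction.fixedBy X g) : ℂ) - 1) = (χ₁ : G → ℂ) := funext fun g => by
        have h := hdec g
        rw [Finset.sum_eq_zero (s := rest) fun χ hχ => by rw [hrest χ hχ, Nat.cast_zero, zero_mul],
          Finset.sum_eq_zero fun η hη => by
            rw [show m η = 0 by have := hmY η hη; have := hmY η₀ hη₀; omega, Nat.cast_zero, zero_mul],
          hm1'] at h
        simp only [π] at h
        rw [h]; ring
      rw [e]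
      exact χ₁.2
  · -- they occur: the degree is small
    have hle : t * d₀ ≤ 4 * t + 1 := by
      have : t * d₀ ≤ t * m η₀ * d₀ := by
        rw [mul_assoc]; exact Nat.mul_le_mul_left _ (Nat.le_mul_of_pos_left _ hpos)
      omega
    have hd4 : d₀ ≤ 4 := by
      by_contra hlt
      push Not at hlt
      have : t * 5 ≤ t * d₀ := Nat.mul_le_mul_left _ hlt
      omega
    obtain ⟨k, hk⟩ := hmod
    have hk' : k = 0 ∨ k = -1 ∨ k = 1 := by
      have h1 : (p : ℤ) * k ≤ 1 * 2 := by rcases hsig with hs | hs <;> rw [hs] at hk <;> omega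
      have h2 : -6 ≤ (p : ℤ) * k := by rcases hsig with hs | hs <;> rw [hs] at hk <;> omega
      have hp0 : (5 : ℤ) ≤ p := by exact_mod_cast hp5
      have h3 : k < 1 ∨ k = 1 := by
        by_contra h'
        push Not at h'
        nlinarith
      have h4 : -2 < k := by
        by_contra h'
        push Not at h'
        nlinarith
      omega
    rcases hsig with hs | hs <;> rw [hs] at hk hdeg1 <;> rcases hk' with rfl | rfl | rfl <;>
      first
        | exact ⟨hs, by omega⟩
        | (exfalso; rcases hε with he | he <;> rw [he] at hdeg1 <;> omega)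

end CfsgLib.Block.BrauerTuan
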