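import Cfsg.Agent.Lib.Block.BRDegrees

/-!
The shape of the principal block of a perfect group with a Sylow subgroup of prime order.
-/

set_option autoImplicit false
set_option linter.unusedSectionVars false

namespace CfsgLib.Block.BrauerTuan

open Cfsg CfsgLib CfsgLib.Block CfsgLib.Block.BrauerReynolds
open scoped ComplexConjugate

universe u

variable {G : Type u} [Group G] [Finite G] {p : ℕ} [hpf : Fact p.Prime]

/-- Rows of the principal block: constant rows `CF` with sign `ε`, exceptional rows `YF`. -/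
structure RowData (M : Ideal AlgInt) (P : Sylow p G) (e t d₀ : ℕ) (σ : ℤ)
    (CF YF : Finset (IrrCharacter G)) (ε : IrrCharacter G → ℤ) : Prop where
  hte : t * e + 1 = p
  e_two : 2 ≤ e
  t_pos : 0 < t
  e_eq : (Subgroup.centralizer ((P : Subgroup G) : Set G)).relIndex
    (Subgroup.normalizer ((P : Subgroup G) : Set G)) = e
  one_mem : (⟨fun _ => 1, Char.isIrrCharacter_one⟩ : IrrCharacter G) ∈ CF
  eps_one : ε ⟨fun _ => 1, Char.isIrrCharacter_one⟩ = 1
  eps_pm : ∀ χ ∈ CF, ε χ = 1 ∨ ε χ = -1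
  CF_sub : ∀ χ ∈ CF, χ ∈ principalBlock M G
  CF_mod : ∀ χ ∈ CF, (p : ℤ) ∣ ε χ - (charDegree (χ : G → ℂ) : ℤ)
  CF_val : ∀ χ ∈ CF, ∀ y ∈ (P : Subgroup G), y ≠ 1 → (χ : G → ℂ) y = (ε χ : ℂ)
  t_one : t = 1 → ∑ χ ∈ CF, (ε χ : ℂ) * (χ : G → ℂ) 1 = 0
  exc : 2 ≤ t → CF.card = e ∧ YF.card = t ∧ (σ = 1 ∨ σ = -1) ∧
    (∀ χ ∈ YF, χ ∈ principalBlock M G) ∧ Disjoint CF YF ∧
    (∀ χ, χ ∈ principalBlock M G → χ ∈ CF ∨ χ ∈ YF) ∧
    (∀ η ∈ YF, charDegree (η : G → ℂ) = d₀) ∧ (p : ℤ) ∣ (e : ℤ) * σ - d₀ ∧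
    (∀ y ∈ (P : Subgroup G), y ≠ 1 → ∑ η ∈ YF, (η : G → ℂ) y = ((-σ : ℤ) : ℂ)) ∧
    (∀ η ∈ YF, ∀ g : G, ¬ p ∣ orderOf g →
      ∑ χ ∈ CF, (ε χ : ℂ) * (χ : G → ℂ) g = (σ : ℂ) * (η : G → ℂ) g)

theorem exists_rowData (hperf : commutator G = ⊤) {M : Ideal AlgInt} (hM : IsPModular p M)
    (P : Sylow p G) (hP : Nat.card P = p) :
    ∃ (e t d₀ : ℕ) (σ : ℤ) (CF YF : Finset (IrrCharacter G)) (ε : IrrCharacter G → ℤ),
      RowData M P e t d₀ σ CF YF ε := by
  obtain ⟨n, hn⟩ : ∃ n, Nat.card (Sylow p G) = 1 + n * p := by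
    have h0 : 0 < Nat.card (Sylow p G) := Nat.card_pos
    obtain ⟨n, hn⟩ := (Nat.modEq_iff_dvd' h0).1 (card_sylow_modEq_one p G).symm
    exact ⟨n, by rw [mul_comm n p]; omega⟩
  classical
  have := isPrime_of_pmodular hM
  have := Fintype.ofFinite G
  have hp : p.Prime := hpf.out
  have hp2 := hp.two_le
  set e := (Subgroup.centralizer ((P : Subgroup G) : Set G)).relIndex
    (Subgroup.normalizer ((P : Subgroup G) : Set G)) with he_def
  have he2 : 2 ≤ e := two_le_relIndex hperf P hP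
  obtain ⟨E, r, hEcard, hBcard, hshape, hdeg, hval, hgram, hrel, hPsum⟩ :=
    PrimeRows.exists_rows_sum p M hM P hP e rfl
  obtain ⟨t, hte⟩ : ∃ t, p - 1 = t * e := by
    obtain ⟨t, ht⟩ := hEcard ▸ Subgroup.card_subgroup_dvd_card E
    rw [Nat.card_eq_fintype_card, ZMod.card_units] at ht
    exact ⟨t, ht.trans (mul_comm _ _)⟩
  have hte' : t * e + 1 = p := by omega
  have ht0 : 0 < t := Nat.pos_of_ne_zero fun h => by rw [h, zero_mul] at hte; omega
  have hep : e < p := by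
    have h4 : 1 * e ≤ t * e := Nat.mul_le_mul_right _ ht0
    omega
  let one : IrrCharacter G := ⟨fun _ => 1, Char.isIrrCharacter_one⟩
  set Bf := (principalBlock M G).toFinite.toFinset with hBf
  have hmemB : ∀ χ, χ ∈ Bf ↔ χ ∈ principalBlock M G := fun χ => Set.Finite.mem_toFinset _
  have hfs : ∀ F : IrrCharacter G → ℂ, ∑ᶠ χ ∈ principalBlock M G, F χ = ∑ χ ∈ Bf, F χ :=
    fun F => finsum_mem_eq_finite_toFinset_sum _ _
  have hBcard' : Bf.card * e = e * e + (p - 1) := by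
    rw [← hBcard, Nat.card_eq_card_finite_toFinset]
  have hcu : ∀ (c : ℤ), (∑ _v : (ZMod p)ˣ, c) = ((p - 1 : ℕ) : ℤ) * c := fun c => by
    rw [Finset.sum_const, Finset.card_univ, ZMod.card_units, nsmul_eq_mul]
  obtain ⟨y₀, hy₀P, hy₀⟩ : ∃ y ∈ (P : Subgroup G), y ≠ 1 := by
    refine Subgroup.bot_or_exists_ne_one _ |>.resolve_left fun h => ?_
    rw [h, Subgroup.card_bot] at hP
    exact hp.ne_one hP.symm
  have hidx : ∀ y ∈ (P : Subgroup G), y ≠ 1 →
      (Subgroup.centralizer ({y} : Set G)).index = e * (1 + n * p) := fun y hy hy1 => by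
    rw [centralizer_mem_eq P hP hy hy1, index_centralizer, hn]
  have hregone : ¬ p ∣ orderOf (1 : G) := by rw [orderOf_one]; exact hp.not_dvd_one
  -- the constant rows
  set isC : IrrCharacter G → Prop := fun χ => ∀ v, r χ v = r χ 1 with hisC
  set CF := Bf.filter isC with hCF
  set YF := Bf.filter (fun χ => ¬ isC χ) with hYF
  set ε : IrrCharacter G → ℤ := fun χ => -r χ 1 with hεdef
  have hCFmem : ∀ χ, χ ∈ CF ↔ χ ∈ principalBlock M G ∧ isC χ := fun χ => by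
    rw [hCF, Finset.mem_filter, hmemB]
  have hYFmem : ∀ χ, χ ∈ YF ↔ χ ∈ principalBlock M G ∧ ¬ isC χ := fun χ => by
    rw [hYF, Finset.mem_filter, hmemB]
  have hεpm : ∀ χ ∈ CF, ε χ = 1 ∨ ε χ = -1 := fun χ hχ => by
    obtain ⟨hB, hC⟩ := (hCFmem χ).1 hχ
    obtain ⟨c, hc, hsh⟩ := hshape χ hB
    have h1 : r χ 1 = c := by
      rcases hsh with h | ⟨w, hw⟩
      · exact h 1
      · rw [← hC w]; exact (hw w).1 (by rw [inv_mul_cancel]; exact E.one_mem)
    simp only [hεdef, h1]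
    rcases hc with rfl | rfl <;> simp
  have hCval : ∀ χ ∈ CF, ∀ y ∈ (P : Subgroup G), y ≠ 1 →
      ∀ z ∈ Subgroup.centralizer ((P : Subgroup G) : Set G), ¬ p ∣ orderOf z →
        (χ : G → ℂ) (y * z) = (ε χ : ℂ) := fun χ hχ y hy hy1 z hz hzr => by
    obtain ⟨hB, hC⟩ := (hCFmem χ).1 hχ
    rw [hval χ hB (r χ 1) hC y hy hy1 z hz hzr]
    simp [hεdef]
  have hCval1 : ∀ χ ∈ CF, ∀ y ∈ (P : Subgroup G), y ≠ 1 → (χ : G → ℂ) y = (ε χ : ℂ) :=
    fun χ hχ y hy hy1 => by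
      have h := hCval χ hχ y hy hy1 1 (Subgroup.one_mem _) hregone
      rwa [mul_one] at h
  have hCdvd : ∀ χ ∈ CF, charDegree (χ : G → ℂ) ∣ e * (1 + n * p) := fun χ hχ => by
    rw [← hidx y₀ hy₀P hy₀]
    exact dvd_of_omega_sum {χ} id y₀ (BlockB.irr_degree_pos χ)
      (fun i hi => by rw [Finset.mem_singleton.1 hi]; exact (BlockB.irr_degree_cast χ).symm)
      (hεpm χ hχ) (by rw [Finset.sum_singleton]; exact hCval1 χ hχ y₀ hy₀P hy₀)
  have hCmod : ∀ χ ∈ CF, (p : ℤ) ∣ ε χ - (charDegree (χ : G → ℂ) : ℤ) := fun χ hχ => by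
    obtain ⟨hB, hC⟩ := (hCFmem χ).1 hχ
    have h : (p : ℤ) ∣ (∑ v, r χ v) - (charDegree (χ : G → ℂ) : ℤ) :=
      Int.modEq_iff_dvd.1 (hdeg χ hB)
    rw [Finset.sum_congr rfl fun v _ => hC v, hcu] at h
    have e1 : ε χ - (charDegree (χ : G → ℂ) : ℤ) = ((((p - 1 : ℕ) : ℤ) * r χ 1) -
        (charDegree (χ : G → ℂ) : ℤ)) - (p : ℤ) * r χ 1 := by
      simp only [hεdef]; rw [Nat.cast_sub hp.one_le]; push_cast; ring
    rw [e1]
    exact dvd_sub h (dvd_mul_right _ _)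
  have hall : e = p - 1 → ∀ χ ∈ principalBlock M G, isC χ := fun he χ hB => by
    have hEtop : E = ⊤ := Subgroup.eq_top_of_card_eq _ (by
      rw [hEcard, Nat.card_eq_fintype_card, ZMod.card_units, he])
    obtain ⟨c, -, h | ⟨w, hw⟩⟩ := hshape χ hB
    · intro v; rw [h v, h 1]
    · intro v
      rw [(hw v).1 (hEtop ▸ Subgroup.mem_top _), (hw 1).1 (hEtop ▸ Subgroup.mem_top _)]
  have honeB : one ∈ principalBlock M G := one_mem_principalBlock
  have honeC : one ∈ CF := by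
    rw [hCFmem]
    refine ⟨honeB, ?_⟩
    obtain ⟨c, hc, h | ⟨w, hw⟩⟩ := hshape one honeB
    · intro v; rw [h v, h 1]
    refine hall ?_ one honeB
    have hs : ∑ v, r one v = (e : ℤ) * c := by
      rw [Finset.sum_congr rfl fun v _ => show r one v = if w⁻¹ * v ∈ E then c else 0 by
          split_ifs with h; exacts [(hw v).1 h, (hw v).2 h],
        Fintype.sum_equiv (Equiv.mulLeft w⁻¹) (fun v => if w⁻¹ * v ∈ E then c else 0)
          (fun v => if v ∈ E then c else 0) fun v => rfl,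
        ← Finset.sum_filter, Finset.sum_const, nsmul_eq_mul,
        show (Finset.univ.filter fun v : (ZMod p)ˣ => v ∈ E).card = e by
          rw [← hEcard, Nat.card_eq_fintype_card, Fintype.card_subtype]]
    have h := hPsum one honeB
    rw [hs] at h
    simp only [one, finsum_eq_sum_of_fintype, Finset.sum_const, Finset.card_univ, nsmul_eq_mul,
      mul_one, Int.cast_mul, Int.cast_natCast] at h
    rw [← Nat.card_eq_fintype_card, hP] at h
    have h' : (p : ℤ) = 1 - (e : ℤ) * c := by exact_mod_cast h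
    rcases hc with rfl | rfl <;> omega
  have hε1 : ε one = 1 := by
    have h := hCval1 one honeC y₀ hy₀P hy₀
    simp only [one] at h
    exact_mod_cast h.symm
  set R : G → ℂ := fun g => ∑ χ ∈ CF, (ε χ : ℂ) * (χ : G → ℂ) g with hR
  have hrelF : ∀ g : G, ¬ p ∣ orderOf g → ∀ v : (ZMod p)ˣ,
      R g = ∑ χ ∈ YF, (r χ v : ℂ) * (χ : G → ℂ) g := fun g hg v => by
    have h := hrel g hg v
    rw [hfs, ← Finset.sum_filter_add_sum_filter_not Bf isC] at h
    have h1 : ∑ χ ∈ CF, (r χ v : ℂ) * (χ : G → ℂ) g = -R g := by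
      simp only [R, ← Finset.sum_neg_distrib]
      refine Finset.sum_congr rfl fun χ hχ => ?_
      rw [((hCFmem χ).1 hχ).2 v]
      simp [hεdef]
    rw [← hCF, ← hYF, h1] at h
    linear_combination -h
  by_cases ht1 : t = 1
  · have hep1 : e = p - 1 := by rw [hte, ht1, one_mul]
    have hY0 : YF = ∅ := Finset.filter_eq_empty_iff.2 fun χ hχ h => h (hall hep1 χ ((hmemB χ).1 hχ))
    refine ⟨e, t, 0, 1, CF, YF, ε, ?_⟩
    exact
      { hte := hte', e_two := he2, t_pos := ht0, e_eq := rfl, one_mem := honeC, eps_one := hε1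
        eps_pm := hεpm, CF_sub := fun χ hχ => ((hCFmem χ).1 hχ).1, CF_mod := hCmod, CF_val := hCval1
        t_one := fun _ => by
          have h := hrelF 1 hregone 1
          rw [hY0, Finset.sum_empty] at h
          exact h
        exc := fun h2 => absurd h2 (by omega) }
  have ht2 : 2 ≤ t := by omega
  -- exceptional rows
  have hex : ∀ χ ∈ YF, ∃ c : ℤ, ∃ w : (ZMod p)ˣ, (c = 1 ∨ c = -1) ∧
      ∀ v, (w⁻¹ * v ∈ E → r χ v = c) ∧ (w⁻¹ * v ∉ E → r χ v = 0) := fun χ hχ => by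
    obtain ⟨hB, hC⟩ := (hYFmem χ).1 hχ
    obtain ⟨c, hc, h | ⟨w, hw⟩⟩ := hshape χ hB
    · exact absurd (fun v => by rw [h v, h 1]) hC
    · exact ⟨c, w, hc, hw⟩
  have hCr : ∀ χ ∈ CF, ∀ v w, r χ v * r χ w = 1 := fun χ hχ v w => by
    rw [((hCFmem χ).1 hχ).2 v, ((hCFmem χ).1 hχ).2 w]
    have := hεpm χ hχ
    simp only [hεdef] at this
    rcases this with h | h
    · rw [show r χ 1 = -1 by omega]; norm_num
    · rw [show r χ 1 = 1 by omega]; norm_num
  obtain ⟨s₀, hs₀⟩ : ∃ s, s ∉ E := by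
    by_contra hall'
    push Not at hall'
    have : E = ⊤ := (Subgroup.eq_top_iff' E).2 hall'
    rw [this, Subgroup.card_top, Nat.card_eq_fintype_card, ZMod.card_units] at hEcard
    have : 2 * e ≤ t * e := Nat.mul_le_mul_right _ ht2
    omega
  have hCFcard : CF.card = e := by
    have h := hgram 1 s₀
    rw [finsum_mem_eq_finite_toFinset_sum _ (principalBlock M G).toFinite,
      ← Finset.sum_filter_add_sum_filter_not Bf isC, inv_one, one_mul, if_neg hs₀, zero_add,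
      ← hCF, ← hYF, Finset.sum_congr rfl fun χ hχ => hCr χ hχ 1 s₀,
      Finset.sum_eq_zero (s := YF) fun χ hχ => ?_, add_zero, Finset.sum_const, nsmul_eq_mul,
      mul_one] at h
    · exact_mod_cast h
    · obtain ⟨c, w, -, hw⟩ := hex χ hχ
      by_cases h1 : w⁻¹ * 1 ∈ E
      · rw [(hw s₀).2 fun h2 => hs₀ ?_, mul_zero]
        have h3 := E.mul_mem (E.inv_mem h1) h2
        simpa using h3
      · rw [(hw 1).2 h1, zero_mul]
  have hdiag : ∀ v : (ZMod p)ˣ, ∑ χ ∈ YF, r χ v * r χ v = 1 := fun v => by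
    have h := hgram v v
    rw [finsum_mem_eq_finite_toFinset_sum _ (principalBlock M G).toFinite,
      ← Finset.sum_filter_add_sum_filter_not Bf isC, inv_mul_cancel, if_pos E.one_mem,
      ← hCF, ← hYF, Finset.sum_congr rfl fun χ hχ => hCr χ hχ v v, Finset.sum_const,
      nsmul_eq_mul, mul_one, hCFcard] at h
    linarith
  -- `R g = c η(g)`
  have hRη : ∀ χ ∈ YF, ∀ c : ℤ, ∀ w : (ZMod p)ˣ, (c = 1 ∨ c = -1) → r χ w = c →
      ∀ g, ¬ p ∣ orderOf g → R g = (c : ℂ) * (χ : G → ℂ) g := fun χ hχ c w hc hrc g hg => by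
    rw [hrelF g hg w, Finset.sum_eq_single_of_mem χ hχ fun ψ hψ hne => ?_, hrc]
    have h := hdiag w
    rw [← Finset.add_sum_erase _ _ hχ, hrc,
      show c * c = 1 by rcases hc with rfl | rfl <;> norm_num, add_eq_left] at h
    have h1 := (Finset.sum_eq_zero_iff_of_nonneg fun i _ => mul_self_nonneg (r i w)).1 h ψ
      (Finset.mem_erase.2 ⟨hne, hψ⟩)
    rw [mul_self_eq_zero.1 h1, Int.cast_zero, zero_mul]
  have hYcard : YF.card = t := by
    have h : CF.card + YF.card = Bf.card := Finset.card_filter_add_card_filter_not (s := Bf) isC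
    rw [← h, hCFcard, hte, Nat.add_mul] at hBcard'
    exact Nat.eq_of_mul_eq_mul_right (by omega) (Nat.add_left_cancel hBcard')
  obtain ⟨η₀, hη₀⟩ : YF.Nonempty := Finset.card_pos.1 (by omega)
  obtain ⟨σ, w₀, hσ, hw₀⟩ := hex η₀ hη₀
  set d₀ := charDegree (η₀ : G → ℂ) with hd₀
  have hd₀pos : 0 < d₀ := BlockB.irr_degree_pos η₀
  have hrη : ∀ g, ¬ p ∣ orderOf g → R g = (σ : ℂ) * (η₀ : G → ℂ) g :=
    hRη η₀ hη₀ σ w₀ hσ ((hw₀ w₀).1 (by rw [inv_mul_cancel]; exact E.one_mem))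
  have hsame : ∀ χ ∈ YF, charDegree (χ : G → ℂ) = d₀ ∧ (∃ w, ∀ v, (w⁻¹ * v ∈ E → r χ v = σ) ∧
      (w⁻¹ * v ∉ E → r χ v = 0)) ∧ ∀ g, ¬ p ∣ orderOf g → R g = (σ : ℂ) * (χ : G → ℂ) g := by
    intro χ hχ
    obtain ⟨c, w, hc, hw⟩ := hex χ hχ
    have hr := hRη χ hχ c w hc ((hw w).1 (by rw [inv_mul_cancel]; exact E.one_mem))
    have h1 := hr 1 hregone
    rw [hrη 1 hregone, ← BlockB.irr_degree_cast χ, ← BlockB.irr_degree_cast η₀, ← hd₀] at h1
    have h2 : σ * (d₀ : ℤ) = c * (charDegree (χ : G → ℂ) : ℤ) := by exact_mod_cast h1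
    have h3 : 0 < charDegree (χ : G → ℂ) := BlockB.irr_degree_pos χ
    obtain rfl : c = σ := by
      rcases hc with rfl | rfl <;> rcases hσ with rfl | rfl <;> first | rfl | omega
    refine ⟨?_, ⟨w, hw⟩, hr⟩
    rcases hc with rfl | rfl <;> omega
  have hYsumr : ∀ χ ∈ YF, ∑ v, r χ v = (e : ℤ) * σ := fun χ hχ => by
    obtain ⟨-, ⟨w, hw⟩, -⟩ := hsame χ hχ
    rw [Finset.sum_congr rfl fun v _ => show r χ v = if w⁻¹ * v ∈ E then σ else 0 by
        split_ifs with h; exacts [(hw v).1 h, (hw v).2 h],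
      Fintype.sum_equiv (Equiv.mulLeft w⁻¹) (fun v => if w⁻¹ * v ∈ E then σ else 0)
        (fun v => if v ∈ E then σ else 0) fun v => rfl,
      ← Finset.sum_filter, Finset.sum_const, nsmul_eq_mul,
      show (Finset.univ.filter fun v : (ZMod p)ˣ => v ∈ E).card = e by
        rw [← hEcard, Nat.card_eq_fintype_card, Fintype.card_subtype]]
  -- the exceptional degree divides `e N`
  have hcol : ∀ y₀ ∈ (P : Subgroup G), y₀ ≠ 1 → ∑ χ ∈ YF, (χ : G → ℂ) y₀ = ((-σ : ℤ) : ℂ) := by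
    intro y₀ hy₀P hy₀
    have h := sum_block_eq_zero_of_regular_singular hM (isPBlock_principalBlock (M := M) (G := G))
      (g := 1) (h := y₀⁻¹) hregone (by
        rw [orderOf_inv, orderOf_eq_prime (p := p) _ hy₀]
        have h := pow_card_eq_one' (x := (⟨y₀, hy₀P⟩ : (P : Subgroup G)))
        rw [hP] at h
        exact congrArg Subtype.val h)
    rw [hfs, ← Finset.sum_filter_add_sum_filter_not Bf isC, ← hCF, ← hYF] at h
    simp only [fun χ : IrrCharacter G => irr_conj_eq χ.2 y₀⁻¹, inv_inv] at h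
    have h1 : ∑ χ ∈ CF, (χ : G → ℂ) 1 * (χ : G → ℂ) y₀ = (σ : ℂ) * (d₀ : ℂ) := by
      rw [hd₀, BlockB.irr_degree_cast η₀, ← hrη 1 hregone]
      exact Finset.sum_congr rfl fun χ hχ => by rw [hCval1 χ hχ y₀ hy₀P hy₀]; ring
    have h2 : ∑ χ ∈ YF, (χ : G → ℂ) 1 * (χ : G → ℂ) y₀ = (d₀ : ℂ) * ∑ χ ∈ YF, (χ : G → ℂ) y₀ := by
      rw [Finset.mul_sum]
      exact Finset.sum_congr rfl fun χ hχ => by rw [← BlockB.irr_degree_cast χ, (hsame χ hχ).1]
    rw [h1, h2] at h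
    refine mul_left_cancel₀ (Nat.cast_ne_zero.2 hd₀pos.ne' : (d₀ : ℂ) ≠ 0) ?_
    push_cast
    linear_combination h
  have hmod : (p : ℤ) ∣ (e : ℤ) * σ - d₀ := by
    rw [← hYsumr η₀ hη₀]; exact Int.modEq_iff_dvd.1 (hdeg η₀ ((hYFmem η₀).1 hη₀).1)
  refine ⟨e, t, d₀, σ, CF, YF, ε, ?_⟩
  exact
    { hte := hte', e_two := he2, t_pos := ht0, e_eq := rfl, one_mem := honeC, eps_one := hε1
      eps_pm := hεpm, CF_sub := fun χ hχ => ((hCFmem χ).1 hχ).1, CF_mod := hCmod, CF_val := hCval1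
      t_one := fun h => absurd h (by omega)
      exc := fun _ => ⟨hCFcard, hYcard, hσ, fun χ hχ => ((hYFmem χ).1 hχ).1,
        Finset.disjoint_left.2 fun χ h1 h2 => ((hYFmem χ).1 h2).2 ((hCFmem χ).1 h1).2,
        fun χ hB => by
          by_cases hC : isC χ
          · exact Or.inl ((hCFmem χ).2 ⟨hB, hC⟩)
          · exact Or.inr ((hYFmem χ).2 ⟨hB, hC⟩),
        fun η hη => (hsame η hη).1, hmod, hcol, fun η hη => (hsame η hη).2.2⟩ }

end CfsgLib.Block.BrauerTuan
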