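import Cfsg.Agent.Lib.Block.Blocks

/-!
Central elements killed by all modular central characters are nilpotent.
-/

set_option autoImplicit false

namespace CfsgLib.Block

open Cfsg MonoidAlgebra

universe u

variable {G : Type u} [Group G] [Finite G] {p : ℕ} {M : Ideal AlgInt} [M.IsPrime]

theorem isNilpotent_of_lam_eq_zero (hM : IsPModular p M)
    {z : Subalgebra.center (kres M) (MonoidAlgebra (kres M) G)}
    (hz : ∀ χ : IrrCharacter G, lam M χ z = 0) : IsNilpotent z := by
  classical
  have h : z = ∑ B ∈ allBlocks M G, z * blkIdem M B := by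
    rw [← Finset.mul_sum, sum_blkIdem hM, mul_one]
  rw [h, ← mem_nilradical]
  refine Ideal.sum_mem _ fun B hB => ?_
  obtain ⟨χ, rfl⟩ := mem_allBlocks.1 hB
  rw [mem_nilradical]
  have := isNilpotent_sub_lam_mul_blkIdem hM (isPBlock_blockOf χ) (mem_blockOf_self χ) z
  rwa [hz χ, map_zero, sub_zero] at this

theorem redC_natCast (n : ℕ) : redC M (n : ℂ) = (n : kres M) := by
  induction n with
  | zero => simp [redC_zero]
  | succ n ih =>
    rw [Nat.cast_succ, Nat.cast_succ, redC_add (memLocalRing_natCast n)
      (by simpa using memLocalRing_natCast (M := M) 1), ih, redC_one]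

end CfsgLib.Block
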