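import Cfsg.Agent.Lib.Block.DefectClass

/-!
Block induction from subgroups between `P C(P)` and `N(P)` through the Brauer homomorphism.
-/

set_option autoImplicit false
set_option linter.unusedSectionVars false

namespace CfsgLib.Block

open Cfsg MonoidAlgebra

universe u

variable {G : Type u} [Group G] [Finite G] {p : ℕ} {M : Ideal AlgInt} [M.IsPrime]

/-- A normal subgroup of `H` inherited from `P ≤ H ≤ N(P)`. -/
theorem subgroupOf_normal_of_le_normalizer {P H : Subgroup G} (hPH : P ≤ H)
    (hHN : H ≤ Subgroup.normalizer (P : Set G)) : (P.subgroupOf H).Normal :=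
  (Subgroup.normal_subgroupOf_iff_le_normalizer hPH).2 hHN

variable (hM : IsPModular p M)
include hM

/-- Modular central characters of `H` see only the part of a class inside `C(P)`. -/
theorem lam_resZ_eq_brHom [Fact p.Prime] [CharP (kres M) p] {P H : Subgroup G} (hP : IsPGroup p P) (hPH : P ≤ H)
    (hCH : Subgroup.centralizer (P : Set G) ≤ H) (hHN : H ≤ Subgroup.normalizer (P : Set G))
    (ξ : IrrCharacter H) (z : Subalgebra.center (kres M) (MonoidAlgebra (kres M) G)) :
    lam M ξ (resZ H z) = lam M ξ (brHom hP hCH hHN z) := by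
  have := subgroupOf_normal_of_le_normalizer hPH hHN
  have hP' : IsPGroup p (P.subgroupOf H) := hP.comap_subtype
  set d : Subalgebra.center (kres M) (MonoidAlgebra (kres M) H) :=
    resZ H z + (-1 : kres M) • brHom hP hCH hHN z with hd
  have hdz : ∀ x ∈ Subgroup.centralizer ((P.subgroupOf H : Subgroup H) : Set H),
      (d : MonoidAlgebra (kres M) H).coeff x = 0 := by
    intro x hx
    have hxP : (x : G) ∈ Subgroup.centralizer (P : Set G) := by
      rw [Subgroup.mem_centralizer_iff] at hx ⊢
      intro u hu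
      exact congrArg Subtype.val (hx ⟨u, hPH hu⟩ (show u ∈ P from hu))
    rw [hd, AddMemClass.coe_add, SetLike.val_smul, coe_resZ, coe_brHom]
    simp [coeff_brRes_of_mem _ hxP]
  obtain ⟨n, hn⟩ := isNilpotent_of_coeff_centralizer_eq_zero hP' (isClassCoeff_center d) hdz
  have h0 : lam M ξ d = 0 := by
    have h1 : d ^ n = 0 := Subtype.ext (by rw [SubmonoidClass.coe_pow, hn]; simp)
    have h2 := congrArg (lam M ξ) h1
    rw [map_pow, map_zero] at h2
    exact (pow_eq_zero_iff'.1 h2).1
  rw [hd, map_add, map_smul] at h0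
  simp only [smul_eq_mul, neg_one_mul] at h0
  linear_combination h0

/-- Every block of `H` with `P C(P) ≤ H ≤ N(P)` induces a block of `G`. -/
theorem exists_isInducedBlock_of_normalizer {P H : Subgroup G} (hP : IsPGroup p P) (hPH : P ≤ H)
    (hCH : Subgroup.centralizer (P : Set G) ≤ H) (hHN : H ≤ Subgroup.normalizer (P : Set G))
    {b : Set (IrrCharacter H)} (hb : IsPBlock M b) :
    ∃ B : Set (IrrCharacter G), IsInducedBlock M H b B := by
  have := Fact.mk hM.1
  have := charP_kres hM
  obtain ⟨ξ, hξ⟩ := isPBlock_nonempty hb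
  obtain ⟨χ, hχ⟩ := exists_eq_lam hM ((lam M ξ).comp (brHom hP hCH hHN))
  refine ⟨blockOf M (χ : G → ℂ),
    (isInducedBlock_iff H hb (isPBlock_blockOf χ) hξ (mem_blockOf_self χ)).2 fun z => ?_⟩
  rw [lam_resZ_eq_brHom hM hP hPH hCH hHN ξ z, ← hχ]
  rfl

end CfsgLib.Block
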