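import Cfsg.Agent.Lib.Block.RegularSum
import Cfsg.Agent.Lib.Block.BrauerInd

/-!
Frobenius congruences for character values, height-zero characters on defect classes, restriction
of regular sums.
-/

set_option autoImplicit false
set_option linter.unusedSectionVars false

namespace CfsgLib.Block

open Cfsg MonoidAlgebra

universe u

variable {G : Type u} [Group G] [Finite G] {p : ℕ} {M : Ideal AlgInt} [M.IsPrime]

theorem redC_char_pow (hM : IsPModular p M) {χ : G → ℂ} (hχ : IsCharacter G χ) (g : G) (j : ℕ) :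
    redC M (χ (g ^ p ^ j)) = redC M (χ g) ^ p ^ j := by
  obtain ⟨n, ρ, rfl⟩ := hχ
  obtain ⟨ι, hι, b, μ, -, h2, h3, -⟩ := CfsgLib.Char.exists_char_eigen ρ g
  have h5 := h3 1
  simp only [pow_one] at h5
  have hμ : ∀ i, MemLocalRing M (μ i) := fun i => memLocalRing_of_pow_eq_one (orderOf_pos g) (h2 i)
  have := Fact.mk hM.1
  have := charP_kres hM
  rw [h3, h5, redC_sum _ _ (fun i _ => (lring M).pow_mem (hμ i) _),
    redC_sum _ _ (fun i _ => hμ i), sum_pow_char_pow]
  refine Finset.sum_congr rfl fun i _ => ?_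
  rw [redC_eq ((lring M).pow_mem (hμ i) _), redC_eq (hμ i), ← map_pow]
  rfl

/-- Characters are congruent at `x * y` and `y` for a `p`-element `x` commuting with `y`. -/
theorem redC_char_mul_pelement (hM : IsPModular p M) {χ : G → ℂ} (hχ : IsCharacter G χ) {x y : G}
    (hc : Commute x y) (hx : ∃ k : ℕ, orderOf x = p ^ k) :
    redC M (χ (x * y)) = redC M (χ y) := by
  obtain ⟨k, hk⟩ := hx
  have := Fact.mk hM.1
  have := charP_kres hM
  have h : (x * y) ^ p ^ k = y ^ p ^ k := by
    rw [hc.mul_pow, ← hk, pow_orderOf_eq_one, one_mul]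
  have h2 := redC_char_pow hM hχ (x * y) k
  rw [h, redC_char_pow hM hχ y k] at h2
  exact iterateFrobenius_inj (kres M) p k h2.symm

theorem isDefectClass_regular (hM : IsPModular p M) {B : Set (IrrCharacter G)}
    (hB : IsPBlock M B) {y : G} (hy : IsDefectClass M B y) : ¬ p ∣ orderOf y := fun h => hy.2.1 (by
  rw [blockCoeff_eq_zero_of_singular hM hB h]; exact memLocalIdeal_zero)

/-- Height-zero characters do not vanish modulo `M` at a defect class. -/
theorem redC_char_defectClass_ne_zero (hM : IsPModular p M) {B : Set (IrrCharacter G)}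
    (hB : IsPBlock M B) {y : G} (hy : IsDefectClass M B y) {χ : IrrCharacter G} (hχ : χ ∈ B)
    (h0 : blockHeight p B (χ : G → ℂ) = 0) : redC M ((χ : G → ℂ) y) ≠ 0 := by
  intro hz
  rw [redC_eq_zero_iff (memLocalRing_irr_apply χ y)] at hz
  apply hy.2.2 χ hχ
  rw [centralChar_eq_div]
  refine memLocalIdeal_mul_left (memLocalRing_natCast_div hM (charDegree_ne_zero χ.2) (Or.inr ?_)) hz
  rw [(blockHeight_eq_zero_iff hM hB hχ).1 h0, sInf_degree_eq hM hB hy]

/-- The central character at `x y`, `x` a central element of a Sylow subgroup of `C(y)`. -/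
theorem lam_classSumZ_mul_ne_zero (hM : IsPModular p M) {B : Set (IrrCharacter G)}
    (hB : IsPBlock M B) {y : G} (hy : IsDefectClass M B y)
    (P : Sylow p (Subgroup.centralizer ({y} : Set G))) {x : Subgroup.centralizer ({y} : Set G)}
    (hx : x ∈ (P : Subgroup (Subgroup.centralizer ({y} : Set G))))
    (hxc : ∀ w ∈ (P : Subgroup (Subgroup.centralizer ({y} : Set G))), x * w = w * x)
    {χ : IrrCharacter G} (hχ : χ ∈ B) :
    lam M χ (classSumZ (kres M) ((x : G) * y)) ≠ 0 := by
  have := Fact.mk hM.1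
  obtain ⟨χ₀, hχ₀, h0⟩ := exists_height_zero hM hB
  rw [lam_eq_of_sameBlock (sameBlock_of_mem hB hχ hχ₀), lam_classSumZ, Ne,
    redC_eq_zero_iff (memLocalRing_centralChar χ₀.2 _)]
  intro hz
  have hcxy : Commute (x : G) y := Subgroup.mem_centralizer_singleton_iff.1 x.2
  have hxp : ∃ k : ℕ, orderOf (x : G) = p ^ k := by
    obtain ⟨k, hk⟩ := P.2 ⟨x, hx⟩
    obtain ⟨i, _, hi⟩ := (Nat.dvd_prime_pow hM.1).1 (orderOf_dvd_of_pow_eq_one
      (congrArg (fun t : ↥(P : Subgroup (Subgroup.centralizer ({y} : Set G))) =>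
        ((t : Subgroup.centralizer ({y} : Set G)) : G)) hk))
    exact ⟨i, hi⟩
  -- the centralizer of `x y` lies between `P` and `C(y)`
  have hle : Subgroup.centralizer ({(x : G) * y} : Set G) ≤
      Subgroup.centralizer ({y} : Set G) := by
    intro z hz'
    rw [Subgroup.mem_centralizer_singleton_iff] at hz' ⊢
    have h1 : Commute (x : G) z := isPPart_commute hM.1
      (isPPart_mul hcxy hxp (isDefectClass_regular hM hB hy)) (Commute.symm hz')
    calc z * y = (x : G)⁻¹ * (z * ((x : G) * y)) := by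
          rw [← mul_assoc z, ← h1.eq]; group
      _ = (x : G)⁻¹ * ((x : G) * y * z) := by rw [hz']
      _ = y * z := by group
  have hPle : cenSub y (P : Subgroup (Subgroup.centralizer ({y} : Set G))) ≤
      Subgroup.centralizer ({(x : G) * y} : Set G) := by
    rintro _ ⟨w, hw, rfl⟩
    rw [Subgroup.mem_centralizer_singleton_iff]
    have h1 : (x : G) * (w : G) = (w : G) * (x : G) := congrArg Subtype.val (hxc w hw)
    have h2 : (w : G) * y = y * (w : G) := Subgroup.mem_centralizer_singleton_iff.1 w.2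
    change (w : G) * ((x : G) * y) = (x : G) * y * (w : G)
    rw [← mul_assoc, ← h1, mul_assoc, h2, mul_assoc]
  have hfac : (Nat.card (Subgroup.centralizer ({(x : G) * y} : Set G))).factorization p =
      (Nat.card (Subgroup.centralizer ({y} : Set G))).factorization p := by
    refine le_antisymm ((Nat.factorization_le_iff_dvd Nat.card_pos.ne' Nat.card_pos.ne').2
      (Subgroup.card_dvd_of_le hle) p) ?_
    have h3 := Subgroup.card_dvd_of_le hPle
    rw [natCard_cenSub] at h3
    exact (hM.1.pow_dvd_iff_le_factorization Nat.card_pos.ne').1 h3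
  apply redC_char_defectClass_ne_zero hM hB hy hχ₀ h0
  rw [← redC_char_mul_pelement hM (CfsgLib.Char.irr_isCharacter χ₀.2) hcxy hxp,
    redC_eq_zero_iff (memLocalRing_irr_apply χ₀ _)]
  have hidx := factorization_index_add (p := p) ((x : G) * y)
  have hidy := factorization_index_add (p := p) y
  have hd : (charDegree (χ₀ : G → ℂ)).factorization p =
      (Subgroup.centralizer ({y} : Set G)).index.factorization p := by
    rw [(blockHeight_eq_zero_iff hM hB hχ₀).1 h0, sInf_degree_eq hM hB hy]
  have h0' : (χ₀ : G → ℂ) ((x : G) * y) = ((charDegree (χ₀ : G → ℂ) : ℂ) /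
      ((Subgroup.centralizer ({(x : G) * y} : Set G)).index : ℂ)) *
        centralChar (χ₀ : G → ℂ) ((x : G) * y) := by
    rw [centralChar_eq_div]
    have a1 : (charDegree (χ₀ : G → ℂ) : ℂ) ≠ 0 := by exact_mod_cast charDegree_ne_zero χ₀.2
    have a2 : ((Subgroup.centralizer ({(x : G) * y} : Set G)).index : ℂ) ≠ 0 := by
      exact_mod_cast Subgroup.index_ne_zero_of_finite
    field_simp
  rw [h0']
  exact memLocalIdeal_mul_left
    (memLocalRing_natCast_div hM Subgroup.index_ne_zero_of_finite (Or.inr (by omega))) hz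

theorem resZ_regZ (H : Subgroup G) {θ : G → ℂ} (hθ : IsCharacter G θ) :
    resZ H (regZ M p θ hθ) =
      regZ M p (fun h : H => θ (h : G)) (CfsgLib.Char.isCharacter_restrict hθ H) := by
  apply Subtype.ext
  rw [coe_resZ]
  change resSub H (redA M (regSum p θ)) = redA M (regSum p fun h : H => θ (h : G))
  rw [← resSub_regSum, redA_resSub]

/-- A height-zero character of the induced block restricts with a nonzero regular value. -/
theorem lam_regZ_restrict_ne_zero_iff (hM : IsPModular p M) {H : Subgroup G}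
    {b : Set (IrrCharacter H)} {B : Set (IrrCharacter G)} (hind : IsInducedBlock M H b B)
    {ξ : IrrCharacter H} (hξ : ξ ∈ b) (χ : IrrCharacter G) :
    lam M ξ (regZ M p (fun h : H => (χ : G → ℂ) h)
      (CfsgLib.Char.isCharacter_restrict (CfsgLib.Char.irr_isCharacter χ.2) H)) ≠ 0 ↔
      χ ∈ B ∧ blockHeight p B (χ : G → ℂ) = 0 := by
  obtain ⟨φ, hφ⟩ := isPBlock_nonempty hind.2.1
  rw [← resZ_regZ H (CfsgLib.Char.irr_isCharacter χ.2),
    (isInducedBlock_iff H hind.1 hind.2.1 hξ hφ).1 hind]
  by_cases hχ : χ ∈ B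
  · rw [lam_regZ_ne_zero_iff hM hind.2.1 hχ hφ]
    exact ⟨fun h => ⟨hχ, h⟩, fun h => h.2⟩
  · rw [lam_regZ_eq_zero hM (χ := χ) (φ := φ) fun hs =>
      hχ (mem_of_sameBlock hind.2.1 hφ (sameBlock_symm hs))]
    simp [hχ]

end CfsgLib.Block
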