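import Cfsg.Agent.Lib.Block.Orthogonality
import Cfsg.Agent.Lib.Block.LamZero
import Cfsg.Agent.Lib.Block.MainTheorems
import Cfsg.Agent.Lib.Char.Diag
import Cfsg.Agent.Lib.Char.Column
import Mathlib.LinearAlgebra.Trace
import Mathlib.FieldTheory.IsAlgClosed.Basic

/-!
The residue field is algebraically closed; reduced characters span the functions on `p`-regular
classes.
-/

set_option autoImplicit false
set_option linter.unusedSectionVars false

namespace CfsgLib.Block

open Cfsg
open scoped ComplexConjugate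

universe u

variable {M : Ideal AlgInt} [M.IsPrime]

theorem isAlgClosed_kres : IsAlgClosed (kres M) := by
  refine IsAlgClosed.of_exists_root _ fun f hf hirr => ?_
  classical
  set n := f.natDegree with hn
  have hnpos : 0 < n := hirr.natDegree_pos
  choose a b hb hab using fun i => memLocalRing_sec (M := M) (f.coeff i)
  set B : AlgInt := ∏ i ∈ Finset.range n, b i with hB
  have hBM : B ∉ M := Finset.prod_induction _ (· ∉ M) (fun _ _ => mul_not_mem) one_not_mem
    (fun i _ => hb i)
  have hB0 := coe_ne_zero_of_not_mem hBM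
  -- a complex root
  let q : Polynomial ℂ :=
    Polynomial.X ^ n + ∑ i ∈ Finset.range n, Polynomial.C (sec M (f.coeff i)) * Polynomial.X ^ i
  have hqn : q.coeff n = 1 := by
    simp [q, Polynomial.coeff_X_pow]
  obtain ⟨z, hz⟩ := IsAlgClosed.exists_root q (fun h => by
    have := Polynomial.le_natDegree_of_ne_zero (hqn ▸ one_ne_zero : q.coeff n ≠ 0)
    rw [Polynomial.natDegree_eq_zero_iff_degree_le_zero.2 h.le] at this
    omega)
  have hzeq : z ^ n + ∑ i ∈ Finset.range n, sec M (f.coeff i) * z ^ i = 0 := by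
    simpa [q, Polynomial.IsRoot, Polynomial.eval_finsetSum] using hz
  -- it lies in the local ring
  have hint : IsIntegral ℤ ((B : ℂ) * z) := by
    let d : ℕ → AlgInt := fun i => a i * (∏ j ∈ (Finset.range n).erase i, b j) * B ^ (n - i - 1)
    let r : Polynomial AlgInt :=
      Polynomial.X ^ n + ∑ i ∈ Finset.range n, Polynomial.C (d i) * Polynomial.X ^ i
    have hr : r.Monic := Polynomial.monic_X_pow_add (lt_of_le_of_lt (Polynomial.degree_sum_le _ _)
      ((Finset.sup_lt_iff (WithBot.bot_lt_coe n)).2 fun i hi =>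
        lt_of_le_of_lt (Polynomial.degree_C_mul_X_pow_le _ _)
          (WithBot.coe_lt_coe.2 (Finset.mem_range.1 hi))))
    refine isIntegral_trans (R := ℤ) (A := AlgInt) _ ⟨r, hr, ?_⟩
    simp only [r, Polynomial.eval₂_add, Polynomial.eval₂_X_pow, Polynomial.eval₂_finsetSum,
      Polynomial.eval₂_mul, Polynomial.eval₂_C]
    calc ((B : ℂ) * z) ^ n + ∑ i ∈ Finset.range n, (d i : ℂ) * ((B : ℂ) * z) ^ i
        = (B : ℂ) ^ n * (z ^ n + ∑ i ∈ Finset.range n, sec M (f.coeff i) * z ^ i) := by
          rw [mul_add, mul_pow, Finset.mul_sum]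
          congr 1
          refine Finset.sum_congr rfl fun i hi => ?_
          have h0 := coe_ne_zero_of_not_mem (hb i)
          have hBi : (B : ℂ) = (b i : ℂ) * ((∏ j ∈ (Finset.range n).erase i, b j : AlgInt) : ℂ) := by
            rw [hB, ← Finset.mul_prod_erase _ b hi]; push_cast; rfl
          obtain ⟨m, hm⟩ : ∃ m, n = i + 1 + m := ⟨n - (i + 1), by
            have := Finset.mem_range.1 hi; omega⟩
          have hm' : n - i - 1 = m := by omega
          simp only [d, hm', MulMemClass.coe_mul, SubmonoidClass.coe_pow]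
          rw [← hab i, mul_pow, show (B : ℂ) ^ n = (B : ℂ) ^ (i + 1 + m) by rw [← hm], pow_add,
            pow_succ, hBi]
          field_simp
      _ = 0 := by rw [hzeq, mul_zero]
  have hzR : MemLocalRing M z := by
    have := memLocalRing_mul (memLocalRing_of_isIntegral (M := M) hint)
      (inv_memLocalRing (memLocalRing_coe B) (fun h => hBM (memLocalIdeal_coe_iff.1 h)))
    rwa [mul_comm (B : ℂ), mul_assoc, mul_inv_cancel₀ hB0, mul_one] at this
  refine ⟨redC M z, ?_⟩
  have hpowz : ∀ i, MemLocalRing M (z ^ i) := fun i => (lring M).pow_mem hzR i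
  have hpow : ∀ i, redC M (z ^ i) = redC M z ^ i := fun i => by
    induction i with
    | zero => simp [redC_one]
    | succ i ih => rw [pow_succ, pow_succ, redC_mul (hpowz i) hzR, ih]
  have h := congrArg (redC M) hzeq
  rw [redC_zero, redC_add (hpowz n) (memLocalRing_sum _ _ fun i _ =>
      memLocalRing_mul (memLocalRing_sec _) (hpowz i)),
    redC_sum _ _ (fun i _ => memLocalRing_mul (memLocalRing_sec _) (hpowz i))] at h
  rw [hf.as_sum, Polynomial.eval_add, Polynomial.eval_pow, Polynomial.eval_X,
    Polynomial.eval_finsetSum, ← hn]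
  rw [hpow] at h
  convert h using 2
  refine Finset.sum_congr rfl fun i _ => ?_
  rw [redC_mul (memLocalRing_sec _) (hpowz i), redC_sec, hpow, Polynomial.eval_mul,
    Polynomial.eval_C, Polynomial.eval_pow, Polynomial.eval_X]

variable {G : Type u} [Group G] [Finite G] {p : ℕ} [hp : Fact p.Prime]

/-- The average of a character over a coset `y S`, with `y` centralizing `S`, is integral. -/
theorem isIntegral_average {χ : G → ℂ} (hχ : IsCharacter G χ) (S : Subgroup G) [Fintype S]
    {y : G} (hy : ∀ s ∈ S, Commute y s) :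
    IsIntegral ℤ ((Nat.card S : ℂ)⁻¹ * ∑ s : S, χ (y * (s : G))) := by
  classical
  obtain ⟨n, ρ, rfl⟩ := hχ
  set e : Module.End ℂ _ := (Nat.card S : ℂ)⁻¹ • ∑ s : S, ρ (s : G) with he
  have hS0 : (Nat.card S : ℂ) ≠ 0 := Nat.cast_ne_zero.2 Nat.card_pos.ne'
  have hse : ∀ s : S, ρ (s : G) * e = e := fun s => by
    rw [he, mul_smul_comm, Finset.mul_sum]
    congr 1
    exact Fintype.sum_equiv (Equiv.mulLeft s) _ _ fun t => by simp
  have hee : e * e = e := by
    conv_lhs => arg 1; rw [he]
    rw [smul_mul_assoc, Finset.sum_mul, Finset.sum_congr rfl (g := fun _ => e) fun s _ => hse s,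
      Finset.sum_const, Finset.card_univ, ← Nat.card_eq_fintype_card,
      ← Nat.cast_smul_eq_nsmul ℂ, smul_smul, inv_mul_cancel₀ hS0, one_smul]
  have hye : Commute (ρ y) e := by
    rw [he]
    exact Commute.smul_right (Commute.sum_right _ _ _ fun (s : S) _ => (hy (s : G) s.2).map ρ) _
  have hpowT : ∀ m : ℕ, (ρ y * e + (1 - e)) ^ m = ρ (y ^ m) * e + (1 - e) := by
    intro m
    induction m with
    | zero => simp
    | succ m ih =>
      rw [pow_succ, ih, pow_succ, map_mul]
      have h1 : e * (1 - e) = 0 := by rw [mul_sub, mul_one, hee, sub_self]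
      have h2 : (1 - e) * (ρ y * e) = 0 := by
        rw [hye.eq, ← mul_assoc, sub_mul, one_mul, hee, sub_self, zero_mul]
      have h3 : ρ (y ^ m) * e * (ρ y * e) = ρ (y ^ m) * ρ y * e := by
        rw [mul_assoc, ← mul_assoc e, ← hye.eq, mul_assoc (ρ y), hee, ← mul_assoc]
      have h4 : (1 - e) * (1 - e) = 1 - e := by
        rw [mul_sub, mul_one, sub_mul, one_mul, hee, sub_self, sub_zero]
      rw [add_mul, mul_add, mul_add, h2, h3, h4, mul_assoc (ρ (y ^ m)) e (1 - e), h1, mul_zero, add_zero, zero_add]
  obtain ⟨ι, hι, b, μ, h1, h2⟩ := CfsgLib.Char.exists_eigenbasis (ρ y * e + (1 - e))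
    (orderOf_pos y) (by rw [hpowT, pow_orderOf_eq_one, map_one, one_mul, add_sub_cancel])
  have htr := CfsgLib.Char.trace_eq_sum_eigen b _ μ h1
  rw [map_add, map_sub] at htr
  have hproj : LinearMap.IsProj (LinearMap.range e) e :=
    ⟨fun w => LinearMap.mem_range_self e w, fun w hw => by
      obtain ⟨v, rfl⟩ := hw; exact LinearMap.congr_fun hee v⟩
  have hval : (Nat.card S : ℂ)⁻¹ * ∑ s : S, ρ.character (y * (s : G)) =
      LinearMap.trace ℂ _ (ρ y * e) := by
    rw [he, mul_smul_comm, map_smul, smul_eq_mul]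
    congr 1
    rw [Finset.mul_sum, map_sum]
    exact Finset.sum_congr rfl fun s _ => by rw [← map_mul]; rfl
  rw [hproj.trace, LinearMap.trace_one] at htr
  rw [hval, show LinearMap.trace ℂ _ (ρ y * e) = (∑ i, μ i) -
    (((Module.finrank ℂ (Fin n → ℂ) : ℕ) : ℂ) -
      ((Module.finrank ℂ (LinearMap.range e) : ℕ) : ℂ)) from by rw [← htr]; ring]
  exact (IsIntegral.sum _ fun i _ => IsIntegral.of_pow (orderOf_pos y) (by
    rw [h2 i]; exact isIntegral_one)).sub ((isIntegral_natCast _).sub (isIntegral_natCast _))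

variable (hM : IsPModular p M)
include hM

/-- Reduced irreducible characters span the functions on `p`-regular classes. -/
theorem exists_delta_reduced (y : G) [Fintype (IrrCharacter G)] [DecidablePred (IsConj y)] :
    ∃ c : IrrCharacter G → kres M, ∀ z : G, ¬ p ∣ orderOf z → ¬ p ∣ orderOf y →
      (∑ χ : IrrCharacter G, c χ * redC M ((χ : G → ℂ) z)) = if IsConj y z then 1 else 0 := by
  classical
  have := Fintype.ofFinite G
  set C := Subgroup.centralizer ({y} : Set G)
  obtain ⟨S⟩ : Nonempty (Sylow p C) := inferInstance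
  set T : Subgroup G := (S : Subgroup C).map C.subtype
  have hTy : ∀ s ∈ T, Commute y s := by
    rintro _ ⟨s, -, rfl⟩
    exact (Subgroup.mem_centralizer_singleton_iff.1 s.2).symm
  have hTcard : Nat.card T = p ^ (Nat.card C).factorization p := by
    rw [Nat.card_congr ((S : Subgroup C).equivMapOfInjective C.subtype
      C.subtype_injective).symm.toEquiv, S.card_eq_multiplicity]
  have hTinv : ∀ s ∈ T, Commute y s⁻¹ := fun s hs => hTy _ (inv_mem hs)
  let q : IrrCharacter G → ℂ := fun χ =>
    (Nat.card T : ℂ)⁻¹ * ∑ s : T, conj ((χ : G → ℂ) (y * (s : G)))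
  have hqR : ∀ χ, MemLocalRing M (q χ) := fun χ => by
    refine memLocalRing_of_isIntegral ?_
    have h := (isIntegral_average (CfsgLib.Char.irr_isCharacter χ.2) T hTy).map
      (RingHom.toIntAlgHom (starRingEnd ℂ))
    simpa [q, map_mul, map_sum] using h
  set m : ℕ := Nat.card C / p ^ (Nat.card C).factorization p with hm
  have hmne : (m : kres M) ≠ 0 := by
    have := charP_kres hM
    rw [Ne, CharP.cast_eq_zero_iff (kres M) p]
    exact Nat.not_dvd_ordCompl hp.out Nat.card_pos.ne'
  refine ⟨fun χ => (m : kres M)⁻¹ * redC M (q χ), fun z hz hy => ?_⟩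
  have hsum : ∑ χ : IrrCharacter G, q χ * (χ : G → ℂ) z =
      if IsConj y z then (m : ℂ) else 0 := by
    simp only [q, mul_assoc, Finset.sum_mul]
    rw [← Finset.mul_sum, Finset.sum_comm, Finset.sum_eq_single (1 : T)]
    · simp only [OneMemClass.coe_one, mul_one]
      rw [show (∑ χ : IrrCharacter G, conj ((χ : G → ℂ) y) * (χ : G → ℂ) z) =
          ∑ χ : IrrCharacter G, (χ : G → ℂ) z * conj ((χ : G → ℂ) y) from
          Finset.sum_congr rfl fun χ _ => mul_comm _ _,
        CfsgLib.Char.column_orthogonality]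
      by_cases h : IsConj y z
      · obtain ⟨a, ha⟩ := isConj_iff.1 h
        have hcz : Nat.card (Subgroup.centralizer ({z} : Set G)) = Nat.card C := by
          refine Nat.card_congr ⟨fun w => ⟨a⁻¹ * w * a, ?_⟩, fun w => ⟨a * w * a⁻¹, ?_⟩, ?_, ?_⟩
          · rw [Subgroup.mem_centralizer_singleton_iff]
            have hw := Subgroup.mem_centralizer_singleton_iff.1 w.2
            calc a⁻¹ * w * a * y = a⁻¹ * ((w : G) * (a * y * a⁻¹)) * a := by group
              _ = a⁻¹ * ((a * y * a⁻¹) * w) * a := by rw [ha, hw]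
              _ = _ := by group
          · rw [Subgroup.mem_centralizer_singleton_iff]
            have hw := Subgroup.mem_centralizer_singleton_iff.1 w.2
            rw [← ha]
            calc a * w * a⁻¹ * (a * y * a⁻¹) = a * ((w : G) * y) * a⁻¹ := by group
              _ = a * (y * w) * a⁻¹ := by rw [hw]
              _ = _ := by group
          · intro w; apply Subtype.ext; simp only; group
          · intro w; apply Subtype.ext; simp only; group
        rw [if_pos h.symm, if_pos h, hcz, hTcard, hm,
          Nat.cast_div (Nat.ordProj_dvd _ _) (Nat.cast_ne_zero.2 (pow_ne_zero _ hp.out.ne_zero))]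
        ring
      · rw [if_neg fun h' => h h'.symm, if_neg h, mul_zero]
    · intro s _ hs
      rw [show (∑ χ : IrrCharacter G, conj ((χ : G → ℂ) (y * (s : G))) * (χ : G → ℂ) z) =
          ∑ χ : IrrCharacter G, (χ : G → ℂ) z * conj ((χ : G → ℂ) (y * (s : G))) from
          Finset.sum_congr rfl fun χ _ => mul_comm _ _,
        CfsgLib.Char.column_orthogonality, if_neg]
      intro hc
      apply hz
      have ho : orderOf z = orderOf (y * (s : G)) := by
        obtain ⟨a, ha⟩ := isConj_iff.1 hc
        rw [← ha]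
        exact (orderOf_injective (MulAut.conj a).toMonoidHom (MulAut.conj a).injective z).symm
      rw [ho, (hTy s s.2).orderOf_mul_eq_mul_orderOf_of_coprime]
      · refine dvd_mul_of_dvd_right ?_ _
        obtain ⟨k, hk⟩ := (IsPGroup.of_card hTcard).exists_orderOf_eq_pow s
        rw [Subgroup.orderOf_coe, hk]
        refine dvd_pow_self p fun h0 => hs ?_
        rw [h0, pow_zero, orderOf_eq_one_iff] at hk
        exact hk
      · obtain ⟨k, hk⟩ := (IsPGroup.of_card hTcard).exists_orderOf_eq_pow s
        rw [Subgroup.orderOf_coe, hk]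
        exact ((hp.out.coprime_iff_not_dvd.2 hy).symm).pow_right k
    · intro h; exact absurd (Finset.mem_univ _) h
  have h := congrArg (redC M) hsum
  rw [redC_sum _ _ (fun χ _ => memLocalRing_mul (hqR χ) (memLocalRing_irr_apply χ z))] at h
  simp only [mul_assoc, ← Finset.mul_sum]
  rw [Finset.sum_congr rfl fun χ _ => (redC_mul (hqR χ) (memLocalRing_irr_apply χ z)).symm, h]
  split_ifs
  · rw [redC_natCast, inv_mul_cancel₀ hmne]
  · rw [redC_zero, mul_zero]

end CfsgLib.Block
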