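import Cfsg.Agent.Lib.Block.LocalRing
import Cfsg.Agent.Lib.Block.ResidueSpan
import Cfsg.Agent.Lib.Char.Splitting
import Cfsg.Agent.Lib.BlockB.PModular
import Cfsg.Agent.Lib.BlockB.ClassMul

/-!
Reduction of complex representations modulo a prime over `p`, and irreducible constituents.
-/

set_option autoImplicit false

namespace CfsgLib.Block.SmallBlock

open Cfsg CfsgLib CfsgLib.Block Matrix

universe u v

variable {M : Ideal AlgInt} [M.IsPrime] {p : ℕ}

/-- A finite family of algebraic numbers has an element dividing all others locally. -/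
theorem exists_div_mem (hM : IsPModular p M) {ι : Type*} (s : Finset ι) (hs : s.Nonempty)
    (D : ι → ℂ) (hD : ∀ i, IsAlgebraic ℤ (D i)) (hne : ∃ i ∈ s, D i ≠ 0) :
    ∃ f ∈ s, D f ≠ 0 ∧ ∀ i ∈ s, MemLocalRing M (D i / D f) := by
  classical
  induction s using Finset.induction with
  | empty => exact absurd hs (by simp)
  | insert a s ha ih =>
    by_cases h : ∃ i ∈ s, D i ≠ 0
    · obtain ⟨i, hi, -⟩ := id h
      obtain ⟨f, hf, hf0, hfd⟩ := ih ⟨i, hi⟩ h
      have hz : IsAlgebraic ℤ (D a / D f) := by
        rw [div_eq_mul_inv]; exact (hD a).mul (hD f).inv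
      rcases mem_or_inv_mem hM hz with h1 | h1
      · exact ⟨f, Finset.mem_insert_of_mem hf, hf0, fun i hi => (Finset.mem_insert.1 hi).elim
          (fun e => e ▸ h1) (hfd i)⟩
      · by_cases ha0 : D a = 0
        · exact ⟨f, Finset.mem_insert_of_mem hf, hf0, fun i hi => (Finset.mem_insert.1 hi).elim
            (fun e => by rw [e, ha0, zero_div]; exact memLocalRing_of_memLocalIdeal memLocalIdeal_zero)
            (hfd i)⟩
        · refine ⟨a, Finset.mem_insert_self _ _, ha0, fun i hi => ?_⟩
          rcases Finset.mem_insert.1 hi with rfl | hi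
          · rw [div_self ha0]; exact memLocalRing_coe (1 : AlgInt)
          · rw [inv_div] at h1
            rw [← div_mul_div_cancel₀ hf0]
            exact memLocalRing_mul (hfd i hi) h1
    · push Not at h
      obtain ⟨i, hi, hi0⟩ := hne
      rcases Finset.mem_insert.1 hi with rfl | hi'
      · exact ⟨i, Finset.mem_insert_self _ _, hi0, fun l hl => (Finset.mem_insert.1 hl).elim
          (fun e => by rw [e, div_self hi0]; exact memLocalRing_coe (1 : AlgInt))
          (fun hl => by rw [h l hl, zero_div]; exact memLocalRing_of_memLocalIdeal memLocalIdeal_zero)⟩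
      · exact absurd (h i hi') hi0

variable {G : Type u} [Group G] [Finite G]

/-- Every character is afforded over the local ring. -/
theorem exists_local_rep (hM : IsPModular p M) {χ : G → ℂ} (hχ : IsCharacter G χ) :
    ∃ X : G →* Matrix (Fin (charDegree χ)) (Fin (charDegree χ)) (lring M),
      ∀ g, χ g = ((X g).map (lring M).subtype).trace := by
  classical
  have := Fintype.ofFinite G
  obtain ⟨n₀, ρ, hρ⟩ := hχ
  obtain ⟨σ, ⟨eq⟩, hσ⟩ := CfsgLib.Char.brauer_splitting ρ
  let S : G →* Matrix (Fin n₀) (Fin n₀) ℂ :=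
    { toFun := fun g => LinearMap.toMatrix' (σ g)
      map_one' := by rw [map_one]; exact LinearMap.toMatrix'_id
      map_mul' := fun g h => by rw [map_mul]; exact LinearMap.toMatrix'_mul _ _ }
  have hchar : ∀ g, χ g = (S g).trace := fun g => by
    have hiso : ρ.character = σ.character := Representation.char_iso eq
    rw [← hρ, hiso]
    change LinearMap.trace ℂ (Fin n₀ → ℂ) (σ g) = _
    exact LinearMap.trace_eq_matrix_trace ℂ (Pi.basisFun ℂ (Fin n₀)) (σ g)
  have halg : ∀ g i j, IsAlgebraic ℤ (S g i j) := fun g i j => by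
    have hζ : IsIntegral ℚ (Complex.exp (2 * Real.pi * Complex.I / (Monoid.exponent G : ℂ))) := by
      refine IsIntegral.of_pow (n := Monoid.exponent G) (Monoid.exponent_pos.2 Monoid.ExponentExists.of_finite) ?_
      rw [← Complex.exp_nat_mul, mul_div_cancel₀ _ (Nat.cast_ne_zero.2 Monoid.exponent_ne_zero_of_finite),
        Complex.exp_two_pi_mul_I]
      exact isIntegral_one
    have h := Algebra.IsIntegral.adjoin (fun z hz => by rw [Set.mem_singleton_iff.1 hz]; exact hζ)
    have h2 : IsAlgebraic ℚ (S g i j) :=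
      (isIntegral_algHom_iff (Algebra.adjoin ℚ
        ({Complex.exp (2 * Real.pi * Complex.I / (Monoid.exponent G : ℂ))} : Set ℂ)).val
        Subtype.val_injective).2 (h.isIntegral ⟨_, hσ g i j⟩) |>.isAlgebraic
    exact (IsFractionRing.isAlgebraic_iff ℤ ℚ ℂ).2 h2
  have hn : n₀ = charDegree χ := by
    have h1 := hchar 1
    rw [map_one, Matrix.trace_one, Fintype.card_fin, ← BlockB.charDegree_cast ⟨n₀, ρ, hρ⟩] at h1
    exact_mod_cast h1.symm
  obtain ⟨X, hX⟩ : ∃ X : G →* Matrix (Fin n₀) (Fin n₀) (lring M),
      ∀ g, χ g = ((X g).map (lring M).subtype).trace := by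
    let col : (Fin n₀ → G × Fin n₀) → Matrix (Fin n₀) (Fin n₀) ℂ :=
      fun f => Matrix.of fun i j => S (f j).1 i (f j).2
    have hDalg : ∀ f, IsAlgebraic ℤ (col f).det := fun f => by
      rw [Matrix.det_apply]
      refine Subalgebra.sum_mem (Subalgebra.algebraicClosure ℤ ℂ) fun τ _ => ?_
      exact zsmul_mem (Subalgebra.prod_mem (Subalgebra.algebraicClosure ℤ ℂ)
        fun i _ => halg _ _ _) _
    obtain ⟨f, -, hf0, hfd⟩ := exists_div_mem hM (Finset.univ : Finset (Fin n₀ → G × Fin n₀))
      ⟨fun j => (1, j), Finset.mem_univ _⟩ (fun f => (col f).det) hDalg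
      ⟨fun j => (1, j), Finset.mem_univ _, by
        rw [show col (fun j => (1, j)) = 1 by ext i j; simp [col]]; simp⟩
    set B := col f
    have hBu : IsUnit B.det := hf0.isUnit
    have hentry : ∀ g i j, MemLocalRing M ((B⁻¹ * S g * B) i j) := fun g i j => by
      have hcol : (fun a => (S g * B) a j) = fun a => S (g * (f j).1) a (f j).2 := funext fun a => by
        rw [map_mul, Matrix.mul_apply, Matrix.mul_apply]
        rfl
      have h1 : (B⁻¹ * S g * B) i j = (col (Function.update f i (g * (f j).1, (f j).2))).det / B.det := by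
        have h2 : B.updateCol i (fun a => (S g * B) a j) =
            col (Function.update f i (g * (f j).1, (f j).2)) := by
          rw [hcol]
          ext a c
          rw [Matrix.updateCol_apply]
          by_cases hc : c = i
          · simp [col, hc]
          · simp [col, B, hc]
        rw [← h2, ← Matrix.cramer_apply, eq_div_iff hf0]
        have h3 := congrFun (congrArg (B⁻¹ *ᵥ ·) (Matrix.mulVec_cramer B (fun a => (S g * B) a j))) i
        simp only [Matrix.mulVec_mulVec, Matrix.nonsing_inv_mul B hBu, Matrix.one_mulVec,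
          Matrix.mulVec_smul, Pi.smul_apply, smul_eq_mul] at h3
        rw [h3, mul_assoc, mul_comm]
        simp only [Matrix.mulVec, dotProduct, Matrix.mul_apply]
      rw [h1]; exact hfd _ (Finset.mem_univ _)
    let X0 : G → Matrix (Fin n₀) (Fin n₀) (lring M) :=
      fun g => Matrix.of fun i j => ⟨(B⁻¹ * S g * B) i j, hentry g i j⟩
    have hX0 : ∀ g, (X0 g).map (lring M).subtype = B⁻¹ * S g * B := fun g => rfl
    have hinj : Function.Injective fun A : Matrix (Fin n₀) (Fin n₀) (lring M) =>
        A.map (lring M).subtype := Matrix.map_injective Subtype.val_injective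
    refine ⟨{ toFun := X0, map_one' := hinj ?_, map_mul' := fun g h => hinj ?_ }, fun g => ?_⟩
    · simp only [hX0, map_one, Matrix.mul_one, Matrix.nonsing_inv_mul B hBu]
      rw [Matrix.map_one _ (map_zero _) (map_one _)]
    · simp only [hX0, Matrix.map_mul, map_mul]
      rw [show B⁻¹ * S g * B * (B⁻¹ * S h * B) = B⁻¹ * S g * (B * B⁻¹) * S h * B by simp only [mul_assoc],
        Matrix.mul_nonsing_inv B hBu, Matrix.mul_one]
      simp only [mul_assoc]
    · change χ g = ((X0 g).map (lring M).subtype).trace
      rw [hX0, Matrix.trace_mul_comm, ← mul_assoc, Matrix.mul_nonsing_inv B hBu, one_mul, hchar]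
  subst hn
  exact ⟨X, hX⟩

/-- The reduction is trivial only on elements of order divisible by `p` or the identity. -/
theorem map_eq_one_of_red (hM : IsPModular p M) {n : ℕ}
    (X : G →* Matrix (Fin n) (Fin n) (lring M)) {g : G} (hg : ¬ p ∣ orderOf g)
    (h : (X g).map (red M) = 1) : X g = 1 := by
  set m := orderOf g
  set S := ∑ i ∈ Finset.range m, X g ^ i
  have h1 : (X g - 1) * S = 0 := by
    rw [mul_geom_sum, ← map_pow, pow_orderOf_eq_one, map_one, sub_self]
  have hS : (red M).mapMatrix S = (m : Matrix (Fin n) (Fin n) (kres M)) := by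
    rw [map_sum, Finset.sum_congr rfl fun i _ => by rw [map_pow, RingHom.mapMatrix_apply, h, one_pow]]
    simp
  have hdet : IsUnit S.det := by
    refine isUnit_lring_iff.2 fun hmem => ?_
    have h2 : red M S.det = 0 := Ideal.Quotient.eq_zero_iff_mem.2 hmem
    rw [RingHom.map_det, hS] at h2
    have h3 : (m : kres M) ^ n = 0 := by
      rw [← h2, ← Matrix.diagonal_natCast, Matrix.det_diagonal, Finset.prod_const, Finset.card_univ,
        Fintype.card_fin]
    have h4 := (pow_eq_zero_iff').1 h3
    have hch := charP_kres hM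
    exact hg ((CharP.cast_eq_zero_iff (kres M) p m).1 h4.1)
  exact sub_eq_zero.1 (((Matrix.isUnit_iff_isUnit_det S).2 hdet).mul_left_eq_zero.1 h1)

variable {k : Type v} [Field k]

/-- A nontrivial representation of a perfect group has a nontrivial irreducible constituent. -/
theorem exists_irreducible_constituent (hperf : commutator G = ⊤) :
    ∀ (n : ℕ) (ρ : G →* Matrix (Fin n) (Fin n) k), (∃ g, ρ g ≠ 1) →
      ∃ (m : ℕ) (σ : G →* Module.End k (Fin m → k)), m ≤ n ∧ (∃ g, σ g ≠ 1) ∧
        ∀ W : Submodule k (Fin m → k), (∀ g, ∀ u ∈ W, σ g u ∈ W) → W = ⊥ ∨ W = ⊤ := by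
  classical
  intro n
  induction n using Nat.strong_induction_on with
  | _ n ih =>
    intro ρ hρ
    let σ : G →* Module.End k (Fin n → k) :=
      { toFun := fun g => Matrix.mulVecLin (ρ g)
        map_one' := by rw [map_one, Matrix.mulVecLin_one]; rfl
        map_mul' := fun g h => by rw [map_mul, Matrix.mulVecLin_mul]; rfl }
    have hσ : ∃ g, σ g ≠ 1 := hρ.imp fun g hg h => hg (Matrix.ext_iff_mulVec.2 fun v => by
      rw [Matrix.one_mulVec]; exact LinearMap.congr_fun h v)
    by_cases hirr : ∀ W : Submodule k (Fin n → k), (∀ g, ∀ u ∈ W, σ g u ∈ W) → W = ⊥ ∨ W = ⊤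
    · exact ⟨n, σ, le_rfl, hσ, hirr⟩
    push Not at hirr
    obtain ⟨W, hW, hW0, hW1⟩ := hirr
    have hlt : Module.finrank k W < n := by
      have := Submodule.finrank_lt hW1
      rwa [Module.finrank_fin_fun] at this
    have hltq : Module.finrank k ((Fin n → k) ⧸ W) < n := by
      have h := W.finrank_quotient_add_finrank
      rw [Module.finrank_fin_fun] at h
      have : 0 < Module.finrank k W := by
        rw [Nat.pos_iff_ne_zero, ne_eq, Submodule.finrank_eq_zero]; exact hW0
      omega
    have sub : ∀ {V : Type v} [AddCommGroup V] [Module k V] [FiniteDimensional k V]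
        (τ : G →* Module.End k V), Module.finrank k V < n → (∃ g, τ g ≠ 1) →
        ∃ (m : ℕ) (σ : G →* Module.End k (Fin m → k)), m ≤ n ∧ (∃ g, σ g ≠ 1) ∧
          ∀ W : Submodule k (Fin m → k), (∀ g, ∀ u ∈ W, σ g u ∈ W) → W = ⊥ ∨ W = ⊤ := by
      intro V _ _ _ τ hV hτ
      set b := Module.finBasis k V
      obtain ⟨g, hg⟩ := hτ
      obtain ⟨m, σ', hm, h1, h2⟩ := ih _ hV
        ((LinearMap.toMatrixAlgEquiv b).toMulEquiv.toMonoidHom.comp τ)
        ⟨g, fun h => hg ((LinearMap.toMatrixAlgEquiv b).injective (by rw [map_one]; exact h))⟩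
      exact ⟨m, σ', hm.trans hV.le, h1, h2⟩
    let σW : G →* Module.End k W :=
      { toFun := fun g => (σ g).restrict (hW g)
        map_one' := LinearMap.ext fun u => Subtype.ext (by simp)
        map_mul' := fun g h => LinearMap.ext fun u => Subtype.ext (by
          change σ (g * h) (u : Fin n → k) = σ g (σ h (u : Fin n → k))
          rw [map_mul, Module.End.mul_apply]) }
    let σQ : G →* Module.End k ((Fin n → k) ⧸ W) :=
      { toFun := fun g => W.mapQ W (σ g) (fun u hu => hW g u hu)
        map_one' := by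
          refine Submodule.linearMap_qext _ (LinearMap.ext fun u => ?_)
          simp
        map_mul' := fun g h => by
          refine Submodule.linearMap_qext _ (LinearMap.ext fun u => ?_)
          simp }
    by_cases h1 : ∃ g, σW g ≠ 1
    · exact sub σW hlt h1
    by_cases h2 : ∃ g, σQ g ≠ 1
    · exact sub σQ hltq h2
    push Not at h1 h2
    exfalso
    let δ : G →* Multiplicative (Module.End k (Fin n → k)) :=
      { toFun := fun g => Multiplicative.ofAdd (σ g - 1)
        map_one' := by rw [map_one, sub_self]; rfl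
        map_mul' := fun g h => by
          refine congrArg Multiplicative.ofAdd ?_
          refine LinearMap.ext fun u => ?_
          have hu : σ h u - u ∈ W := by
            have h3 := LinearMap.congr_fun (h2 h) (Submodule.Quotient.mk u)
            exact (Submodule.Quotient.eq W).1 h3
          have h4 : σ g (σ h u - u) = σ h u - u :=
            congrArg Subtype.val (LinearMap.congr_fun (h1 g) ⟨_, hu⟩)
          rw [map_sub] at h4
          simp only [map_mul, toAdd_ofAdd, LinearMap.sub_apply, Module.End.mul_apply, Module.End.one_apply,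
            LinearMap.add_apply]
          rw [sub_eq_iff_eq_add] at h4; rw [h4]; abel }
    have hker : δ.ker = ⊤ := top_le_iff.1 (hperf ▸ Abelianization.commutator_subset_ker δ)
    obtain ⟨g, hg⟩ := hσ
    exact hg (sub_eq_zero.1 (congrArg Multiplicative.toAdd (MonoidHom.mem_ker.1 (hker ▸ Subgroup.mem_top g))))

/-- A character of a nonabelian simple group gives a faithful irreducible modular representation. -/
theorem exists_modular_irreducible [IsSimpleGroup G] (hperf : commutator G = ⊤) [hp : Fact p.Prime]
    (hM : IsPModular p M) {χ : G → ℂ} (hχ : IsCharacter G χ) (hne : ∃ g, χ g ≠ χ 1) :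
    ∃ (m : ℕ) (σ : G →* Module.End (kres M) (Fin m → kres M)), m ≤ charDegree χ ∧
      Function.Injective σ ∧
      ∀ W : Submodule (kres M) (Fin m → kres M), (∀ g, ∀ u ∈ W, σ g u ∈ W) → W = ⊥ ∨ W = ⊤ := by
  classical
  obtain ⟨X, hX⟩ := exists_local_rep hM hχ
  let ρ : G →* Matrix (Fin (charDegree χ)) (Fin (charDegree χ)) (kres M) :=
    (red M).mapMatrix.toMonoidHom.comp X
  have hne' : ∃ g, ρ g ≠ 1 := by
    by_contra hall
    push Not at hall
    obtain ⟨g₀, hg₀⟩ := hne
    have hregk : ∀ g : G, ¬ p ∣ orderOf g → g ∈ X.toHomUnits.ker := fun g hg =>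
      MonoidHom.mem_ker.2 (Units.ext (map_eq_one_of_red hM X hg (hall g)))
    have hall1 : X.toHomUnits.ker = ⊤ := by
      rcases (inferInstance : X.toHomUnits.ker.Normal).eq_bot_or_eq_top with hk | hk
      · exfalso
        have hG : IsPGroup p G := by
          refine IsPGroup.of_card (n := (Nat.card G).primeFactorsList.length) ?_
          refine Nat.eq_prime_pow_of_unique_prime_dvd Nat.card_pos.ne' fun {d} hd hdvd => ?_
          by_contra hdp
          haveI : Fact d.Prime := ⟨hd⟩
          obtain ⟨y, hy⟩ := exists_prime_orderOf_dvd_card' (G := G) d hdvd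
          have := hregk y (by rw [hy]; exact fun h => hdp ((Nat.prime_dvd_prime_iff_eq hp.out hd).1 h).symm)
          rw [hk, Subgroup.mem_bot] at this
          rw [this, orderOf_one] at hy
          exact hd.ne_one hy.symm
        haveI : Group.IsNilpotent G := hG.isNilpotent
        exact (Group.IsSolvable.commutator_lt_top_of_nontrivial G).ne hperf
      · exact hk
    refine hg₀ ?_
    have h1 : X g₀ = X 1 := by
      rw [map_one]
      exact congrArg Units.val (MonoidHom.mem_ker.1 (hall1 ▸ Subgroup.mem_top g₀))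
    rw [hX g₀, hX 1, h1]
  obtain ⟨m, σ, hm, ⟨g, hg⟩, hirr⟩ := exists_irreducible_constituent hperf _ ρ hne'
  refine ⟨m, σ, hm, fun a b hab => ?_, hirr⟩
  have hk : σ.toHomUnits.ker = ⊥ := by
    rcases (inferInstance : σ.toHomUnits.ker.Normal).eq_bot_or_eq_top with hk | hk
    · exact hk
    · exact absurd (congrArg Units.val (MonoidHom.mem_ker.1 (hk ▸ Subgroup.mem_top g))) hg
  exact (MonoidHom.ker_eq_bot_iff _).1 hk (Units.ext hab)

end CfsgLib.Block.SmallBlock
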