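import Cfsg.Agent.Lib.Block.PrincipalSection
import Cfsg.Agent.Lib.Block.LatticeRed
import Cfsg.Agent.Lib.Char.Linear
import Cfsg.Agent.Lib.Transfer.Frobenius

/-!
A nontrivial character of the principal block of degree below `p` makes a Sylow subgroup of order `p`
of a simple group self-centralizing.
-/

set_option autoImplicit false

namespace CfsgLib.Block.BrauerTuan

open Cfsg CfsgLib CfsgLib.Block

universe u

variable {G : Type u} [Group G] [Finite G] {p : ℕ} [hpf : Fact p.Prime]

/-- An absent eigenvalue gives a linear relation among the values on a coset. -/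
theorem exists_twisted_sum_zero {χ : G → ℂ} (hχ : IsCharacter G χ) {x : G} (hx : orderOf x = p)
    (hd : charDegree χ < p) :
    ∃ ω : ℂ, ω ^ p = 1 ∧ ∀ z : G, ∑ i ∈ Finset.range p, ω ^ i * χ (z * x ^ i) = 0 := by
  classical
  obtain ⟨m, ρ, hρ⟩ := hχ
  set f : Module.End ℂ (Fin m → ℂ) := ρ x
  have hm : m < p := by
    have h1 : (charDegree χ : ℂ) = (m : ℂ) := by
      rw [BlockB.charDegree_cast ⟨m, ρ, hρ⟩, ← hρ, Representation.char_one, Module.finrank_fin_fun]
    have h2 : charDegree χ = m := by exact_mod_cast h1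
    omega
  have hprim := Complex.isPrimitiveRoot_exp p hpf.out.ne_zero
  set η := Complex.exp (2 * Real.pi * Complex.I / p)
  obtain ⟨i, hi⟩ : ∃ i : Fin p, ¬ f.HasEigenvalue ((η ^ (i : ℕ))) := by
    by_contra hall
    push Not at hall
    have hsub : (Finset.univ.image fun i : Fin p => η ^ (i : ℕ)) ⊆ f.charpoly.roots.toFinset := fun μ hμ => by
      obtain ⟨i, -, rfl⟩ := Finset.mem_image.1 hμ
      rw [Multiset.mem_toFinset, Polynomial.mem_roots f.charpoly_monic.ne_zero]
      exact (Module.End.hasEigenvalue_iff_isRoot_charpoly f _).1 (hall i)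
    have h1 := (Finset.card_le_card hsub).trans
      ((Multiset.toFinset_card_le _).trans (Polynomial.card_roots' _))
    rw [Finset.card_image_of_injective _ fun a b hab => Fin.ext (hprim.pow_inj a.2 b.2 hab),
      Finset.card_univ, Fintype.card_fin, LinearMap.charpoly_natDegree, Module.finrank_fin_fun] at h1
    omega
  set μ := η ^ (i : ℕ)
  have hμp : μ ^ p = 1 := by rw [← pow_mul, mul_comm, pow_mul, hprim.pow_eq_one, one_pow]
  have hμ0 : μ ≠ 0 := fun h => by rw [h, zero_pow hpf.out.ne_zero] at hμp; exact zero_ne_one hμp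
  refine ⟨μ⁻¹, by rw [inv_pow, hμp, inv_one], fun z => ?_⟩
  set S := ∑ i ∈ Finset.range p, (μ⁻¹ • f) ^ i
  have hS : (μ⁻¹ • f - 1) * S = 0 := by
    have hfp : f ^ p = 1 := by rw [← map_pow, ← hx, pow_orderOf_eq_one, map_one]
    rw [mul_geom_sum, smul_pow, inv_pow, hμp, hfp, inv_one, one_smul, sub_self]
  have hS0 : S = 0 := LinearMap.ext fun v => by
    by_contra hv
    refine hi (Module.End.hasEigenvalue_of_hasEigenvector (x := S v)
      ⟨Module.End.mem_eigenspace_iff.2 ?_, hv⟩)
    have h := LinearMap.congr_fun hS v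
    rw [Module.End.mul_apply, LinearMap.sub_apply, LinearMap.smul_apply, Module.End.one_apply,
      LinearMap.zero_apply, sub_eq_zero] at h
    conv_rhs => rw [← h]
    rw [smul_smul, mul_inv_cancel₀ hμ0, one_smul]
  calc ∑ i ∈ Finset.range p, μ⁻¹ ^ i * χ (z * x ^ i)
      = LinearMap.trace ℂ (Fin m → ℂ) (ρ z * S) := by
        rw [Finset.mul_sum, map_sum]
        refine Finset.sum_congr rfl fun i _ => ?_
        rw [smul_pow, mul_smul_comm, map_smul, smul_eq_mul, ← hρ, ← map_pow, ← map_mul]
        rfl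
    _ = 0 := by rw [hS0, mul_zero, map_zero]

/-- A faithful principal block character of degree below `p` makes `⟨x⟩` self-centralizing. -/
theorem centralizer_eq_of_small_principal [IsSimpleGroup G] (hperf : commutator G = ⊤)
    {M : Ideal AlgInt} (hM : IsPModular p M) {x : G} (hx : orderOf x = p)
    (hsq : ¬ p ^ 2 ∣ Nat.card G) {χ : IrrCharacter G} (hB : χ ∈ principalBlock M G)
    (hne : ∃ g, (χ : G → ℂ) g ≠ (χ : G → ℂ) 1) (hd : charDegree (χ : G → ℂ) < p) :
    Subgroup.centralizer ({x} : Set G) = Subgroup.zpowers x := by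
  classical
  have := isPrime_of_pmodular hM
  have hp := hpf.out
  set C := Subgroup.centralizer ({x} : Set G)
  have hxC : x ∈ C := Subgroup.mem_centralizer_singleton_iff.2 rfl
  -- the centralizer has a normal p-complement
  have hsqC : ¬ p ^ 2 ∣ Nat.card C := fun h => hsq (h.trans (Subgroup.card_subgroup_dvd_card C))
  let x' : C := ⟨x, hxC⟩
  have hx' : orderOf x' = p := by rw [Subgroup.orderOf_mk, hx]
  obtain ⟨Q, hQ⟩ := (IsPGroup.of_card (n := 1) (G := Subgroup.zpowers x')
    (by rw [Nat.card_zpowers, hx', pow_one])).exists_le_sylow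
  have hQc : Nat.card Q = p := by
    obtain ⟨k, hk⟩ := IsPGroup.iff_card.1 Q.isPGroup'
    have h1 : p ∣ Nat.card Q := by
      have := Subgroup.card_dvd_of_le hQ
      rwa [Nat.card_zpowers, hx'] at this
    rw [hk] at h1 ⊢
    have h2 : k ≤ 1 := by
      by_contra h
      exact hsqC ((pow_dvd_pow p (by omega : 2 ≤ k)).trans (hk ▸ Subgroup.card_subgroup_dvd_card (Q : Subgroup C)))
    interval_cases k
    · exact absurd h1 (by rw [pow_zero]; exact hp.not_dvd_one)
    · rw [pow_one]
  have hQeq : (Q : Subgroup C) = Subgroup.zpowers x' :=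
    (Subgroup.eq_of_le_of_card_ge hQ (by rw [hQc, Nat.card_zpowers, hx'])).symm
  have hcompl : Cfsg.HasNormalPComplement p C := by
    refine CfsgLib.Transfer.hasNormalPComplement_of_normalizer_le_centralizer Q fun n _ => ?_
    rw [hQeq, Subgroup.zpowers_eq_closure, Subgroup.centralizer_closure,
      Subgroup.mem_centralizer_singleton_iff]
    exact Subtype.ext (Subgroup.mem_centralizer_singleton_iff.1 n.2)
  have hpow : ∀ i : ℕ, ¬ p ∣ i → Subgroup.centralizer ({x ^ i} : Set G) = C ∧ orderOf (x ^ i) = p := by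
    intro i hi
    have hco : Nat.Coprime (orderOf x) i := by rw [hx]; exact hp.coprime_iff_not_dvd.2 hi
    have ho : orderOf (x ^ i) = p := by rw [Nat.Coprime.orderOf_pow hco, hx]
    have hz : Subgroup.zpowers (x ^ i) = Subgroup.zpowers x :=
      Subgroup.eq_of_le_of_card_ge (Subgroup.zpowers_le.2 (Subgroup.npow_mem_zpowers x i))
        (by rw [Nat.card_zpowers, Nat.card_zpowers, ho, hx])
    refine ⟨?_, ho⟩
    rw [← Subgroup.centralizer_closure, ← Subgroup.zpowers_eq_closure, hz, Subgroup.zpowers_eq_closure,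
      Subgroup.centralizer_closure]
  -- regular elements of the centralizer lie in the kernel
  obtain ⟨ω, hω, hsum⟩ := exists_twisted_sum_zero (Char.irr_isCharacter χ.2) hx hd
  have hker : ∀ z ∈ C, ¬ p ∣ orderOf z → (χ : G → ℂ) z = (χ : G → ℂ) 1 := by
    intro z hz hzr
    have hval : ∀ i ∈ Finset.range p, i ≠ 0 →
        (χ : G → ℂ) (z * x ^ i) = (χ : G → ℂ) (x ^ i) := fun i hi hi0 => by
      have hnd : ¬ p ∣ i := fun h => by
        have := Nat.le_of_dvd (Nat.pos_of_ne_zero hi0) h
        have := Finset.mem_range.1 hi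
        omega
      obtain ⟨hc, ho⟩ := hpow i hnd
      have hcomm : Commute (x ^ i) z :=
        (Subgroup.mem_centralizer_singleton_iff.1 (hc ▸ hz : z ∈ Subgroup.centralizer ({x ^ i} : Set G))).symm
      have h := (principal_section hM ⟨1, by rw [ho, pow_one]⟩ (hc ▸ hcompl)).1 χ hB z hcomm hzr
      rwa [hcomm.eq] at h
    have h0 := hsum z
    have h1 := hsum 1
    have h2 : ∑ i ∈ Finset.range p, ω ^ i * (χ : G → ℂ) (z * x ^ i) -
        ∑ i ∈ Finset.range p, ω ^ i * (χ : G → ℂ) (1 * x ^ i) = 0 := by rw [h0, h1, sub_zero]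
    rw [← Finset.sum_sub_distrib, Finset.sum_eq_single 0] at h2
    · rw [pow_zero, pow_zero, one_mul, one_mul, mul_one, one_mul] at h2
      exact sub_eq_zero.1 h2
    · intro i hi hi0
      rw [hval i hi hi0, one_mul, sub_self]
    · intro h; exact absurd (Finset.mem_range.2 hp.pos) h
  obtain ⟨m, ρ, hρ, hρχ⟩ := χ.2
  have hker1 : ∀ g, (χ : G → ℂ) g = (χ : G → ℂ) 1 → g = 1 := fun g hg => by
    have hg' : g ∈ (MonoidHom.ker ρ : Subgroup G) := by rw [Char.mem_ker_iff_char, hρχ]; exact hg
    rcases (inferInstance : (MonoidHom.ker ρ : Subgroup G).Normal).eq_bot_or_eq_top with hk | hk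
    · rw [hk, Subgroup.mem_bot] at hg'; exact hg'
    · obtain ⟨a, ha⟩ := hne
      refine absurd ?_ ha
      have h : a ∈ (MonoidHom.ker ρ : Subgroup G) := hk ▸ Subgroup.mem_top a
      rwa [Char.mem_ker_iff_char, hρχ] at h
  have hCp : IsPGroup p C := by
    refine IsPGroup.of_card (n := (Nat.card C).primeFactorsList.length) ?_
    refine Nat.eq_prime_pow_of_unique_prime_dvd Nat.card_pos.ne' fun {l} hl hdvd => ?_
    by_contra hlp
    haveI : Fact l.Prime := ⟨hl⟩
    obtain ⟨y, hy⟩ := exists_prime_orderOf_dvd_card' (G := C) l hdvd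
    have hy' : orderOf (y : G) = l := by rw [Subgroup.orderOf_coe, hy]
    have h1 := hker1 (y : G) (hker y y.2 (by
      rw [hy']; exact fun h => hlp ((Nat.prime_dvd_prime_iff_eq hp hl).1 h).symm))
    rw [h1, orderOf_one] at hy'
    exact hl.ne_one hy'.symm
  refine (Subgroup.eq_of_le_of_card_ge (Subgroup.zpowers_le.2 hxC) ?_).symm
  rw [Nat.card_zpowers, hx]
  obtain ⟨k, hk⟩ := IsPGroup.iff_card.1 hCp
  rw [hk]
  have h2 : k ≤ 1 := by
    by_contra h
    exact hsqC ((pow_dvd_pow p (by omega : 2 ≤ k)).trans (dvd_of_eq hk.symm))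
  exact (Nat.pow_le_pow_right hp.pos h2).trans (pow_one p).le

end CfsgLib.Block.BrauerTuan
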