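import Cfsg.Agent.Lib.Char.Galois
import Mathlib.FieldTheory.IsAlgClosed.Classification

/-!
Automorphisms of the complex field with prescribed action on the algebraic numbers.
-/

set_option autoImplicit false

namespace CfsgLib.Block

open CfsgLib.Char

/-- An embedding of the algebraic numbers extends to an automorphism of `ℂ`. -/
theorem exists_ringEquiv_extend (φ : algNum →ₐ[ℚ] ℂ) :
    ∃ σ : ℂ ≃+* ℂ, ∀ x : algNum, σ (x : ℂ) = φ x := by
  have := algNum_isAlgebraic
  have hmem : ∀ x, φ x ∈ algNum := fun x => by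
    rw [mem_algebraicClosure_iff]
    exact (Algebra.IsAlgebraic.isAlgebraic x).algHom φ
  let φ' : algNum →ₐ[ℚ] algNum := φ.codRestrict algNum.toSubalgebra hmem
  let ψ : algNum ≃+* algNum :=
    (AlgEquiv.ofBijective φ' (Algebra.IsAlgebraic.algHom_bijective φ')).toRingEquiv
  obtain ⟨ι, v, hv⟩ := exists_isTranscendenceBasis' algNum ℂ
  letI := IsAlgClosed.isAlgClosure_of_transcendence_basis v hv
  let e : Algebra.adjoin algNum (Set.range v) ≃+* Algebra.adjoin algNum (Set.range v) :=
    (hv.1.aevalEquiv.symm.toRingEquiv.trans (MvPolynomial.mapEquiv ι ψ)).trans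
      hv.1.aevalEquiv.toRingEquiv
  refine ⟨IsAlgClosure.equivOfEquiv ℂ ℂ e, fun x => ?_⟩
  have h1 : ((x : algNum) : ℂ) = algebraMap (Algebra.adjoin algNum (Set.range v)) ℂ
      (algebraMap algNum _ x) := rfl
  rw [h1, IsAlgClosure.equivOfEquiv_algebraMap]
  have h2 : e (algebraMap algNum _ x) = algebraMap algNum _ (ψ x) := by
    change hv.1.aevalEquiv (MvPolynomial.mapEquiv ι ψ
      (hv.1.aevalEquiv.symm (algebraMap algNum _ x))) = _
    rw [AlgEquiv.commutes, MvPolynomial.algebraMap_eq, MvPolynomial.mapEquiv_apply,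
      MvPolynomial.map_C, ← MvPolynomial.algebraMap_eq]
    exact AlgEquiv.commutes _ _
  rw [h2]
  rfl

end CfsgLib.Block
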