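import Cfsg.Agent.Lib.Block.DefectOneMain
import Cfsg.Agent.Lib.Block.ComplexAut

/-!
Galois conjugates of the characters of a block of defect one.
-/

set_option autoImplicit false
set_option linter.unusedSectionVars false

namespace CfsgLib.Block

open Cfsg
open scoped ComplexConjugate

universe u

/-- A field automorphism acts on character values through a power map. -/
theorem exists_pow_of_ringEquiv {G : Type u} [Group G] [Finite G] (σ : ℂ ≃+* ℂ) :
    ∃ m : ℕ, m.Coprime (Nat.card G) ∧ (∀ μ : ℂ, μ ^ Nat.card G = 1 → σ μ = μ ^ m) ∧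
      ∀ χ : G → ℂ, IsCharacter G χ → ∀ g : G, σ (χ g) = χ (g ^ m) := by
  let f : CfsgLib.Char.algNum →ₐ[ℚ] ℂ :=
    (σ.toRingHom.comp (algebraMap CfsgLib.Char.algNum ℂ)).toRatAlgHom
  obtain ⟨m, hm, hf⟩ := CfsgLib.Char.exists_pow_of_emb (Nat.card_pos (α := G)) f
  refine ⟨m, hm, fun μ hμ => ?_, fun χ hχ g => ?_⟩
  · have h := hf ⟨μ, CfsgLib.Char.mem_algNum_of_pow_eq_one Nat.card_pos hμ⟩ (Subtype.ext hμ)
    exact h
  · have h := CfsgLib.Char.emb_charVal hχ f hf g
    exact h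

/-- An automorphism of `ℂ` acting by a prescribed power map on the roots of unity. -/
theorem exists_ringEquiv_pow (N : ℕ) (hN : 0 < N) {m : ℕ} (hm : m.Coprime N) :
    ∃ σ : ℂ ≃+* ℂ, ∀ μ : ℂ, μ ^ N = 1 → σ μ = μ ^ m := by
  obtain ⟨f, hf⟩ := CfsgLib.Char.exists_emb_pow hN hm
  obtain ⟨σ, hσ⟩ := exists_ringEquiv_extend f
  exact ⟨σ, fun μ hμ =>
    (hσ ⟨μ, CfsgLib.Char.mem_algNum_of_pow_eq_one hN hμ⟩).trans (hf _ (Subtype.ext hμ))⟩

namespace OneBlock

variable {G : Type u} [Group G] [Fintype G] {p : ℕ} [hp : Fact p.Prime] {M : Ideal AlgInt}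
  [M.IsPrime] (O : OneBlock G p M)

local notation "Cx" => Subgroup.centralizer (Singleton.singleton (OneBlock.x O) : Set G)
local notation "ψ" => (ZMod.stdAddChar (N := p))

theorem exists_conj_zpowers {g : G} (hg : orderOf g = p) :
    ∃ a : G, a * g * a⁻¹ ∈ Subgroup.zpowers O.x := by
  have hPc : Nat.card (Subgroup.zpowers O.x) = p ^ (Nat.card G).factorization p := by
    rw [Nat.card_zpowers, O.hxo]
    have h1 : p ∣ Nat.card G := O.hxo ▸ orderOf_dvd_natCard O.x
    have h2 := (hp.out.dvd_iff_one_le_factorization Nat.card_pos.ne').1 h1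
    have h3 : ¬ 2 ≤ (Nat.card G).factorization p := fun h =>
      O.hsq ((hp.out.pow_dvd_iff_le_factorization Nat.card_pos.ne').2 h)
    rw [show (Nat.card G).factorization p = 1 by omega, pow_one]
  let P : Sylow p G := Sylow.ofCard (Subgroup.zpowers O.x) hPc
  obtain ⟨Q, hQ⟩ := (IsPGroup.of_card (n := 1)
    (show Nat.card (Subgroup.zpowers g) = p ^ 1 by rw [Nat.card_zpowers, hg, pow_one])).exists_le_sylow
  obtain ⟨a, ha⟩ := MulAction.exists_smul_eq G Q P
  refine ⟨a, ?_⟩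
  have : a * g * a⁻¹ ∈ (P : Subgroup G) := by
    rw [← ha]
    exact Subgroup.mem_map_of_mem _ (hQ (Subgroup.mem_zpowers g))
  exact this

/-- Every singular element is conjugate to a product of a nontrivial power of `x` and a regular
element centralizing it. -/
theorem exists_conj_split {g : G} (hg : p ∣ orderOf g) :
    ∃ (a : G) (i : ZMod p) (y : Cx), i ≠ 0 ∧ ¬ p ∣ orderOf y ∧
      a * g * a⁻¹ = O.x ^ i.val * (y : G) := by
  obtain ⟨a, ha⟩ := O.exists_conj_zpowers
    (orderOf_pow_orderOf_div (orderOf_pos g).ne' hg : orderOf (g ^ (orderOf g / p)) = p)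
  have hord : orderOf (a * g * a⁻¹) = orderOf g :=
    orderOf_injective (MulAut.conj a).toMonoidHom (MulAut.conj a).injective g
  set k := a * g * a⁻¹ with hk
  have hkC : k ∈ Cx := by
    have heq : Subgroup.zpowers (k ^ (orderOf g / p)) = Subgroup.zpowers O.x :=
      Subgroup.eq_of_le_of_card_ge (Subgroup.zpowers_le.2 (by rw [hk, conj_pow]; exact ha)) (by
        rw [Nat.card_zpowers, Nat.card_zpowers, O.hxo, ← hord,
          orderOf_pow_orderOf_div (orderOf_pos k).ne' (hord ▸ hg)])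
    have hmem : O.x ∈ Subgroup.zpowers k :=
      Subgroup.zpowers_le.2 (pow_mem (Subgroup.mem_zpowers k) (orderOf g / p))
        (heq ▸ Subgroup.mem_zpowers O.x)
    rw [Subgroup.mem_centralizer_singleton_iff]
    obtain ⟨j, hj⟩ := Subgroup.mem_zpowers_iff.1 hmem
    rw [← hj]
    exact (Commute.zpow_right (Commute.refl k) j).eq
  obtain ⟨i, y, hy, hc⟩ := O.exists_split ⟨k, hkC⟩
  refine ⟨a, i, y, ?_, hy, by simpa [z] using congrArg Subtype.val hc⟩
  rintro rfl
  apply hy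
  rw [ZMod.val_zero, pow_zero, one_mul] at hc
  rw [← hc, Subgroup.orderOf_mk, hord]
  exact hg

variable {B : Set (IrrCharacter G)} (hind : IsInducedBlock M
  (Subgroup.centralizer ({O.x} : Set G)) O.b B)
include hind

/-- A power map fixing the regular elements carries a character to the one with the shifted row. -/
theorem eq_comp_pow {m : ℕ} (hm : ∀ g : G, ¬ p ∣ orderOf g → g ^ m = g) {μ : (ZMod p)ˣ}
    (hμ : ((m : ℕ) : ZMod p) = (μ : ZMod p)) {χ χ' : IrrCharacter G} (hχ : χ ∈ B) (hχ' : χ' ∈ B)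
    (hreg : ∀ g : G, ¬ p ∣ orderOf g → (χ' : G → ℂ) g = (χ : G → ℂ) g)
    (hrow : ∀ v, O.row χ' v = O.row χ (μ⁻¹ * v)) (g : G) :
    (χ' : G → ℂ) g = (χ : G → ℂ) (g ^ m) := by
  by_cases hg : p ∣ orderOf g
  swap
  · rw [hm g hg, hreg g hg]
  obtain ⟨a, i, y, hi, hy, h⟩ := O.exists_conj_split hg
  rw [← CfsgLib.Char.irr_isClassFunction χ'.2 g a,
    ← CfsgLib.Char.irr_isClassFunction χ.2 (g ^ m) a, ← conj_pow, h]
  have hcomm : Commute (O.x ^ i.val) (y : G) :=
    Commute.pow_left (Subgroup.mem_centralizer_singleton_iff.1 y.2).symm _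
  have hpow : (O.x ^ i.val * (y : G)) ^ m = O.x ^ (i * (m : ZMod p)).val * (y : G) := by
    rw [hcomm.mul_pow, hm (y : G) (by rwa [Subgroup.orderOf_coe]), ← pow_mul,
      ← DefectOne.pow_val_natCast O.hxo, Nat.cast_mul, ZMod.natCast_zmod_val]
  rw [hpow, hμ]
  obtain ⟨κ, hκ, c, Θ, -, hc0, -, hval⟩ := O.exists_values hind
  rw [hval χ' hχ' i hi y hy, hval χ hχ _ (mul_ne_zero hi μ.ne_zero) y hy]
  refine Finset.sum_congr rfl fun q _ => ?_
  congr 1
  rw [show c q * i = ((Units.mk0 (c q * i) (mul_ne_zero (hc0 q) hi) : (ZMod p)ˣ) : ZMod p) from rfl,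
    show c q * (i * (μ : ZMod p)) =
      ((Units.mk0 (c q * i) (mul_ne_zero (hc0 q) hi) * μ : (ZMod p)ˣ) : ZMod p) by
    simp [mul_assoc], ah_eq_sum_row, ah_eq_sum_row]
  refine Fintype.sum_equiv (Equiv.mulLeft μ⁻¹) _ _ fun v => ?_
  rw [Equiv.coe_mulLeft, hrow, Units.val_mul, Units.val_mul, Units.val_mk0]
  congr 2
  calc (v : ZMod p) * (c q * i)
      = (v : ZMod p) * (c q * i) * (((μ⁻¹ : (ZMod p)ˣ) : ZMod p) * (μ : ZMod p)) := by
        rw [Units.inv_mul, mul_one]
    _ = _ := by ring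

end OneBlock

end CfsgLib.Block
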