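import Cfsg.Agent.Lib.Block.BTFusion
import Cfsg.Agent.Lib.Block.DefectOneGalois
import Cfsg.Agent.Lib.BlockA.Galois
import Cfsg.Agent.Lib.BlockA.RealOdd

/-!
Values on `p`-regular elements of the exceptional characters of degree `p - 2` of a simple group
with dihedral Sylow normalizer: `η (g * g) = η g ^ 2 - (p - 3) * η g`.
-/

set_option autoImplicit false
set_option linter.unusedSectionVars false

namespace CfsgLib.Block.BrauerTuan

open Cfsg CfsgLib CfsgLib.Block CfsgLib.Block.BrauerReynolds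
open scoped ComplexConjugate

universe u

variable {G : Type u} [Group G] [Finite G] {p : ℕ} [hpf : Fact p.Prime]
  {M : Ideal AlgInt} {P : Sylow p G} {t d₀ : ℕ} {CF YF : Finset (IrrCharacter G)}
  {ε : IrrCharacter G → ℤ}

/-- A class function vanishing on the nontrivial elements of `P` vanishes on the singular elements. -/
theorem apply_singular (hP : Nat.card P = p)
    (hC : Subgroup.centralizer ((P : Subgroup G) : Set G) = (P : Subgroup G))
    {θ : G → ℂ} (hθ : IsClassFunction G θ) {g : G} (hg : p ∣ orderOf g) :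
    ∃ y ∈ (P : Subgroup G), y ≠ 1 ∧ θ g = θ y ∧ IsConj g y := by
  obtain ⟨s, h1, h2⟩ := exists_conj_mem hP hC hg
  have hc : IsConj g (s⁻¹ * g * s) := isConj_iff.2 ⟨s⁻¹, by rw [inv_inv]⟩
  exact ⟨_, h1, h2, Char.isClassFunction_isConj hθ hc, hc⟩

/-- The row data. -/
theorem exists_row_two (hp5 : 5 ≤ p) (D : RowData M P 2 t d₀ (-1) CF YF ε) (hd₀ : d₀ = p - 2) :
    ∃ χ₁ : IrrCharacter G, χ₁ ≠ (⟨fun _ => 1, Char.isIrrCharacter_one⟩ : IrrCharacter G) ∧
      χ₁ ∈ CF ∧ (∀ χ ∈ CF, χ = ⟨fun _ => 1, Char.isIrrCharacter_one⟩ ∨ χ = χ₁) ∧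
      charDegree (χ₁ : G → ℂ) = p - 1 ∧
      (∀ y ∈ (P : Subgroup G), y ≠ 1 → (χ₁ : G → ℂ) y = -1) ∧
      ∀ η ∈ YF, ∀ g : G, ¬ p ∣ orderOf g → (η : G → ℂ) g = (χ₁ : G → ℂ) g - 1 := by
  classical
  obtain ⟨hCFcard, hYcard, -, -, -, -, hYdeg, -, -, hrel⟩ := D.exc (by have := D.hte; omega)
  set one : IrrCharacter G := ⟨fun _ => 1, Char.isIrrCharacter_one⟩ with hone
  obtain ⟨χ₁, hχ₁⟩ : ∃ χ₁, CF.erase one = {χ₁} :=
    Finset.card_eq_one.1 (by rw [Finset.card_erase_of_mem D.one_mem, hCFcard])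
  have hCFeq : CF = insert one {χ₁} := by rw [← hχ₁, Finset.insert_erase D.one_mem]
  have hne : χ₁ ≠ one := (Finset.mem_erase.1 (by rw [hχ₁]; exact Finset.mem_singleton_self _)).1
  have hχ₁CF : χ₁ ∈ CF := by rw [hCFeq]; simp
  have hrel' : ∀ η ∈ YF, ∀ g : G, ¬ p ∣ orderOf g →
      (ε χ₁ : ℂ) * (χ₁ : G → ℂ) g = -(η : G → ℂ) g - 1 := fun η hη g hg => by
    have h := hrel η hη g hg
    rw [hCFeq, Finset.sum_insert (by simp [Ne.symm hne]), Finset.sum_singleton, hone, D.eps_one] at h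
    simp only [Int.cast_one, one_mul, Int.cast_neg] at h
    linear_combination h
  obtain ⟨η₀, hη₀⟩ := Finset.card_pos.1 (show 0 < YF.card by rw [hYcard]; exact D.t_pos)
  obtain ⟨hε₁, hD₁⟩ : ε χ₁ = -1 ∧ charDegree (χ₁ : G → ℂ) = p - 1 := by
    have h := hrel' η₀ hη₀ 1 (by rw [orderOf_one]; exact hpf.out.not_dvd_one)
    rw [← BlockB.irr_degree_cast χ₁, ← BlockB.irr_degree_cast η₀, hYdeg η₀ hη₀, hd₀] at h
    have h' : ε χ₁ * (charDegree (χ₁ : G → ℂ) : ℤ) = -((p - 2 : ℕ) : ℤ) - 1 := by exact_mod_cast h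
    have hpos : 0 < charDegree (χ₁ : G → ℂ) := BlockB.irr_degree_pos χ₁
    rcases D.eps_pm χ₁ hχ₁CF with he | he
    · rw [he, one_mul] at h'; omega
    · rw [he] at h'; exact ⟨he, by omega⟩
  refine ⟨χ₁, hne, hχ₁CF, fun χ hχ => by rw [hCFeq] at hχ; simpa using hχ, hD₁, fun y hy hy1 => ?_,
    fun η hη g hg => ?_⟩
  · rw [D.CF_val χ₁ hχ₁CF y hy hy1, hε₁]; norm_num
  · have h := hrel' η hη g hg
    rw [hε₁] at h
    push_cast at h
    linear_combination h

/-- The characters of degree `p - 2` are faithful. -/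
theorem eq_one_of_apply_eq_degree [IsSimpleGroup G] {η : G → ℂ} (hη : IsIrrCharacter G η)
    (hd : 2 ≤ charDegree η) {g : G} (h : η g = η 1) : g = 1 := by
  classical
  have := Fintype.ofFinite G
  obtain ⟨m, ρ, hρ, hρη⟩ := hη
  have hgk : g ∈ (MonoidHom.ker ρ : Subgroup G) := by rw [Char.mem_ker_iff_char, hρη]; exact h
  rcases (inferInstance : (MonoidHom.ker ρ : Subgroup G).Normal).eq_bot_or_eq_top with hk | hk
  · rwa [hk, Subgroup.mem_bot] at hgk
  · exfalso
    have h1 : ∀ u : G, η u = (charDegree η : ℂ) := fun u => by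
      have : u ∈ (MonoidHom.ker ρ : Subgroup G) := hk ▸ Subgroup.mem_top u
      rw [Char.mem_ker_iff_char, hρη] at this
      rw [this, BlockB.charDegree_cast ⟨m, ρ, hρη⟩]
    have hn := sum_norm_sq_irr (⟨m, ρ, hρ, hρη⟩ : IsIrrCharacter G η)
    simp only [h1, Complex.norm_natCast, Finset.sum_const, Finset.card_univ, nsmul_eq_mul,
      ← Nat.card_eq_fintype_card] at hn
    have h2 : (charDegree η : ℝ) ^ 2 = 1 :=
      (mul_eq_left₀ (Nat.cast_ne_zero.2 Nat.card_pos.ne')).1 hn
    have h3 : charDegree η ^ 2 = 1 := by exact_mod_cast h2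
    have := (Nat.pow_eq_one.1 h3).resolve_right two_ne_zero
    omega

/-- The non-exceptional character is rational. -/
theorem exists_int_row (hp5 : 5 ≤ p) (hM : IsPModular p M) (hP : Nat.card P = p)
    (hC : Subgroup.centralizer ((P : Subgroup G) : Set G) = (P : Subgroup G))
    (D : RowData M P 2 t d₀ (-1) CF YF ε) (hd₀ : d₀ = p - 2) {χ₁ : IrrCharacter G}
    (hall : ∀ χ ∈ CF, χ = ⟨fun _ => 1, Char.isIrrCharacter_one⟩ ∨ χ = χ₁)
    (hdeg : charDegree (χ₁ : G → ℂ) = p - 1)
    (hval : ∀ y ∈ (P : Subgroup G), y ≠ 1 → (χ₁ : G → ℂ) y = -1) (g : G) :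
    ∃ k : ℤ, (χ₁ : G → ℂ) g = k := by
  classical
  obtain ⟨-, -, -, -, -, hcover, hYdeg, -, -, -⟩ := D.exc (by have := D.hte; omega)
  obtain ⟨x, hxQ, hx1⟩ : ∃ x ∈ (P : Subgroup G), x ≠ 1 := by
    refine Subgroup.bot_or_exists_ne_one _ |>.resolve_left fun h => ?_
    have hQ : Nat.card (P : Subgroup G) = p := hP
    rw [h, Subgroup.card_bot] at hQ
    exact hpf.out.ne_one hQ.symm
  have hfix : ∀ m : ℕ, m.Coprime (Nat.card G) → ∀ u : G, (χ₁ : G → ℂ) (u ^ m) = (χ₁ : G → ℂ) u :=
    fun m hm u => by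
    let χ' : IrrCharacter G := ⟨fun v => (χ₁ : G → ℂ) (v ^ m),
      BlockA.isIrrCharacter_comp_pow hm χ₁.2⟩
    have hxm : x ^ m ≠ 1 := fun h => hx1 (by
      rw [← orderOf_eq_one_iff]
      exact Nat.eq_one_of_dvd_coprimes hm (orderOf_dvd_of_pow_eq_one h) (orderOf_dvd_natCard x))
    have hB : χ' ∈ principalBlock M G := by
      by_contra hB
      have h := apply_eq_zero_of_not_principal hP hC hM χ' hB hxQ hx1
      change (χ₁ : G → ℂ) (x ^ m) = 0 at h
      rw [hval _ (pow_mem hxQ m) hxm] at h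
      norm_num at h
    have hd : charDegree (χ' : G → ℂ) = p - 1 := by
      rw [← hdeg]
      change charDegree (fun v => (χ₁ : G → ℂ) (v ^ m)) = _
      simp [charDegree]
    have e : χ' = χ₁ := by
      rcases hcover χ' hB with h | h
      · refine (hall χ' h).resolve_left fun h1 => ?_
        rw [h1] at hd
        simp [charDegree] at hd
        omega
      · have := hYdeg χ' h
        omega
    exact congrFun (congrArg Subtype.val e) u
  obtain ⟨q, hq⟩ := Char.exists_rat_of_emb_fixed (Char.charVal (Char.irr_isCharacter χ₁.2) g)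
    fun ψ => by
      obtain ⟨m, hm, hψ⟩ := Char.exists_pow_of_emb (Nat.card_pos (α := G)) ψ
      rw [Char.emb_charVal (Char.irr_isCharacter χ₁.2) ψ hψ g, hfix m hm g]
      rfl
  have hq' : (χ₁ : G → ℂ) g = (q : ℂ) := hq
  obtain ⟨k, hk⟩ := Char.exists_int_of_isIntegral_rat
    (hq' ▸ irr_apply_isIntegral (Char.irr_isCharacter χ₁.2) g)
  exact ⟨k, by rw [hq', hk, Rat.cast_intCast]⟩

/-- The exceptional characters are real. -/
theorem conj_exceptional [IsSimpleGroup G] (hperf : commutator G = ⊤) (hp5 : 5 ≤ p)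
    (hM : IsPModular p M) (hP : Nat.card P = p)
    (hC : Subgroup.centralizer ((P : Subgroup G) : Set G) = (P : Subgroup G))
    (D : RowData M P 2 t d₀ (-1) CF YF ε) (hd₀ : d₀ = p - 2) {η : IrrCharacter G} (hη : η ∈ YF)
    (g : G) : conj ((η : G → ℂ) g) = (η : G → ℂ) g := by
  classical
  by_cases hg : p ∣ orderOf g
  · obtain ⟨y, hy, hy1, hθ, -⟩ := apply_singular hP hC (Char.irr_isClassFunction η.2) hg
    obtain ⟨z, hz, hzN, -⟩ := isConj_involution_of_e_two hperf hp5 hM P hP hC D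
    have hzz : z * z = 1 := by rw [← sq, ← hz, pow_orderOf_eq_one]
    have hzinv : z⁻¹ = z := inv_eq_of_mul_eq_one_right hzz
    have hzP : z ∉ (P : Subgroup G) := fun h => by
      have h' := orderOf_dvd_natCard (⟨z, h⟩ : (P : Subgroup G))
      rw [Subgroup.orderOf_mk, hz, hP] at h'
      have := (Nat.prime_dvd_prime_iff_eq Nat.prime_two hpf.out).1 h'
      omega
    set w := z * y * z with hwdef
    have hw : w ∈ (P : Subgroup G) := by
      have h := (Subgroup.mem_normalizer_iff.1 hzN y).1 hy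
      rwa [hzinv] at h
    have hyw : w * y = y * w := by
      have : IsCyclic (P : Subgroup G) := isCyclic_of_prime_card hP
      let : CommGroup (P : Subgroup G) := IsCyclic.commGroup
      exact congrArg Subtype.val (mul_comm (⟨w, hw⟩ : (P : Subgroup G)) ⟨y, hy⟩)
    have hwinv : w = y⁻¹ := by
      by_contra hne
      have hne1 : w * y ≠ 1 := fun h => hne (eq_inv_of_mul_eq_one_left h)
      refine hzP (eq_one_of_commute hP hC (Subgroup.mul_mem _ hw hy) hne1 ?_)
      change w * y * z = z * (w * y)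
      calc w * y * z = y * w * z := by rw [hyw]
        _ = y * z * y * (z * z) := by rw [hwdef]; simp only [mul_assoc]
        _ = z * (w * y) := by rw [hzz, mul_one, hwdef]; simp only [← mul_assoc, hzz, one_mul]
    rw [hθ, irr_conj_eq η.2, ← hwinv]
    exact Char.isClassFunction_isConj (Char.irr_isClassFunction η.2)
      (isConj_iff.2 ⟨z, by rw [hzinv]⟩).symm
  · obtain ⟨χ₁, -, -, hall, hdeg, hval, hrel⟩ := exists_row_two hp5 D hd₀
    obtain ⟨k, hk⟩ := exists_int_row hp5 hM hP hC D hd₀ hall hdeg hval g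
    rw [hrel η hη g hg, hk]
    simp

/-- The alternating squares of the exceptional characters. -/
theorem sq_apply_exceptional [IsSimpleGroup G] (hperf : commutator G = ⊤) (hp5 : 5 ≤ p)
    (hM : IsPModular p M) (hP : Nat.card P = p)
    (hC : Subgroup.centralizer ((P : Subgroup G) : Set G) = (P : Subgroup G))
    (D : RowData M P 2 t d₀ (-1) CF YF ε) (hd₀ : d₀ = p - 2) {η₀ : IrrCharacter G} (hη₀ : η₀ ∈ YF)
    {g : G} (hg : ¬ p ∣ orderOf g) :
    (η₀ : G → ℂ) g ^ 2 - (η₀ : G → ℂ) (g * g) = ((p : ℂ) - 3) * (η₀ : G → ℂ) g := by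
  classical
  have := Fintype.ofFinite G
  have := Fintype.ofFinite (IrrCharacter G)
  have hp := hpf.out
  have hte := D.hte
  obtain ⟨-, hYcard, -, -, hdisj, hcover, hYdeg, -, hcol, -⟩ := D.exc (by omega)
  obtain ⟨χ₁, hne, hχ₁CF, hall, hdeg, hval, hrel⟩ := exists_row_two hp5 D hd₀
  set one : IrrCharacter G := ⟨fun _ => 1, Char.isIrrCharacter_one⟩ with hone
  have honeY : one ∉ YF := Finset.disjoint_left.1 hdisj D.one_mem
  have hχ₁Y : χ₁ ∉ YF := Finset.disjoint_left.1 hdisj hχ₁CF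
  have hreal := fun η (hη : η ∈ YF) u => conj_exceptional hperf hp5 hM hP hC D hd₀ (η := η) hη u
  have heq : ∀ η ∈ YF, ∀ u : G, ¬ p ∣ orderOf u → (η : G → ℂ) u = (η₀ : G → ℂ) u :=
    fun η hη u hu => by rw [hrel η hη u hu, hrel η₀ hη₀ u hu]
  have hgg : ¬ p ∣ orderOf (g * g) := fun h => hg (by
    rw [← sq] at h
    exact h.trans (orderOf_pow_dvd 2))
  have hdegv : ∀ η ∈ YF, (η : G → ℂ) 1 = ((p - 2 : ℕ) : ℂ) := fun η hη => by
    rw [← BlockB.irr_degree_cast η, hYdeg η hη, hd₀]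
  -- the alternating squares
  let A : IrrCharacter G → G → ℂ := fun η u => ((η : G → ℂ) u ^ 2 - (η : G → ℂ) (u * u)) / 2
  have hA : ∀ η, IsCharacter G (A η) := fun η => by
    obtain ⟨n, ρ, hρ, hρη⟩ := η.2
    obtain ⟨S, B, -, hB, hadd, hsub⟩ := Char.exists_sq_split ρ
    have : A η = B := funext fun u => by
      have h1 := hadd u
      have h2 := hsub u
      simp only [A, ← hρη]
      linear_combination (-1 / 2 : ℂ) * h1 + (1 / 2 : ℂ) * h2
    rw [this]; exact hB
  set Θ : G → ℂ := ∑ η ∈ YF, A η with hΘdef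
  have hΘ : IsCharacter G Θ := Char.isCharacter_sum _ fun η _ => hA η
  choose m hm using fun χ : IrrCharacter G =>
    Char.classInner_isCharacter_nat hΘ (Char.irr_isCharacter χ.2)
  have hexp : ∀ u, Θ u = ∑ χ : IrrCharacter G, (m χ : ℂ) * (χ : G → ℂ) u := fun u => by
    rw [Char.classFunction_apply_eq_sum (Char.isCharacter_isClassFunction hΘ) u]
    exact Finset.sum_congr rfl fun χ _ => by rw [hm χ]
  have hΘapply : ∀ u, Θ u = ∑ η ∈ YF, A η u := fun u => by rw [hΘdef, Finset.sum_apply]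
  -- no trivial constituent
  have hm0 : m one = 0 := by
    have h0 : ∀ η ∈ YF, classInner (A η) (one : G → ℂ) = 0 := fun η hη => by
      have h1 : (Nat.card G : ℂ)⁻¹ * ∑ u : G, (η : G → ℂ) u * conj ((η : G → ℂ) u) = 1 :=
        Char.irr_classInner_self η.2
      simp only [hreal η hη] at h1
      have hodd : Odd (charDegree (η : G → ℂ)) := by
        rw [hYdeg η hη, hd₀]
        rcases hp.eq_two_or_odd' with h | ⟨k, hk⟩
        · omega
        · exact ⟨k - 1, by omega⟩
      have h2 := BlockA.fsInd_eq_one_of_odd η hodd fun u => Complex.conj_eq_iff_im.1 (hreal η hη u)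
      unfold BlockB.fsInd at h2
      rw [Char.classInner_def]
      simp only [A, hone, map_one, mul_one, ← Finset.sum_div, Finset.sum_sub_distrib]
      rw [← mul_div_assoc, mul_sub, h2]
      simp only [sq]
      rw [h1, sub_self, zero_div]
    have h : ((m one : ℕ) : ℂ) = 0 := by
      rw [← hm one, hΘdef, Char.classInner_sum_left]
      exact Finset.sum_eq_zero h0
    exact_mod_cast h
  -- the values on `P`
  obtain ⟨x, hxQ, hx1⟩ : ∃ x ∈ (P : Subgroup G), x ≠ 1 := by
    refine Subgroup.bot_or_exists_ne_one _ |>.resolve_left fun h => ?_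
    have hQ : Nat.card (P : Subgroup G) = p := hP
    rw [h, Subgroup.card_bot] at hQ
    exact hp.ne_one hQ.symm
  have hsplit : ∀ (y : G), y ∈ (P : Subgroup G) → y ≠ 1 → ∀ F : IrrCharacter G → ℂ,
      ∑ χ : IrrCharacter G, F χ * (χ : G → ℂ) y =
        F one - F χ₁ + ∑ η ∈ YF, F η * (η : G → ℂ) y := fun y hy hy1 F => by
    rw [← Finset.sum_subset (Finset.subset_univ ({one, χ₁} ∪ YF)) fun χ _ hχ => ?_,
      Finset.sum_union ?_, Finset.sum_insert (by simp [Ne.symm hne]), Finset.sum_singleton,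
      hval y hy hy1]
    · simp [hone, sub_eq_add_neg]
    · simp [Finset.disjoint_left, honeY, hχ₁Y]
    · rw [apply_eq_zero_of_not_principal hP hC hM χ (fun hB => hχ ?_) hy hy1, mul_zero]
      rcases hcover χ hB with h | h
      · rcases hall χ h with h | h <;> simp [h, hone]
      · exact Finset.mem_union_right _ h
  have hsq : ∀ y ∈ (P : Subgroup G), y ≠ 1 → ∑ η ∈ YF, (η : G → ℂ) y ^ 2 = (p : ℂ) - 2 := by
    intro y hy hy1
    have h := Char.column_orthogonality y y
    rw [if_pos (IsConj.refl y), cen_eq hP hC hy hy1] at h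
    have hQ : Nat.card (P : Subgroup G) = p := hP
    rw [hQ, Finset.sum_congr rfl fun χ _ => mul_comm _ _,
      hsplit y hy hy1 fun χ => conj ((χ : G → ℂ) y)] at h
    rw [Finset.sum_congr rfl fun (η : IrrCharacter G) (hη : η ∈ YF) => show (η : G → ℂ) y ^ 2 =
      conj ((η : G → ℂ) y) * (η : G → ℂ) y by rw [hreal η hη y, sq]]
    rw [hval y hy hy1] at h
    simp [hone] at h
    linear_combination h
  have hΘP : ∀ y ∈ (P : Subgroup G), y ≠ 1 → Θ y = (t : ℂ) - 1 := fun y hy hy1 => by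
    have hyy : y * y ≠ 1 := fun h => by
      have h1 := orderOf_dvd_natCard (⟨y, hy⟩ : (P : Subgroup G))
      rw [Subgroup.orderOf_mk, hP] at h1
      have h2 := orderOf_dvd_of_pow_eq_one (show y ^ 2 = 1 by rw [sq, h])
      rcases hp.eq_one_or_self_of_dvd _ h1 with h3 | h3
      · exact hy1 (orderOf_eq_one_iff.1 h3)
      · rw [h3] at h2; have := Nat.le_of_dvd (by omega) h2; omega
    rw [hΘapply]
    simp only [A]
    rw [← Finset.sum_div, Finset.sum_sub_distrib, hsq y hy hy1, hcol _ (mul_mem hy hy) hyy]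
    have : (p : ℂ) = 2 * t + 1 := by rw [← hte]; push_cast; ring
    rw [this]; push_cast; ring
  -- the multiplicities agree
  have ht2 : 2 ≤ t := by omega
  set n : ℕ := t - 1 + m χ₁ with hn
  let f : G → ℂ := fun u => ∑ η ∈ YF, ((m η : ℂ) - n) * (η : G → ℂ) u
  have hfP : ∀ y ∈ (P : Subgroup G), y ≠ 1 → f y = 0 := fun y hy hy1 => by
    have h := hexp y
    rw [hΘP y hy hy1, hsplit y hy hy1 fun χ => (m χ : ℂ), hm0] at h
    simp only [f, sub_mul, Finset.sum_sub_distrib, ← Finset.mul_sum, hcol y hy hy1]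
    rw [hn]
    push_cast [Nat.cast_sub (show 1 ≤ t by omega)] at h ⊢
    linear_combination -h
  have hfcl : IsClassFunction G f := fun a b => Finset.sum_congr rfl fun η _ => by
    rw [Char.irr_isClassFunction η.2 a b]
  have hfsing : ∀ u, p ∣ orderOf u → f u = 0 := fun u hu => by
    obtain ⟨y, hy, hy1, he, -⟩ := apply_singular hP hC hfcl hu
    rw [he, hfP y hy hy1]
  set Cst : ℂ := ∑ η ∈ YF, ((m η : ℂ) - n) with hCst
  have hfreg : ∀ u, ¬ p ∣ orderOf u → f u = Cst * (η₀ : G → ℂ) u := fun u hu => by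
    rw [hCst, Finset.sum_mul]
    exact Finset.sum_congr rfl fun η hη => by rw [heq η hη u hu]
  have hsum0 : ∀ η ∈ YF, ∑ u : G, (η : G → ℂ) u = 0 := fun η hη => by
    have h := Char.irr_classInner η.2 (Char.isIrrCharacter_one (G := G))
    rw [if_neg (fun he => honeY (by
      have : η = one := Subtype.ext he
      rwa [← this])), Char.classInner_def] at h
    simpa [Nat.card_pos.ne'] using h
  have hC0 : Cst = 0 := by
    set R := ∑ u ∈ Finset.univ.filter (fun u : G => ¬ p ∣ orderOf u), (η₀ : G → ℂ) u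
    have hR : (t : ℂ) * R + ((Finset.univ.filter fun u : G => p ∣ orderOf u).card : ℂ) = 0 := by
      have h : ∑ u : G, ∑ η ∈ YF, (η : G → ℂ) u = 0 := by
        rw [Finset.sum_comm]; exact Finset.sum_eq_zero hsum0
      rw [← Finset.sum_filter_add_sum_filter_not _ (fun u : G => p ∣ orderOf u), add_comm] at h
      rw [← h, Finset.card_eq_sum_ones, Nat.cast_sum, Finset.mul_sum]
      refine congrArg₂ (· + ·) (Finset.sum_congr rfl fun u hu => ?_) (Finset.sum_congr rfl fun u hu => ?_)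
      · rw [Finset.sum_congr rfl fun η hη => heq η hη u (Finset.mem_filter.1 hu).2, Finset.sum_const,
          hYcard, nsmul_eq_mul]
      · obtain ⟨y, hy, hy1, -, hc⟩ :=
          apply_singular hP hC (Char.irr_isClassFunction η₀.2) (Finset.mem_filter.1 hu).2
        rw [Finset.sum_congr rfl fun η _ => Char.isClassFunction_isConj
          (Char.irr_isClassFunction η.2) hc, hcol y hy hy1]
        norm_num
    have hf0 : ∑ u : G, f u = 0 := by
      simp only [f]
      rw [Finset.sum_comm]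
      exact Finset.sum_eq_zero fun η hη => by rw [← Finset.mul_sum, hsum0 η hη, mul_zero]
    rw [← Finset.sum_filter_add_sum_filter_not _ (fun u : G => p ∣ orderOf u),
      Finset.sum_eq_zero fun u hu => hfsing u (Finset.mem_filter.1 hu).2, zero_add,
      Finset.sum_congr rfl fun u hu => hfreg u (Finset.mem_filter.1 hu).2, ← Finset.mul_sum] at hf0
    refine (mul_eq_zero.1 hf0).resolve_right fun (h : R = 0) => ?_
    rw [h, mul_zero, zero_add, Nat.cast_eq_zero, Finset.card_eq_zero] at hR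
    have hxo : p ∣ orderOf x := by
      have h1 := orderOf_dvd_natCard (⟨x, hxQ⟩ : (P : Subgroup G))
      rw [Subgroup.orderOf_mk, hP] at h1
      rcases hp.eq_one_or_self_of_dvd _ h1 with h3 | h3
      · exact absurd (orderOf_eq_one_iff.1 h3) hx1
      · rw [h3]
    exact (Finset.filter_eq_empty_iff.1 hR (Finset.mem_univ x)) hxo
  have hfz : ∀ u, f u = 0 := fun u => by
    by_cases hu : p ∣ orderOf u
    · exact hfsing u hu
    · rw [hfreg u hu, hC0, zero_mul]
  have hmY : ∀ η ∈ YF, m η = n := fun η hη => by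
    have h : classInner f (η : G → ℂ) = (m η : ℂ) - n := by
      rw [show f = ∑ θ ∈ YF, ((m θ : ℂ) - n) • (θ : G → ℂ) from funext fun u => by
        simp [f, Finset.sum_apply], Char.classInner_sum_left, Finset.sum_eq_single_of_mem η hη]
      · rw [Char.classInner_smul_left, Char.irr_classInner_self η.2, mul_one]
      · intro θ _ hne'
        rw [Char.classInner_smul_left, Char.irr_classInner_ne θ.2 η.2 (fun he => hne' (Subtype.ext he)),
          mul_zero]
    have h0 : classInner f (η : G → ℂ) = 0 := by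
      rw [Char.classInner_def]; simp [hfz]
    rw [h0, eq_comm, sub_eq_zero] at h
    exact_mod_cast h
  -- the degree
  set rest := (Finset.univ \ ({one, χ₁} ∪ YF) : Finset (IrrCharacter G))
  have hdec : ∀ u, Θ u = (m χ₁ : ℂ) * (χ₁ : G → ℂ) u + (n : ℂ) * ∑ η ∈ YF, (η : G → ℂ) u +
      ∑ χ ∈ rest, (m χ : ℂ) * (χ : G → ℂ) u := fun u => by
    rw [hexp u, ← Finset.sum_sdiff (Finset.subset_univ ({one, χ₁} ∪ YF)), add_comm,
      Finset.sum_union (by simp [Finset.disjoint_left, honeY, hχ₁Y]),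
      Finset.sum_insert (by simp [Ne.symm hne]), Finset.sum_singleton, hm0, Finset.mul_sum,
      Finset.sum_congr rfl fun η hη => by rw [hmY η hη]]
    rw [Nat.cast_zero, zero_mul, zero_add]
  obtain ⟨hm1, hrest⟩ : m χ₁ = 0 ∧ ∀ χ ∈ rest, m χ = 0 := by
    have h := hdec 1
    rw [hΘapply, ← BlockB.irr_degree_cast χ₁, hdeg] at h
    rw [Finset.sum_congr rfl fun (η : IrrCharacter G) (hη : η ∈ YF) => show A η 1 = (((p - 2) * (t - 1) : ℕ) : ℂ) by
        simp only [A, mul_one, hdegv η hη]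
        rw [show p - 2 = 2 * (t - 1) + 1 by omega]
        push_cast; ring,
      Finset.sum_const, hYcard, nsmul_eq_mul, Finset.sum_congr rfl fun η hη => hdegv η hη,
      Finset.sum_const, hYcard, nsmul_eq_mul,
      Finset.sum_congr rfl fun χ _ => by rw [← BlockB.irr_degree_cast χ, ← Nat.cast_mul]] at h
    have h' : t * ((p - 2) * (t - 1)) = m χ₁ * (p - 1) + n * (t * (p - 2)) +
        ∑ χ ∈ rest, m χ * charDegree (χ : G → ℂ) := by exact_mod_cast h
    rw [hn, add_mul] at h'
    have e1 : t * ((p - 2) * (t - 1)) = (t - 1) * (t * (p - 2)) := by ring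
    rw [e1] at h'
    have h2 : m χ₁ * (p - 1) = 0 ∧ ∑ χ ∈ rest, m χ * charDegree (χ : G → ℂ) = 0 := by omega
    refine ⟨(mul_eq_zero.1 h2.1).resolve_right (by omega), fun χ hχ => ?_⟩
    exact (mul_eq_zero.1 (Finset.sum_eq_zero_iff.1 h2.2 χ hχ)).resolve_right
      (BlockB.irr_degree_pos χ).ne'
  -- conclusion
  have h := hdec g
  rw [hm1, Finset.sum_eq_zero fun χ (hχ : χ ∈ rest) => by rw [hrest χ hχ, Nat.cast_zero, zero_mul], hn, hm1,
    hΘapply, Finset.sum_congr rfl fun (η : IrrCharacter G) (hη : η ∈ YF) => show A η g = A η₀ g by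
      simp only [A]; rw [heq η hη g hg, heq η hη _ hgg],
    Finset.sum_congr rfl fun η hη => heq η hη g hg, Finset.sum_const, Finset.sum_const, hYcard] at h
  simp only [A, nsmul_eq_mul, Nat.cast_zero, zero_mul, zero_add, add_zero,
    Nat.cast_sub (show 1 ≤ t by omega), Nat.cast_one] at h
  have htne : (t : ℂ) ≠ 0 := Nat.cast_ne_zero.2 (by omega)
  have hpt : (p : ℂ) = 2 * t + 1 := by rw [← hte]; push_cast; ring
  rw [hpt]
  refine mul_left_cancel₀ htne ?_
  linear_combination 2 * h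

end CfsgLib.Block.BrauerTuan
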