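import Cfsg.Agent.Lib.Block.Omega

/-!
Blocks: block idempotents (Osima), reduction of central elements, central characters of the centre
of the group algebra over the residue field.
-/

set_option autoImplicit false
set_option linter.unusedSectionVars false

namespace CfsgLib.Block

open Cfsg MonoidAlgebra
open scoped ComplexConjugate

universe u

variable {G : Type u} [Group G] [Finite G] {M : Ideal AlgInt} [M.IsPrime]

theorem sameBlock_refl (χ : G → ℂ) : SameBlock M χ χ := fun g => by
  rw [sub_self]; exact memLocalIdeal_zero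

theorem sameBlock_symm {χ ψ : G → ℂ} (h : SameBlock M χ ψ) : SameBlock M ψ χ := fun g => by
  simpa using memLocalIdeal_neg (h g)

theorem sameBlock_trans {χ ψ φ : G → ℂ} (h : SameBlock M χ ψ) (h' : SameBlock M ψ φ) :
    SameBlock M χ φ := fun g => by
  simpa using memLocalIdeal_add (h g) (h' g)

theorem mem_blockOf_self (χ : IrrCharacter G) : χ ∈ blockOf M (χ : G → ℂ) := sameBlock_refl _

theorem isPBlock_blockOf (χ : IrrCharacter G) : IsPBlock M (blockOf M (χ : G → ℂ)) := ⟨χ, rfl⟩

theorem blockOf_eq_of_mem {χ : G → ℂ} {ψ : IrrCharacter G} (h : ψ ∈ blockOf M χ) :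
    blockOf M (ψ : G → ℂ) = blockOf M χ := by
  ext φ
  exact ⟨fun h' => sameBlock_trans h h', fun h' => sameBlock_trans (sameBlock_symm h) h'⟩

theorem isPBlock_nonempty {B : Set (IrrCharacter G)} (hB : IsPBlock M B) : B.Nonempty := by
  obtain ⟨χ, rfl⟩ := hB
  exact ⟨χ, mem_blockOf_self χ⟩

theorem isPBlock_eq_blockOf {B : Set (IrrCharacter G)} (hB : IsPBlock M B) {χ : IrrCharacter G}
    (hχ : χ ∈ B) : B = blockOf M (χ : G → ℂ) := by
  obtain ⟨ψ, rfl⟩ := hB
  exact (blockOf_eq_of_mem hχ).symm

theorem sameBlock_of_mem {B : Set (IrrCharacter G)} (hB : IsPBlock M B) {χ ψ : IrrCharacter G}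
    (hχ : χ ∈ B) (hψ : ψ ∈ B) : SameBlock M (χ : G → ℂ) (ψ : G → ℂ) := by
  rw [isPBlock_eq_blockOf hB hχ] at hψ
  exact hψ

theorem mem_of_sameBlock {B : Set (IrrCharacter G)} (hB : IsPBlock M B) {χ ψ : IrrCharacter G}
    (hχ : χ ∈ B) (h : SameBlock M (χ : G → ℂ) (ψ : G → ℂ)) : ψ ∈ B := by
  rw [isPBlock_eq_blockOf hB hχ]
  exact h

theorem isPBlock_eq_of_mem {B B' : Set (IrrCharacter G)} (hB : IsPBlock M B) (hB' : IsPBlock M B')
    {χ : IrrCharacter G} (h : χ ∈ B) (h' : χ ∈ B') : B = B' := by
  rw [isPBlock_eq_blockOf hB h, isPBlock_eq_blockOf hB' h']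

theorem isPBlock_disjoint {B B' : Set (IrrCharacter G)} (hB : IsPBlock M B) (hB' : IsPBlock M B')
    (hne : B ≠ B') : Disjoint B B' :=
  Set.disjoint_left.2 fun _ h h' => hne (isPBlock_eq_of_mem hB hB' h h')

variable (M) in
/-- The principal character. -/
def trivIrr : IrrCharacter G := ⟨fun _ => 1, CfsgLib.Char.isIrrCharacter_one⟩

theorem isPBlock_principalBlock : IsPBlock M (principalBlock M G) :=
  ⟨⟨fun _ => 1, CfsgLib.Char.isIrrCharacter_one⟩, rfl⟩

theorem one_mem_principalBlock :
    (⟨fun _ => 1, CfsgLib.Char.isIrrCharacter_one⟩ : IrrCharacter G) ∈ principalBlock M G :=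
  sameBlock_refl _

/-- Osima's theorem: the coefficients of a block idempotent are local integers. -/
theorem blockCoeff_memLocalRing {p : ℕ} (hM : IsPModular p M) {B : Set (IrrCharacter G)}
    (hB : IsPBlock M B) (g : G) : MemLocalRing M (blockCoeff B g) := by
  classical
  have := Fintype.ofFinite (IrrCharacter G)
  obtain ⟨χ, hBχ⟩ := hB
  subst hBχ
  set B := blockOf M (χ : G → ℂ) with hBdef
  have hsep : ∀ ψ : IrrCharacter G, ∃ y : MonoidAlgebra ℂ G, IsLocalCentral M y ∧
      (∀ φ ∈ B, MemLocalIdeal M (omegaC (φ : G → ℂ) y - 1)) ∧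
      (ψ ∉ B → omegaC (ψ : G → ℂ) y = 0) := by
    intro ψ
    by_cases hψ : ψ ∈ B
    · refine ⟨1, isLocalCentral_one, fun φ _ => ?_, fun h => absurd hψ h⟩
      rw [omegaC_one (CfsgLib.Char.irr_apply_one_ne_zero φ.2), sub_self]
      exact memLocalIdeal_zero
    · obtain ⟨x, hx⟩ := not_forall.1 (show ¬ SameBlock M (χ : G → ℂ) (ψ : G → ℂ) from hψ)
      set cx := centralChar (χ : G → ℂ) x - centralChar (ψ : G → ℂ) x with hcx
      have hcxR : MemLocalRing M cx :=
        (lring M).sub_mem (memLocalRing_centralChar χ.2 x) (memLocalRing_centralChar ψ.2 x)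
      have hcx0 : cx ≠ 0 := fun h => hx (h ▸ memLocalIdeal_zero)
      have hval : ∀ φ : IrrCharacter G,
          omegaC (φ : G → ℂ) (cx⁻¹ • (classSum ℂ x - centralChar (ψ : G → ℂ) x • 1)) =
            cx⁻¹ * (centralChar (φ : G → ℂ) x - centralChar (ψ : G → ℂ) x) := by
        intro φ
        rw [omegaC_smul, sub_eq_add_neg (classSum ℂ x), ← neg_smul, omegaC_add, omegaC_smul,
          omegaC_classSum (CfsgLib.Char.irr_isClassFunction φ.2),
          omegaC_one (CfsgLib.Char.irr_apply_one_ne_zero φ.2)]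
        ring
      refine ⟨cx⁻¹ • (classSum ℂ x - centralChar (ψ : G → ℂ) x • 1),
        isLocalCentral_smul (inv_memLocalRing hcxR hx) (isLocalCentral_sub
          (isLocalCentral_classSum x)
          (isLocalCentral_smul (memLocalRing_centralChar ψ.2 x) isLocalCentral_one)),
        fun φ hφ => ?_, fun _ => by rw [hval, sub_self, mul_zero]⟩
      rw [hval]
      have h1 : cx⁻¹ * (centralChar (φ : G → ℂ) x - centralChar (ψ : G → ℂ) x) - 1
          = cx⁻¹ * (centralChar (φ : G → ℂ) x - centralChar (χ : G → ℂ) x) := by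
        have h2 : (1 : ℂ) = cx⁻¹ * cx := by field_simp
        rw [h2, ← mul_sub, hcx]
        ring
      rw [h1]
      exact memLocalIdeal_mul_left (inv_memLocalRing hcxR hx) (sameBlock_symm hφ x)
  choose y hyl hy1 hy0 using hsep
  -- the product of all separators
  obtain ⟨z, hzl, hz⟩ : ∃ z : MonoidAlgebra ℂ G, IsLocalCentral M z ∧
      ∀ φ : IrrCharacter G, omegaC (φ : G → ℂ) z = ∏ ψ : IrrCharacter G,
        omegaC (φ : G → ℂ) (y ψ) := by
    suffices ∀ s : Finset (IrrCharacter G), ∃ z : MonoidAlgebra ℂ G, IsLocalCentral M z ∧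
        ∀ φ : IrrCharacter G, omegaC (φ : G → ℂ) z = ∏ ψ ∈ s, omegaC (φ : G → ℂ) (y ψ) from
      this Finset.univ
    intro s
    induction s using Finset.induction with
    | empty =>
      exact ⟨1, isLocalCentral_one, fun φ => by
        rw [omegaC_one (CfsgLib.Char.irr_apply_one_ne_zero φ.2), Finset.prod_empty]⟩
    | insert a s ha ih =>
      obtain ⟨z, hzl, hz⟩ := ih
      exact ⟨y a * z, isLocalCentral_mul (hyl a) hzl, fun φ => by
        rw [omegaC_mul φ.2 (hyl a).1, hz, Finset.prod_insert ha]⟩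
  have hz0 : ∀ φ, φ ∉ B → omegaC (φ : G → ℂ) z = 0 := fun φ hφ => by
    rw [hz]; exact Finset.prod_eq_zero (Finset.mem_univ φ) (hy0 φ hφ)
  have hz1 : ∀ φ ∈ B, MemLocalIdeal M (1 - omegaC (φ : G → ℂ) z) := by
    intro φ hφ
    rw [hz]
    refine Finset.prod_induction _ (fun t => MemLocalIdeal M (1 - t) ∧ MemLocalRing M t)
      (fun a b ha hb => ⟨?_, memLocalRing_mul ha.2 hb.2⟩)
      ⟨by rw [sub_self]; exact memLocalIdeal_zero, (lring M).one_mem⟩
      (fun ψ _ => ⟨?_, memLocalRing_omegaC φ.2 (hyl ψ)⟩) |>.1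
    · rw [show 1 - a * b = (1 - a) + a * (1 - b) by ring]
      exact memLocalIdeal_add ha.1 (memLocalIdeal_mul_left ha.2 hb.1)
    · simpa using memLocalIdeal_neg (hy1 ψ φ hφ)
  have hn : ∀ φ : IrrCharacter G, ∃ n : ℕ, φ ∈ B →
      MemLocalRing M ((1 - omegaC (φ : G → ℂ) z) ^ n / (Nat.card G : ℂ)) := fun φ => by
    by_cases hφ : φ ∈ B
    · obtain ⟨n, hn⟩ := exists_pow_div_natCast hM (hz1 φ hφ) (m := Nat.card G) Nat.card_pos.ne'
      exact ⟨n, fun _ => hn⟩
    · exact ⟨0, fun h => absurd h hφ⟩
  choose n hn using hn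
  set N := ∑ φ : IrrCharacter G, n φ + 1
  have hdiff : IsLocalCentral M ((1 - (1 - z) ^ N) - blockSum B) := by
    have hcl : ∀ k : ℕ, IsClassCoeff ((1 - z) ^ k) := fun k =>
      (isLocalCentral_pow (M := M) (isLocalCentral_sub isLocalCentral_one hzl) k).1
    refine isLocalCentral_of_omegaC ?_ fun φ => ?_
    · intro a b
      simp only [coeff_sub, Finsupp.sub_apply, blockSum_isClassCoeff B a b, hcl N a b,
        (isLocalCentral_one (G := G) (M := M)).1 a b]
    have hval : omegaC (φ : G → ℂ) ((1 - (1 - z) ^ N) - blockSum B)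
        = 1 - (1 - omegaC (φ : G → ℂ) z) ^ N - if φ ∈ B then 1 else 0 := by
      have hpow : ∀ k : ℕ, omegaC (φ : G → ℂ) ((1 - z) ^ k) = (1 - omegaC (φ : G → ℂ) z) ^ k := by
        intro k
        induction k with
        | zero => simp [omegaC_one (CfsgLib.Char.irr_apply_one_ne_zero φ.2)]
        | succ k ih =>
          rw [pow_succ, omegaC_mul φ.2 (hcl k), ih, pow_succ]
          congr 1
          have := omegaC_add (φ : G → ℂ) (1 - z) z
          rw [sub_add_cancel, omegaC_one (CfsgLib.Char.irr_apply_one_ne_zero φ.2)] at this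
          rw [this]; ring
      have h1 := omegaC_add (φ : G → ℂ) ((1 - (1 - z) ^ N) - blockSum B) (blockSum B)
      have h2 := omegaC_add (φ : G → ℂ) (1 - (1 - z) ^ N) ((1 - z) ^ N)
      rw [sub_add_cancel] at h1 h2
      rw [omegaC_one (CfsgLib.Char.irr_apply_one_ne_zero φ.2), hpow] at h2
      rw [omegaC_blockSum] at h1
      linear_combination -h1 - h2
    rw [hval]
    by_cases hφ : φ ∈ B
    · rw [if_pos hφ, show (1 : ℂ) - (1 - omegaC (φ : G → ℂ) z) ^ N - 1
        = -((1 - omegaC (φ : G → ℂ) z) ^ N) by ring, neg_div]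
      refine (lring M).neg_mem ?_
      obtain ⟨r, hr⟩ : ∃ r, N = n φ + r := ⟨N - n φ, by
        have := Finset.single_le_sum (f := n) (fun _ _ => Nat.zero_le _) (Finset.mem_univ φ)
        omega⟩
      rw [hr, pow_add, mul_comm, mul_div_assoc]
      exact memLocalRing_mul ((lring M).pow_mem ((lring M).sub_mem (lring M).one_mem
        (memLocalRing_omegaC φ.2 hzl)) r) (hn φ hφ)
    · rw [if_neg hφ, hz0 φ hφ]
      simp [(lring M).zero_mem, mem_lring.1 (lring M).zero_mem]
  have hw := isLocalCentral_sub (isLocalCentral_sub isLocalCentral_one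
    (isLocalCentral_pow (isLocalCentral_sub isLocalCentral_one hzl) N)) hdiff
  have h := hw.2 g
  rw [sub_sub_cancel] at h
  simpa [blockSum] using h

theorem isLocalCentral_blockSum {p : ℕ} (hM : IsPModular p M) {B : Set (IrrCharacter G)}
    (hB : IsPBlock M B) : IsLocalCentral M (blockSum B) :=
  ⟨blockSum_isClassCoeff B, fun g => by simpa [blockSum] using blockCoeff_memLocalRing hM hB g⟩

/-- A set of characters with locally integral idempotent is a union of blocks. -/
theorem mem_of_integral_blockSum {A : Set (IrrCharacter G)}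
    (hA : ∀ g, MemLocalRing M (blockCoeff A g)) {χ ψ : IrrCharacter G} (hχ : χ ∈ A)
    (h : SameBlock M (χ : G → ℂ) (ψ : G → ℂ)) : ψ ∈ A := by
  classical
  have : Finite (ConjClasses G) := Finite.of_surjective ConjClasses.mk ConjClasses.mk_surjective
  have := Fintype.ofFinite (ConjClasses G)
  by_contra hψ
  apply not_memLocalIdeal_one (M := M)
  have h1 := omegaC_blockSum A χ
  have h2 := omegaC_blockSum A ψ
  rw [if_pos hχ, omegaC_eq_sum_classes (CfsgLib.Char.irr_isClassFunction χ.2)
    (blockSum_isClassCoeff A)] at h1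
  rw [if_neg hψ, omegaC_eq_sum_classes (CfsgLib.Char.irr_isClassFunction ψ.2)
    (blockSum_isClassCoeff A)] at h2
  have h3 : MemLocalIdeal M (∑ C : ConjClasses G, (blockSum A).coeff C.out *
      (centralChar (χ : G → ℂ) C.out - centralChar (ψ : G → ℂ) C.out)) :=
    memLocalIdeal_sum _ _ fun C _ => memLocalIdeal_mul_left (by simpa [blockSum] using hA C.out)
      (h C.out)
  simp only [mul_sub, Finset.sum_sub_distrib, h1, h2, sub_zero] at h3
  exact h3

/-! ### Reduction -/

/-- Reduction of the coefficients. -/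
noncomputable def redA (M : Ideal AlgInt) [M.IsPrime] (a : MonoidAlgebra ℂ G) :
    MonoidAlgebra (kres M) G := mkGA fun g => redC M (a.coeff g)

theorem redC_sum {ι : Type*} (s : Finset ι) (f : ι → ℂ) (h : ∀ i ∈ s, MemLocalRing M (f i)) :
    redC M (∑ i ∈ s, f i) = ∑ i ∈ s, redC M (f i) := by
  classical
  induction s using Finset.induction with
  | empty => simp [redC_zero]
  | insert a s ha ih =>
    have hs : ∀ i ∈ s, MemLocalRing M (f i) := fun i hi => h i (Finset.mem_insert_of_mem hi)
    rw [Finset.sum_insert ha, Finset.sum_insert ha,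
      redC_add (h a (Finset.mem_insert_self a s)) (memLocalRing_sum _ _ hs), ih hs]

theorem redA_isClassCoeff {a : MonoidAlgebra ℂ G} (ha : IsClassCoeff a) :
    IsClassCoeff (redA M a) := fun g h => by simp [redA, ha g h]

theorem redA_one : redA M (1 : MonoidAlgebra ℂ G) = 1 := by
  classical
  ext g
  rcases eq_or_ne g 1 with rfl | hg
  · simp [redA, one_def, redC_one]
  · simp [redA, one_def, hg, redC_zero]

theorem redA_mul {a b : MonoidAlgebra ℂ G} (ha : IsLocalCentral M a) (hb : IsLocalCentral M b) :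
    redA M (a * b) = redA M a * redA M b := by
  have := Fintype.ofFinite G
  ext g
  simp only [redA, coeff_mkGA, coeff_mul_eq]
  rw [redC_sum _ _ (fun x _ => memLocalRing_mul (ha.2 _) (hb.2 _))]
  exact Finset.sum_congr rfl fun x _ => redC_mul (ha.2 _) (hb.2 _)

theorem redA_add {a b : MonoidAlgebra ℂ G} (ha : IsLocalCentral M a) (hb : IsLocalCentral M b) :
    redA M (a + b) = redA M a + redA M b := by
  ext g
  simp [redA, redC_add (ha.2 g) (hb.2 g)]

theorem redA_smul {c : ℂ} {a : MonoidAlgebra ℂ G} (hc : MemLocalRing M c)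
    (ha : IsLocalCentral M a) : redA M (c • a) = redC M c • redA M a := by
  ext g
  simp [redA, redC_mul hc (ha.2 g)]

theorem redA_classSum (g : G) : redA M (classSum ℂ g) = classSum (kres M) g := by
  classical
  ext x
  simp only [redA, coeff_mkGA, coeff_classSum]
  split <;> simp [redC_one, redC_zero]

variable (M) in
/-- A fixed section of reduction. -/
noncomputable def sec (z : kres M) : ℂ := ((Function.surjInv (red_surjective (M := M)) z : lring M) : ℂ)

theorem memLocalRing_sec (z : kres M) : MemLocalRing M (sec M z) :=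
  (Function.surjInv (red_surjective (M := M)) z).2

theorem redC_sec (z : kres M) : redC M (sec M z) = z := by
  rw [sec, redC_coe]
  exact Function.surjInv_eq _ z

/-- Lift of an element with class-function coefficients. -/
noncomputable def liftA (z : MonoidAlgebra (kres M) G) : MonoidAlgebra ℂ G :=
  mkGA fun g => sec M (z.coeff g)

theorem isLocalCentral_liftA {z : MonoidAlgebra (kres M) G} (hz : IsClassCoeff z) :
    IsLocalCentral M (liftA z) :=
  ⟨fun g h => by simp [liftA, hz g h], fun g => by simp [liftA, memLocalRing_sec]⟩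

theorem redA_liftA (z : MonoidAlgebra (kres M) G) : redA M (liftA z) = z := by
  ext g
  simp [redA, liftA, redC_sec]

theorem redC_omegaC_eq_of_redA_eq {χ : G → ℂ} (hχ : IsIrrCharacter G χ)
    {a b : MonoidAlgebra ℂ G} (ha : IsLocalCentral M a) (hb : IsLocalCentral M b)
    (h : redA M a = redA M b) : redC M (omegaC χ a) = redC M (omegaC χ b) := by
  rw [redC_eq_iff (memLocalRing_omegaC hχ ha) (memLocalRing_omegaC hχ hb)]
  have hs := omegaC_add χ (a - b) b
  rw [sub_add_cancel] at hs
  rw [show omegaC χ a - omegaC χ b = omegaC χ (a - b) by rw [hs]; ring]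
  refine memLocalIdeal_omegaC hχ (isLocalCentral_sub ha hb).1 fun g => ?_
  have hg := congrArg (fun x => x.coeff g) h
  simp only [redA, coeff_mkGA, redC_eq_iff (ha.2 g) (hb.2 g)] at hg
  simpa using hg

/-- The modular central character of `χ`. -/
noncomputable def lam (M : Ideal AlgInt) [M.IsPrime] (χ : IrrCharacter G) :
    Subalgebra.center (kres M) (MonoidAlgebra (kres M) G) →ₐ[kres M] kres M where
  toFun z := redC M (omegaC (χ : G → ℂ) (liftA (z : MonoidAlgebra (kres M) G)))
  map_one' := by
    simp only [OneMemClass.coe_one]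
    rw [redC_omegaC_eq_of_redA_eq χ.2 (isLocalCentral_liftA (isClassCoeff_iff_mem_center.2
      (Subalgebra.one_mem _))) isLocalCentral_one (by rw [redA_liftA, redA_one]),
      omegaC_one (CfsgLib.Char.irr_apply_one_ne_zero χ.2), redC_one]
  map_mul' a b := by
    simp only [MulMemClass.coe_mul]
    have ha := isLocalCentral_liftA (isClassCoeff_center a)
    have hb := isLocalCentral_liftA (isClassCoeff_center b)
    rw [redC_omegaC_eq_of_redA_eq χ.2
      (isLocalCentral_liftA (isClassCoeff_iff_mem_center.2 (Subalgebra.mul_mem _ a.2 b.2)))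
      (isLocalCentral_mul ha hb) (by rw [redA_liftA, redA_mul ha hb, redA_liftA, redA_liftA]),
      omegaC_mul χ.2 ha.1, redC_mul (memLocalRing_omegaC χ.2 ha) (memLocalRing_omegaC χ.2 hb)]
  map_zero' := by
    simp only [ZeroMemClass.coe_zero]
    rw [redC_omegaC_eq_of_redA_eq χ.2 (isLocalCentral_liftA (isClassCoeff_iff_mem_center.2
      (Subalgebra.zero_mem _))) isLocalCentral_zero (by
        rw [redA_liftA]; ext g; simp [redA, redC_zero]), omegaC_zero, redC_zero]
  map_add' a b := by
    simp only [AddMemClass.coe_add]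
    have ha := isLocalCentral_liftA (isClassCoeff_center a)
    have hb := isLocalCentral_liftA (isClassCoeff_center b)
    rw [redC_omegaC_eq_of_redA_eq χ.2
      (isLocalCentral_liftA (isClassCoeff_iff_mem_center.2 (Subalgebra.add_mem _ a.2 b.2)))
      (isLocalCentral_add ha hb) (by rw [redA_liftA, redA_add ha hb, redA_liftA, redA_liftA]),
      omegaC_add, redC_add (memLocalRing_omegaC χ.2 ha) (memLocalRing_omegaC χ.2 hb)]
  commutes' r := by
    simp only [Subalgebra.coe_algebraMap]
    have h1 : IsClassCoeff (algebraMap (kres M) (MonoidAlgebra (kres M) G) r) :=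
      isClassCoeff_iff_mem_center.2 (Subalgebra.algebraMap_mem _ r)
    rw [redC_omegaC_eq_of_redA_eq χ.2 (isLocalCentral_liftA h1)
      (isLocalCentral_smul (memLocalRing_sec r) isLocalCentral_one)
      (by rw [redA_liftA, redA_smul (memLocalRing_sec r) isLocalCentral_one, redA_one, redC_sec,
        Algebra.algebraMap_eq_smul_one]),
      omegaC_smul, omegaC_one (CfsgLib.Char.irr_apply_one_ne_zero χ.2), mul_one, redC_sec]
    rfl

theorem lam_apply (χ : IrrCharacter G) {a : MonoidAlgebra ℂ G} (ha : IsLocalCentral M a)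
    (z : Subalgebra.center (kres M) (MonoidAlgebra (kres M) G))
    (h : redA M a = (z : MonoidAlgebra (kres M) G)) :
    lam M χ z = redC M (omegaC (χ : G → ℂ) a) :=
  redC_omegaC_eq_of_redA_eq χ.2 (isLocalCentral_liftA (isClassCoeff_center z)) ha
    (by rw [redA_liftA, h])

theorem lam_classSumZ (χ : IrrCharacter G) (g : G) :
    lam M χ (classSumZ (kres M) g) = redC M (centralChar (χ : G → ℂ) g) := by
  rw [lam_apply χ (isLocalCentral_classSum g) (classSumZ (kres M) g) (redA_classSum g),
    omegaC_classSum (CfsgLib.Char.irr_isClassFunction χ.2)]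

theorem algHom_eq_sum_classes [Fintype (ConjClasses G)] {k : Type*} [CommRing k]
    (f : Subalgebra.center k (MonoidAlgebra k G) →ₐ[k] k)
    (z : Subalgebra.center k (MonoidAlgebra k G)) :
    f z = ∑ C : ConjClasses G, (z : MonoidAlgebra k G).coeff C.out * f (classSumZ k C.out) := by
  have h : z = ∑ C : ConjClasses G, (z : MonoidAlgebra k G).coeff C.out • classSumZ k C.out := by
    apply Subtype.ext
    simp only [AddSubmonoidClass.coe_finsetSum, SetLike.val_smul, classSumZ]
    exact eq_sum_classSum (isClassCoeff_center z)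
  conv_lhs => rw [h]
  simp

theorem lam_eq_of_sameBlock {χ ψ : IrrCharacter G} (h : SameBlock M (χ : G → ℂ) (ψ : G → ℂ)) :
    lam M χ = lam M ψ := by
  have : Finite (ConjClasses G) := Finite.of_surjective ConjClasses.mk ConjClasses.mk_surjective
  have := Fintype.ofFinite (ConjClasses G)
  ext z
  rw [algHom_eq_sum_classes (lam M χ), algHom_eq_sum_classes (lam M ψ)]
  refine Finset.sum_congr rfl fun C _ => ?_
  rw [lam_classSumZ, lam_classSumZ,
    (redC_eq_iff (memLocalRing_centralChar χ.2 _) (memLocalRing_centralChar ψ.2 _)).2 (h C.out)]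

theorem sameBlock_of_lam_eq {χ ψ : IrrCharacter G} (h : lam M χ = lam M ψ) :
    SameBlock M (χ : G → ℂ) (ψ : G → ℂ) := fun g => by
  rw [← redC_eq_iff (memLocalRing_centralChar χ.2 _) (memLocalRing_centralChar ψ.2 _),
    ← lam_classSumZ, ← lam_classSumZ, h]

/-- The idempotent of a set of characters, reduced modulo `M`. -/
noncomputable def blkIdem (M : Ideal AlgInt) [M.IsPrime] (B : Set (IrrCharacter G)) :
    Subalgebra.center (kres M) (MonoidAlgebra (kres M) G) :=
  ⟨redA M (blockSum B),
    isClassCoeff_iff_mem_center.1 (redA_isClassCoeff (blockSum_isClassCoeff B))⟩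

@[simp]
theorem coeff_blkIdem (B : Set (IrrCharacter G)) (g : G) :
    (blkIdem M B : MonoidAlgebra (kres M) G).coeff g = redC M (blockCoeff B g) := by
  simp [blkIdem, redA, blockSum]

open scoped Classical in
theorem lam_blkIdem {p : ℕ} (hM : IsPModular p M) {B : Set (IrrCharacter G)} (hB : IsPBlock M B)
    (χ : IrrCharacter G) : lam M χ (blkIdem M B) = if χ ∈ B then 1 else 0 := by
  rw [lam_apply χ (isLocalCentral_blockSum hM hB) (blkIdem M B) rfl, omegaC_blockSum]
  split <;> simp [redC_one, redC_zero]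

theorem blkIdem_mul {p : ℕ} (hM : IsPModular p M) {A B : Set (IrrCharacter G)}
    (hA : IsPBlock M A) (hB : IsPBlock M B) :
    blkIdem M A * blkIdem M B = blkIdem M (A ∩ B) := by
  apply Subtype.ext
  simp only [MulMemClass.coe_mul, blkIdem]
  rw [← redA_mul (isLocalCentral_blockSum hM hA) (isLocalCentral_blockSum hM hB), blockSum_mul]

theorem blkIdem_idem {p : ℕ} (hM : IsPModular p M) {B : Set (IrrCharacter G)}
    (hB : IsPBlock M B) : blkIdem M B * blkIdem M B = blkIdem M B := by
  rw [blkIdem_mul hM hB hB, Set.inter_self]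

theorem blkIdem_mul_ne {p : ℕ} (hM : IsPModular p M) {A B : Set (IrrCharacter G)}
    (hA : IsPBlock M A) (hB : IsPBlock M B) (hne : A ≠ B) :
    blkIdem M A * blkIdem M B = 0 := by
  rw [blkIdem_mul hM hA hB, (isPBlock_disjoint hA hB hne).inter_eq]
  apply Subtype.ext
  ext g
  rw [coeff_blkIdem]
  simp [blockCoeff, redC_zero]

/-- The finite set of all blocks. -/
noncomputable def allBlocks (M : Ideal AlgInt) [M.IsPrime] (G : Type u) [Group G] [Finite G] :
    Finset (Set (IrrCharacter G)) :=
  (Set.toFinite (Set.range fun χ : IrrCharacter G => blockOf M (χ : G → ℂ))).toFinset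

theorem mem_allBlocks {B : Set (IrrCharacter G)} : B ∈ allBlocks M G ↔ IsPBlock M B := by
  simp only [allBlocks, Set.Finite.mem_toFinset, Set.mem_range, IsPBlock]
  exact ⟨fun ⟨χ, h⟩ => ⟨χ, h.symm⟩, fun ⟨χ, h⟩ => ⟨χ, h.symm⟩⟩

theorem sum_blkIdem {p : ℕ} (hM : IsPModular p M) :
    ∑ B ∈ allBlocks M G, blkIdem M B = 1 := by
  classical
  have key : ∑ B ∈ allBlocks M G, blockSum B = (1 : MonoidAlgebra ℂ G) := by
    refine eq_of_omegaC_eq ?_ (isClassCoeff_iff_mem_center.2 (Subalgebra.one_mem _)) fun χ => ?_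
    · exact (isLocalCentral_sum (M := M) _ _
        fun B hB => isLocalCentral_blockSum hM (mem_allBlocks.1 hB)).1
    rw [omegaC_sum, omegaC_one (CfsgLib.Char.irr_apply_one_ne_zero χ.2),
      Finset.sum_eq_single (blockOf M (χ : G → ℂ))]
    · rw [omegaC_blockSum, if_pos (mem_blockOf_self χ)]
    · intro B hB hne
      rw [omegaC_blockSum, if_neg]
      exact fun h => hne (isPBlock_eq_blockOf (mem_allBlocks.1 hB) h)
    · exact fun h => absurd (mem_allBlocks.2 (isPBlock_blockOf χ)) h
  apply Subtype.ext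
  rw [AddSubmonoidClass.coe_finsetSum, OneMemClass.coe_one, ← redA_one (M := M), ← key]
  ext g
  simp only [coeff_sum, Finset.sum_apply', redA, coeff_mkGA]
  rw [redC_sum _ _ fun B hB => (isLocalCentral_blockSum hM (mem_allBlocks.1 hB)).2 g]
  exact Finset.sum_congr rfl fun B _ => by simp [blockSum]

/-- On the part of a block, a central element minus its central character is nilpotent. -/
theorem isNilpotent_sub_lam_mul_blkIdem {p : ℕ} (hM : IsPModular p M)
    {B : Set (IrrCharacter G)} (hB : IsPBlock M B) {χ : IrrCharacter G} (hχ : χ ∈ B)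
    (z : Subalgebra.center (kres M) (MonoidAlgebra (kres M) G)) :
    IsNilpotent ((z - algebraMap (kres M) _ (lam M χ z)) * blkIdem M B) := by
  classical
  have := Fintype.ofFinite (IrrCharacter G)
  set x := (z - algebraMap (kres M) _ (lam M χ z)) * blkIdem M B with hxdef
  have hlam : ∀ φ, lam M φ x = 0 := by
    intro φ
    rw [hxdef, map_mul, lam_blkIdem hM hB φ]
    split
    · next h =>
      rw [← lam_eq_of_sameBlock (sameBlock_of_mem hB hχ h), map_sub, AlgHom.commutes]
      simp
    · simp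
  set a := liftA (x : MonoidAlgebra (kres M) G) with hadef
  have hal : IsLocalCentral M a := isLocalCentral_liftA (isClassCoeff_center x)
  have hm : ∀ φ : IrrCharacter G, MemLocalIdeal M (omegaC (φ : G → ℂ) a) := by
    intro φ
    have h := hlam φ
    rw [lam_apply φ hal x (redA_liftA _)] at h
    exact (redC_eq_zero_iff (memLocalRing_omegaC φ.2 hal)).1 h
  have hn := fun φ : IrrCharacter G =>
    exists_pow_div_natCast hM (hm φ) (m := Nat.card G) Nat.card_pos.ne'
  choose n hn using hn
  set N := ∑ φ : IrrCharacter G, n φ + 1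
  refine ⟨N, ?_⟩
  apply Subtype.ext
  have hpow : ∀ k : ℕ,
      ((x ^ k : Subalgebra.center (kres M) (MonoidAlgebra (kres M) G)) : MonoidAlgebra (kres M) G)
        = redA M (a ^ k) := by
    intro k
    induction k with
    | zero => simp [redA_one]
    | succ k ih =>
      rw [pow_succ, pow_succ, MulMemClass.coe_mul, ih,
        redA_mul (isLocalCentral_pow hal k) hal, hadef, redA_liftA]
  rw [hpow, ZeroMemClass.coe_zero]
  ext g
  simp only [redA, coeff_mkGA, coeff_zero, Finsupp.zero_apply]
  rw [redC_eq_zero_iff ((isLocalCentral_pow hal N).2 g)]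
  refine coeff_memLocalIdeal_of_omegaC (isLocalCentral_pow hal N).1 (fun φ => ?_) g
  have hop : ∀ k : ℕ, omegaC (φ : G → ℂ) (a ^ k) = (omegaC (φ : G → ℂ) a) ^ k := by
    intro k
    induction k with
    | zero => simp [omegaC_one (CfsgLib.Char.irr_apply_one_ne_zero φ.2)]
    | succ k ih => rw [pow_succ, omegaC_mul φ.2 (isLocalCentral_pow hal k).1, ih, pow_succ]
  obtain ⟨r, hr⟩ : ∃ r, N = n φ + (r + 1) := ⟨N - n φ - 1, by
    have := Finset.single_le_sum (f := n) (fun _ _ => Nat.zero_le _) (Finset.mem_univ φ)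
    omega⟩
  rw [hop, hr, pow_add, pow_succ, mul_comm, mul_div_assoc]
  exact memLocalIdeal_mul_right (hn φ)
    (memLocalIdeal_mul_left ((lring M).pow_mem (memLocalRing_omegaC φ.2 hal) r) (hm φ))

/-- Every algebra homomorphism from the centre to the residue field is a modular central
character. -/
theorem exists_eq_lam {p : ℕ} (hM : IsPModular p M)
    (f : Subalgebra.center (kres M) (MonoidAlgebra (kres M) G) →ₐ[kres M] kres M) :
    ∃ χ : IrrCharacter G, f = lam M χ := by
  classical
  obtain ⟨B, hB, hfB⟩ : ∃ B ∈ allBlocks M G, f (blkIdem M B) ≠ 0 := by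
    by_contra h
    push Not at h
    have := congrArg f (sum_blkIdem (G := G) hM)
    rw [map_sum, map_one, Finset.sum_eq_zero h] at this
    exact zero_ne_one this
  have hB' := mem_allBlocks.1 hB
  obtain ⟨χ, hχ⟩ := isPBlock_nonempty hB'
  refine ⟨χ, ?_⟩
  ext z
  obtain ⟨n, hn⟩ := isNilpotent_sub_lam_mul_blkIdem hM hB' hχ z
  have h0 := congrArg f hn
  rw [map_pow, map_zero] at h0
  have h1 := pow_eq_zero_iff'.1 h0 |>.1
  rw [map_mul, mul_eq_zero, or_iff_left hfB, map_sub, AlgHom.commutes, sub_eq_zero] at h1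
  simpa using h1

theorem algHom_blkIdem_eq_one_iff {p : ℕ} (hM : IsPModular p M) {B : Set (IrrCharacter G)}
    (hB : IsPBlock M B) (χ : IrrCharacter G) :
    lam M χ (blkIdem M B) = 1 ↔ χ ∈ B := by
  classical
  rw [lam_blkIdem hM hB]
  split <;> simp [*]

/-- A nonzero idempotent has a nonzero central character value. -/
theorem exists_lam_eq_one_of_idem {p : ℕ} (hM : IsPModular p M)
    {e : Subalgebra.center (kres M) (MonoidAlgebra (kres M) G)} (he : e * e = e) (h0 : e ≠ 0) :
    ∃ χ : IrrCharacter G, lam M χ e = 1 := by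
  classical
  by_contra h
  push Not at h
  have hall : ∀ χ, lam M χ e = 0 := fun χ => by
    have h2 : lam M χ e * lam M χ e = lam M χ e := by rw [← map_mul, he]
    rcases mul_eq_zero.1 (show lam M χ e * (lam M χ e - 1) = 0 by rw [mul_sub, h2]; simp)
      with h3 | h3
    · exact h3
    · exact absurd (sub_eq_zero.1 h3) (h χ)
  apply h0
  rw [← mul_one e, ← sum_blkIdem hM, Finset.mul_sum]
  refine Finset.sum_eq_zero fun B hB => ?_
  obtain ⟨χ, hχ⟩ := isPBlock_nonempty (mem_allBlocks.1 hB)
  obtain ⟨n, hn⟩ := isNilpotent_sub_lam_mul_blkIdem hM (mem_allBlocks.1 hB) hχ e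
  rw [hall χ, map_zero, sub_zero] at hn
  have hidem : (e * blkIdem M B) * (e * blkIdem M B) = e * blkIdem M B := by
    rw [mul_mul_mul_comm, he, blkIdem_idem hM (mem_allBlocks.1 hB)]
  have hk : ∀ k, (e * blkIdem M B) ^ (k + 1) = e * blkIdem M B := by
    intro k
    induction k with
    | zero => simp
    | succ k ih => rw [pow_succ, ih, hidem]
  rw [← hk n, pow_succ, hn, zero_mul]

end CfsgLib.Block
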