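import Cfsg.Agent.Lib.Block.SmallModels
import Cfsg.Agent.Lib.Transfer.SimpleCount

/-!
A finite perfect group in `SO₃` of characteristic `p` with a self-centralizing element of order `p`
has order less than `p³`, by counting fixed points on the conic.
-/

set_option autoImplicit false

namespace CfsgLib.Block.SmallBlock

open Matrix

universe u v

variable {k : Type v} [Field k] [IsAlgClosed k] {p : ℕ} [hp : Fact p.Prime] [CharP k p]

/-- The arithmetic of two orbits. -/
theorem conic_arith {p e n N m s : ℕ} (hp5 : 5 ≤ p) (he : 1 ≤ e) (hep : e ≤ p - 1)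
    (hN : N = p * e * (1 + n * p)) (hm : m * s = N)
    (hsum : m = 2 + (p - 2) * (1 + n * p)) : N < p ^ 3 := by
  obtain ⟨c, rfl⟩ : ∃ c, p = c + 2 := ⟨p - 2, by omega⟩
  simp only [Nat.add_sub_cancel] at hsum
  set T := 1 + n * (c + 2) with hT
  have h1 : (c + 2) * e * T = s * (2 + c * T) := by rw [← hN, ← hm, hsum, mul_comm]
  have hT0 : 0 < T := by omega
  have hlt : c * s < (c + 2) * e := by
    by_contra hge
    push Not at hge
    have h2 : (c + 2) * e * T ≤ c * s * T := Nat.mul_le_mul_right _ hge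
    have h3 : 0 < s := by
      rcases Nat.eq_zero_or_pos s with h | h
      · rw [h, zero_mul] at h1
        exact absurd h1 (Nat.mul_pos (Nat.mul_pos (by omega) he) hT0).ne'
      · exact h
    nlinarith
  have hs : s ≤ c + 3 := by
    by_contra hgt
    have h2 : c * (c + 4) ≤ c * s := Nat.mul_le_mul_left _ (by omega)
    have h3 : (c + 2) * e ≤ (c + 2) * (c + 1) := Nat.mul_le_mul_left _ (by omega)
    nlinarith
  obtain ⟨D, hD⟩ : ∃ D, (c + 2) * e = c * s + (D + 1) :=
    ⟨(c + 2) * e - c * s - 1, by omega⟩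
  have h4 : (D + 1) * T = 2 * s := by
    have : c * s * T + (D + 1) * T = c * s * T + 2 * s := by rw [← add_mul, ← hD, h1]; ring
    omega
  have hTle : T ≤ c + 3 := by
    rcases Nat.eq_zero_or_pos D with hD0 | hD0
    · rw [hD0] at h4
      have hn1 : n ≤ 1 := by
        by_contra hn2
        have h5 : 3 * (c + 2) ≤ n * (c + 2) ∨ n = 2 := by
          rcases Nat.lt_or_ge n 3 with h | h
          · exact Or.inr (by omega)
          · exact Or.inl (Nat.mul_le_mul_right _ h)
        rcases h5 with h5 | rfl <;> omega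
      rcases Nat.eq_zero_or_pos n with h | h
      · subst h; omega
      · have : n = 1 := by omega
        subst this; omega
    · have : 2 * T ≤ (D + 1) * T := Nat.mul_le_mul_right _ (by omega)
      omega
  have h5 : (c + 2) * e * T ≤ (c + 2) * (c + 1) * (c + 3) :=
    Nat.mul_le_mul (Nat.mul_le_mul_left _ (by omega)) hTle
  calc N = (c + 2) * e * T := hN
    _ ≤ _ := h5
    _ < (c + 2) ^ 3 := by ring_nf; omega

variable {G : Type u} [Group G] [Finite G] {x : G}

/-- The action on subspaces. -/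
@[reducible] def lineAction (ρ : G →* Matrix (Fin 3) (Fin 3) k) :
    MulAction G (Submodule k (Fin 3 → k)) where
  smul g L := L.map (Matrix.mulVecLin (ρ g))
  one_smul L := by
    change L.map (Matrix.mulVecLin (ρ 1)) = L
    rw [map_one, Matrix.mulVecLin_one, Submodule.map_id]
  mul_smul g h L := by
    change L.map (Matrix.mulVecLin (ρ (g * h))) =
      (L.map (Matrix.mulVecLin (ρ h))).map (Matrix.mulVecLin (ρ g))
    rw [map_mul, Matrix.mulVecLin_mul, Submodule.map_comp]

theorem inv_mulVec (ρ : G →* Matrix (Fin 3) (Fin 3) k) (g : G) (v : Fin 3 → k) :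
    ρ g⁻¹ *ᵥ (ρ g *ᵥ v) = v := by
  rw [Matrix.mulVec_mulVec, ← map_mul, inv_mul_cancel, map_one, Matrix.one_mulVec]

/-- Isotropic lines. -/
def isoPts (B : Matrix (Fin 3) (Fin 3) k) : Set (Submodule k (Fin 3 → k)) :=
  {L | ∃ v : Fin 3 → k, v ≠ 0 ∧ v ⬝ᵥ B *ᵥ v = 0 ∧ L = k ∙ v}

section detOne

variable (hp5 : 5 ≤ p) (ρ : G →* Matrix (Fin 3) (Fin 3) k) (hinj : Function.Injective ρ)
  (hdet : ∀ g, (ρ g).det = 1) {A : Matrix (Fin 3) (Fin 3) k} (hA : Aᵀ = A) (hAdet : IsUnit A.det)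
  (hinv : ∀ g, ρ g * A * (ρ g)ᵀ = A)
include hp5 hinj hdet hA hAdet hinv

/-- A `p`-regular element fixes exactly two isotropic lines. -/
theorem fixed_regular_of_det (g : G) (hg1 : g ≠ 1) (hgp : ¬ p ∣ orderOf g) :
    ∃ L₁ L₂ : Submodule k (Fin 3 → k), L₁ ≠ L₂ ∧
      ∀ L, (L ∈ isoPts A⁻¹ ∧ (lineAction ρ).smul g L = L) ↔ L = L₁ ∨ L = L₂ := by
  classical
  let act := lineAction ρ
  change ∃ L₁ L₂ : Submodule k (Fin 3 → k), L₁ ≠ L₂ ∧
      ∀ L, (L ∈ isoPts A⁻¹ ∧ g • L = L) ↔ L = L₁ ∨ L = L₂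
  have h2 : (2 : k) ≠ 0 := fun h => by
    have h' : ((2 : ℕ) : k) = 0 := by exact_mod_cast h
    have := Nat.le_of_dvd (by omega) ((CharP.cast_eq_zero_iff k p 2).1 h')
    omega
  have hsmul : ∀ (g : G) (v : Fin 3 → k), g • (k ∙ v) = k ∙ (ρ g *ᵥ v) := fun g v => by
    change (k ∙ v).map (Matrix.mulVecLin (ρ g)) = _
    rw [Submodule.map_span, Set.image_singleton, Matrix.mulVecLin_apply]
  have hne0 : ∀ (g : G) {v : Fin 3 → k}, v ≠ 0 → ρ g *ᵥ v ≠ 0 := fun g v hv h =>
    hv (by rw [← inv_mulVec ρ g v, h, Matrix.mulVec_zero])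
  have hline : ∀ {a b : Fin 3 → k}, a ≠ 0 → (k ∙ a) = (k ∙ b) → ∃ c : k, c • b = a := fun {a b} _ h =>
    Submodule.mem_span_singleton.1 (h ▸ Submodule.mem_span_singleton_self a)
  have hfixvec : ∀ (g : G) {v : Fin 3 → k}, g • (k ∙ v) = k ∙ v → ∃ μ : k, ρ g *ᵥ v = μ • v :=
    fun g v h => by
      rw [hsmul] at h
      obtain ⟨c, hc⟩ := Submodule.mem_span_singleton.1
        (h ▸ Submodule.mem_span_singleton_self (ρ g *ᵥ v))
      exact ⟨c, hc.symm⟩
  set B := A⁻¹ with hBdef
  have hBinv : ∀ g, (ρ g)ᵀ * B * ρ g = B := fun g => by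
    have hu : IsUnit ((ρ g)ᵀ) := by
      rw [Matrix.isUnit_iff_isUnit_det, Matrix.det_transpose, hdet]; exact isUnit_one
    have h1 : ((ρ g)ᵀ * B * ρ g * A) * (ρ g)ᵀ = 1 * (ρ g)ᵀ := by
      rw [show (ρ g)ᵀ * B * ρ g * A * (ρ g)ᵀ = (ρ g)ᵀ * B * (ρ g * A * (ρ g)ᵀ) by
        simp only [mul_assoc], hinv, mul_assoc, Matrix.nonsing_inv_mul A hAdet, mul_one, one_mul]
    have h3 := hu.mul_right_cancel h1
    calc (ρ g)ᵀ * B * ρ g = (ρ g)ᵀ * B * ρ g * (A * B) := by
          rw [Matrix.mul_nonsing_inv A hAdet, mul_one]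
      _ = B := by rw [← mul_assoc, h3, one_mul]
  set q : (Fin 3 → k) → (Fin 3 → k) → k := fun u v => u ⬝ᵥ B *ᵥ v with hqdef
  have hqinv : ∀ g u v, q (ρ g *ᵥ u) (ρ g *ᵥ v) = q u v := fun g u v => by
    simp only [hqdef]
    rw [Matrix.mulVec_mulVec, Matrix.dotProduct_mulVec, ← Matrix.vecMul_transpose,
      Matrix.vecMul_vecMul, ← mul_assoc, hBinv, ← Matrix.dotProduct_mulVec]
  have hqsymm : ∀ u v, q u v = q v u := fun u v => by
    have hB : Bᵀ = B := by rw [hBdef, Matrix.transpose_nonsing_inv, hA]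
    simp only [hqdef]
    rw [Matrix.dotProduct_mulVec, dotProduct_comm, ← Matrix.mulVec_transpose, hB]
  have qaddr : ∀ u v w, q u (v + w) = q u v + q u w := fun u v w => by
    simp [hqdef, Matrix.mulVec_add, dotProduct_add]
  have qaddl : ∀ u v w, q (u + v) w = q u w + q v w := fun u v w => by
    simp [hqdef, add_dotProduct]
  have qsmulr : ∀ (c : k) u v, q u (c • v) = c * q u v := fun c u v => by
    simp [hqdef, Matrix.mulVec_smul, dotProduct_smul]
  have qsmull : ∀ (c : k) u v, q (c • u) v = c * q u v := fun c u v => by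
    simp [hqdef, smul_dotProduct]
  have qzero : ∀ u, q u 0 = 0 := fun u => by simp [hqdef]
  have qnd : ∀ u, (∀ v, q u v = 0) → u = 0 := fun u h => by
    have h1 : ∀ v, v ⬝ᵥ (B *ᵥ u) = 0 := fun v => (hqsymm v u).trans (h v)
    have h2 : B *ᵥ u = 0 := dotProduct_eq_zero _ fun v => by rw [dotProduct_comm]; exact h1 v
    have h3 := congrArg (A *ᵥ ·) h2
    simpa [Matrix.mulVec_mulVec, hBdef, Matrix.mul_nonsing_inv A hAdet] using h3
  set M := ρ g
  set m := orderOf g
  have hmk : (m : k) ≠ 0 := fun h => hgp ((CharP.cast_eq_zero_iff k p m).1 h)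
  have hd0 : (M - 1).det = 0 := by
    have h1 : (M - 1) * A * Mᵀ = A * (-(M - 1))ᵀ := by
      rw [sub_mul, sub_mul, one_mul, hinv, Matrix.transpose_neg, Matrix.transpose_sub,
        Matrix.transpose_one, neg_sub, mul_sub, mul_one]
    have h2' := congrArg Matrix.det h1
    rw [Matrix.det_mul, Matrix.det_mul, Matrix.det_mul, Matrix.det_transpose, Matrix.det_transpose,
      hdet, Matrix.det_neg, Fintype.card_fin, mul_one] at h2'
    have h3 : (M - 1).det * (2 * A.det) = 0 := by linear_combination h2'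
    exact (mul_eq_zero.1 h3).resolve_right (mul_ne_zero h2 hAdet.ne_zero)
  obtain ⟨u₀, hu₀, hu₀'⟩ := Matrix.exists_mulVec_eq_zero_iff.2 hd0
  rw [Matrix.sub_mulVec, Matrix.one_mulVec, sub_eq_zero] at hu₀'
  obtain ⟨u, hu, hqu⟩ : ∃ u, M *ᵥ u = u ∧ q u u ≠ 0 := by
    by_contra hall
    push Not at hall
    refine hu₀ (qnd _ fun w => ?_)
    have hgpow : ∀ i : ℕ, ρ (g ^ i) *ᵥ u₀ = u₀ := fun i => by
      induction i with
      | zero => simp
      | succ i ih => rw [pow_succ, map_mul, ← Matrix.mulVec_mulVec, hu₀', ih]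
    set w' := ∑ i ∈ Finset.range m, ρ (g ^ i) *ᵥ w with hw'
    have hfix' : M *ᵥ w' = w' := by
      simp only [hw', Matrix.mulVec_sum, Matrix.mulVec_mulVec, M, ← map_mul, ← pow_succ']
      have h := Finset.sum_range_succ' (fun i => ρ (g ^ i) *ᵥ w) m
      rw [Finset.sum_range_succ] at h
      simp only [m, pow_orderOf_eq_one, pow_zero] at h
      exact (add_right_cancel h).symm
    have hz : q u₀ w' = 0 := by
      have e1 := hall _ (show M *ᵥ (u₀ + w') = u₀ + w' by rw [Matrix.mulVec_add, hu₀', hfix'])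
      rw [qaddl, qaddr, qaddr, hall _ hu₀', hall _ hfix', hqsymm w' u₀] at e1
      have e2 : 2 * q u₀ w' = 0 := by linear_combination e1
      exact (mul_eq_zero.1 e2).resolve_left h2
    have hsum : q u₀ w' = (m : k) * q u₀ w := by
      simp only [hw', hqdef, Matrix.mulVec_sum, dotProduct_sum]
      rw [Finset.sum_congr rfl (g := fun _ => q u₀ w) fun i _ => by
        change q u₀ _ = _
        conv_lhs => rw [← hgpow i]
        exact hqinv _ _ _]
      simp [hqdef]
    rw [hz] at hsum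
    exact (mul_eq_zero.1 hsum.symm).resolve_left hmk
  -- two vectors orthogonal to u
  let fu : (Fin 3 → k) →ₗ[k] k :=
    { toFun := q u, map_add' := qaddr u, map_smul' := fun c v => qsmulr c u v }
  have hdecomp : ∀ v, ∃ (a : k) (w : Fin 3 → k), q u w = 0 ∧ v = a • u + w := fun v =>
    ⟨q u v / q u u, v - (q u v / q u u) • u, by
      rw [sub_eq_add_neg, qaddr, ← neg_smul, qsmulr]; field_simp; ring, by abel⟩
  obtain ⟨w₁, hw1u, hw11⟩ : ∃ w, q u w = 0 ∧ q w w ≠ 0 := by
    by_contra hall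
    push Not at hall
    have hperp : ∀ w, q u w = 0 → w = 0 := fun w hw => qnd w fun v => by
      obtain ⟨a, v', hv', rfl⟩ := hdecomp v
      rw [qaddr, qsmulr, hqsymm w u, hw, mul_zero, zero_add]
      have e1 := hall (w + v') (by rw [qaddr, hw, hv', add_zero])
      rw [qaddl, qaddr, qaddr, hall w hw, hall v' hv', hqsymm v' w] at e1
      have e2 : 2 * q w v' = 0 := by linear_combination e1
      exact (mul_eq_zero.1 e2).resolve_left h2
    have hspan : (⊤ : Submodule k (Fin 3 → k)) ≤ k ∙ u := fun v _ => by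
      obtain ⟨a, w, hw, rfl⟩ := hdecomp v
      rw [hperp w hw, add_zero]
      exact Submodule.smul_mem _ _ (Submodule.mem_span_singleton_self u)
    have := Submodule.finrank_mono hspan
    rw [finrank_top, Module.finrank_fin_fun] at this
    have h1 : Module.finrank k (k ∙ u) ≤ 1 := by
      refine (finrank_span_le_card _).trans ?_
      simp
    omega
  obtain ⟨w₂, hw2ne, hw2u, hw21⟩ : ∃ w, w ≠ 0 ∧ q u w = 0 ∧ q w₁ w = 0 := by
    let f2 : (Fin 3 → k) →ₗ[k] (Fin 2 → k) :=
      { toFun := fun v => ![q u v, q w₁ v]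
        map_add' := fun a b => by ext i; fin_cases i <;> simp [qaddr]
        map_smul' := fun c a => by ext i; fin_cases i <;> simp [qsmulr] }
    have hker : LinearMap.ker f2 ≠ ⊥ := LinearMap.ker_ne_bot_of_finrank_lt (by simp)
    obtain ⟨w, hw, hwne⟩ := (Submodule.ne_bot_iff _).1 hker
    rw [LinearMap.mem_ker] at hw
    exact ⟨w, hwne, by simpa [f2] using congrFun hw 0, by simpa [f2] using congrFun hw 1⟩
  set Rb : Matrix (Fin 3) (Fin 3) k := Matrix.of fun i j => ![u, w₁, w₂] j i with hRb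
  have hRbv : ∀ y, Rb *ᵥ y = y 0 • u + y 1 • w₁ + y 2 • w₂ := fun y => by
    ext i; simp [hRb, Matrix.mulVec, dotProduct, Fin.sum_univ_three, mul_comm]
  have hRbu : IsUnit Rb := by
    rw [← Matrix.mulVec_injective_iff_isUnit]
    intro y y' hyy
    have h0 : Rb *ᵥ (y - y') = 0 := by rw [Matrix.mulVec_sub, hyy, sub_self]
    rw [hRbv] at h0
    set z := y - y'
    have e0 := congrArg (q u) h0
    have e1 := congrArg (q w₁) h0
    rw [qzero, qaddr, qaddr, qsmulr, qsmulr, qsmulr, hw1u, hw2u, mul_zero, mul_zero, add_zero,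
      add_zero, mul_eq_zero] at e0
    rw [qzero, qaddr, qaddr, qsmulr, qsmulr, qsmulr, hqsymm w₁ u, hw1u, hw21, mul_zero, mul_zero,
      zero_add, add_zero, mul_eq_zero] at e1
    have z0 := e0.resolve_right hqu
    have z1 := e1.resolve_right hw11
    rw [z0, z1, zero_smul, zero_smul, zero_add, zero_add, smul_eq_zero] at h0
    have z2 := h0.resolve_right hw2ne
    refine sub_eq_zero.1 (funext fun i => ?_)
    fin_cases i <;> assumption
  have hbasis : ∀ v, ∃ a b c : k, v = a • u + b • w₁ + c • w₂ := fun v => by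
    obtain ⟨y, hy⟩ := (Matrix.mulVec_surjective_iff_isUnit.2 hRbu) v
    exact ⟨y 0, y 1, y 2, by rw [← hy, hRbv]⟩
  have hw22 : q w₂ w₂ ≠ 0 := fun h => hw2ne (qnd _ fun v => by
    obtain ⟨a, b, c, rfl⟩ := hbasis v
    rw [qaddr, qaddr, qsmulr, qsmulr, qsmulr, hqsymm w₂ u, hw2u, hqsymm w₂ w₁, hw21, h]; ring)
  obtain ⟨c, hc⟩ := IsAlgClosed.exists_pow_nat_eq (-(q w₁ w₁) / q w₂ w₂) (n := 2) two_pos
  have hc' : c ^ 2 * q w₂ w₂ = -(q w₁ w₁) := by rw [hc, div_mul_cancel₀ _ hw22]
  have hc0 : c ≠ 0 := fun h => hw11 (by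
    rw [h] at hc'; linear_combination hc')
  set vp := w₁ + c • w₂
  set vm := w₁ + (-c) • w₂
  have hpp : q vp vp = 0 := by
    simp only [vp, qaddl, qaddr, qsmull, qsmulr, hqsymm w₂ w₁, hw21]; linear_combination hc'
  have hmm : q vm vm = 0 := by
    simp only [vm, qaddl, qaddr, qsmull, qsmulr, hqsymm w₂ w₁, hw21]; linear_combination hc'
  have hpm : q vp vm ≠ 0 := by
    have : q vp vm = 2 * q w₁ w₁ := by
      simp only [vp, vm, qaddl, qaddr, qsmull, qsmulr, hqsymm w₂ w₁, hw21]; linear_combination -hc'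
    rw [this]; exact mul_ne_zero h2 hw11
  have hpu : q u vp = 0 := by simp only [vp, qaddr, qsmulr, hw1u, hw2u]; ring
  have hmu : q u vm = 0 := by simp only [vm, qaddr, qsmulr, hw1u, hw2u]; ring
  have hvp0 : vp ≠ 0 := fun h => hpm (by rw [h, hqsymm, qzero])
  have hvm0 : vm ≠ 0 := fun h => hpm (by rw [h, qzero])
  have hbasis' : ∀ v, ∃ a b d : k, v = a • u + b • vp + d • vm := fun v => by
    obtain ⟨a, b, d, rfl⟩ := hbasis v
    refine ⟨a, (b + d / c) / 2, (b - d / c) / 2, ?_⟩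
    have e1 : (b + d / c) / 2 + (b - d / c) / 2 = b := by field_simp; ring
    have e2 : (b + d / c) / 2 * c + (b - d / c) / 2 * (-c) = d := by field_simp; ring
    simp only [vp, vm]
    linear_combination (norm := module) (-(1 : k)) • e1 • w₁ - e2 • w₂
  have hiso : ∀ v, v ≠ 0 → q v v = 0 → q u v = 0 → (k ∙ v) = (k ∙ vp) ∨ (k ∙ v) = (k ∙ vm) := by
    intro v hv hvv huv
    obtain ⟨a, b, d, rfl⟩ := hbasis' v
    rw [qaddr, qaddr, qsmulr, qsmulr, qsmulr, hpu, hmu, mul_zero, mul_zero, add_zero, add_zero,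
      mul_eq_zero] at huv
    obtain rfl := huv.resolve_right hqu
    rw [zero_smul, zero_add] at hv hvv ⊢
    simp only [qaddl, qaddr, qsmull, qsmulr, hqsymm vm vp, hpp, hmm] at hvv
    have hbd : b * d = 0 := by
      have : (2 * q vp vm) * (b * d) = 0 := by linear_combination hvv
      exact (mul_eq_zero.1 this).resolve_left (mul_ne_zero h2 hpm)
    rcases mul_eq_zero.1 hbd with rfl | rfl
    · right
      rw [zero_smul, zero_add] at hv ⊢
      exact Submodule.span_singleton_smul_eq (IsUnit.mk0 d fun h => hv (by rw [h, zero_smul])) _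
    · left
      rw [zero_smul, add_zero] at hv ⊢
      exact Submodule.span_singleton_smul_eq (IsUnit.mk0 b fun h => hv (by rw [h, zero_smul])) _
  have himg : ∀ v, v ≠ 0 → q v v = 0 → q u v = 0 →
      (k ∙ M *ᵥ v) = (k ∙ vp) ∨ (k ∙ M *ᵥ v) = (k ∙ vm) := fun v hv hvv huv =>
    hiso _ (hne0 g hv) ((hqinv g v v).trans hvv) (by
      conv_lhs => rw [← hu]
      exact (hqinv g u v).trans huv)
  have hneL : (k ∙ vp) ≠ (k ∙ vm) := fun h => by
    obtain ⟨a, ha⟩ := hline hvp0 h
    refine hpm ?_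
    rw [← ha, qsmull, hmm, mul_zero]
  have hinjline : ∀ {a b : Fin 3 → k}, (k ∙ M *ᵥ a) = (k ∙ M *ᵥ b) → (k ∙ a) = (k ∙ b) := fun {a b} h => by
    rw [← hsmul, ← hsmul] at h
    exact MulAction.injective g h
  have hfixp : (k ∙ M *ᵥ vp) = (k ∙ vp) := by
    rcases himg vp hvp0 hpp hpu with h | h
    · exact h
    exfalso
    rcases himg vm hvm0 hmm hmu with h' | h'
    · obtain ⟨a, ha⟩ := hline (hne0 g hvp0) h
      obtain ⟨b, hb⟩ := hline (hne0 g hvm0) h'
      have hab : a * b = 1 := by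
        have e := hqinv g vp vm
        rw [← show M = ρ g from rfl, ← ha, ← hb, qsmull, qsmulr, hqsymm vm vp] at e
        exact (mul_eq_right₀ hpm).1 (by rw [mul_assoc]; exact e)
      set R' : Matrix (Fin 3) (Fin 3) k := Matrix.of fun i j => ![u, vp, vm] j i with hR'
      have hR'v : ∀ y, R' *ᵥ y = y 0 • u + y 1 • vp + y 2 • vm := fun y => by
        ext i; simp [hR', Matrix.mulVec, dotProduct, Fin.sum_univ_three, mul_comm]
      have hR'u : IsUnit R' := by
        rw [← Matrix.mulVec_surjective_iff_isUnit]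
        intro v
        obtain ⟨a, b, d, rfl⟩ := hbasis' v
        exact ⟨![a, b, d], by rw [hR'v]; simp⟩
      set T : Matrix (Fin 3) (Fin 3) k := !![1, 0, 0; 0, 0, b; 0, a, 0]
      have hT : M * R' = R' * T := by
        ext i j
        have e : (M * R') i j = (M *ᵥ (![u, vp, vm] j)) i := by
          simp [hR', Matrix.mulVec, dotProduct, Matrix.mul_apply]
        rw [e]
        fin_cases j
        · simp only [Fin.zero_eta, Fin.mk_one, Fin.reduceFinMk, Matrix.cons_val]
          rw [hu]; simp [hR', T, Matrix.mul_apply, Fin.sum_univ_three]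
        · simp only [Fin.zero_eta, Fin.mk_one, Fin.reduceFinMk, Matrix.cons_val]
          rw [← ha]; simp [hR', T, Matrix.mul_apply, Fin.sum_univ_three, mul_comm]
        · simp only [Fin.zero_eta, Fin.mk_one, Fin.reduceFinMk, Matrix.cons_val]
          rw [← hb]; simp [hR', T, Matrix.mul_apply, Fin.sum_univ_three, mul_comm]
      have e := congrArg Matrix.det hT
      rw [Matrix.det_mul, Matrix.det_mul, hdet, one_mul] at e
      have hTd : T.det = 1 :=
        (mul_eq_left₀ ((Matrix.isUnit_iff_isUnit_det R').1 hR'u).ne_zero).1 e.symm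
      simp [T, Matrix.det_fin_three] at hTd
      exact h2 (by linear_combination -hTd - hab)
    · exact hneL (hinjline (h.trans h'.symm))
  have hfixm : (k ∙ M *ᵥ vm) = (k ∙ vm) := by
    rcases himg vm hvm0 hmm hmu with h | h
    · exact absurd (hinjline (h.trans hfixp.symm)).symm hneL
    · exact h
  refine ⟨k ∙ vp, k ∙ vm, hneL, fun L => ⟨?_, ?_⟩⟩
  · rintro ⟨⟨v, hv, hvv, rfl⟩, hfix⟩
    obtain ⟨μ, hμ⟩ := hfixvec g hfix
    rw [← show M = ρ g from rfl] at hμ
    refine hiso v hv hvv ?_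
    by_cases hμ1 : μ = 1
    · obtain ⟨a, b, d, hvdec⟩ := hbasis' v
      obtain ⟨la, hla⟩ := hline (hne0 g hvp0) hfixp
      obtain ⟨lb, hlb⟩ := hline (hne0 g hvm0) hfixm
      have hlab : la * lb = 1 := by
        have e := hqinv g vp vm
        rw [← show M = ρ g from rfl, ← hla, ← hlb, qsmull, qsmulr] at e
        exact (mul_eq_right₀ hpm).1 (by rw [mul_assoc]; exact e)
      have hla1 : la ≠ 1 := fun h1 => hg1 (by
        refine hinj ?_
        rw [map_one]
        refine Matrix.ext_iff_mulVec.2 fun v => ?_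
        obtain ⟨a, b, d, rfl⟩ := hbasis' v
        rw [h1, one_mul] at hlab
        rw [Matrix.one_mulVec, Matrix.mulVec_add, Matrix.mulVec_add, Matrix.mulVec_smul,
          Matrix.mulVec_smul, Matrix.mulVec_smul, ← show M = ρ g from rfl, hu, ← hla, ← hlb, h1, hlab,
          one_smul, one_smul])
      rw [hμ1, one_smul, hvdec, Matrix.mulVec_add, Matrix.mulVec_add, Matrix.mulVec_smul,
        Matrix.mulVec_smul, Matrix.mulVec_smul, hu, ← hla, ← hlb] at hμ
      have eb := congrArg (fun z => q z vm) hμ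
      simp only [qaddl, qsmull, hmu, hmm] at eb
      have hb0 : b = 0 := by
        have : b * ((la - 1) * q vp vm) = 0 := by linear_combination eb
        exact (mul_eq_zero.1 this).resolve_right (mul_ne_zero (sub_ne_zero.2 hla1) hpm)
      have ed := congrArg (fun z => q z vp) hμ
      simp only [qaddl, qsmull, hpu, hpp, hqsymm vm vp] at ed
      have hd0 : d = 0 := by
        have : d * ((lb - 1) * q vp vm) = 0 := by linear_combination ed
        refine (mul_eq_zero.1 this).resolve_right (mul_ne_zero (sub_ne_zero.2 fun h => hla1 ?_) hpm)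
        rw [h, mul_one] at hlab; exact hlab
      rw [hb0, hd0, zero_smul, zero_smul, add_zero, add_zero] at hvdec
      rw [hvdec, ← show ∀ x y, q x y = x ⬝ᵥ B *ᵥ y from fun _ _ => rfl, qsmull, qsmulr,
        mul_eq_zero, mul_eq_zero] at hvv
      have ha0 : a = 0 := by
        rcases hvv with h | h | h
        exacts [h, h, absurd h hqu]
      rw [ha0, zero_smul] at hvdec
      exact absurd hvdec hv
    · have e := hqinv g u v
      rw [← show M = ρ g from rfl, hu, hμ, qsmulr] at e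
      have : (μ - 1) * q u v = 0 := by linear_combination e
      exact (mul_eq_zero.1 this).resolve_left (sub_ne_zero.2 hμ1)
  · rintro (rfl | rfl)
    · exact ⟨⟨vp, hvp0, hpp, rfl⟩, by rw [hsmul]; exact hfixp⟩
    · exact ⟨⟨vm, hvm0, hmm, rfl⟩, by rw [hsmul]; exact hfixm⟩

/-- A single block element fixes one isotropic line, stabilized by the normalizer only. -/
theorem fixed_unipotent_of_det (hxb : IsBlock (ρ x)) (hx : orderOf x = p) (hsq : ¬ p ^ 2 ∣ Nat.card G) :
    ∃ ℓ : Submodule k (Fin 3 → k), ℓ ∈ isoPts A⁻¹ ∧ (lineAction ρ).smul x ℓ = ℓ ∧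
      (∀ L ∈ isoPts A⁻¹, (lineAction ρ).smul x L = L → L = ℓ) ∧
      (∀ g : G, (lineAction ρ).smul g ℓ = ℓ →
        g ∈ Subgroup.normalizer ((Subgroup.zpowers x : Subgroup G) : Set G)) := by
  classical
  let act := lineAction ρ
  have h2 : (2 : k) ≠ 0 := fun h => by
    have h' : ((2 : ℕ) : k) = 0 := by exact_mod_cast h
    have := Nat.le_of_dvd (by omega) ((CharP.cast_eq_zero_iff k p 2).1 h')
    omega
  have hsmul : ∀ (g : G) (v : Fin 3 → k), g • (k ∙ v) = k ∙ (ρ g *ᵥ v) := fun g v => by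
    change (k ∙ v).map (Matrix.mulVecLin (ρ g)) = _
    rw [Submodule.map_span, Set.image_singleton, Matrix.mulVecLin_apply]
  have hne0 : ∀ (g : G) {v : Fin 3 → k}, v ≠ 0 → ρ g *ᵥ v ≠ 0 := fun g v hv h =>
    hv (by rw [← inv_mulVec ρ g v, h, Matrix.mulVec_zero])
  have hline : ∀ {a b : Fin 3 → k}, a ≠ 0 → (k ∙ a) = (k ∙ b) → ∃ c : k, c • b = a := fun {a b} _ h =>
    Submodule.mem_span_singleton.1 (h ▸ Submodule.mem_span_singleton_self a)
  have hfixvec : ∀ (g : G) {v : Fin 3 → k}, g • (k ∙ v) = k ∙ v → ∃ μ : k, ρ g *ᵥ v = μ • v :=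
    fun g v h => by
      rw [hsmul] at h
      obtain ⟨c, hc⟩ := Submodule.mem_span_singleton.1
        (h ▸ Submodule.mem_span_singleton_self (ρ g *ᵥ v))
      exact ⟨c, hc.symm⟩
  set B := A⁻¹ with hBdef
  have hBinv : ∀ g, (ρ g)ᵀ * B * ρ g = B := fun g => by
    have hu : IsUnit ((ρ g)ᵀ) := by
      rw [Matrix.isUnit_iff_isUnit_det, Matrix.det_transpose, hdet]; exact isUnit_one
    have h1 : ((ρ g)ᵀ * B * ρ g * A) * (ρ g)ᵀ = 1 * (ρ g)ᵀ := by
      rw [show (ρ g)ᵀ * B * ρ g * A * (ρ g)ᵀ = (ρ g)ᵀ * B * (ρ g * A * (ρ g)ᵀ) by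
        simp only [mul_assoc], hinv, mul_assoc, Matrix.nonsing_inv_mul A hAdet, mul_one, one_mul]
    have h3 := hu.mul_right_cancel h1
    calc (ρ g)ᵀ * B * ρ g = (ρ g)ᵀ * B * ρ g * (A * B) := by
          rw [Matrix.mul_nonsing_inv A hAdet, mul_one]
      _ = B := by rw [← mul_assoc, h3, one_mul]
  set q : (Fin 3 → k) → (Fin 3 → k) → k := fun u v => u ⬝ᵥ B *ᵥ v with hqdef
  have hqinv : ∀ g u v, q (ρ g *ᵥ u) (ρ g *ᵥ v) = q u v := fun g u v => by
    simp only [hqdef]
    rw [Matrix.mulVec_mulVec, Matrix.dotProduct_mulVec, ← Matrix.vecMul_transpose,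
      Matrix.vecMul_vecMul, ← mul_assoc, hBinv, ← Matrix.dotProduct_mulVec]
  have hqsymm : ∀ u v, q u v = q v u := fun u v => by
    have hB : Bᵀ = B := by rw [hBdef, Matrix.transpose_nonsing_inv, hA]
    simp only [hqdef]
    rw [Matrix.dotProduct_mulVec, dotProduct_comm, ← Matrix.mulVec_transpose, hB]
  have qaddr : ∀ u v w, q u (v + w) = q u v + q u w := fun u v w => by
    simp [hqdef, Matrix.mulVec_add, dotProduct_add]
  have qaddl : ∀ u v w, q (u + v) w = q u w + q v w := fun u v w => by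
    simp [hqdef, add_dotProduct]
  have qsmulr : ∀ (c : k) u v, q u (c • v) = c * q u v := fun c u v => by
    simp [hqdef, Matrix.mulVec_smul, dotProduct_smul]
  have qsmull : ∀ (c : k) u v, q (c • u) v = c * q u v := fun c u v => by
    simp [hqdef, smul_dotProduct]
  have qzero : ∀ u, q u 0 = 0 := fun u => by simp [hqdef]
  have qnd : ∀ u, (∀ v, q u v = 0) → u = 0 := fun u h => by
    have h1 : ∀ v, v ⬝ᵥ (B *ᵥ u) = 0 := fun v => (hqsymm v u).trans (h v)
    have h2 : B *ᵥ u = 0 := dotProduct_eq_zero _ fun v => by rw [dotProduct_comm]; exact h1 v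
    have h3 := congrArg (A *ᵥ ·) h2
    simpa [Matrix.mulVec_mulVec, hBdef, Matrix.mul_nonsing_inv A hAdet] using h3
  -- the fixed line of x
  obtain ⟨R, hR, hRx⟩ := hxb
  set r : Fin 3 → (Fin 3 → k) := fun j i => R i j with hr
  have hrj : ∀ j i, (ρ x *ᵥ r j) i = (ρ x * R) i j := fun j i => by
    simp [hr, Matrix.mulVec, dotProduct, Matrix.mul_apply]
  have hx0 : ρ x *ᵥ r 0 = r 0 + r 1 := by
    ext i; rw [hrj, hRx]; simp [Matrix.mul_apply, Fin.sum_univ_three, lower, Matrix.one_apply, hr]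
  have hx1 : ρ x *ᵥ r 1 = r 1 + r 2 := by
    ext i; rw [hrj, hRx]; simp [Matrix.mul_apply, Fin.sum_univ_three, lower, Matrix.one_apply, hr]
  have hx2 : ρ x *ᵥ r 2 = r 2 := by
    ext i; rw [hrj, hRx]; simp [Matrix.mul_apply, Fin.sum_univ_three, lower, Matrix.one_apply, hr]
  have hcomb : ∀ v : Fin 3 → k, ∃ a b c : k, v = a • r 0 + b • r 1 + c • r 2 := fun v => by
    obtain ⟨y, hy⟩ := (Matrix.mulVec_surjective_iff_isUnit.2 hR) v
    refine ⟨y 0, y 1, y 2, ?_⟩
    rw [← hy]; ext i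
    simp [hr, Matrix.mulVec, dotProduct, Fin.sum_univ_three, mul_comm]
  have hindep : ∀ a b c : k, a • r 0 + b • r 1 + c • r 2 = 0 → a = 0 ∧ b = 0 ∧ c = 0 := fun a b c h => by
    have h1 : R *ᵥ ![a, b, c] = R *ᵥ 0 := by
      rw [Matrix.mulVec_zero, ← h]; ext i
      simp [hr, Matrix.mulVec, dotProduct, Fin.sum_univ_three, mul_comm]
    have h2 := Matrix.mulVec_injective_iff_isUnit.2 hR h1
    exact ⟨by simpa using congrFun h2 0, by simpa using congrFun h2 1, by simpa using congrFun h2 2⟩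
  have hr2 : r 2 ≠ 0 := fun h => by
    have := hindep 0 0 1 (by simp [h])
    simp at this
  have hq22 : q (r 2) (r 2) = 0 := by
    have h := hqinv x (r 1) (r 2)
    rw [hx1, hx2, qaddl] at h
    linear_combination h
  have hq12 : q (r 1) (r 2) = 0 := by
    have h := hqinv x (r 0) (r 2)
    rw [hx0, hx2, qaddl] at h
    linear_combination h
  have hq02 : q (r 0) (r 2) ≠ 0 := fun h => hr2 (qnd _ fun v => by
    obtain ⟨a, b, c, rfl⟩ := hcomb v
    rw [hqsymm, qaddl, qaddl, qsmull, qsmull, qsmull, h, hq12, hq22]; ring)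
  set ℓ : Submodule k (Fin 3 → k) := k ∙ r 2
  have hℓpt : ℓ ∈ isoPts B := ⟨r 2, hr2, hq22, rfl⟩
  have hxfix : x • ℓ = ℓ := by rw [hsmul, hx2]
  have hxuniq : ∀ L ∈ isoPts B, x • L = L → L = ℓ := by
    rintro _ ⟨v, hv, -, rfl⟩ hfix
    obtain ⟨μ, hμ⟩ := hfixvec x hfix
    have hpow : ∀ i : ℕ, ρ (x ^ i) *ᵥ v = μ ^ i • v := fun i => by
      induction i with
      | zero => simp
      | succ i ih => rw [pow_succ, map_mul, ← Matrix.mulVec_mulVec, hμ, Matrix.mulVec_smul, ih, smul_smul, pow_succ']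
    have h1 := hpow p
    rw [← hx, pow_orderOf_eq_one, map_one, Matrix.one_mulVec, hx] at h1
    have hμp : μ ^ p = 1 := (smul_left_injective k hv (show μ ^ p • v = (1 : k) • v by rw [one_smul, ← h1]))
    have hμ1 : μ = 1 := by
      have : (μ - 1) ^ p = 0 := by rw [sub_pow_char, hμp, one_pow, sub_self]
      exact sub_eq_zero.1 (pow_eq_zero_iff hp.out.ne_zero |>.1 this)
    rw [hμ1, one_smul] at hμ
    obtain ⟨a, b, c, rfl⟩ := hcomb v
    rw [Matrix.mulVec_add, Matrix.mulVec_add, Matrix.mulVec_smul, Matrix.mulVec_smul, Matrix.mulVec_smul,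
      hx0, hx1, hx2] at hμ
    obtain ⟨-, ha, hb⟩ := hindep 0 a b (by
      rw [← sub_eq_zero] at hμ; rw [← hμ]; module)
    subst ha; subst hb
    rw [zero_smul, zero_smul, zero_add, zero_add] at hv ⊢
    exact Submodule.span_singleton_smul_eq (IsUnit.mk0 c fun h => hv (by rw [h, zero_smul])) _
  -- its stabilizer is the normalizer
  set P := Subgroup.zpowers x
  set N := Subgroup.normalizer (P : Set G)
  set S := MulAction.stabilizer G ℓ
  have hstabP : ∀ {L : Submodule k (Fin 3 → k)}, x • L = L → ∀ z ∈ P, z • L = L := fun {L} h z hz =>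
    (Subgroup.zpowers_le.2 h : P ≤ MulAction.stabilizer G L) hz
  have hmove : ∀ (g : G), ∀ L ∈ isoPts B, g • L ∈ isoPts B := by
    rintro g _ ⟨v, hv, hv0, rfl⟩
    exact ⟨ρ g *ᵥ v, hne0 g hv, (hqinv g v v).trans hv0, hsmul g v⟩
  have hPcard : Nat.card P = p := by rw [Nat.card_zpowers, hx]
  let P' : Sylow p G := Sylow.ofCard P (by
    rw [hPcard]
    have h1 : p ∣ Nat.card G := hx ▸ orderOf_dvd_natCard x
    have h2 : (Nat.card G).factorization p = 1 := by
      have hpos := hp.out.factorization_pos_of_dvd Nat.card_pos.ne' h1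
      have hle : ¬ 2 ≤ (Nat.card G).factorization p := fun h =>
        hsq ((hp.out.pow_dvd_iff_le_factorization Nat.card_pos.ne').2 h)
      omega
    rw [h2, pow_one])
  have hSN : S ≤ N := by
    choose χf hχf using fun g : S => hfixvec (g : G) g.2
    let χ : S →* k :=
      { toFun := χf
        map_one' := by
          have h := hχf 1
          rw [show ((1 : S) : G) = 1 from rfl, map_one, Matrix.one_mulVec] at h
          exact (smul_left_injective k hr2 (show (1 : k) • r 2 = χf 1 • r 2 by rw [one_smul]; exact h)).symm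
        map_mul' := fun a b => by
          have hab := hχf (a * b)
          rw [show ((a * b : S) : G) = (a : G) * (b : G) from rfl, map_mul, ← Matrix.mulVec_mulVec,
            hχf b, Matrix.mulVec_smul, hχf a, smul_smul] at hab
          exact (smul_left_injective k hr2 hab).symm.trans (mul_comm _ _) }
    have hχ : ∀ g : S, ρ (g : G) *ᵥ r 2 = χ g • r 2 := hχf
    let K := χ.toHomUnits.ker
    have hKp : ∀ g : S, g ∈ K → (g : G) ^ p = 1 := fun g hg => by
      have hg2 : ρ (g : G) *ᵥ r 2 = r 2 := by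
        rw [hχ, show χ g = 1 from congrArg Units.val (MonoidHom.mem_ker.1 hg), one_smul]
      obtain ⟨a, b, c, h1⟩ := hcomb (ρ (g : G) *ᵥ r 1)
      obtain ⟨a0, b0, c0, h0⟩ := hcomb (ρ (g : G) *ᵥ r 0)
      have ha : a = 0 := by
        have h := hqinv (g : G) (r 1) (r 2)
        rw [h1, hg2, qaddl, qaddl, qsmull, qsmull, qsmull, hq12, hq22, mul_zero, mul_zero, add_zero,
          add_zero] at h
        exact (mul_eq_zero.1 h).resolve_right hq02
      have ha0 : a0 = 1 := by
        have h := hqinv (g : G) (r 0) (r 2)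
        rw [h0, hg2, qaddl, qaddl, qsmull, qsmull, qsmull, hq12, hq22, mul_zero, mul_zero, add_zero,
          add_zero] at h
        exact (mul_eq_right₀ hq02).1 h
      set T : Matrix (Fin 3) (Fin 3) k := !![a0, a, 0; b0, b, 0; c0, c, 1]
      have hT : ρ (g : G) * R = R * T := by
        ext i j
        have e : (ρ (g : G) * R) i j = (ρ (g : G) *ᵥ r j) i := by
          simp [hr, Matrix.mulVec, dotProduct, Matrix.mul_apply]
        rw [e]
        fin_cases j
        · simp only [Fin.zero_eta, Fin.mk_one, Fin.reduceFinMk]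
          rw [h0]; simp [hr, T, Matrix.mul_apply, Fin.sum_univ_three, mul_comm]
        · simp only [Fin.zero_eta, Fin.mk_one, Fin.reduceFinMk]
          rw [h1]; simp [hr, T, Matrix.mul_apply, Fin.sum_univ_three, mul_comm]
        · simp only [Fin.zero_eta, Fin.mk_one, Fin.reduceFinMk]
          rw [hg2]; simp [hr, T, Matrix.mul_apply, Fin.sum_univ_three]
      have hb : b = 1 := by
        have h := congrArg Matrix.det hT
        rw [Matrix.det_mul, Matrix.det_mul, hdet, one_mul] at h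
        have hd : R.det ≠ 0 := ((Matrix.isUnit_iff_isUnit_det R).1 hR).ne_zero
        have hTd : T.det = 1 := (mul_eq_left₀ hd).1 h.symm
        simpa [T, Matrix.det_fin_three, ha, ha0] using hTd
      have hX : (T - 1) ^ 3 = 0 := by
        have hT1 : T - 1 = !![0, 0, 0; b0, 0, 0; c0, c, 0] := by
          simp only [T, ha, ha0, hb, Matrix.one_fin_three]
          ext i j
          fin_cases i <;> fin_cases j <;> simp
        rw [hT1, pow_three]
        ext i j
        fin_cases i <;> fin_cases j <;> simp [Matrix.mul_apply, Fin.sum_univ_three]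
      have hTp : T ^ p = 1 := by
        have h := sub_pow_char_of_commute (p := p) (x := T) (y := 1) (Commute.one_right T)
        rw [one_pow, show p = 3 + (p - 3) by omega, pow_add, hX, zero_mul,
          show 3 + (p - 3) = p by omega] at h
        exact sub_eq_zero.1 h.symm
      have hpow : ∀ i : ℕ, ρ ((g : G) ^ i) * R = R * T ^ i := fun i => by
        induction i with
        | zero => simp
        | succ i ih => rw [pow_succ, map_mul, mul_assoc, hT, ← mul_assoc, ih, mul_assoc, ← pow_succ]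
      refine hinj ?_
      rw [map_one]
      refine hR.mul_right_cancel ?_
      rw [hpow, hTp, mul_one, one_mul]
    have hxS : x ∈ S := hxfix
    have hxK : (⟨x, hxS⟩ : S) ∈ K := by
      refine MonoidHom.mem_ker.2 (Units.ext ?_)
      have h := hχ ⟨x, hxS⟩
      simp only [hx2] at h
      exact (smul_left_injective k hr2 (show χ ⟨x, hxS⟩ • r 2 = (1 : k) • r 2 by rw [one_smul, ← h]))
    set Q : Subgroup G := K.map S.subtype
    have hQP : P = Q := by
      have hPQ : P ≤ Q := Subgroup.zpowers_le.2 ⟨_, hxK, rfl⟩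
      refine P'.is_maximal' (fun z => ⟨1, ?_⟩) hPQ |>.symm
      obtain ⟨g, hg, hgz⟩ := z.2
      refine Subtype.ext ?_
      rw [pow_one, Subgroup.coe_pow, Subgroup.coe_one, ← hgz]
      exact hKp g hg
    intro g hg
    refine Subgroup.mem_normalizer_iff.2 fun z => ?_
    rw [hQP]
    constructor
    · rintro ⟨w, hw, rfl⟩
      exact ⟨⟨g, hg⟩ * w * ⟨g, hg⟩⁻¹, (inferInstance : K.Normal).conj_mem w hw _, by simp⟩
    · rintro ⟨w, hw, hwz⟩
      refine ⟨⟨g, hg⟩⁻¹ * w * (⟨g, hg⟩⁻¹)⁻¹, (inferInstance : K.Normal).conj_mem w hw _, ?_⟩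
      simp only [inv_inv, Subgroup.coe_subtype, Subgroup.coe_mul, Subgroup.coe_inv] at hwz ⊢
      rw [hwz]; simp [mul_assoc]
  exact ⟨ℓ, hℓpt, hxfix, hxuniq, fun g hg => hSN hg⟩

/-- Isotropic lines are permuted. -/
theorem isoPts_move : ∀ g : G, ∀ L ∈ isoPts A⁻¹, (lineAction ρ).smul g L ∈ isoPts A⁻¹ := by
  rintro g _ ⟨v, hv, hv0, rfl⟩
  have hd : (ρ g).det = 1 := hdet g
  refine ⟨ρ g *ᵥ v, fun h => hv ?_, ?_, ?_⟩
  · rw [← inv_mulVec ρ g v, h, Matrix.mulVec_zero]
  · have hu : IsUnit ((ρ g)ᵀ) := by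
      rw [Matrix.isUnit_iff_isUnit_det, Matrix.det_transpose, hd]; exact isUnit_one
    have h1 : ((ρ g)ᵀ * A⁻¹ * ρ g * A) * (ρ g)ᵀ = 1 * (ρ g)ᵀ := by
      rw [show (ρ g)ᵀ * A⁻¹ * ρ g * A * (ρ g)ᵀ = (ρ g)ᵀ * A⁻¹ * (ρ g * A * (ρ g)ᵀ) by
        simp only [mul_assoc], hinv, mul_assoc, Matrix.nonsing_inv_mul A hAdet, mul_one, one_mul]
    have h2 : (ρ g)ᵀ * A⁻¹ * ρ g = A⁻¹ := by
      calc (ρ g)ᵀ * A⁻¹ * ρ g = (ρ g)ᵀ * A⁻¹ * ρ g * (A * A⁻¹) := by
            rw [Matrix.mul_nonsing_inv A hAdet, mul_one]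
        _ = A⁻¹ := by rw [← mul_assoc, hu.mul_right_cancel h1, one_mul]
    rw [Matrix.mulVec_mulVec, Matrix.dotProduct_mulVec, ← Matrix.vecMul_transpose,
      Matrix.vecMul_vecMul, ← mul_assoc, h2, ← Matrix.dotProduct_mulVec]
    exact hv0
  · change (k ∙ v).map (Matrix.mulVecLin (ρ g)) = _
    rw [Submodule.map_span, Set.image_singleton, Matrix.mulVecLin_apply]

omit hp5 hinj hdet hA hAdet hinv [IsAlgClosed k] hp [CharP k p] [Finite G] in
/-- A representation of a perfect group has determinant one. -/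
theorem det_eq_one_of_perfect (hperf : commutator G = ⊤) (g : G) : (ρ g).det = 1 := by
  let χ : G →* k := Matrix.detMonoidHom.comp ρ
  have hker : χ.toHomUnits.ker = ⊤ :=
    top_le_iff.1 (hperf ▸ Abelianization.commutator_subset_ker χ.toHomUnits)
  exact congrArg Units.val (MonoidHom.mem_ker.1 (hker ▸ Subgroup.mem_top g))

end detOne

variable (hp5 : 5 ≤ p) (ρ : G →* Matrix (Fin 3) (Fin 3) k) (hinj : Function.Injective ρ)
  (hperf : commutator G = ⊤) {A : Matrix (Fin 3) (Fin 3) k} (hA : Aᵀ = A) (hAdet : IsUnit A.det)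
  (hinv : ∀ g, ρ g * A * (ρ g)ᵀ = A)
include hp5 hinj hperf hA hAdet hinv

/-- A `p`-regular element fixes exactly two isotropic lines. -/
theorem fixed_regular (g : G) (hg1 : g ≠ 1) (hgp : ¬ p ∣ orderOf g) :
    ∃ L₁ L₂ : Submodule k (Fin 3 → k), L₁ ≠ L₂ ∧
      ∀ L, (L ∈ isoPts A⁻¹ ∧ (lineAction ρ).smul g L = L) ↔ L = L₁ ∨ L = L₂ :=
  fixed_regular_of_det hp5 ρ hinj (det_eq_one_of_perfect ρ hperf) hA hAdet hinv g hg1 hgp

/-- A single block element fixes one isotropic line, stabilized by the normalizer only. -/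
theorem fixed_unipotent (hxb : IsBlock (ρ x)) (hx : orderOf x = p) (hsq : ¬ p ^ 2 ∣ Nat.card G) :
    ∃ ℓ : Submodule k (Fin 3 → k), ℓ ∈ isoPts A⁻¹ ∧ (lineAction ρ).smul x ℓ = ℓ ∧
      (∀ L ∈ isoPts A⁻¹, (lineAction ρ).smul x L = L → L = ℓ) ∧
      (∀ g : G, (lineAction ρ).smul g ℓ = ℓ →
        g ∈ Subgroup.normalizer ((Subgroup.zpowers x : Subgroup G) : Set G)) :=
  fixed_unipotent_of_det hp5 ρ hinj (det_eq_one_of_perfect ρ hperf) hA hAdet hinv hxb hx hsq

omit hp5 hinj hperf hA hAdet hinv in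
/-- The orbit data of counting fixed points. -/
theorem conic_data_of_fixed_points {Ω : Type*} [MulAction G Ω] {X : Set Ω} (hp5 : 5 ≤ p)
    (hmove : ∀ g : G, ∀ L ∈ X, g • L ∈ X) (hx : orderOf x = p) (hsq : ¬ p ^ 2 ∣ Nat.card G)
    (hC : Subgroup.centralizer ({x} : Set G) = Subgroup.zpowers x)
    (hnn : ¬ (Subgroup.zpowers x).Normal) {ℓ : Ω} (hℓpt : ℓ ∈ X) (hxfix : x • ℓ = ℓ)
    (hxuniq : ∀ L ∈ X, x • L = L → L = ℓ)
    (hSN : MulAction.stabilizer G ℓ ≤
      Subgroup.normalizer ((Subgroup.zpowers x : Subgroup G) : Set G))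
    (hreg : ∀ g : G, g ≠ 1 → ¬ p ∣ orderOf g → ∃ L₁ L₂ : Ω, L₁ ≠ L₂ ∧
      ∀ L, (L ∈ X ∧ g • L = L) ↔ L = L₁ ∨ L = L₂) :
    ∃ e n m s : ℕ, 1 ≤ e ∧ e ≤ p - 1 ∧
      Nat.card (Subgroup.normalizer ((Subgroup.zpowers x : Subgroup G) : Set G)) = p * e ∧
      n ≠ 0 ∧ Nat.card (Sylow p G) = 1 + n * p ∧ Nat.card G = p * e * (1 + n * p) ∧
      m * s = Nat.card G ∧ m = 2 + (p - 2) * (1 + n * p) := by
  classical
  have := Fintype.ofFinite G
  set P := Subgroup.zpowers x
  set N := Subgroup.normalizer (P : Set G)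
  set S := MulAction.stabilizer G ℓ
  have hstabP : ∀ {L : Ω}, x • L = L → ∀ z ∈ P, z • L = L := fun {L} h z hz =>
    (Subgroup.zpowers_le.2 h : P ≤ MulAction.stabilizer G L) hz
  have hPcard : Nat.card P = p := by rw [Nat.card_zpowers, hx]
  let P' : Sylow p G := Sylow.ofCard P (by
    rw [hPcard]
    have h1 : p ∣ Nat.card G := hx ▸ orderOf_dvd_natCard x
    have h2 : (Nat.card G).factorization p = 1 := by
      have hpos := hp.out.factorization_pos_of_dvd Nat.card_pos.ne' h1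
      have hle : ¬ 2 ≤ (Nat.card G).factorization p := fun h =>
        hsq ((hp.out.pow_dvd_iff_le_factorization Nat.card_pos.ne').2 h)
      omega
    rw [h2, pow_one])
  have hNS : N ≤ S := fun n hn => by
    have h1 : n⁻¹ * x * n ∈ P := (mem_inv_conj hn).2
    refine hxuniq _ (hmove n ℓ hℓpt) ?_
    have h2 := hstabP hxfix _ h1
    rw [← mul_smul]
    calc (x * n) • ℓ = (n * (n⁻¹ * x * n)) • ℓ := by simp [mul_assoc]
      _ = n • ℓ := by rw [mul_smul, hstabP hxfix _ h1]
  -- elements of order divisible by p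
  have hsing : ∀ g : G, p ∣ orderOf g → orderOf g = p ∧ ∃ h : G, ∀ L,
      (L ∈ X ∧ g • L = L) ↔ L = h • ℓ := by
    intro g hgp
    set z := g ^ (orderOf g / p) with hz
    have hzo : orderOf z = p := orderOf_pow_orderOf_div (orderOf_pos g).ne' hgp
    have hzp : IsPGroup p (Subgroup.zpowers z) :=
      IsPGroup.of_card (n := 1) (by rw [Nat.card_zpowers, hzo, pow_one])
    obtain ⟨Q, hQ⟩ := hzp.exists_le_sylow
    obtain ⟨h, hh⟩ := MulAction.exists_smul_eq G P' Q
    obtain ⟨z', hz'P, hz'⟩ : ∃ z' ∈ P, h * z' * h⁻¹ = z := by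
      have hzQ : z ∈ (Q : Subgroup G) := hQ (Subgroup.mem_zpowers z)
      rw [← hh, Sylow.coe_subgroup_smul] at hzQ
      obtain ⟨w, hw, hwz⟩ := hzQ
      exact ⟨w, hw, hwz⟩
    have hz'1 : z' ≠ 1 := fun h1 => by
      rw [h1, mul_one, mul_inv_cancel] at hz'
      rw [← hz', orderOf_one] at hzo
      exact hp.out.ne_one hzo.symm
    have hgen : Subgroup.zpowers z' = P := by
      refine Subgroup.eq_of_le_of_card_ge (Subgroup.zpowers_le.2 hz'P) ?_
      rw [hPcard]
      have h1 : Nat.card (Subgroup.zpowers z') ∣ p :=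
        hPcard ▸ Subgroup.card_dvd_of_le (Subgroup.zpowers_le.2 hz'P)
      rcases hp.out.eq_one_or_self_of_dvd _ h1 with h2 | h2
      · rw [Nat.card_zpowers, orderOf_eq_one_iff] at h2; exact absurd h2 hz'1
      · rw [h2]
    have hgc : h⁻¹ * g * h ∈ P := by
      rw [show P = Subgroup.centralizer ({x} : Set G) from hC.symm,
        Subgroup.mem_centralizer_singleton_iff]
      have hcomm : Commute g z := (Commute.refl g).pow_right _
      have hc' : Commute (h⁻¹ * g * h) z' := by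
        rw [← hz'] at hcomm
        change h⁻¹ * g * h * z' = z' * (h⁻¹ * g * h)
        calc h⁻¹ * g * h * z' = h⁻¹ * (g * (h * z' * h⁻¹)) * h := by group
          _ = h⁻¹ * ((h * z' * h⁻¹) * g) * h := by rw [hcomm.eq]
          _ = _ := by group
      obtain ⟨i, hi⟩ : ∃ i : ℕ, z' ^ i = x :=
        mem_powers_iff_mem_zpowers.2 (hgen ▸ Subgroup.mem_zpowers x)
      rw [← hi]
      exact ((hc'.pow_right i).eq)
    have hgo : orderOf g = p := by
      have h1 : (h⁻¹ * g * h) ^ p = 1 := by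
        have := pow_card_eq_one' (x := (⟨_, hgc⟩ : P))
        rw [hPcard] at this
        exact congrArg Subtype.val this
      have h2 : g ^ p = 1 := by
        have h3 : (h⁻¹ * g * h) ^ p = h⁻¹ * g ^ p * h := by
          simpa using conj_pow (i := p) (a := h⁻¹) (b := g)
        rw [h3] at h1
        calc g ^ p = h * (h⁻¹ * g ^ p * h) * h⁻¹ := by group
          _ = 1 := by rw [h1]; group
      exact Nat.dvd_antisymm (orderOf_dvd_of_pow_eq_one h2) hgp
    refine ⟨hgo, h, fun L => ?_⟩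
    have hzg : z = g := by rw [hz, hgo, Nat.div_self hp.out.pos, pow_one]
    rw [← hzg, ← hz']
    constructor
    · rintro ⟨hL, hfix⟩
      have h1 : z' • (h⁻¹ • L) = h⁻¹ • L := by
        conv_rhs => rw [← hfix]
        rw [← mul_smul, ← mul_smul]
        congr 1; group
      have h2 : x • (h⁻¹ • L) = h⁻¹ • L :=
        (hgen ▸ Subgroup.zpowers_le.2 h1 : P ≤ MulAction.stabilizer G (h⁻¹ • L)) (Subgroup.mem_zpowers x)
      rw [← hxuniq _ (hmove h⁻¹ L hL) h2, smul_inv_smul]
    · rintro rfl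
      refine ⟨hmove h ℓ hℓpt, ?_⟩
      rw [← mul_smul, show h * z' * h⁻¹ * h = h * z' by group, mul_smul, hstabP hxfix z' hz'P]
  -- counting
  have hfin : ∀ g : G, g ≠ 1 → {L | L ∈ X ∧ g • L = L}.Finite := fun g hg => by
    by_cases hgp : p ∣ orderOf g
    · obtain ⟨-, h, hh⟩ := hsing g hgp
      exact (Set.finite_singleton (h • ℓ)).subset fun L hL => (hh L).1 hL
    · obtain ⟨L₁, L₂, -, hL⟩ := hreg g hg hgp
      exact ((Set.finite_singleton L₂).insert L₁).subset fun L hL' => by simpa using (hL L).1 hL'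
  set Pts := {L | L ∈ X ∧ ∃ g : G, g ≠ 1 ∧ g • L = L}
  have hPts : Pts.Finite := ((Set.toFinite {g : G | g ≠ 1}).biUnion fun g hg => hfin g hg).subset
    fun L ⟨hL, g, hg, hgL⟩ => Set.mem_biUnion (x := g) hg ⟨hL, hgL⟩
  set S' := hPts.toFinset
  set I := (Finset.univ : Finset G).erase 1
  have hcount : ∑ g ∈ I, (S'.filter fun L => g • L = L).card =
      ∑ L ∈ S', (I.filter fun g => g • L = L).card := by
    simp only [Finset.card_filter]; exact Finset.sum_comm
  have hfixcard : ∀ g ∈ I, (S'.filter fun L => g • L = L).card = if p ∣ orderOf g then 1 else 2 := by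
    intro g hg
    have hg1 := (Finset.mem_erase.1 hg).1
    have hmem : ∀ L, L ∈ (S'.filter fun L => g • L = L) ↔ L ∈ X ∧ g • L = L := fun L => by
      rw [Finset.mem_filter, Set.Finite.mem_toFinset]
      exact ⟨fun h => ⟨h.1.1, h.2⟩, fun h => ⟨⟨h.1, g, hg1, h.2⟩, h.2⟩⟩
    split_ifs with hgp
    · obtain ⟨-, h, hh⟩ := hsing g hgp
      rw [Finset.card_eq_one]
      exact ⟨h • ℓ, Finset.ext fun L => by rw [hmem, hh, Finset.mem_singleton]⟩
    · obtain ⟨L₁, L₂, hne, hL⟩ := hreg g hg1 hgp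
      rw [Finset.card_eq_two]
      exact ⟨L₁, L₂, hne, Finset.ext fun L => by rw [hmem, hL]; simp⟩
  have hstab : ∀ L : Ω, (I.filter fun g => g • L = L).card + 1 = Nat.card (MulAction.stabilizer G L) := fun L => by
    change _ = Nat.card {g : G // g • L = L}
    rw [Nat.card_eq_fintype_card, Fintype.card_subtype]
    rw [show (Finset.univ.filter fun g : G => g • L = L) =
      insert 1 (I.filter fun g => g • L = L) by
      ext g; by_cases hg : g = 1 <;> simp [hg, I, MulAction.mem_stabilizer_iff],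
      Finset.card_insert_of_notMem (by simp [I])]
  have hordp : (I.filter fun g => p ∣ orderOf g).card = Nat.card (Sylow p G) * (p - 1) := by
    have hcard1 : Nat.card P' = p := hPcard
    rw [← CfsgLib.Transfer.card_orderOf_eq_prime P' hcard1, Nat.card_eq_fintype_card,
      Fintype.card_subtype]
    congr 1
    ext g
    simp only [Finset.mem_filter, Finset.mem_erase, I, Finset.mem_univ, and_true, true_and]
    exact ⟨fun h => (hsing g h.2).1, fun h => ⟨fun h1 => by
      rw [h1, orderOf_one] at h; exact hp.out.ne_one h.symm, h ▸ dvd_rfl⟩⟩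
  have hlhs : ∑ g ∈ I, (S'.filter fun L => g • L = L).card + Nat.card (Sylow p G) * (p - 1) =
      2 * (Nat.card G - 1) := by
    rw [Finset.sum_congr rfl hfixcard, ← hordp, Finset.card_filter, ← Finset.sum_add_distrib,
      Finset.sum_congr rfl (g := fun _ => 2) fun g _ => by split_ifs <;> rfl, Finset.sum_const,
      smul_eq_mul, Finset.card_erase_of_mem (Finset.mem_univ _), Finset.card_univ,
      Nat.card_eq_fintype_card, mul_comm]
  have horb : ∀ L ∈ S', ∃ O : Finset (Ω), O ⊆ S' ∧ L ∈ O ∧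
      O.card * Nat.card (MulAction.stabilizer G L) = Nat.card G ∧
      (∀ L' ∈ O, ∀ g : G, g • L' ∈ O) ∧ (∀ L' ∈ O, ∃ g : G, g • L = L') ∧
      ∑ L' ∈ O, (I.filter fun g => g • L' = L').card + O.card = Nat.card G := by
    intro L hL
    obtain ⟨hLiso, g₀, hg₀, hg₀L⟩ := hPts.mem_toFinset.1 hL
    have hsub : MulAction.orbit G L ⊆ Pts := by
      rintro _ ⟨h, rfl⟩
      refine ⟨hmove h L hLiso, h * g₀ * h⁻¹, fun he => hg₀ ?_, ?_⟩
      · rwa [conj_eq_one_iff] at he
      · change (h * g₀ * h⁻¹) • (h • L) = h • L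
        rw [← mul_smul, show h * g₀ * h⁻¹ * h = h * g₀ by group, mul_smul, hg₀L]
    have hfinO := hPts.subset hsub
    have hOc : hfinO.toFinset.card * Nat.card (MulAction.stabilizer G L) = Nat.card G := by
      rw [← Nat.card_eq_card_finite_toFinset hfinO, Nat.card_congr (MulAction.orbitEquivQuotientStabilizer G L),
        ← Subgroup.card_eq_card_quotient_mul_card_subgroup]
    refine ⟨hfinO.toFinset, Set.Finite.toFinset_mono hsub, hfinO.mem_toFinset.2 (MulAction.mem_orbit_self L),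
      hOc, fun L' hL' g => hfinO.mem_toFinset.2 ?_, fun L' hL' => hfinO.mem_toFinset.1 hL', ?_⟩
    · obtain ⟨h, rfl⟩ := hfinO.mem_toFinset.1 hL'
      exact ⟨g * h, mul_smul _ _ _⟩
    · rw [Finset.card_eq_sum_ones, ← Finset.sum_add_distrib,
        Finset.sum_congr rfl (g := fun _ => Nat.card (MulAction.stabilizer G L)) fun L' hL' => ?_,
        Finset.sum_const, smul_eq_mul, hOc]
      rw [hstab]
      obtain ⟨h, rfl⟩ := hfinO.mem_toFinset.1 hL'
      exact (Nat.card_congr (MulAction.stabilizerEquivStabilizer (g := h) rfl).toEquiv).symm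
  have hSeq : S = N := le_antisymm hSN hNS
  have hℓS : ℓ ∈ S' := hPts.mem_toFinset.2 ⟨hℓpt, x, fun h => by
    rw [h, orderOf_one] at hx; exact hp.out.ne_one hx.symm, hxfix⟩
  obtain ⟨O, hOsub, hℓO, hOc, hOinv, -, hOsum⟩ := horb ℓ hℓS
  have hidx : O.card = Nat.card (Sylow p G) := by
    rw [Sylow.card_eq_index_normalizer P']
    change _ = N.index
    refine Nat.eq_of_mul_eq_mul_right (Nat.card_pos : 0 < Nat.card N) ?_
    rw [Subgroup.index_mul_card, ← hSeq]; exact hOc
  obtain ⟨e, he1, hep, hNcard⟩ : ∃ e, 1 ≤ e ∧ e ≤ p - 1 ∧ Nat.card N = p * e := by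
    let φ : N →* MulAut P := Subgroup.normalizerMonoidHom P
    have hker : Nat.card φ.ker = p := by
      rw [Subgroup.normalizerMonoidHom_ker,
        Nat.card_congr (Subgroup.subgroupOfEquivOfLe (Subgroup.centralizer_le_normalizer _)).toEquiv,
        show Subgroup.centralizer (P : Set G) = Subgroup.centralizer ({x} : Set G) by
          rw [← Subgroup.centralizer_closure ({x} : Set G), ← Subgroup.zpowers_eq_closure],
        hC, hPcard]
    refine ⟨Nat.card φ.range, Nat.card_pos, ?_, ?_⟩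
    · refine (Subgroup.card_le_card_group _).trans ?_
      haveI : IsCyclic P := isCyclic_of_prime_card hPcard
      rw [IsCyclic.card_mulAut, hPcard, Nat.totient_prime hp.out]
    · rw [← hker, ← Subgroup.index_ker, Subgroup.card_mul_index]
  obtain ⟨n, hn⟩ : ∃ n, Nat.card (Sylow p G) = 1 + n * p := by
    have h0 : 0 < Nat.card (Sylow p G) := Nat.card_pos
    obtain ⟨n, hn⟩ := (Nat.modEq_iff_dvd' h0).1 (card_sylow_modEq_one p G).symm
    exact ⟨n, by rw [mul_comm n p]; omega⟩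
  have hn0 : n ≠ 0 := fun h0 => hnn (by
    rw [h0, zero_mul, add_zero, Sylow.card_eq_index_normalizer P', Subgroup.index_eq_one] at hn
    exact Subgroup.normalizer_eq_top_iff.1 hn)
  have hGeq : Nat.card G = p * e * (1 + n * p) := by
    rw [← hOc, hidx, hn, show Nat.card (MulAction.stabilizer G ℓ) = Nat.card N by rw [← hSeq], hNcard,
      mul_comm]
  have hrhs : ∑ L ∈ S' \ O, (I.filter fun g => g • L = L).card +
      (Nat.card G - O.card) + Nat.card (Sylow p G) * (p - 1) = 2 * (Nat.card G - 1) := by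
    rw [← hlhs, hcount, ← Finset.sum_sdiff hOsub]
    omega
  rw [hidx, hn] at hrhs
  set N0 := 1 + n * p
  have hN0p : p < N0 := by
    have : 1 * p ≤ n * p := Nat.mul_le_mul_right _ (Nat.one_le_iff_ne_zero.2 hn0)
    omega
  have hGge : p * N0 ≤ Nat.card G := by
    rw [hGeq]; exact Nat.mul_le_mul_right _ (Nat.le_mul_of_pos_right _ he1)
  have hge5 : 5 * N0 ≤ Nat.card G := le_trans (Nat.mul_le_mul_right _ hp5) hGge
  rcases (S' \ O).eq_empty_or_nonempty with hemp | ⟨L, hL⟩
  · exfalso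
    rw [hemp, Finset.sum_empty] at hrhs
    have hcase : N0 * (p - 1) = N0 * (p - 2) + N0 := by
      rw [← Nat.mul_succ]; congr 1; omega
    have : p * N0 = N0 * (p - 2) + 2 * N0 := by
      rw [mul_comm 2 N0, ← mul_add, mul_comm]; congr 1; omega
    omega
  obtain ⟨hLS, hLO⟩ := Finset.mem_sdiff.1 hL
  obtain ⟨O', hO'sub, hLO', hO'c, hO'inv, hO'orb, hO'sum⟩ := horb L hLS
  have hdisj : O' ⊆ S' \ O := fun L' hL' => by
    refine Finset.mem_sdiff.2 ⟨hO'sub hL', fun hmem => hLO ?_⟩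
    obtain ⟨g, rfl⟩ := hO'orb L' hL'
    simpa using hOinv _ hmem g⁻¹
  have hhalf : ∀ (T : Finset (Ω)) (L : Ω), L ∈ S' →
      T.card * Nat.card (MulAction.stabilizer G L) = Nat.card G → 2 * T.card ≤ Nat.card G := by
    intro T L hL hT
    have h2 : 2 ≤ Nat.card (MulAction.stabilizer G L) := by
      obtain ⟨-, g, hg, hgL⟩ := hPts.mem_toFinset.1 hL
      refine Finite.one_lt_card_iff_nontrivial.2 ⟨⟨g, hgL⟩, 1, fun h => hg (congrArg Subtype.val h)⟩
    rw [← hT, mul_comm 2]; exact Nat.mul_le_mul_left _ h2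
  have hcase : N0 * (p - 1) = N0 * (p - 2) + N0 := by
    rw [← Nat.mul_succ]; congr 1; omega
  rcases ((S' \ O) \ O').eq_empty_or_nonempty with hemp | ⟨L2, hL2⟩
  · rw [← Finset.sum_sdiff hdisj, hemp, Finset.sum_empty, zero_add] at hrhs
    refine ⟨e, n, O'.card, _, he1, hep, hNcard, hn0, hn, hGeq, hO'c, ?_⟩
    have := hhalf O' L hLS hO'c
    rw [mul_comm (p - 2)]
    change O'.card = 2 + N0 * (p - 2)
    omega
  · exfalso
    obtain ⟨hL2', hL2O'⟩ := Finset.mem_sdiff.1 hL2
    obtain ⟨hL2S, hL2O⟩ := Finset.mem_sdiff.1 hL2'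
    obtain ⟨O'', hO''sub, -, hO''c, -, hO''orb, hO''sum⟩ := horb L2 hL2S
    have hdisj2 : O'' ⊆ (S' \ O) \ O' := fun L' hL' => by
      obtain ⟨g, rfl⟩ := hO''orb L' hL'
      refine Finset.mem_sdiff.2 ⟨Finset.mem_sdiff.2 ⟨hO''sub hL', fun hmem => hL2O ?_⟩, fun hmem => hL2O' ?_⟩
      · simpa using hOinv _ hmem g⁻¹
      · obtain ⟨g', hg'⟩ := hO'orb _ hmem
        have : L2 = (g⁻¹ * g') • L := by rw [mul_smul, hg', inv_smul_smul]
        exact this ▸ hO'inv L hLO' _
    have h1 := Finset.sum_le_sum_of_subset (f := fun L => (I.filter fun g => g • L = L).card) hdisj2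
    rw [← Finset.sum_sdiff hdisj] at hrhs
    have := hhalf O' L hLS hO'c
    have := hhalf O'' L2 hL2S hO''c
    omega

omit hp5 hinj hperf hA hAdet hinv in
/-- Counting fixed points: one for elements of order divisible by `p`, two for the others. -/
theorem natCard_lt_cube_of_fixed_points {Ω : Type*} [MulAction G Ω] {X : Set Ω} (hp5 : 5 ≤ p)
    (hmove : ∀ g : G, ∀ L ∈ X, g • L ∈ X) (hx : orderOf x = p) (hsq : ¬ p ^ 2 ∣ Nat.card G)
    (hC : Subgroup.centralizer ({x} : Set G) = Subgroup.zpowers x)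
    (hnn : ¬ (Subgroup.zpowers x).Normal) {ℓ : Ω} (hℓpt : ℓ ∈ X) (hxfix : x • ℓ = ℓ)
    (hxuniq : ∀ L ∈ X, x • L = L → L = ℓ)
    (hSN : MulAction.stabilizer G ℓ ≤
      Subgroup.normalizer ((Subgroup.zpowers x : Subgroup G) : Set G))
    (hreg : ∀ g : G, g ≠ 1 → ¬ p ∣ orderOf g → ∃ L₁ L₂ : Ω, L₁ ≠ L₂ ∧
      ∀ L, (L ∈ X ∧ g • L = L) ↔ L = L₁ ∨ L = L₂) :
    Nat.card G < p ^ 3 := by
  obtain ⟨e, n, m, s, he1, hep, -, -, -, hG, hm, hsum⟩ :=
    conic_data_of_fixed_points hp5 hmove hx hsq hC hnn hℓpt hxfix hxuniq hSN hreg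
  exact conic_arith hp5 he1 hep hG hm hsum

/-- A finite perfect subgroup of `SO₃` with a self-centralizing unipotent element is small. -/
theorem natCard_lt_cube_of_orthogonal (hxb : IsBlock (ρ x)) (hx : orderOf x = p)
    (hsq : ¬ p ^ 2 ∣ Nat.card G) (hC : Subgroup.centralizer ({x} : Set G) = Subgroup.zpowers x)
    (hnn : ¬ (Subgroup.zpowers x).Normal) : Nat.card G < p ^ 3 := by
  classical
  let act := lineAction ρ
  obtain ⟨ℓ, hℓ, hfix, huniq, hstab⟩ := fixed_unipotent hp5 ρ hinj hperf hA hAdet hinv hxb hx hsq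
  refine natCard_lt_cube_of_fixed_points (X := isoPts A⁻¹) hp5 ?_ hx hsq hC hnn hℓ hfix huniq
    (fun g hg => hstab g hg) (fun g h1 h2 => fixed_regular hp5 ρ hinj hperf hA hAdet hinv g h1 h2)
  exact isoPts_move hp5 ρ hinj (det_eq_one_of_perfect ρ hperf) hA hAdet hinv

end CfsgLib.Block.SmallBlock
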