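import Cfsg.Agent.Lib.Block.SmallSO3
import Cfsg.Agent.Lib.Block.ConicCount
import Cfsg.Agent.Lib.Block.LatticeRed

/-!
A simple group with a self-centralizing element of order `p` and a nontrivial character of degree at
most `(p + 1) / 2` has order less than `p³`.
-/

set_option autoImplicit false

namespace CfsgLib.Block.SmallBlock

open Cfsg CfsgLib CfsgLib.Block Matrix

universe u

variable {G : Type u} [Group G] [Finite G]

theorem injective_of_ne [IsSimpleGroup G] {n : ℕ} {k : Type*} [Field k]
    (ρ : G →* Matrix (Fin n) (Fin n) k) {x : G} (hx : ρ x ≠ 1) : Function.Injective ρ := by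
  intro a b hab
  have hk : ρ.toHomUnits.ker = ⊥ := by
    rcases (inferInstance : ρ.toHomUnits.ker.Normal).eq_bot_or_eq_top with hk | hk
    · exact hk
    · exact absurd (congrArg Units.val (MonoidHom.mem_ker.1 (hk ▸ Subgroup.mem_top x))) hx
  exact (MonoidHom.ker_eq_bot_iff _).1 hk (Units.ext hab)

/-- A simple group with a nontrivial character of degree at most `(p + 1) / 2`. -/
theorem natCard_lt_cube_of_small_degree [IsSimpleGroup G] (hperf : commutator G = ⊤) {p : ℕ}
    [hp : Fact p.Prime] (hp7 : 7 ≤ p) {x : G} (hx : orderOf x = p) (hsq : ¬ p ^ 2 ∣ Nat.card G)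
    (hC : Subgroup.centralizer ({x} : Set G) = Subgroup.zpowers x)
    (hnn : ¬ (Subgroup.zpowers x).Normal) {χ : G → ℂ} (hχ : IsCharacter G χ)
    (hne : ∃ g, χ g ≠ χ 1) (hd : 2 * charDegree χ ≤ p + 1)
    (hodd : 2 * charDegree χ = p + 1 → Odd (charDegree χ)) : Nat.card G < p ^ 3 := by
  classical
  obtain ⟨M, hM⟩ := BlockB.exists_isPModular (p := p) hp.out
  have := isPrime_of_pmodular hM
  have := charP_kres hM
  have := isAlgClosed_kres (M := M)
  obtain ⟨m, σ, hm, hinj, hirr⟩ := exists_modular_irreducible hperf hM hχ hne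
  have hx1 : x ≠ 1 := fun h => by rw [h, orderOf_one] at hx; exact hp.out.ne_one hx.symm
  have hm0 : 0 < m := by
    by_contra h0
    obtain rfl : m = 0 := by omega
    exact hx1 (hinj (Subsingleton.elim _ _))
  haveI : Nontrivial (Fin m → kres M) := by
    haveI : Nonempty (Fin m) := ⟨⟨0, hm0⟩⟩
    infer_instance
  have hτ : tau σ x ^ (p - 1) = 0 := by
    rcases subsingleton_or_nontrivial (Module.End (kres M) (Fin m → kres M)) with h | h
    · exact Subsingleton.elim _ _
    haveI : CharP (Module.End (kres M) (Fin m → kres M)) p :=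
      charP_of_injective_algebraMap (algebraMap (kres M) (Module.End (kres M) (Fin m → kres M))).injective p
    have hnil : IsNilpotent (tau σ x) := ⟨p, by
      rw [tau, sub_pow_char_of_commute (p := p) (Commute.one_right _), ← map_pow, ← hx, pow_orderOf_eq_one,
        map_one, one_pow, sub_self]⟩
    have hpow := LinearMap.aeval_self_charpoly (tau σ x)
    rw [IsNilpotent.charpoly_eq_X_pow_finrank hnil, Polynomial.aeval_X_pow, Module.finrank_fin_fun] at hpow
    exact pow_eq_zero_of_le (by omega) hpow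
  obtain ⟨w, hw, -, hli⟩ := single_block_of_irreducible σ hx hsq hC hτ hirr
  rw [Module.finrank_fin_fun] at hw hli
  obtain ⟨j, rfl⟩ : ∃ j, m = j + 1 := ⟨m - 1, by omega⟩
  obtain ⟨ρ, hρ⟩ := exists_matrix_rep (x := x) σ (W := (⊤ : Submodule (kres M) (Fin (j + 1) → kres M)))
    (fun _ _ _ => Submodule.mem_top) (hli.span_eq_top_of_card_eq_finrank (by simp)).symm hli hw
  have hblock : IsBlock (ρ x) := ⟨1, isUnit_one, by rw [hρ, mul_one, one_mul]⟩
  have hj : 1 ≤ j := by
    by_contra h0
    obtain rfl : j = 0 := by omega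
    refine hx1 (hinj ?_)
    rw [map_one]
    refine LinearMap.ext fun u => ?_
    have hspan := hli.span_eq_top_of_card_eq_finrank (by simp)
    have hu : u ∈ Submodule.span (kres M) (Set.range fun i : Fin (0 + 1) => (tau σ x ^ (i : ℕ)) w) :=
      hspan ▸ Submodule.mem_top
    rw [Submodule.mem_span_range_iff_exists_fun] at hu
    obtain ⟨c, rfl⟩ := hu
    have hw' : σ x w = w := by
      rw [pow_one] at hw
      exact sub_eq_zero.1 hw
    simp [map_sum, map_smul, hw']
  obtain ⟨ρ₃, hρ₃⟩ := exists_three (p := p) hx hsq hC (by omega) (by omega : 2 ≤ j + 1) (by omega)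
    (fun h => by
      rw [show j + 1 = charDegree χ by omega]
      exact hodd (by omega)) ρ hblock
  obtain ⟨ρ', A, hρ', hA, hAdet, hinv⟩ := exists_invariant_form (p := p) hx hsq hC hp7 hperf ρ₃
    ⟨1, isUnit_one, by rw [hρ₃, mul_one, one_mul]⟩
  have hblock' : IsBlock (ρ' x) := hρ' ▸ isBlock_expo (p := p) (by omega)
  have hne' : ρ' x ≠ 1 := fun h1 => by
    obtain ⟨R, hR, hR'⟩ := hblock'
    rw [h1, one_mul, mul_add, mul_one, left_eq_add] at hR'
    have h2 : lower (kres M) 3 = 0 := hR.mul_right_eq_zero.1 hR'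
    have := congrFun (congrFun h2 1) 0
    simp [lower] at this
  exact natCard_lt_cube_of_orthogonal (by omega) ρ' (injective_of_ne ρ' hne') hperf hA hAdet hinv hblock'
    hx hsq hC hnn

end CfsgLib.Block.SmallBlock
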