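import Cfsg.Agent.Lib.Block.BTInvolution
import Cfsg.Agent.Lib.Block.BTSelfCent
import Cfsg.Agent.Lib.Block.SmallModule

/-!
Brauer–Tuan: a simple group of order `p q^b g₀` with `g₀ < p - 1` has order less than `p³`.
-/

set_option autoImplicit false
set_option linter.unusedSectionVars false

namespace CfsgLib.Block.BrauerTuan

open Cfsg CfsgLib CfsgLib.Block CfsgLib.Block.BrauerReynolds
open scoped ComplexConjugate

universe u

variable {G : Type u} [Group G] [Finite G]

theorem eq_of_modEq {p : ℕ} (a c : ℕ) (ha : a < p) (hc : c < p) (h : (p : ℤ) ∣ (a : ℤ) - c) :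
    a = c := by
  have := Int.eq_zero_of_abs_lt_dvd h (abs_lt.2 ⟨by omega, by omega⟩)
  omega

theorem natCard_lt_cube [IsSimpleGroup G] (hperf : commutator G = ⊤) {p q b g₀ : ℕ} (hp : p.Prime)
    (hq : q.Prime) (hpq : p ≠ q) (hG : Nat.card G = p * q ^ b * g₀) (hg : g₀ < p - 1)
    (hqg : ¬ q ∣ g₀) : Nat.card G < p ^ 3 := by
  classical
  haveI : Fact p.Prime := ⟨hp⟩
  have hg0 : 0 < g₀ := Nat.pos_of_ne_zero fun h => hqg (h ▸ dvd_zero q)
  have hp2 := hp.two_le
  have hpg : ¬ p ∣ q ^ b * g₀ := fun h => by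
    rcases (Nat.Prime.dvd_mul hp).1 h with h | h
    · exact hpq ((Nat.prime_dvd_prime_iff_eq hp hq).1 (hp.dvd_of_dvd_pow h))
    · have := Nat.le_of_dvd hg0 h; omega
  have hsq : ¬ p ^ 2 ∣ Nat.card G := fun h => hpg (by
    rw [hG, sq, mul_assoc] at h
    exact Nat.dvd_of_mul_dvd_mul_left hp.pos h)
  obtain ⟨x, hx⟩ := exists_prime_orderOf_dvd_card' (G := G) p ⟨q ^ b * g₀, by rw [hG, mul_assoc]⟩
  have hzc : Nat.card (Subgroup.zpowers x) = p := by rw [Nat.card_zpowers, hx]
  let P : Sylow p G := Sylow.ofCard (Subgroup.zpowers x) (by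
    have h2 : (Nat.card G).factorization p = 1 := by
      have hpos := hp.factorization_pos_of_dvd Nat.card_pos.ne' (hx ▸ orderOf_dvd_natCard x)
      have hle : ¬ 2 ≤ (Nat.card G).factorization p := fun h =>
        hsq ((hp.pow_dvd_iff_le_factorization Nat.card_pos.ne').2 h)
      omega
    rw [h2, pow_one, hzc])
  have hPc : Nat.card P = p := hzc
  obtain ⟨M, hM⟩ := BlockB.exists_isPModular (p := p) hp
  have := isPrime_of_pmodular hM
  obtain ⟨e, t, d₀, σ, CF, YF, ε, D⟩ := exists_rowData hperf hM P hPc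
  set one : IrrCharacter G := ⟨fun _ => 1, Char.isIrrCharacter_one⟩
  have hte := D.hte
  have he2 := D.e_two
  -- degrees dividing q^b g₀
  have hdiv : ∀ χ : IrrCharacter G, ¬ p ∣ charDegree (χ : G → ℂ) →
      charDegree (χ : G → ℂ) ∣ q ^ b * g₀ := fun χ hχ => by
    have h := BlockB.irr_degree_dvd_card χ
    rw [hG, mul_assoc] at h
    exact ((hp.coprime_iff_not_dvd.2 hχ).symm).dvd_of_dvd_mul_left h
  have hone : charDegree (one : G → ℂ) = 1 := by
    have h : (charDegree (one : G → ℂ) : ℂ) = ((1 : ℕ) : ℂ) := by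
      rw [BlockB.irr_degree_cast one, Nat.cast_one]
    exact_mod_cast h
  have hqdvd : ∀ χ ∈ CF, χ ≠ one → q ∣ charDegree (χ : G → ℂ) := fun χ hχ hne => by
    by_contra hnq
    set d := charDegree (χ : G → ℂ)
    have hm := D.CF_mod χ hχ
    have hd0 : 0 < d := BlockB.irr_degree_pos χ
    have hnp : ¬ p ∣ d := fun h => by
      have h1 : (p : ℤ) ∣ ε χ := (dvd_iff_dvd_of_dvd_sub hm).2 (by exact_mod_cast h)
      rcases D.eps_pm χ hχ with he | he <;> rw [he] at h1 <;>
        simp [Int.natCast_dvd, hp.ne_one] at h1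
    have hd : d ∣ g₀ := ((hq.coprime_iff_not_dvd.2 hnq).symm.pow_right b).dvd_of_dvd_mul_left (hdiv χ hnp)
    have hdle := Nat.le_of_dvd hg0 hd
    rcases D.eps_pm χ hχ with he | he <;> rw [he] at hm
    · have h1 : d = 1 := eq_of_modEq (p := p) d 1 (by omega) (by omega) (by
        rw [← dvd_neg]; simpa using hm)
      exact hne (Subtype.ext (eq_one_of_degree_one hperf χ (by
        rw [← BlockB.irr_degree_cast χ, show charDegree (χ : G → ℂ) = d from rfl, h1, Nat.cast_one])))
    · have h1 : (p : ℤ) ∣ (d : ℤ) + 1 := by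
        rw [← dvd_neg]; simpa [sub_eq_add_neg, add_comm] using hm
      have h2 := Nat.le_of_dvd (by omega) (show p ∣ d + 1 by exact_mod_cast h1)
      omega
  set R : ℤ := ∑ χ ∈ CF, ε χ * (charDegree (χ : G → ℂ) : ℤ) with hRdef
  have hRC : ∑ χ ∈ CF, (ε χ : ℂ) * (χ : G → ℂ) 1 = (R : ℂ) := by
    simp only [hRdef, Int.cast_sum, Int.cast_mul, Int.cast_natCast, BlockB.irr_degree_cast]
  have hRsplit : R = 1 + ∑ χ ∈ CF.erase one, ε χ * (charDegree (χ : G → ℂ) : ℤ) := by
    rw [hRdef, ← Finset.add_sum_erase _ _ D.one_mem, D.eps_one, hone]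
    simp [one]
  have hR1 : (q : ℤ) ∣ R - 1 := by
    rw [hRsplit, add_sub_cancel_left]
    exact Finset.dvd_sum fun χ hχ => Dvd.dvd.mul_left
      (Int.natCast_dvd_natCast.2 (hqdvd χ (Finset.mem_erase.1 hχ).2 (Finset.mem_erase.1 hχ).1)) _
  have ht2 : 2 ≤ t := by
    by_contra hlt
    have ht1 : t = 1 := by have := D.t_pos; omega
    have h := D.t_one ht1
    rw [hRC] at h
    rw [show R = 0 by exact_mod_cast h, zero_sub, dvd_neg] at hR1
    exact hq.ne_one (Nat.dvd_one.1 (by exact_mod_cast hR1))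
  obtain ⟨-, hYcard, hσ, hYB, -, -, hYdeg, hmod, -, hrel⟩ := D.exc ht2
  obtain ⟨η, hη⟩ := Finset.card_pos.1 (show 0 < YF.card by omega)
  have hd0η := hYdeg η hη
  have hd0pos : 0 < d₀ := hd0η ▸ BlockB.irr_degree_pos η
  have hR : R = σ * (d₀ : ℤ) := by
    have h := hrel η hη 1 (by rw [orderOf_one]; exact hp.not_dvd_one)
    rw [hRC, ← BlockB.irr_degree_cast η, hd0η] at h
    exact_mod_cast h
  rw [hR] at hR1
  have he : 2 * e ≤ p - 1 := by
    have : 2 * e ≤ t * e := Nat.mul_le_mul_right _ ht2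
    omega
  have hpd : ¬ p ∣ d₀ := fun h => by
    have h1 : (p : ℤ) ∣ (e : ℤ) * σ := (dvd_iff_dvd_of_dvd_sub hmod).2 (by exact_mod_cast h)
    have h2 : p ∣ e := by
      rcases hσ with rfl | rfl
      · exact_mod_cast (by simpa using h1 : (p : ℤ) ∣ (e : ℤ))
      · exact_mod_cast (by simpa using h1 : (p : ℤ) ∣ (e : ℤ))
    have := Nat.le_of_dvd (by omega) h2
    omega
  have hqd : ¬ q ∣ d₀ := fun h => by
    have h2 : (q : ℤ) ∣ σ * (d₀ : ℤ) := Dvd.dvd.mul_left (by exact_mod_cast h) _
    have h3 := dvd_sub h2 hR1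
    rw [sub_sub_cancel] at h3
    exact hq.ne_one (Nat.dvd_one.1 (by exact_mod_cast h3))
  have hd0g : d₀ ∣ g₀ :=
    ((hq.coprime_iff_not_dvd.2 hqd).symm.pow_right b).dvd_of_dvd_mul_left (hd0η ▸ hdiv η (hd0η ▸ hpd))
  have hd0le := Nat.le_of_dvd hg0 hd0g
  have hd0cases : (σ = 1 ∧ d₀ = e) ∨ (σ = -1 ∧ d₀ + e = p) := by
    rcases hσ with rfl | rfl
    · exact Or.inl ⟨rfl, eq_of_modEq (p := p) d₀ e (by omega) (by omega) (by
        rw [← dvd_neg]; simpa using hmod)⟩
    · refine Or.inr ⟨rfl, ?_⟩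
      have h1 : (p : ℤ) ∣ (d₀ : ℤ) + e := by
        rw [← dvd_neg]; simpa [sub_eq_add_neg, add_comm] using hmod
      have h2 : p ∣ d₀ + e := by exact_mod_cast h1
      obtain ⟨c, hc⟩ := h2
      rcases Nat.lt_or_ge c 2 with hc2 | hc2
      · interval_cases c <;> omega
      · have : p * 2 ≤ p * c := Nat.mul_le_mul_left _ hc2
        omega
  have hd02 : 2 ≤ d₀ := by rcases hd0cases with ⟨-, h⟩ | ⟨-, h⟩ <;> omega
  have hne : ∃ g, (η : G → ℂ) g ≠ (η : G → ℂ) 1 := by
    by_contra hall
    push Not at hall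
    have := Fintype.ofFinite G
    have hn := sum_norm_sq_irr η.2
    simp only [hall, ← BlockB.irr_degree_cast η, hd0η, Complex.norm_natCast, Finset.sum_const,
      Finset.card_univ, nsmul_eq_mul, ← Nat.card_eq_fintype_card] at hn
    have h2 : ((d₀ : ℕ) : ℝ) ^ 2 = 1 := (mul_eq_left₀ (Nat.cast_ne_zero.2 Nat.card_pos.ne')).1 hn
    have h3 : d₀ ^ 2 = 1 := by exact_mod_cast h2
    nlinarith
  have hC := centralizer_eq_of_small_principal hperf hM hx hsq (hYB η hη) hne (by omega)
  have hnn : ¬ (Subgroup.zpowers x).Normal := fun hn => by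
    rcases hn.eq_bot_or_eq_top with h | h
    · rw [h, Subgroup.card_bot] at hzc; exact hp.ne_one hzc.symm
    · have hG' : IsPGroup p G := IsPGroup.of_card (n := 1) (by
        rw [pow_one, ← hzc, h, Subgroup.card_top])
      haveI : Group.IsNilpotent G := hG'.isNilpotent
      exact (Group.IsSolvable.commutator_lt_top_of_nontrivial G).ne hperf
  have hCP : Subgroup.centralizer ((P : Subgroup G) : Set G) = (P : Subgroup G) := by
    change Subgroup.centralizer (Subgroup.zpowers x : Set G) = Subgroup.zpowers x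
    rw [Subgroup.zpowers_eq_closure, Subgroup.centralizer_closure, hC, Subgroup.zpowers_eq_closure]
  have hχ := Char.irr_isCharacter η.2
  rcases hd0cases with ⟨rfl, hd⟩ | ⟨rfl, hd⟩
  · refine SmallBlock.natCard_lt_cube_of_small_degree hperf (p := p) ?_ hx hsq hC hnn hχ hne
      (by rw [hd0η]; omega) (by rw [hd0η]; omega)
    by_contra hlt
    have he' : d₀ = 2 := by omega
    rw [he'] at hR1
    norm_num at hR1
    exact hq.ne_one (Nat.dvd_one.1 (by exact_mod_cast hR1))
  · -- σ = -1
    have hf : d₀ = g₀ := by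
      obtain ⟨c, hc⟩ := hd0g
      rcases Nat.lt_or_ge c 2 with hc2 | hc2
      · interval_cases c
        · omega
        · rw [hc, mul_one]
      · have : d₀ * 2 ≤ d₀ * c := Nat.mul_le_mul_left _ hc2
        omega
    have heG : p * e ∣ Nat.card G := by
      have h1 := D.e_eq
      rw [hCP] at h1
      have h2 := ((P : Subgroup G).subgroupOf
        (Subgroup.normalizer ((P : Subgroup G) : Set G))).card_mul_index
      rw [Nat.card_congr (Subgroup.subgroupOfEquivOfLe Subgroup.le_normalizer).toEquiv, hPc,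
        show ((P : Subgroup G).subgroupOf _).index = e from h1] at h2
      rw [h2]; exact Subgroup.card_subgroup_dvd_card _
    have hef : e.Coprime g₀ := by
      rw [← hf]
      have h1 : e.Coprime p := ((hp.coprime_iff_not_dvd).2 fun h => by
        have := Nat.le_of_dvd (by omega) h; omega).symm
      rw [← hd] at h1
      exact Nat.coprime_add_self_right.1 h1
    have heq : e ∣ q ^ b := by
      rw [hG, mul_assoc] at heG
      exact hef.dvd_of_dvd_mul_right (Nat.dvd_of_mul_dvd_mul_left hp.pos heG)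
    obtain ⟨i, -, hei⟩ := (Nat.dvd_prime_pow hq).1 heq
    have hi : i ≠ 0 := fun h => by rw [h, pow_zero] at hei; omega
    have hqe : q ∣ e := hei ▸ dvd_pow_self q hi
    have hq2 : q = 2 := by
      have h1 : q ∣ d₀ + 1 := by
        have h := hR1.neg_right
        exact_mod_cast (by simpa [add_comm] using h : (q : ℤ) ∣ (d₀ : ℤ) + 1)
      have h2 : q ∣ p + 1 := by rw [← hd, show d₀ + e + 1 = d₀ + 1 + e by omega]; exact dvd_add h1 hqe
      have h3 : q ∣ p - 1 := hqe.trans ⟨t, by rw [mul_comm]; omega⟩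
      have h4 := Nat.dvd_sub h2 h3
      rw [show p + 1 - (p - 1) = 2 by omega] at h4
      exact (Nat.prime_dvd_prime_iff_eq hq Nat.prime_two).1 h4
    subst hq2
    have hfodd : d₀ % 2 = 1 := by rw [hf]; omega
    by_cases h4 : 4 ∣ e
    · obtain ⟨χ, hχCF, hχ4⟩ : ∃ χ ∈ CF.erase one, ¬ 4 ∣ charDegree (χ : G → ℂ) := by
        by_contra hall
        push Not at hall
        have h1 : (4 : ℤ) ∣ R - 1 := by
          rw [hRsplit, add_sub_cancel_left]
          exact Finset.dvd_sum fun χ hχ => Dvd.dvd.mul_left (by exact_mod_cast hall χ hχ) _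
        rw [hR] at h1
        have h2 : 4 ∣ d₀ + 1 := by
          exact_mod_cast (by simpa [add_comm] using h1.neg_right : (4 : ℤ) ∣ (d₀ : ℤ) + 1)
        have h5 : 4 ∣ t * e := h4.mul_left t
        omega
      obtain ⟨hχne, hχ'⟩ := Finset.mem_erase.1 hχCF
      set d := charDegree (χ : G → ℂ) with hddef
      obtain ⟨d', hd'⟩ := hqdvd χ hχ' hχne
      rw [← hddef] at hd'
      have hm := D.CF_mod χ hχ'
      have hd0' : 0 < d := BlockB.irr_degree_pos χ
      have hmd : p ∣ d + 1 ∨ p ∣ d - 1 := by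
        rcases D.eps_pm χ hχ' with he' | he' <;> rw [he'] at hm
        · right
          have h1 : (p : ℤ) ∣ ((d - 1 : ℕ) : ℤ) := by
            rw [Nat.cast_sub (by omega), ← dvd_neg]; simpa using hm
          exact_mod_cast h1
        · left
          have h1 : (p : ℤ) ∣ (d : ℤ) + 1 := by
            rw [← dvd_neg]; simpa [sub_eq_add_neg, add_comm] using hm
          exact_mod_cast h1
      have hnp : ¬ p ∣ d := fun h => by
        rcases hmd with h1 | h1
        · have := (Nat.dvd_add_right h).1 h1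
          exact hp.not_dvd_one this
        · have := Nat.dvd_sub h h1
          rw [show d - (d - 1) = 1 by omega] at this
          exact hp.not_dvd_one this
      have hdge : p ≤ d + 1 := by
        rcases hmd with h1 | h1
        · exact Nat.le_of_dvd (by omega) h1
        · rcases Nat.eq_zero_or_pos (d - 1) with h0 | h0
          · omega
          · have := Nat.le_of_dvd h0 h1; omega
      have hd'odd : ¬ 2 ∣ d' := fun h => hχ4 (by rw [hd']; exact Nat.mul_dvd_mul_left 2 h)
      have hd'g : d' ∣ g₀ := by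
        have h1 : d' ∣ 2 ^ b * g₀ := (Dvd.intro_left 2 hd'.symm).trans (hdiv χ hnp)
        exact (((Nat.prime_two.coprime_iff_not_dvd).2 hd'odd).symm.pow_right b).dvd_of_dvd_mul_left h1
      rw [← hf] at hd'g
      have hd'eq : d' = d₀ := by
        obtain ⟨c, hc⟩ := hd'g
        rcases Nat.lt_or_ge c 3 with hc3 | hc3
        · interval_cases c <;> omega
        · have : d' * 3 ≤ d' * c := Nat.mul_le_mul_left _ hc3
          omega
      have h2f : 2 * d₀ = p + 1 := by
        rw [← hd'eq, ← hd']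
        rcases hmd with ⟨c, hc⟩ | ⟨c, hc⟩ <;> rcases Nat.lt_or_ge c 2 with hc2 | hc2
        · interval_cases c <;> omega
        · have : p * 2 ≤ p * c := Nat.mul_le_mul_left _ hc2
          omega
        · interval_cases c <;> omega
        · have : p * 2 ≤ p * c := Nat.mul_le_mul_left _ hc2
          omega
      refine SmallBlock.natCard_lt_cube_of_small_degree hperf (p := p) ?_ hx hsq hC hnn hχ hne
        (by rw [hd0η]; omega) (fun _ => by rw [hd0η, Nat.odd_iff]; exact hfodd)
      have := Nat.le_of_dvd (by omega) h4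
      omega
    · have he' : e = 2 := by
        rcases Nat.lt_or_ge i 2 with h | h
        · rw [hei, show i = 1 by omega, pow_one]
        · exact absurd (hei ▸ (pow_dvd_pow 2 h) : 2 ^ 2 ∣ e) h4
      subst he'
      exact natCard_lt_cube_of_e_two hperf (by omega) hM P hPc hCP D (by omega)
        ⟨b, by rw [hG, show p - 2 = g₀ by omega]⟩

end CfsgLib.Block.BrauerTuan
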