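import Cfsg.Agent.Lib.Char.Column
import Cfsg.Agent.Lib.Block.DegreeAux
import Cfsg.Agent.Lib.BlockB.ClassMul

/-!
Orthogonality relations for the irreducible characters with a given restriction to the centre.
-/

set_option autoImplicit false
set_option linter.unusedSectionVars false

namespace CfsgLib.Block.CentralBlock

open Cfsg CfsgLib
open scoped ComplexConjugate

universe u

variable {G : Type u} [Group G]

/-- The central character on the centre. -/
noncomputable def omegaZ (χ : IrrCharacter G) (c : Subgroup.center G) : ℂ :=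
  (χ : G → ℂ) c / (χ : G → ℂ) 1

theorem apply_center_mul (χ : IrrCharacter G) (c : Subgroup.center G) (g : G) :
    (χ : G → ℂ) ((c : G) * g) = omegaZ χ c * (χ : G → ℂ) g := by
  obtain ⟨m, ρ, hρ, hρχ⟩ := χ.2
  obtain ⟨w, hw⟩ := CfsgLib.Char.exists_scalar_of_commute ρ (ρ (c : G)) fun k => by
    rw [← Module.End.mul_eq_comp, ← Module.End.mul_eq_comp, ← map_mul, ← map_mul,
      Subgroup.mem_center_iff.1 c.2 k]
  have h : ∀ k, (χ : G → ℂ) ((c : G) * k) = w * (χ : G → ℂ) k := fun k => by
    rw [← hρχ, Representation.character, Representation.character, map_mul, hw, Module.End.mul_eq_comp,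
      LinearMap.smul_comp, LinearMap.id_comp, map_smul, smul_eq_mul]
  have h1 := h 1
  rw [mul_one] at h1
  rw [h, omegaZ, h1, mul_div_assoc, div_self (Char.irr_apply_one_ne_zero χ.2), mul_one]

theorem omegaZ_one (χ : IrrCharacter G) : omegaZ χ 1 = 1 := by
  rw [omegaZ, Subgroup.coe_one, div_self (Char.irr_apply_one_ne_zero χ.2)]

theorem omegaZ_mul (χ : IrrCharacter G) (c d : Subgroup.center G) :
    omegaZ χ (c * d) = omegaZ χ c * omegaZ χ d := by
  rw [omegaZ, Subgroup.coe_mul, apply_center_mul, mul_div_assoc]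
  rfl

variable [Finite G]

theorem norm_omegaZ (χ : IrrCharacter G) (c : Subgroup.center G) : ‖omegaZ χ c‖ = 1 := by
  have := Fintype.ofFinite G
  rw [omegaZ, norm_div, norm_char_of_center χ.2 c.2, ← BlockB.irr_degree_cast χ,
    Complex.norm_natCast, div_self]
  exact_mod_cast (BlockB.irr_degree_pos χ).ne'

/-- Orthogonality of the central characters. -/
theorem sum_conj_mul_omegaZ [Fintype (Subgroup.center G)] (χ χ₀ : IrrCharacter G) [Decidable (omegaZ χ = omegaZ χ₀)] :
    ∑ c : Subgroup.center G, conj (omegaZ χ₀ c) * omegaZ χ c =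
      if omegaZ χ = omegaZ χ₀ then (Nat.card (Subgroup.center G) : ℂ) else 0 := by
  split_ifs with h
  · rw [h, Finset.sum_congr rfl (g := fun _ => (1 : ℂ)) fun c _ => by
      rw [Complex.conj_mul', norm_omegaZ]; norm_num,
      Finset.sum_const, Finset.card_univ, nsmul_eq_mul, mul_one, Nat.card_eq_fintype_card]
  · obtain ⟨d, hd⟩ : ∃ d, omegaZ χ d ≠ omegaZ χ₀ d := by
      by_contra hall
      push Not at hall
      exact h (funext hall)
    have hne : conj (omegaZ χ₀ d) * omegaZ χ d ≠ 1 := fun h1 => hd (by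
      have h2 : omegaZ χ₀ d * conj (omegaZ χ₀ d) = 1 := by
        rw [Complex.mul_conj', norm_omegaZ]; norm_num
      calc omegaZ χ d = omegaZ χ₀ d * conj (omegaZ χ₀ d) * omegaZ χ d := by rw [h2, one_mul]
        _ = _ := by rw [mul_assoc, h1, mul_one])
    have hS := Fintype.sum_equiv (Equiv.mulLeft d)
      (fun c => conj (omegaZ χ₀ (d * c)) * omegaZ χ (d * c))
      (fun c => conj (omegaZ χ₀ c) * omegaZ χ c) fun c => rfl
    rw [Finset.sum_congr rfl (g := fun c => (conj (omegaZ χ₀ d) * omegaZ χ d) *
        (conj (omegaZ χ₀ c) * omegaZ χ c)) fun c _ => by rw [omegaZ_mul, omegaZ_mul, map_mul]; ring,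
      ← Finset.mul_sum] at hS
    by_contra h0
    exact hne ((mul_eq_right₀ h0).1 hS)

open Classical in
/-- The characters with a given central character. -/
noncomputable def overChars [Fintype (IrrCharacter G)] (χ₀ : IrrCharacter G) : Finset (IrrCharacter G) :=
  Finset.univ.filter fun χ => omegaZ χ = omegaZ χ₀

theorem mem_overChars [Fintype (IrrCharacter G)] {χ χ₀ : IrrCharacter G} :
    χ ∈ overChars χ₀ ↔ omegaZ χ = omegaZ χ₀ := by
  simp [overChars]

open Classical in
/-- Column orthogonality over a central character, when the translates fuse only trivially. -/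
theorem column [Fintype G] [Fintype (IrrCharacter G)] (χ₀ : IrrCharacter G) (g h : G)
    (hfus : ∀ c : Subgroup.center G, IsConj ((c : G) * g) h → c = 1) :
    (Nat.card (Subgroup.center G) : ℂ) * ∑ χ ∈ overChars χ₀, (χ : G → ℂ) g * conj ((χ : G → ℂ) h) =
      if IsConj g h then (Nat.card (Subgroup.centralizer ({g} : Set G)) : ℂ) else 0 := by
  have := Fintype.ofFinite (Subgroup.center G)
  have key : ∑ c : Subgroup.center G, conj (omegaZ χ₀ c) *
      ∑ χ : IrrCharacter G, (χ : G → ℂ) ((c : G) * g) * conj ((χ : G → ℂ) h) =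
      (Nat.card (Subgroup.center G) : ℂ) *
        ∑ χ ∈ overChars χ₀, (χ : G → ℂ) g * conj ((χ : G → ℂ) h) := by
    simp only [Finset.mul_sum, apply_center_mul]
    rw [Finset.sum_comm, overChars, Finset.sum_filter]
    refine Finset.sum_congr rfl fun χ _ => ?_
    rw [Finset.sum_congr rfl (g := fun c => (conj (omegaZ χ₀ c) * omegaZ χ c) *
        ((χ : G → ℂ) g * conj ((χ : G → ℂ) h))) fun c _ => by ring, ← Finset.sum_mul,
      sum_conj_mul_omegaZ]
    split_ifs <;> simp
  rw [← key, Finset.sum_eq_single 1]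
  · rw [omegaZ_one, map_one, one_mul, Subgroup.coe_one, one_mul, Char.column_orthogonality g h]
  · intro c _ hc
    rw [Char.column_orthogonality, if_neg fun h' => hc (hfus c h'), mul_zero]
  · intro h'; exact absurd (Finset.mem_univ _) h'

open Classical in
/-- The class multiplication sum over a central character. -/
theorem triple [Fintype G] [Fintype (IrrCharacter G)] (χ₀ : IrrCharacter G) (a b h : G)
    (hfus : ∀ (c : Subgroup.center G) (t : G), IsConj ((c : G) * (a * (t * b * t⁻¹))) h → c = 1) :
    (Nat.card (Subgroup.center G) : ℂ) * (Nat.card G : ℂ) *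
        ∑ χ ∈ overChars χ₀, (χ : G → ℂ) a * (χ : G → ℂ) b * conj ((χ : G → ℂ) h) / (χ : G → ℂ) 1 =
      (Nat.card (Subgroup.centralizer ({h} : Set G)) : ℂ) *
        ((Finset.univ.filter fun t : G => IsConj (a * (t * b * t⁻¹)) h).card : ℂ) := by
  have hcen : ∀ u : G, IsConj u h →
      Nat.card (Subgroup.centralizer ({u} : Set G)) = Nat.card (Subgroup.centralizer ({h} : Set G)) :=
    fun u hu => by
      have h1 := Char.natCard_carrier_mul_centralizer u
      rw [ConjClasses.mk_eq_mk_iff_isConj.2 hu, ← Char.natCard_carrier_mul_centralizer h] at h1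
      exact Nat.eq_of_mul_eq_mul_left (by
        have : Nonempty (ConjClasses.mk h).carrier := ⟨⟨h, ConjClasses.mem_carrier_mk⟩⟩
        exact Nat.card_pos) h1
  calc (Nat.card (Subgroup.center G) : ℂ) * (Nat.card G : ℂ) *
        ∑ χ ∈ overChars χ₀, (χ : G → ℂ) a * (χ : G → ℂ) b * conj ((χ : G → ℂ) h) / (χ : G → ℂ) 1
      = ∑ t : G, (Nat.card (Subgroup.center G) : ℂ) *
          ∑ χ ∈ overChars χ₀, (χ : G → ℂ) (a * (t * b * t⁻¹)) * conj ((χ : G → ℂ) h) := by
        rw [← Finset.mul_sum, Finset.sum_comm, mul_assoc]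
        congr 1
        rw [Finset.mul_sum]
        refine Finset.sum_congr rfl fun χ _ => ?_
        rw [← Finset.sum_mul, BlockB.sum_irr_mul_conj]
        ring
    _ = ∑ t : G, if IsConj (a * (t * b * t⁻¹)) h then
          (Nat.card (Subgroup.centralizer ({h} : Set G)) : ℂ) else 0 :=
        Finset.sum_congr rfl fun t _ => by
          rw [column χ₀ _ _ fun c => hfus c t]
          split_ifs with ht
          · rw [hcen _ ht]
          · rfl
    _ = _ := by rw [← Finset.sum_filter, Finset.sum_const, nsmul_eq_mul, mul_comm]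

end CfsgLib.Block.CentralBlock
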