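import Cfsg.Agent.Lib.Block.MainTheorems
import Mathlib.GroupTheory.Nilpotent

/-!
Normal `p`-subgroups and defect groups; Brauer's First Main Theorem.
-/

set_option autoImplicit false
set_option linter.unusedSectionVars false

namespace CfsgLib.Block

open Cfsg MonoidAlgebra

universe u

section Group

variable {G : Type u} [Group G] [Finite G] {p : ℕ} [Fact p.Prime]

/-- A `p`-subgroup `Q` of a group containing `P` with no normalizing elements outside `P` is `P`. -/
theorem eq_of_normalizer_inf_le {P Q : Subgroup G} (hQ : IsPGroup p Q) (hPQ : P ≤ Q)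
    (h : Q ⊓ Subgroup.normalizer (P : Set G) ≤ P) : Q = P := by
  refine le_antisymm ?_ hPQ
  by_contra hne
  have hlt : P.subgroupOf Q < ⊤ := by
    rw [lt_top_iff_ne_top, Ne, Subgroup.subgroupOf_eq_top]
    exact hne
  have := hQ.isNilpotent
  have hN := Group.normalizerCondition_of_isNilpotent (P.subgroupOf Q) hlt
  obtain ⟨x, hx, hxP⟩ := SetLike.exists_of_lt hN
  apply hxP
  refine h (Subgroup.mem_inf.2 ⟨x.2, ?_⟩)
  rw [Subgroup.mem_normalizer_iff]
  intro y
  constructor
  · intro hy
    have h1 := (Subgroup.mem_normalizer_iff.1 hx ⟨y, hPQ hy⟩).1 hy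
    simpa [Subgroup.mem_subgroupOf] using h1
  · intro hy
    have h0 : y ∈ Q := by
      have := Q.mul_mem (Q.mul_mem (Q.inv_mem x.2) (hPQ hy)) x.2
      simpa [mul_assoc] using this
    have h1 := (Subgroup.mem_normalizer_iff.1 hx ⟨y, h0⟩).2 (by
      rw [Subgroup.mem_subgroupOf]; simpa using hy)
    simpa [Subgroup.mem_subgroupOf] using h1

/-- If every `p`-subgroup of `C(c) ⊓ N(P)` containing `P` is `P`, then `P` is a Sylow subgroup of
`C(c)`. -/
theorem exists_sylow_cenSub_eq_of_local {P : Subgroup G} (hP : IsPGroup p P) {c : G}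
    (hc : c ∈ Subgroup.centralizer (P : Set G))
    (hloc : ∀ R : Subgroup G, IsPGroup p R → P ≤ R →
      R ≤ Subgroup.centralizer ({c} : Set G) ⊓ Subgroup.normalizer (P : Set G) → R = P) :
    ∃ S : Sylow p (Subgroup.centralizer ({c} : Set G)),
      cenSub c (S : Subgroup (Subgroup.centralizer ({c} : Set G))) = P := by
  have hPc : P ≤ Subgroup.centralizer ({c} : Set G) := fun y hy => by
    rw [Subgroup.mem_centralizer_singleton_iff]
    exact Subgroup.mem_centralizer_iff.1 hc y hy
  obtain ⟨S, hS⟩ := exists_sylow_cenSub_ge hP hPc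
  refine ⟨S, eq_of_normalizer_inf_le (isPGroup_cenSub c S) hS (le_of_eq ?_)⟩
  exact hloc _ ((isPGroup_cenSub c S).to_le inf_le_left) (le_inf hS Subgroup.le_normalizer)
    (inf_le_inf_right _ (cenSub_le c _))

/-- Two conjugate elements centralizing `P`, `P` Sylow in the first centralizer, are conjugate
under `N(P)`. -/
theorem exists_normalizer_conj {P : Subgroup G} {c₁ c₂ : G}
    (hS : ∃ S : Sylow p (Subgroup.centralizer ({c₁} : Set G)),
      cenSub c₁ (S : Subgroup (Subgroup.centralizer ({c₁} : Set G))) = P)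
    (h2 : c₂ ∈ Subgroup.centralizer (P : Set G)) (hc : IsConj c₁ c₂) :
    ∃ n ∈ Subgroup.normalizer (P : Set G), n * c₁ * n⁻¹ = c₂ := by
  obtain ⟨S, hS⟩ := hS
  obtain ⟨a, ha⟩ := isConj_iff.1 hc
  have hP : IsPGroup p P := hS ▸ isPGroup_cenSub c₁ S
  have hle : P.map (MulAut.conj a⁻¹).toMonoidHom ≤ Subgroup.centralizer ({c₁} : Set G) := by
    intro r hr
    rw [mem_map_conj_iff, inv_inv] at hr
    have h3 : a * r * a⁻¹ * c₂ = c₂ * (a * r * a⁻¹) := Subgroup.mem_centralizer_iff.1 h2 _ hr
    rw [Subgroup.mem_centralizer_singleton_iff]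
    calc r * c₁ = a⁻¹ * (a * r * a⁻¹ * (a * c₁ * a⁻¹)) * a := by group
      _ = a⁻¹ * ((a * c₁ * a⁻¹) * (a * r * a⁻¹)) * a := by rw [ha, h3]
      _ = c₁ * r := by group
  obtain ⟨x, hxc, hx⟩ := le_conj_cenSub S (hP.map (MulAut.conj a⁻¹).toMonoidHom) hle
  rw [hS] at hx
  refine ⟨a * x, ?_, ?_⟩
  · have heq : P.map (MulAut.conj a⁻¹).toMonoidHom = P.map (MulAut.conj x).toMonoidHom :=
      Subgroup.eq_of_le_of_card_ge hx (by rw [natCard_map_conj, natCard_map_conj])
    rw [Subgroup.mem_normalizer_iff]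
    intro y
    have h4 : ∀ z, a * z * a⁻¹ ∈ P ↔ x⁻¹ * z * x ∈ P := fun z => by
      have h5 := SetLike.ext_iff.1 heq z
      rwa [mem_map_conj_iff, mem_map_conj_iff, inv_inv] at h5
    have h6 := h4 (x * y * x⁻¹)
    simp only [mul_assoc, inv_mul_cancel_left, inv_mul_cancel, mul_one] at h6
    simp only [mul_assoc, mul_inv_rev]
    exact h6.symm
  · calc a * x * c₁ * (a * x)⁻¹ = a * (x * c₁) * x⁻¹ * a⁻¹ := by group
      _ = a * (c₁ * x) * x⁻¹ * a⁻¹ := by rw [Subgroup.mem_centralizer_singleton_iff.1 hxc]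
      _ = a * c₁ * a⁻¹ := by group
      _ = c₂ := ha

end Group

variable {G : Type u} [Group G] [Finite G] {p : ℕ} {M : Ideal AlgInt} [M.IsPrime]

/-- The idempotent of a block is supported on the centralizer of a normal `p`-subgroup. -/
theorem mem_centralizer_of_coeff_blkIdem_ne_zero (hM : IsPModular p M) {P : Subgroup G}
    [hPn : P.Normal] (hP : IsPGroup p P) {B : Set (IrrCharacter G)} (hB : IsPBlock M B) {x : G}
    (hx : (blkIdem M B : MonoidAlgebra (kres M) G).coeff x ≠ 0) :
    x ∈ Subgroup.centralizer (P : Set G) := by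
  classical
  have := Fintype.ofFinite G
  have := Fact.mk hM.1
  have := charP_kres hM
  set e : MonoidAlgebra (kres M) G := (blkIdem M B : MonoidAlgebra (kres M) G) with he
  have hecl : IsClassCoeff e := isClassCoeff_center _
  have hee : e * e = e := congrArg Subtype.val (blkIdem_idem hM hB)
  set C := Subgroup.centralizer (P : Set G) with hC
  set r : MonoidAlgebra (kres M) G := mkGA fun y => if y ∈ C then e.coeff y else 0 with hr
  have hconj : ∀ h y : G, y ∈ C → h * y * h⁻¹ ∈ C := by
    intro h y hy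
    rw [hC, Subgroup.mem_centralizer_iff] at hy ⊢
    intro v hv
    have h1 := hy (h⁻¹ * v * h) (by simpa using hPn.conj_mem v hv h⁻¹)
    calc v * (h * y * h⁻¹) = h * (h⁻¹ * v * h * y) * h⁻¹ := by group
      _ = h * (y * (h⁻¹ * v * h)) * h⁻¹ := by rw [h1]
      _ = _ := by group
  have hrcl : IsClassCoeff r := by
    intro g h
    simp only [hr, coeff_mkGA]
    have hiff : h * g * h⁻¹ ∈ C ↔ g ∈ C :=
      ⟨fun hh => by have := hconj h⁻¹ _ hh; simpa [mul_assoc] using this, hconj h g⟩
    by_cases hg : g ∈ C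
    · rw [if_pos hg, if_pos (hiff.2 hg), hecl]
    · rw [if_neg hg, if_neg (fun h' => hg (hiff.1 h'))]
  have hrr : r * r = r := by
    ext c
    rw [coeff_mul_eq]
    simp only [hr, coeff_mkGA]
    by_cases hcC : c ∈ C
    · rw [if_pos hcC]
      conv_rhs => rw [← hee, coeff_mul_of_mem_centralizer hP (isPInv_of_isClassCoeff hecl P)
        (isPInv_of_isClassCoeff hecl P) hcC, Finset.sum_filter]
      refine Finset.sum_congr rfl fun y _ => ?_
      by_cases hy : y ∈ C
      · rw [if_pos hy, if_pos hy, if_pos (C.mul_mem (C.inv_mem hy) hcC)]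
      · rw [if_neg hy, if_neg hy, zero_mul]
    · rw [if_neg hcC]
      refine Finset.sum_eq_zero fun y _ => ?_
      by_cases hy : y ∈ C
      · rw [if_pos hy, if_neg (fun h => hcC (by simpa using C.mul_mem hy h)), mul_zero]
      · rw [if_neg hy, zero_mul]
  have hdc : IsClassCoeff (e - r) := fun g h => by
    simp [hecl g h, hrcl g h]
  obtain ⟨n, hn⟩ := isNilpotent_of_coeff_centralizer_eq_zero hP hdc (fun y hy => by
    simp [hr, hC, hy])
  have hcomm : r * e = e * r := (Subalgebra.mem_center_iff.1 (isClassCoeff_iff_mem_center.1 hecl) r)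
  have h3 : (e - r) * (e - r) * (e - r) = e - r := by
    have h4 : (e - r) * (e - r) = e + r - 2 • (e * r) := by
      rw [sub_mul, mul_sub, mul_sub, hee, hrr, hcomm]
      abel
    rw [h4, sub_mul, add_mul, mul_sub, mul_sub, hee, hrr, hcomm, smul_mul_assoc, mul_sub,
      mul_assoc e r e, hcomm, ← mul_assoc e e r, hee, mul_assoc e r r, hrr]
    abel
  have hk : ∀ k : ℕ, (e - r) ^ (2 * k + 1) = e - r := by
    intro k
    induction k with
    | zero => simp
    | succ k ih => rw [show 2 * (k + 1) + 1 = (2 * k + 1) + 1 + 1 by ring, pow_succ, pow_succ, ih, h3]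
  have her : e - r = 0 := by
    rw [← hk n, show 2 * n + 1 = n + (n + 1) by ring, pow_add, hn, zero_mul]
  by_contra hxC
  apply hx
  have h5 := congrArg (fun a => a.coeff x) (sub_eq_zero.1 her)
  simp [hr, hC] at h5
  exact h5 hxC

/-- A normal `p`-subgroup lies in every defect group. -/
theorem normal_le_defectGroup (hM : IsPModular p M) {Q : Subgroup G} [hQn : Q.Normal]
    (hQ : IsPGroup p Q) {B : Set (IrrCharacter G)} (hB : IsPBlock M B) {D : Subgroup G}
    (hD : IsDefectGroup p M B D) : Q ≤ D := by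
  have := Fact.mk hM.1
  obtain ⟨χ, hχ⟩ := isPBlock_nonempty hB
  obtain ⟨g, hg, P, rfl⟩ := hD
  have hgC := mem_centralizer_of_coeff_blkIdem_ne_zero hM hQ hB
    ((isDefectClass_iff hM hB hχ g).1 hg).1
  obtain ⟨x, -, hx⟩ := le_conj_cenSub P hQ (fun u hu =>
    Subgroup.mem_centralizer_singleton_iff.2 (Subgroup.mem_centralizer_iff.1 hgC u hu))
  intro u hu
  have h4 := mem_map_conj_iff.1 (hx (hQn.conj_mem u hu x))
  simpa [mul_assoc] using h4

/-- Defect groups of inducing blocks are contained in defect groups of the induced block. -/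
theorem exists_map_subtype_le_defect (hM : IsPModular p M) {H : Subgroup G}
    {b : Set (IrrCharacter H)} {B : Set (IrrCharacter G)} (hind : IsInducedBlock M H b B)
    {D : Subgroup H} (hD : IsDefectGroup p M b D) :
    ∃ E : Subgroup G, IsDefectGroup p M B E ∧ D.map H.subtype ≤ E := by
  classical
  have := Fact.mk hM.1
  obtain ⟨E, hE⟩ := exists_isDefectGroup hM hind.2.1
  obtain ⟨ξ, hξ⟩ := isPBlock_nonempty hind.1
  obtain ⟨χ, hχ⟩ := isPBlock_nonempty hind.2.1
  -- a class of `G` with nonzero central character on which the idempotent of `B` is nonzero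
  obtain ⟨g, hg⟩ := exists_isDefectClass hM hind.2.1
  let P : Sylow p (Subgroup.centralizer ({g} : Set G)) := Classical.arbitrary _
  have h2 := ((isDefectClass_iff hM hind.2.1 hχ g).1 hg).2
  rw [← (isInducedBlock_iff H hind.1 hind.2.1 hξ hχ).1 hind] at h2
  obtain ⟨h, hh0, hh⟩ := exists_classSumZ_of_lam_ne_zero hM hind.1 hξ h2
  rw [coe_resZ, coeff_resSub] at hh0
  have hgh : IsConj g (h : G) := by
    by_contra hn
    apply hh0
    change (classSum (kres M) g).coeff (h : G) = 0
    rw [coeff_classSum, if_neg hn]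
  obtain ⟨d, hd, R, rfl⟩ := hD
  let Q : Sylow p (Subgroup.centralizer ({h} : Set H)) := Classical.arbitrary _
  obtain ⟨x, hx⟩ := exists_defect_le_conj hM hind.1 hd R hξ hh Q
  have hR : IsPGroup p ((cenSub d (R : Subgroup (Subgroup.centralizer ({d} : Set H)))).map H.subtype) :=
    (isPGroup_cenSub d R).map _
  -- its conjugate centralizes an element where the idempotent of `B` is nonzero
  obtain ⟨z, hz⟩ := (exists_le_conj_iff_coeff hM hind.2.1 hE hR).1 ⟨(x : G) * h * (x : G)⁻¹, by
    rw [Subgroup.mem_centralizer_iff]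
    rintro _ ⟨r, hr, rfl⟩
    have h5 := Subgroup.mem_centralizer_singleton_iff.1
      (cenSub_le h _ (mem_map_conj_iff.1 (hx hr)))
    have h6 := congrArg (fun t : H => (t : G)) h5
    simp only [Subgroup.coe_mul, Subgroup.coe_inv] at h6
    change (r : G) * ((x : G) * h * (x : G)⁻¹) = (x : G) * h * (x : G)⁻¹ * (r : G)
    calc (r : G) * ((x : G) * h * (x : G)⁻¹)
        = (x : G) * ((x : G)⁻¹ * r * x * h) * (x : G)⁻¹ := by group
      _ = (x : G) * (h * ((x : G)⁻¹ * r * x)) * (x : G)⁻¹ := by rw [h6]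
      _ = _ := by group, by
    rw [isClassCoeff_center (blkIdem M B) h x,
      ← coeff_eq_of_isConj (isClassCoeff_center (blkIdem M B)) hgh]
    exact ((isDefectClass_iff hM hind.2.1 hχ g).1 hg).1⟩
  exact ⟨_, defectGroup_conj hM hind.2.1 hE z, hz⟩

/-- A block with a conjugate of `P` inside its defect groups is induced from each `H` between
`P C(P)` and `N(P)`, and conversely. -/
theorem exists_inducing_iff (hM : IsPModular p M) {P H : Subgroup G} (hP : IsPGroup p P)
    (hPH : P ≤ H) (hCH : Subgroup.centralizer (P : Set G) ≤ H)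
    (hHN : H ≤ Subgroup.normalizer (P : Set G)) {B : Set (IrrCharacter G)} (hB : IsPBlock M B)
    {D : Subgroup G} (hD : IsDefectGroup p M B D) :
    (∃ b : Set (IrrCharacter H), IsInducedBlock M H b B) ↔
      ∃ x : G, P ≤ D.map (MulAut.conj x).toMonoidHom := by
  classical
  have := Fact.mk hM.1
  have := charP_kres hM
  obtain ⟨χ, hχ⟩ := isPBlock_nonempty hB
  have hblk : ∀ c : G, c ∈ Subgroup.centralizer (P : Set G) → ∀ hc : c ∈ H,
      (brHom (k := kres M) hP hCH hHN (blkIdem M B) : MonoidAlgebra (kres M) H).coeff ⟨c, hc⟩ =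
        (blkIdem M B : MonoidAlgebra (kres M) G).coeff c := by
    intro c hcP hc
    rw [coe_brHom, coeff_brRes_of_mem _ (h := ⟨c, hc⟩) hcP]
  rw [← exists_le_conj_iff_coeff hM hB hD hP]
  constructor
  · rintro ⟨b, hb⟩
    obtain ⟨ξ, hξ⟩ := isPBlock_nonempty hb.1
    have h1 := (isInducedBlock_iff H hb.1 hB hξ hχ).1 hb (blkIdem M B)
    rw [lam_resZ_eq_brHom hM hP hPH hCH hHN, (algHom_blkIdem_eq_one_iff hM hB χ).2 hχ] at h1
    obtain ⟨c, hc, -⟩ := exists_classSumZ_of_lam_ne_zero hM hb.1 hξ (h1.symm ▸ one_ne_zero :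
      lam M ξ (brHom hP hCH hHN (blkIdem M B)) ≠ 0)
    by_cases hcP : (c : G) ∈ Subgroup.centralizer (P : Set G)
    · exact ⟨c, hcP, by rwa [← hblk _ hcP c.2]⟩
    · rw [coe_brHom, coeff_brRes_of_not_mem _ hcP] at hc
      exact absurd rfl hc
  · rintro ⟨c, hcP, hc⟩
    have hne : brHom (k := kres M) hP hCH hHN (blkIdem M B) ≠ 0 := by
      intro h0
      apply hc
      rw [← hblk c hcP (hCH hcP), h0]
      simp
    obtain ⟨ξ, hξ⟩ := exists_lam_eq_one_of_idem hM (by rw [← map_mul, blkIdem_idem hM hB]) hne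
    refine ⟨blockOf M (ξ : H → ℂ), ?_⟩
    obtain ⟨φ, hφ⟩ := exists_eq_lam hM ((lam M ξ).comp (brHom hP hCH hHN))
    have hφB : φ ∈ B := by
      rw [← algHom_blkIdem_eq_one_iff hM hB φ, ← hφ]
      exact hξ
    refine (isInducedBlock_iff H (isPBlock_blockOf ξ) hB (mem_blockOf_self ξ) hχ).2 fun z => ?_
    rw [lam_resZ_eq_brHom hM hP hPH hCH hHN,
      lam_eq_of_sameBlock (sameBlock_of_mem hB hχ hφB), ← hφ]
    rfl

section Normalizer

variable (hM : IsPModular p M) {D : Subgroup G}
include hM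

/-- The idempotent of a block of `N(D)` with defect group `D` is the Brauer image of a central
element supported on defect at most `D`. -/
theorem exists_brHom_preimage [Fact p.Prime] [CharP (kres M) p] (hD : IsPGroup p D)
    {b : Set (IrrCharacter (Subgroup.normalizer (D : Set G)))} (hb : IsPBlock M b)
    (hbD : IsDefectGroup p M b (D.subgroupOf (Subgroup.normalizer (D : Set G)))) :
    ∃ a : Subalgebra.center (kres M) (MonoidAlgebra (kres M) G),
      DefSupported p D (a : MonoidAlgebra (kres M) G) ∧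
      brHom hD (Subgroup.centralizer_le_normalizer (D : Set G)) le_rfl a = blkIdem M b := by
  classical
  set DN := D.subgroupOf (Subgroup.normalizer (D : Set G)) with hDN
  have hDNn : DN.Normal := Subgroup.normal_in_normalizer
  have hDNp : IsPGroup p DN := hD.comap_subtype
  set e : MonoidAlgebra (kres M) (Subgroup.normalizer (D : Set G)) := (blkIdem M b : MonoidAlgebra (kres M) (Subgroup.normalizer (D : Set G))) with he
  -- the support of `e`
  have hsupp : ∀ c : (Subgroup.normalizer (D : Set G)), e.coeff c ≠ 0 → (c : G) ∈ Subgroup.centralizer (D : Set G) ∧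
      ∃ S : Sylow p (Subgroup.centralizer ({(c : G)} : Set G)),
        cenSub (c : G) (S : Subgroup (Subgroup.centralizer ({(c : G)} : Set G))) = D := by
    intro c hc
    have hcC := mem_centralizer_of_coeff_blkIdem_ne_zero hM hDNp hb hc
    have hcD : (c : G) ∈ Subgroup.centralizer (D : Set G) := by
      rw [Subgroup.mem_centralizer_iff] at hcC ⊢
      intro v hv
      exact congrArg Subtype.val (hcC ⟨v, Subgroup.le_normalizer hv⟩ hv)
    refine ⟨hcD, exists_sylow_cenSub_eq_of_local hD hcD fun R hR hDR hRle => ?_⟩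
    refine le_antisymm (fun r hr => ?_) hDR
    obtain ⟨x, hx⟩ := (exists_le_conj_iff_coeff hM hb hbD
      (hR.comap_subtype (K := (Subgroup.normalizer (D : Set G))))).1 ⟨c, by
        rw [Subgroup.mem_centralizer_iff]
        intro v hv
        exact Subtype.ext (Subgroup.mem_centralizer_singleton_iff.1 (hRle hv).1), hc⟩
    have h3 := hx (show (⟨r, (hRle hr).2⟩ : (Subgroup.normalizer (D : Set G))) ∈ R.comap (Subgroup.normalizer (D : Set G)).subtype from hr)
    rw [mem_map_conj_iff] at h3
    have h4 := hDNn.conj_mem _ h3 x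
    simpa [mul_assoc, hDN, Subgroup.mem_subgroupOf] using h4
  have hfc : Finite (ConjClasses (Subgroup.normalizer (D : Set G))) :=
    Finite.of_surjective ConjClasses.mk ConjClasses.mk_surjective
  let _ := Fintype.ofFinite (ConjClasses (Subgroup.normalizer (D : Set G)))
  refine ⟨∑ C : ConjClasses (Subgroup.normalizer (D : Set G)), e.coeff C.out • classSumZ (kres M) (C.out : G), ?_, ?_⟩
  · intro x hx R hR hRx
    rw [AddSubmonoidClass.coe_finsetSum, coeff_sum, Finset.sum_apply'] at hx
    obtain ⟨C, _, hC⟩ := Finset.exists_ne_zero_of_sum_ne_zero hx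
    rw [SetLike.val_smul, coeff_smul, Finsupp.smul_apply, smul_eq_mul, classSumZ] at hC
    obtain ⟨-, S, hS⟩ := hsupp C.out (left_ne_zero_of_mul hC)
    have h6 := defSupported_classSum (k := kres M) S x (right_ne_zero_of_mul hC) R hR hRx
    rwa [hS] at h6
  · apply Subtype.ext
    ext y
    rw [coe_brHom]
    by_cases hy : (y : G) ∈ Subgroup.centralizer (D : Set G)
    · rw [coeff_brRes_of_mem _ hy, AddSubmonoidClass.coe_finsetSum, coeff_sum, Finset.sum_apply']
      conv_rhs => rw [← he, eq_sum_classSum (show IsClassCoeff e from isClassCoeff_center (blkIdem M b)), coeff_sum,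
        Finset.sum_apply']
      refine Finset.sum_congr rfl fun C _ => ?_
      rw [SetLike.val_smul, coeff_smul, Finsupp.smul_apply, coeff_smul, Finsupp.smul_apply]
      by_cases hC : e.coeff C.out = 0
      · rw [hC]; simp
      congr 1
      rw [classSumZ, coeff_classSum, coeff_classSum]
      refine if_congr ⟨fun h => ?_, fun h => ?_⟩ rfl rfl
      · obtain ⟨-, hS⟩ := hsupp C.out hC
        obtain ⟨m, hm, hmc⟩ := exists_normalizer_conj hS hy h
        exact isConj_iff.2 ⟨⟨m, hm⟩, Subtype.ext hmc⟩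
      · obtain ⟨m, hm⟩ := isConj_iff.1 h
        exact isConj_iff.2 ⟨(m : G), congrArg Subtype.val hm⟩
    · rw [coeff_brRes_of_not_mem _ hy]
      by_contra hne
      exact hy (hsupp y (Ne.symm hne)).1

/-- First Main Theorem: from the normalizer to `G`. -/
theorem firstMain_induced (hD : IsPGroup p D)
    {b : Set (IrrCharacter (Subgroup.normalizer (D : Set G)))} (hb : IsPBlock M b)
    (hbD : IsDefectGroup p M b (D.subgroupOf (Subgroup.normalizer (D : Set G)))) :
    ∃ B : Set (IrrCharacter G), IsPBlock M B ∧ IsDefectGroup p M B D ∧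
      IsInducedBlock M (Subgroup.normalizer (D : Set G)) b B := by
  have := Fact.mk hM.1
  have := charP_kres hM
  have hCN := Subgroup.centralizer_le_normalizer (D : Set G)
  obtain ⟨B, hind⟩ := exists_isInducedBlock_of_normalizer hM hD Subgroup.le_normalizer hCN le_rfl hb
  refine ⟨B, hind.2.1, ?_, hind⟩
  obtain ⟨E, hE, hle⟩ := exists_map_subtype_le_defect hM hind hbD
  rw [Subgroup.subgroupOf_map_subtype, inf_eq_left.2 Subgroup.le_normalizer] at hle
  obtain ⟨a, ha, hae⟩ := exists_brHom_preimage hM hD hb hbD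
  obtain ⟨ξ, hξ⟩ := isPBlock_nonempty hb
  obtain ⟨χ, hχ⟩ := isPBlock_nonempty hind.2.1
  have h1 : lam M χ a = 1 := by
    rw [← (isInducedBlock_iff _ hb hind.2.1 hξ hχ).1 hind,
      lam_resZ_eq_brHom hM hD Subgroup.le_normalizer hCN le_rfl, hae,
      (algHom_blkIdem_eq_one_iff hM hb ξ).2 hξ]
  obtain ⟨g, hg0, hg⟩ := exists_classSumZ_of_lam_ne_zero hM hind.2.1 hχ
    (h1.symm ▸ one_ne_zero : lam M χ a ≠ 0)
  let Q : Sylow p (Subgroup.centralizer ({g} : Set G)) := Classical.arbitrary _
  obtain ⟨x, hx⟩ := ha g hg0 _ (isPGroup_cenSub g Q) (cenSub_le g _)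
  obtain ⟨d, hd, R, rfl⟩ := hE
  obtain ⟨y, hy⟩ := exists_defect_le_conj hM hind.2.1 hd R hχ hg Q
  have hcard : Nat.card (cenSub d (R : Subgroup (Subgroup.centralizer ({d} : Set G)))) ≤ Nat.card D := by
    refine (Subgroup.card_le_of_le hy).trans ?_
    rw [natCard_map_conj]
    exact (Subgroup.card_le_of_le hx).trans_eq (natCard_map_conj _ _)
  rw [Subgroup.eq_of_le_of_card_ge hle hcard]
  exact ⟨d, hd, R, rfl⟩

/-- First Main Theorem: existence of the inducing block. -/
theorem firstMain_exists {B : Set (IrrCharacter G)} (hB : IsPBlock M B)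
    (hBD : IsDefectGroup p M B D) :
    ∃ b : Set (IrrCharacter (Subgroup.normalizer (D : Set G))), IsPBlock M b ∧
      IsDefectGroup p M b (D.subgroupOf (Subgroup.normalizer (D : Set G))) ∧
      IsInducedBlock M (Subgroup.normalizer (D : Set G)) b B := by
  have hD : IsPGroup p D := isPGroup_defectGroup hM hB hBD
  obtain ⟨b, hb⟩ := (exists_inducing_iff hM hD Subgroup.le_normalizer
    (Subgroup.centralizer_le_normalizer (D : Set G)) le_rfl hB hBD).2
      ⟨1, le_of_eq (map_conj_one D).symm⟩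
  refine ⟨b, hb.1, ?_, hb⟩
  obtain ⟨Db, hDb⟩ := exists_isDefectGroup hM hb.1
  have : (D.subgroupOf (Subgroup.normalizer (D : Set G))).Normal := Subgroup.normal_in_normalizer
  have h1 : D.subgroupOf (Subgroup.normalizer (D : Set G)) ≤ Db :=
    normal_le_defectGroup hM (Q := D.subgroupOf _) (hD.comap_subtype (K := Subgroup.normalizer (D : Set G))) hb.1 hDb
  obtain ⟨E, hE, hle⟩ := exists_map_subtype_le_defect hM hb hDb
  obtain ⟨z, rfl⟩ := defectGroup_exists_conj hM hB hBD hE
  suffices D.subgroupOf (Subgroup.normalizer (D : Set G)) = Db by rw [this]; exact hDb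
  refine Subgroup.eq_of_le_of_card_ge h1 ?_
  rw [← Subgroup.card_map_of_injective (K := D.subgroupOf _) (Subgroup.subtype_injective _),
    Subgroup.subgroupOf_map_subtype, inf_eq_left.2 Subgroup.le_normalizer, ← natCard_map_conj D z,
    ← Subgroup.card_map_of_injective (K := Db) (Subgroup.subtype_injective _)]
  exact Subgroup.card_le_of_le hle

/-- First Main Theorem: uniqueness. -/
theorem firstMain_unique (hD : IsPGroup p D) {B : Set (IrrCharacter G)}
    {b b' : Set (IrrCharacter (Subgroup.normalizer (D : Set G)))}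
    (hbD : IsDefectGroup p M b (D.subgroupOf (Subgroup.normalizer (D : Set G))))
    (hb : IsInducedBlock M (Subgroup.normalizer (D : Set G)) b B)
    (hb' : IsInducedBlock M (Subgroup.normalizer (D : Set G)) b' B) : b' = b := by
  have := Fact.mk hM.1
  have := charP_kres hM
  have hCN := Subgroup.centralizer_le_normalizer (D : Set G)
  obtain ⟨a, -, hae⟩ := exists_brHom_preimage hM hD hb.1 hbD
  obtain ⟨ξ, hξ⟩ := isPBlock_nonempty hb.1
  obtain ⟨ξ', hξ'⟩ := isPBlock_nonempty hb'.1
  obtain ⟨χ, hχ⟩ := isPBlock_nonempty hb.2.1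
  have key : lam M ξ' (blkIdem M b) = 1 := by
    rw [← hae, ← lam_resZ_eq_brHom hM hD Subgroup.le_normalizer hCN le_rfl,
      (isInducedBlock_iff _ hb'.1 hb'.2.1 hξ' hχ).1 hb',
      ← (isInducedBlock_iff _ hb.1 hb.2.1 hξ hχ).1 hb,
      lam_resZ_eq_brHom hM hD Subgroup.le_normalizer hCN le_rfl, hae,
      (algHom_blkIdem_eq_one_iff hM hb.1 ξ).2 hξ]
  exact isPBlock_eq_of_mem hb'.1 hb.1 hξ' ((algHom_blkIdem_eq_one_iff hM hb.1 ξ').1 key)

end Normalizer

/-- Classes with nonzero central character have a representative centralizing the defect group,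
with `p`-part in it. -/
theorem exists_conj_pPart_mem (hM : IsPModular p M) {B : Set (IrrCharacter G)}
    (hB : IsPBlock M B) {P : Subgroup G} (hP : IsDefectGroup p M B P) {χ : IrrCharacter G}
    (hχ : χ ∈ B) {g : G} (hg : lam M χ (classSumZ (kres M) g) ≠ 0) :
    ∃ x : G, IsConj g x ∧ x ∈ Subgroup.centralizer (P : Set G) ∧
      ∀ z : G, IsPPart p x z → z ∈ P := by
  classical
  have := Fact.mk hM.1
  have := charP_kres hM
  have hPp : IsPGroup p P := isPGroup_defectGroup hM hB hP
  have hCN := Subgroup.centralizer_le_normalizer (P : Set G)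
  obtain ⟨b, hb, hbD, hind⟩ := firstMain_exists hM hB hP
  obtain ⟨ξ, hξ⟩ := isPBlock_nonempty hb
  rw [← (isInducedBlock_iff _ hb hB hξ hχ).1 hind,
    lam_resZ_eq_brHom hM hPp Subgroup.le_normalizer hCN le_rfl] at hg
  obtain ⟨c, hc0, hc⟩ := exists_classSumZ_of_lam_ne_zero hM hb hξ hg
  rw [coe_brHom] at hc0
  have hcP : (c : G) ∈ Subgroup.centralizer (P : Set G) := by
    by_contra h
    exact hc0 (coeff_brRes_of_not_mem _ h)
  have hgc : IsConj g (c : G) := by
    by_contra h
    apply hc0
    rw [coeff_brRes_of_mem _ hcP]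
    change (classSum (kres M) g).coeff (c : G) = 0
    rw [coeff_classSum, if_neg h]
  refine ⟨(c : G), hgc, hcP, fun z hz => ?_⟩
  have hzN : z ∈ Subgroup.normalizer (P : Set G) := Subgroup.zpowers_le.2 c.2 (isPPart_mem_zpowers hM.1 hz)
  by_contra hzP
  apply hc
  rw [lam_classSumZ, redC_eq_zero_iff (memLocalRing_centralChar ξ.2 c), centralChar]
  obtain ⟨z', hz'⟩ := exists_isPPart hM.1 c
  have hz'e : (z' : G) = z :=
    isPPart_unique hM.1 (isPPart_map (f := (Subgroup.normalizer (P : Set G)).subtype) (Subgroup.subtype_injective _) hz') hz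
  rw [irr_apply_eq_zero_of_not_mem_defect hM hb hz' (fun E hE hzE => ?_) hξ, mul_zero, zero_div]
  · exact memLocalIdeal_zero
  · obtain ⟨x, rfl⟩ := defectGroup_exists_conj hM hb hbD hE
    apply hzP
    rw [mem_map_conj_iff] at hzE
    have h4 := Subgroup.normal_in_normalizer.conj_mem _ hzE x
    rw [← hz'e]
    simpa [mul_assoc, Subgroup.mem_subgroupOf] using h4

end CfsgLib.Block
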