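import Cfsg.Agent.Lib.Block.BrauerInd
import Cfsg.Agent.Lib.Block.Orthogonality
import Cfsg.Agent.S0936

/-!
Brauer's Second Main Theorem for block parts, and its consequences for principal blocks.
-/

set_option autoImplicit false
set_option linter.unusedSectionVars false

namespace CfsgLib.Block

open Cfsg MonoidAlgebra
open scoped ComplexConjugate

universe u

variable {G : Type u} [Group G] [Finite G] {p : ℕ} {M : Ideal AlgInt} [M.IsPrime]

/-- The block part of a class function through the block idempotent. -/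
theorem blockPart_eq_sum {H : Type u} [Group H] [Fintype H] (B : Set (IrrCharacter H))
    {ϑ : H → ℂ} (hϑ : IsClassFunction H ϑ) (g : H) :
    blockPart B ϑ g = ∑ k : H, blockCoeff B k * ϑ (k * g) := by
  classical
  have := Fintype.ofFinite (IrrCharacter H)
  have h1 : ∀ k : H, blockCoeff B k * ϑ (k * g) = ∑ ψ : IrrCharacter H,
      classInner ϑ (ψ : H → ℂ) * ((blockSum B).coeff k * (ψ : H → ℂ) (k * g)) := by
    intro k
    rw [CfsgLib.Char.classFunction_apply_eq_sum hϑ, Finset.mul_sum]
    exact Finset.sum_congr rfl fun ψ _ => by simp [blockSum]; ring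
  rw [Finset.sum_congr rfl (fun k _ => h1 k), Finset.sum_comm]
  unfold blockPart
  simp only [finsum_mem_def, finsum_eq_sum_of_fintype]
  refine Finset.sum_congr rfl fun ψ _ => ?_
  rw [← Finset.mul_sum, ← chiExt_eq, ← one_mul (blockSum B),
    chiExt_mul_central ψ.2 1 (blockSum_isClassCoeff B), chiExt_one, omegaC_blockSum, finsum_eq_if]
  by_cases h : ψ ∈ B
  · rw [if_pos h, if_pos h, one_mul]
    congr 2
    exact Subsingleton.elim _ _
  · rw [if_neg h, if_neg h, zero_mul, mul_zero]

/-- A class function is the sum of its block parts. -/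
theorem sum_blockPart {H : Type u} [Group H] [Finite H] {ϑ : H → ℂ} (hϑ : IsClassFunction H ϑ)
    (g : H) : ∑ b ∈ allBlocks M H, blockPart b ϑ g = ϑ g := by
  classical
  have := Fintype.ofFinite H
  have := Fintype.ofFinite (IrrCharacter H)
  rw [CfsgLib.Char.classFunction_apply_eq_sum hϑ g]
  unfold blockPart
  simp only [finsum_mem_def, finsum_eq_sum_of_fintype]
  rw [Finset.sum_comm]
  refine Finset.sum_congr rfl fun ψ _ => ?_
  rw [Finset.sum_eq_single (blockOf M (ψ : H → ℂ))]
  · rw [finsum_eq_if, if_pos (mem_blockOf_self ψ)]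
    congr 2
    exact Subsingleton.elim _ _
  · intro B hB hne
    rw [finsum_eq_if, if_neg]
    exact fun h => hne (isPBlock_eq_blockOf (mem_allBlocks.1 hB) h)
  · exact fun h => absurd (mem_allBlocks.2 (isPBlock_blockOf ψ)) h

section Centralizer

variable (hM : IsPModular p M) {x : G} (hx : ∃ k : ℕ, orderOf x = p ^ k)
include hM hx

/-- Every block of the centralizer of a `p`-element induces a block. -/
theorem exists_isInducedBlock_centralizer
    {b : Set (IrrCharacter (Subgroup.centralizer ({x} : Set G)))} (hb : IsPBlock M b) :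
    ∃ B : Set (IrrCharacter G), IsInducedBlock M (Subgroup.centralizer ({x} : Set G)) b B := by
  obtain ⟨k, hk⟩ := hx
  have hU : IsPGroup p (Subgroup.zpowers x) :=
    IsPGroup.of_card (n := k) (by rw [Nat.card_zpowers, hk])
  have hC : Subgroup.centralizer ((Subgroup.zpowers x : Subgroup G) : Set G) =
      Subgroup.centralizer ({x} : Set G) := by
    rw [Subgroup.zpowers_eq_closure, Subgroup.centralizer_closure]
  refine exists_isInducedBlock_of_normalizer hM hU ?_ hC.le ?_ hb
  · exact Subgroup.zpowers_le.2 (Subgroup.mem_centralizer_singleton_iff.2 rfl)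
  · exact hC ▸ Subgroup.centralizer_le_normalizer _

theorem chiExt_centralizer_eq_blockPart [Fintype (Subgroup.centralizer ({x} : Set G))]
    (χ : IrrCharacter G) (b : Set (IrrCharacter (Subgroup.centralizer ({x} : Set G))))
    (y : Subgroup.centralizer ({x} : Set G)) :
    blockPart b (fun c : Subgroup.centralizer ({x} : Set G) => (χ : G → ℂ) (x * (c : G))) y =
      chiExt (χ : G → ℂ) (inclSub _ (blockSum b)) (x * (y : G)) := by
  classical
  have := Fintype.ofFinite G
  rw [blockPart_eq_sum b (fun c h => by
    have h1 : (h : G) * x = x * (h : G) := Subgroup.mem_centralizer_singleton_iff.1 h.2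
    have h2 : x * ((h * c * h⁻¹ : Subgroup.centralizer ({x} : Set G)) : G) =
        (h : G) * (x * (c : G)) * (h : G)⁻¹ := by
      push_cast
      calc x * ((h : G) * c * (h : G)⁻¹) = (x * (h : G)) * c * (h : G)⁻¹ := by group
        _ = _ := by rw [← h1]; group
    simp only [h2]
    exact CfsgLib.Char.irr_isClassFunction χ.2 _ _), chiExt_eq,
    ← Finset.sum_subset (Finset.subset_univ
      (Finset.univ.filter (· ∈ Subgroup.centralizer ({x} : Set G))))
      (fun k _ hk => by rw [coeff_inclSub_of_not_mem _ _ (by simpa using hk), zero_mul]),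
    Finset.sum_subtype _ (p := (· ∈ Subgroup.centralizer ({x} : Set G))) (by simp)]
  refine Finset.sum_congr rfl fun k _ => ?_
  rw [coeff_inclSub_of_mem]
  simp only [blockSum, coeff_mkGA]
  congr 2
  have hk : (k : G) * x = x * (k : G) := Subgroup.mem_centralizer_singleton_iff.1 k.2
  rw [← mul_assoc (k : G), hk, mul_assoc]
  rfl

/-- Brauer's Second Main Theorem. -/
theorem blockPart_centralizer_eq_zero {B : Set (IrrCharacter G)} (hB : IsPBlock M B)
    {χ : IrrCharacter G} (hχ : χ ∈ B)
    {b : Set (IrrCharacter (Subgroup.centralizer ({x} : Set G)))} (hb : IsPBlock M b)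
    (hnot : ¬ IsInducedBlock M (Subgroup.centralizer ({x} : Set G)) b B)
    {y : Subgroup.centralizer ({x} : Set G)} (hy : ¬ p ∣ orderOf y) :
    blockPart b (fun c : Subgroup.centralizer ({x} : Set G) => (χ : G → ℂ) (x * (c : G))) y = 0 := by
  have := Fintype.ofFinite (Subgroup.centralizer ({x} : Set G))
  obtain ⟨B', hB'⟩ := exists_isInducedBlock_centralizer hM hx hb
  have hχ' : χ ∉ B' := fun h => hnot (isPBlock_eq_of_mem hB'.2.1 hB h hχ ▸ hB')
  rw [chiExt_centralizer_eq_blockPart hM hx χ b y]
  have hxC : x ∈ Subgroup.centralizer ({x} : Set G) :=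
    Subgroup.mem_centralizer_singleton_iff.2 rfl
  refine chiExt_inclSub_blockSum_eq_zero hM hB' (mul_mem hxC y.2)
    (isPPart_mul (Subgroup.mem_centralizer_singleton_iff.1 y.2).symm hx ?_) le_rfl hχ'
  rwa [Subgroup.orderOf_coe]

/-- Second and Third Main Theorems: values of principal-block characters at sections. -/
theorem apply_mul_eq_blockPart_principal {χ : IrrCharacter G} (hχ : χ ∈ principalBlock M G)
    {y : Subgroup.centralizer ({x} : Set G)} (hy : ¬ p ∣ orderOf y) :
    (χ : G → ℂ) (x * (y : G)) =
      blockPart (principalBlock M (Subgroup.centralizer ({x} : Set G)))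
        (fun c : Subgroup.centralizer ({x} : Set G) => (χ : G → ℂ) (x * (c : G))) y := by
  classical
  have := Fact.mk hM.1
  have hcl : IsClassFunction (Subgroup.centralizer ({x} : Set G))
      (fun c : Subgroup.centralizer ({x} : Set G) => (χ : G → ℂ) (x * (c : G))) := fun c h => by
    have h1 : (h : G) * x = x * (h : G) := Subgroup.mem_centralizer_singleton_iff.1 h.2
    have h2 : x * ((h * c * h⁻¹ : Subgroup.centralizer ({x} : Set G)) : G) =
        (h : G) * (x * (c : G)) * (h : G)⁻¹ := by
      push_cast
      calc x * ((h : G) * c * (h : G)⁻¹) = (x * (h : G)) * c * (h : G)⁻¹ := by group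
        _ = _ := by rw [← h1]; group
    simp only [h2]
    exact CfsgLib.Char.irr_isClassFunction χ.2 _ _
  rw [← sum_blockPart (M := M) hcl y]
  refine Finset.sum_eq_single _ (fun b hb hne => ?_)
    (fun h => absurd (mem_allBlocks.2 isPBlock_principalBlock) h)
  rw [mem_allBlocks] at hb
  refine blockPart_centralizer_eq_zero hM hx isPBlock_principalBlock hχ hb (fun hind => hne ?_) hy
  exact (Cfsg.Agent.S0936.result p M hM _ b ⟨_, hind⟩).1 hind

/-- The idempotent of the principal block of the centralizer picks the principal block. -/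
theorem chiExt_principal_centralizer [DecidablePred (· ∈ principalBlock M G)] (χ : IrrCharacter G)
    {y : Subgroup.centralizer ({x} : Set G)} (hy : ¬ p ∣ orderOf y) :
    chiExt (χ : G → ℂ)
        (inclSub _ (blockSum (principalBlock M (Subgroup.centralizer ({x} : Set G))))) (x * (y : G)) =
      if χ ∈ principalBlock M G then (χ : G → ℂ) (x * (y : G)) else 0 := by
  have := Fact.mk hM.1
  have := Fintype.ofFinite (Subgroup.centralizer ({x} : Set G))
  split
  · next hχ =>
    rw [apply_mul_eq_blockPart_principal hM hx hχ hy, chiExt_centralizer_eq_blockPart hM hx]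
  · next hχ =>
    have hdef : InducedBlockDefined M (Subgroup.centralizer ({x} : Set G))
        (principalBlock M (Subgroup.centralizer ({x} : Set G))) :=
      exists_isInducedBlock_centralizer hM hx isPBlock_principalBlock
    refine chiExt_inclSub_blockSum_eq_zero hM ((Cfsg.Agent.S0936.result p M hM _ _ hdef).2 rfl)
      (mul_mem (Subgroup.mem_centralizer_singleton_iff.2 rfl) y.2)
      (isPPart_mul (Subgroup.mem_centralizer_singleton_iff.1 y.2).symm hx ?_) le_rfl hχ
    rwa [Subgroup.orderOf_coe]

/-- The twisted diagonal sum only sees the centralizer. -/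
theorem sum_twist_centralizer [Fintype G] [Fintype (Subgroup.centralizer ({x} : Set G))]
    {b : Set (IrrCharacter (Subgroup.centralizer ({x} : Set G)))} (hb : IsPBlock M b)
    {y : Subgroup.centralizer ({x} : Set G)} (hy : ¬ p ∣ orderOf y) :
    ∑ a : G, (inclSub _ (blockSum b)).coeff (a * (x * (y : G)) * a⁻¹ * (x * (y : G))⁻¹) =
      ∑ a : Subgroup.centralizer ({x} : Set G),
        (blockSum b).coeff (a * (⟨x, Subgroup.mem_centralizer_singleton_iff.2 rfl⟩ * y) * a⁻¹ *
          (⟨x, Subgroup.mem_centralizer_singleton_iff.2 rfl⟩ * y)⁻¹) := by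
  classical
  set Y := inclSub (Subgroup.centralizer ({x} : Set G)) (blockSum b) with hY
  set g := x * (y : G) with hg
  have hgC : g ∈ (Subgroup.centralizer ({x} : Set G)) := mul_mem (Subgroup.mem_centralizer_singleton_iff.2 rfl) y.2
  let Ω := {a : G // a ∉ (Subgroup.centralizer ({x} : Set G))}
  let σ : Equiv.Perm Ω :=
    Equiv.Perm.subtypePerm ((Equiv.mulLeft g).trans (Equiv.mulRight g⁻¹)) fun a => by
      simp only [Equiv.trans_apply, Equiv.coe_mulLeft, Equiv.coe_mulRight]
      rw [Subgroup.mul_mem_cancel_right _ (inv_mem hgC), Subgroup.mul_mem_cancel_left _ hgC]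
  have hσ : ∀ a : Ω, ((σ a : Ω) : G) = g * a * g⁻¹ := fun a => rfl
  have hpow : ∀ (l : ℕ) (a : Ω), (((⇑σ)^[l] a : Ω) : G) = g ^ l * a * (g ^ l)⁻¹ := by
    intro l
    induction l with
    | zero => simp
    | succ l ih => intro a; rw [Function.iterate_succ_apply', hσ, ih, pow_succ' g]; group
  have hYout : ∀ c : G, c ∉ (Subgroup.centralizer ({x} : Set G)) → Y.coeff c = 0 := fun c hc => coeff_inclSub_of_not_mem (Subgroup.centralizer ({x} : Set G)) _ hc
  let X : Matrix Ω Ω ℂ := Matrix.of fun a c => Y.coeff ((a : G) * (c : G)⁻¹)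
  have hzero : ∑ a : Ω, X a (σ a) = 0 := by
    refine sum_apply_perm_eq_zero hM ?_ (fun a c => ?_) (fun a c => ?_) (fun a c ha _ => ?_)
    · ext a c
      simp only [X, Matrix.mul_apply, Matrix.of_apply]
      rw [← Finset.sum_subtype (Finset.univ.filter (· ∉ (Subgroup.centralizer ({x} : Set G)))) (by simp)
        (fun d : G => Y.coeff ((a : G) * d⁻¹) * Y.coeff (d * (c : G)⁻¹))]
      rw [Finset.sum_subset (Finset.subset_univ _) (fun d _ hd => by
        rw [hYout ((a : G) * d⁻¹) (fun h => a.2 (by
          simpa using (Subgroup.centralizer ({x} : Set G)).mul_mem h (show d ∈ (Subgroup.centralizer ({x} : Set G)) by simpa using hd))), zero_mul])]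
      conv_rhs => rw [show Y = Y * Y by rw [hY, ← map_mul, blockSum_mul, Set.inter_self],
        coeff_mul_eq]
      refine Fintype.sum_equiv ((Equiv.inv G).trans (Equiv.mulLeft (a : G))) _ _ fun d => ?_
      simp only [Equiv.trans_apply, Equiv.inv_apply, Equiv.coe_mulLeft]
      congr 2
      group
    · simp only [X, Matrix.of_apply]
      by_cases h : (a : G) * (c : G)⁻¹ ∈ (Subgroup.centralizer ({x} : Set G))
      · rw [← show ((⟨_, h⟩ : (Subgroup.centralizer ({x} : Set G))) : G) = (a : G) * (c : G)⁻¹ from rfl, coeff_inclSub_of_mem]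
        exact (isLocalCentral_blockSum hM hb).2 _
      · rw [hYout _ h]; exact (lring M).zero_mem
    · simp only [X, Matrix.of_apply, hσ]
      rw [← inclSub_conj_invariant (Subgroup.centralizer ({x} : Set G)) (blockSum_isClassCoeff b) hgC ((a : G) * (c : G)⁻¹)]
      congr 1
      group
    · exfalso
      set l := Function.minimalPeriod σ a
      have h1 := congrArg Subtype.val (Function.iterate_minimalPeriod (f := ⇑σ) (x := a))
      rw [hpow] at h1
      have hpart : IsPPart p g x :=
        isPPart_mul (Subgroup.mem_centralizer_singleton_iff.1 y.2).symm hx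
          (by rwa [Subgroup.orderOf_coe])
      have h2 : (a : G) * g ^ l * (a : G)⁻¹ = g ^ l := by
        have : g ^ l * (a : G) = a * g ^ l := mul_inv_eq_iff_eq_mul.1 h1
        rw [← this]; group
      have h3 := isPPart_conj (isPPart_pow hpart hM.1 l) (a : G)
      rw [h2] at h3
      have h4 := isPPart_unique hM.1 h3 (isPPart_pow hpart hM.1 l)
      apply a.2
      rw [Subgroup.mem_centralizer_singleton_iff]
      refine mul_inv_eq_iff_eq_mul.1 (eq_of_pow_eq_of_pelement hM.1 ?_ hx ha ?_)
      · obtain ⟨k, hk⟩ := hx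
        refine ⟨k, ?_⟩
        rw [← hk]
        exact orderOf_injective (MulAut.conj (a : G)).toMonoidHom
          (MulAut.conj (a : G)).injective x
      · rw [conj_pow, h4]
  have hterm : ∀ a : G, Y.coeff (a * g * a⁻¹ * g⁻¹) = Y.coeff (a * (g * a * g⁻¹)⁻¹) := fun a => by
    congr 1; group
  rw [← Fintype.sum_subtype_add_sum_subtype (· ∈ (Subgroup.centralizer ({x} : Set G)))]
  have h0 : ∑ a : {a : G // ¬ a ∈ (Subgroup.centralizer ({x} : Set G))}, Y.coeff ((a : G) * g * (a : G)⁻¹ * g⁻¹) = 0 := by
    rw [← hzero]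
    exact Finset.sum_congr rfl fun a _ => hterm a
  rw [h0, add_zero]
  refine Finset.sum_congr (by ext; simp) fun a _ => ?_
  rw [hY, ← coeff_inclSub_of_mem (Subgroup.centralizer ({x} : Set G)) (blockSum b)]
  rfl

end Centralizer

/-- Multiplying by a central element does not change absolute values of irreducible characters. -/
theorem norm_apply_central_mul (χ : IrrCharacter G) {z : G} (hz : ∀ w, z * w = w * z) (y : G) :
    ‖(χ : G → ℂ) (z * y)‖ = ‖(χ : G → ℂ) y‖ := by
  classical
  have := Fintype.ofFinite G
  have hcl : IsClassCoeff (MonoidAlgebra.single z (1 : ℂ)) := by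
    intro g h
    simp only [MonoidAlgebra.coeff_single, Finsupp.single_apply]
    refine if_congr ⟨fun e => ?_, fun e => ?_⟩ rfl rfl
    · calc z = h⁻¹ * z * h := by rw [mul_assoc, hz, inv_mul_cancel_left]
        _ = g := by rw [e]; group
    · rw [← e, mul_assoc, hz, mul_inv_cancel_left]
  set w := omegaC (χ : G → ℂ) (MonoidAlgebra.single z (1 : ℂ))
  have hstep : ∀ v : G, (χ : G → ℂ) (z * v) = w * (χ : G → ℂ) v := by
    intro v
    rw [← chiExt_one (χ : G → ℂ) v, ← chiExt_mul_central χ.2 1 hcl v, one_mul, chiExt_eq,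
      Finset.sum_eq_single z]
    · simp
    · intro k _ hk
      simp [Ne.symm hk]
    · simp
  have hpow : ∀ (m : ℕ) (v : G), (χ : G → ℂ) (z ^ m * v) = w ^ m * (χ : G → ℂ) v := by
    intro m
    induction m with
    | zero => simp
    | succ m ih => intro v; rw [pow_succ, mul_assoc, ih, hstep, pow_succ]; ring
  have hw : ‖w‖ = 1 := by
    refine CfsgLib.Char.norm_eigen_eq_one (orderOf_pos z) ?_
    have := hpow (orderOf z) 1
    rw [pow_orderOf_eq_one, one_mul] at this
    exact mul_right_cancel₀ (CfsgLib.Char.irr_apply_one_ne_zero χ.2)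
      (this.symm.trans (one_mul _).symm)
  rw [hstep, norm_mul, hw, one_mul]

end CfsgLib.Block
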