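import Cfsg.Agent.Lib.Block.Covering
import Cfsg.Agent.Lib.Block.FirstMain
import Cfsg.Agent.Lib.Block.SecondMain

/-!
Blocks of a group `G = P C(P)` with defect group `P`: they correspond to the irreducible
characters of `P`.
-/

set_option autoImplicit false
set_option linter.unusedSectionVars false

namespace CfsgLib.Block

open Cfsg MonoidAlgebra
open scoped ComplexConjugate

universe u

variable {G : Type u} [Group G] [Finite G]

/-- A central element acts on an irreducible character by a root of unity. -/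
theorem exists_isIntegral_apply_central_mul (χ : IrrCharacter G) {z : G}
    (hz : ∀ w, z * w = w * z) :
    ∃ w : ℂ, IsIntegral ℤ w ∧ ∀ v : G, (χ : G → ℂ) (z * v) = w * (χ : G → ℂ) v := by
  classical
  have := Fintype.ofFinite G
  have hcl : IsClassCoeff (MonoidAlgebra.single z (1 : ℂ)) := by
    intro g h
    simp only [MonoidAlgebra.coeff_single, Finsupp.single_apply]
    refine if_congr ⟨fun e => ?_, fun e => ?_⟩ rfl rfl
    · calc z = h⁻¹ * z * h := by rw [mul_assoc, hz, inv_mul_cancel_left]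
        _ = g := by rw [e]; group
    · rw [← e, mul_assoc, hz, mul_inv_cancel_left]
  set w := omegaC (χ : G → ℂ) (MonoidAlgebra.single z (1 : ℂ))
  have hstep : ∀ v : G, (χ : G → ℂ) (z * v) = w * (χ : G → ℂ) v := by
    intro v
    rw [← chiExt_one (χ : G → ℂ) v, ← chiExt_mul_central χ.2 1 hcl v, one_mul, chiExt_eq,
      Finset.sum_eq_single z]
    · simp
    · intro k _ hk
      simp [Ne.symm hk]
    · simp
  have hpow : ∀ (m : ℕ) (v : G), (χ : G → ℂ) (z ^ m * v) = w ^ m * (χ : G → ℂ) v := by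
    intro m
    induction m with
    | zero => simp
    | succ m ih => intro v; rw [pow_succ, mul_assoc, ih, hstep, pow_succ]; ring
  refine ⟨w, IsIntegral.of_pow (orderOf_pos z) ?_, hstep⟩
  have h := hpow (orderOf z) 1
  rw [pow_orderOf_eq_one, one_mul] at h
  have h1 : w ^ orderOf z = 1 :=
    mul_right_cancel₀ (CfsgLib.Char.irr_apply_one_ne_zero χ.2) (by rw [one_mul, ← h])
  rw [h1]
  exact isIntegral_one

variable {p : ℕ} {P : Subgroup G}

/-- In `G = P C(P)`, `P` is normal. -/
theorem normal_of_sup_centralizer (hG : P ⊔ Subgroup.centralizer (P : Set G) = ⊤) : P.Normal :=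
  Subgroup.normalizer_eq_top_iff.1
    (top_le_iff.1 (hG.ge.trans (sup_le Subgroup.le_normalizer
      (Subgroup.centralizer_le_normalizer (P : Set G)))))

/-- In `G = P C(P)`, every element is a product. -/
theorem exists_mul_of_sup_centralizer (hG : P ⊔ Subgroup.centralizer (P : Set G) = ⊤) (g : G) :
    ∃ u ∈ P, ∃ c ∈ Subgroup.centralizer (P : Set G), u * c = g := by
  have := normal_of_sup_centralizer hG
  exact Subgroup.mem_sup_of_normal_left.1 (hG ▸ Subgroup.mem_top g)

/-- In `G = P C(P)`, the `p`-regular elements centralize `P`. -/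
theorem mem_centralizer_of_regular (hp : p.Prime) (hP : IsPGroup p P)
    (hG : P ⊔ Subgroup.centralizer (P : Set G) = ⊤) {s : G} (hs : ¬ p ∣ orderOf s) :
    s ∈ Subgroup.centralizer (P : Set G) := by
  have := Fact.mk hp
  have hn : (Subgroup.centralizer (P : Set G)).Normal := by
    have := normal_of_sup_centralizer hG
    infer_instance
  let f : P →* G ⧸ Subgroup.centralizer (P : Set G) := (QuotientGroup.mk' _).comp P.subtype
  have hf : Function.Surjective f := by
    intro q
    obtain ⟨g, rfl⟩ := QuotientGroup.mk'_surjective _ q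
    obtain ⟨u, hu, c, hc, rfl⟩ := exists_mul_of_sup_centralizer hG g
    refine ⟨⟨u, hu⟩, (QuotientGroup.eq).2 ?_⟩
    simpa using hc
  obtain ⟨k, hk⟩ := IsPGroup.iff_card.1 (hP.of_surjective f hf)
  rw [← QuotientGroup.eq_one_iff, ← orderOf_eq_one_iff]
  have h1 : orderOf (s : G ⧸ Subgroup.centralizer (P : Set G)) ∣ p ^ k := by
    rw [← hk]; exact orderOf_dvd_natCard _
  have h2 : orderOf (s : G ⧸ Subgroup.centralizer (P : Set G)) ∣ orderOf s :=
    orderOf_map_dvd (QuotientGroup.mk' _) s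
  exact Nat.eq_one_of_dvd_coprimes
    (Nat.Coprime.pow_left k ((hp.coprime_iff_not_dvd).2 hs)) h1 h2

/-- In `G = P C(P)`, a character restricts to a multiple of one irreducible character of `P`,
and behaves multiplicatively between `P` and its centralizer. -/
theorem exists_pConstituent (hG : P ⊔ Subgroup.centralizer (P : Set G) = ⊤)
    (χ : IrrCharacter G) :
    ∃ φ : IrrCharacter P, (∃ m : ℕ, 0 < m ∧ (χ : G → ℂ) 1 = m * (φ : P → ℂ) 1) ∧
      ∀ s ∈ Subgroup.centralizer (P : Set G), IsIntegral ℤ ((χ : G → ℂ) s / (φ : P → ℂ) 1) ∧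
        ∀ u : P, (χ : G → ℂ) ((u : G) * s) * (φ : P → ℂ) 1 =
          (φ : P → ℂ) u * (χ : G → ℂ) s := by
  classical
  have hPn := normal_of_sup_centralizer hG
  have := Fintype.ofFinite G
  have := Fintype.ofFinite P
  have := Fintype.ofFinite (IrrCharacter P)
  obtain ⟨φ, hφ⟩ := exists_constituent_res (N := P) χ
  have honly : ∀ ψ : IrrCharacter P,
      classInner (fun n : P => (χ : G → ℂ) n) (ψ : P → ℂ) ≠ 0 → ψ = φ := by
    intro ψ hψ
    obtain ⟨g, rfl⟩ := exists_conjIrr_eq hφ hψ
    obtain ⟨u, hu, c, hc, rfl⟩ := exists_mul_of_sup_centralizer hG g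
    refine Subtype.ext (funext fun n => ?_)
    rw [conjIrr_apply]
    have h1 := CfsgLib.Char.irr_isClassFunction φ.2 n ⟨u, hu⟩
    rw [← h1]
    refine congrArg (φ : P → ℂ) (Subtype.ext ?_)
    have h2 : c * (n : G) = (n : G) * c := (Subgroup.mem_centralizer_iff.1 hc n n.2).symm
    simp only [Subgroup.coe_mul, Subgroup.coe_inv, mul_inv_rev, mul_assoc]
    rw [← mul_assoc c, h2]
    simp [mul_assoc]
  have hres : IsCharacter P (fun n : P => (χ : G → ℂ) n) :=
    CfsgLib.Char.isCharacter_restrict (CfsgLib.Char.irr_isCharacter χ.2) P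
  obtain ⟨m, hm⟩ := CfsgLib.Char.classInner_isCharacter_nat hres (CfsgLib.Char.irr_isCharacter φ.2)
  have hscal : ∀ f : P → ℂ, IsClassFunction P f →
      (∀ ψ : IrrCharacter P, ψ ≠ φ → classInner f (ψ : P → ℂ) = 0) →
      ∀ u, f u = classInner f (φ : P → ℂ) * (φ : P → ℂ) u := by
    intro f hf h0 u
    rw [CfsgLib.Char.classFunction_apply_eq_sum hf u, Finset.sum_eq_single φ]
    · intro ψ _ hne
      rw [h0 ψ hne, zero_mul]
    · simp
  have hχ1 : (χ : G → ℂ) 1 = m * (φ : P → ℂ) 1 := by
    have h := hscal _ (CfsgLib.Char.isCharacter_isClassFunction hres)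
      (fun ψ hψ => by by_contra h; exact hψ (honly ψ h)) 1
    rwa [hm] at h
  refine ⟨φ, ⟨m, Nat.pos_of_ne_zero fun h0 => hφ (by rw [hm, h0, Nat.cast_zero]), hχ1⟩,
    fun s hs => ?_⟩
  -- restriction to `K = P ⟨s⟩`, where `s` is central
  set K := P ⊔ Subgroup.zpowers s with hK
  have hKc : K ≤ Subgroup.centralizer ({s} : Set G) := sup_le
    (fun u hu => Subgroup.mem_centralizer_singleton_iff.2
      (Subgroup.mem_centralizer_iff.1 hs u hu))
    (Subgroup.zpowers_le.2 (Subgroup.mem_centralizer_singleton_iff.2 rfl))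
  have hsK : s ∈ K := le_sup_right (a := P) (Subgroup.mem_zpowers s)
  have hPK : P ≤ K := le_sup_left
  have hscent : ∀ w : K, (⟨s, hsK⟩ : K) * w = w * ⟨s, hsK⟩ := fun w =>
    Subtype.ext (Subgroup.mem_centralizer_singleton_iff.1 (hKc w.2)).symm
  have := Fintype.ofFinite K
  have := Fintype.ofFinite (IrrCharacter K)
  have hresK : IsCharacter K (fun n : K => (χ : G → ℂ) n) :=
    CfsgLib.Char.isCharacter_restrict (CfsgLib.Char.irr_isCharacter χ.2) K
  choose w hwint hw using fun η : IrrCharacter K =>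
    exists_isIntegral_apply_central_mul η hscent
  choose k hk using fun η : IrrCharacter K =>
    CfsgLib.Char.classInner_isCharacter_nat hresK (CfsgLib.Char.irr_isCharacter η.2)
  let r : IrrCharacter K → P → ℂ := fun η v => (η : K → ℂ) ⟨v, hPK v.2⟩
  have hr : ∀ η, IsCharacter P (r η) := fun η =>
    CfsgLib.Char.isCharacter_comp (CfsgLib.Char.irr_isCharacter η.2) (Subgroup.inclusion hPK)
  choose a ha using fun (η : IrrCharacter K) (ψ : IrrCharacter P) =>
    CfsgLib.Char.classInner_isCharacter_nat (hr η) (CfsgLib.Char.irr_isCharacter ψ.2)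
  have hexpK : ∀ x : K, (χ : G → ℂ) x = ∑ η : IrrCharacter K, (k η : ℂ) * (η : K → ℂ) x := by
    intro x
    refine (CfsgLib.Char.classFunction_apply_eq_sum
      (CfsgLib.Char.isCharacter_isClassFunction hresK) x).trans ?_
    exact Finset.sum_congr rfl fun η _ => by rw [hk]
  have h0 : ∀ v : P, (χ : G → ℂ) v = ∑ η, (k η : ℂ) * r η v := fun v => hexpK ⟨v, hPK v.2⟩
  let f : P → ℂ := fun v => (χ : G → ℂ) ((v : G) * s)
  have hfe : f = ∑ η, ((k η : ℂ) * w η) • r η := by
    funext v
    simp only [Finset.sum_apply, Pi.smul_apply, smul_eq_mul]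
    refine ((congrArg (χ : G → ℂ) (Subgroup.mem_centralizer_iff.1 hs v v.2)).trans
      (hexpK ((⟨s, hsK⟩ : K) * ⟨v, hPK v.2⟩))).trans ?_
    exact Finset.sum_congr rfl fun η _ => by rw [hw, mul_assoc]
  have hfi : ∀ ψ : IrrCharacter P,
      classInner f (ψ : P → ℂ) = ∑ η, (k η : ℂ) * w η * (a η ψ : ℂ) := by
    intro ψ
    rw [hfe, CfsgLib.Char.classInner_sum_left]
    exact Finset.sum_congr rfl fun η _ => by rw [CfsgLib.Char.classInner_smul_left, ha]
  have hzero : ∀ ψ : IrrCharacter P, ψ ≠ φ → ∀ η, k η * a η ψ = 0 := by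
    intro ψ hψ
    have h1 : classInner (fun n : P => (χ : G → ℂ) n) (ψ : P → ℂ) = 0 := by
      by_contra h; exact hψ (honly ψ h)
    have h2 : (fun n : P => (χ : G → ℂ) n) = ∑ η, (k η : ℂ) • r η := by
      funext v
      simp [h0]
    rw [h2, CfsgLib.Char.classInner_sum_left] at h1
    simp only [CfsgLib.Char.classInner_smul_left, ha] at h1
    rw [← Nat.cast_zero, ← Finset.sum_congr rfl (fun η _ => Nat.cast_mul (k η) (a η ψ)),
      ← Nat.cast_sum, Nat.cast_inj] at h1
    exact fun η => (Finset.sum_eq_zero_iff.1 h1) η (Finset.mem_univ η)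
  have hfcl : IsClassFunction P f := fun v h => by
    have h2 := CfsgLib.Char.irr_isClassFunction χ.2 ((v : G) * s) (h : G)
    change (χ : G → ℂ) (((h * v * h⁻¹ : P) : G) * s) = (χ : G → ℂ) ((v : G) * s)
    rw [← h2]
    refine congrArg (χ : G → ℂ) ?_
    have h3 : ((h : G))⁻¹ * s = s * (h : G)⁻¹ :=
      Subgroup.mem_centralizer_iff.1 hs _ (inv_mem h.2)
    push_cast
    rw [mul_assoc ((h : G) * v), h3]
    group
  have hc := hscal f hfcl fun ψ hψ => by
    rw [hfi]
    refine Finset.sum_eq_zero fun η _ => ?_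
    rw [mul_right_comm, ← Nat.cast_mul, hzero ψ hψ η]
    simp
  have hs1 : (χ : G → ℂ) s = classInner f (φ : P → ℂ) * (φ : P → ℂ) 1 := by
    rw [← hc 1]; simp [f]
  have hne := CfsgLib.Char.irr_apply_one_ne_zero φ.2
  refine ⟨?_, fun u => ?_⟩
  · rw [hs1, mul_div_cancel_right₀ _ hne, hfi]
    exact IsIntegral.sum _ fun η _ =>
      ((isIntegral_natCast _).mul (hwint η)).mul (isIntegral_natCast _)
  · rw [show (χ : G → ℂ) ((u : G) * s) = f u from rfl, hc u, hs1]
    ring

section Block

variable {M : Ideal AlgInt} [M.IsPrime]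

/-- The character of `P` under a character of `G = P C(P)`. -/
noncomputable def pConst (hG : P ⊔ Subgroup.centralizer (P : Set G) = ⊤) (χ : IrrCharacter G) :
    IrrCharacter P :=
  (exists_pConstituent hG χ).choose

/-- The ramification of a character of `G = P C(P)` over `P`. -/
noncomputable def pMult (hG : P ⊔ Subgroup.centralizer (P : Set G) = ⊤) (χ : IrrCharacter G) : ℕ :=
  (exists_pConstituent hG χ).choose_spec.1.choose

variable (hG : P ⊔ Subgroup.centralizer (P : Set G) = ⊤)

theorem pMult_pos (χ : IrrCharacter G) : 0 < pMult hG χ :=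
  (exists_pConstituent hG χ).choose_spec.1.choose_spec.1

theorem apply_one_eq_pMult (χ : IrrCharacter G) :
    (χ : G → ℂ) 1 = pMult hG χ * (pConst hG χ : P → ℂ) 1 :=
  (exists_pConstituent hG χ).choose_spec.1.choose_spec.2

theorem isIntegral_apply_div_pConst (χ : IrrCharacter G) {s : G}
    (hs : s ∈ Subgroup.centralizer (P : Set G)) :
    IsIntegral ℤ ((χ : G → ℂ) s / (pConst hG χ : P → ℂ) 1) :=
  ((exists_pConstituent hG χ).choose_spec.2 s hs).1

theorem apply_mul_pConst (χ : IrrCharacter G) (u : P) {s : G}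
    (hs : s ∈ Subgroup.centralizer (P : Set G)) :
    (χ : G → ℂ) ((u : G) * s) * (pConst hG χ : P → ℂ) 1 =
      (pConst hG χ : P → ℂ) u * (χ : G → ℂ) s :=
  ((exists_pConstituent hG χ).choose_spec.2 s hs).2 u

theorem apply_coe_eq_pMult (χ : IrrCharacter G) (u : P) :
    (χ : G → ℂ) u = pMult hG χ * (pConst hG χ : P → ℂ) u := by
  have h := apply_mul_pConst hG χ u (Subgroup.one_mem _)
  rw [mul_one, apply_one_eq_pMult hG χ] at h
  refine mul_right_cancel₀ (CfsgLib.Char.irr_apply_one_ne_zero (pConst hG χ).2) ?_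
  rw [h]
  ring

/-- The sum over the `p`-regular elements in the orthogonality relation. -/
noncomputable def regPair [Fintype G] (p : ℕ) (χ χ' : IrrCharacter G) : ℂ :=
  ∑ x : G, if p ∣ orderOf x then 0 else (χ : G → ℂ) x * conj ((χ' : G → ℂ) x)

variable {B : Set (IrrCharacter G)}

/-- Orthogonality in a block with defect group `P`. -/
theorem regPair_eq [Fintype G] (hM : IsPModular p M) (hB : IsPBlock M B)
    (hD : IsDefectGroup p M B P) {χ χ' : IrrCharacter G} (hχ : χ ∈ B) (_hχ' : χ' ∈ B)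
    (h : pConst hG χ' = pConst hG χ) [Decidable (χ = χ')] :
    (Nat.card P : ℂ) * regPair p χ χ' =
      if χ = χ' then (Nat.card G : ℂ) * ((pConst hG χ : P → ℂ) 1) ^ 2 else 0 := by
  classical
  have := Fact.mk hM.1
  have hPn := normal_of_sup_centralizer hG
  have hP : IsPGroup p P := isPGroup_defectGroup hM hB hD
  have := Fintype.ofFinite P
  set φ := pConst hG χ with hφ
  have hφ1 := CfsgLib.Char.irr_apply_one_ne_zero φ.2
  have hφc : conj ((φ : P → ℂ) 1) = (φ : P → ℂ) 1 := by
    obtain ⟨d, hd⟩ := CfsgLib.Char.char_apply_one_eq_nat (CfsgLib.Char.irr_isCharacter φ.2)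
    rw [hd, map_natCast]
  -- the elements with `p`-part in `P`
  have hbij : ∀ F : G → ℂ, (∀ g u : G, IsPPart p g u → u ∉ P → F g = 0) →
      ∑ g : G, F g = ∑ u : P, ∑ s : G, if p ∣ orderOf s then 0 else F ((u : G) * s) := by
    intro F hF
    rw [← Fintype.sum_prod_type' (f := fun (u : P) (s : G) =>
      if p ∣ orderOf s then (0 : ℂ) else F ((u : G) * s))]
    symm
    refine Finset.sum_bij_ne_zero (fun v _ _ => (v.1 : G) * v.2) (fun _ _ _ => Finset.mem_univ _)
      ?_ ?_ ?_
    · rintro ⟨u, s⟩ _ hv ⟨u', s'⟩ _ hv' e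
      have hs : ¬ p ∣ orderOf s := fun hd => hv (if_pos hd)
      have hs' : ¬ p ∣ orderOf s' := fun hd => hv' (if_pos hd)
      have hc : ∀ (v : P) (t : G), ¬ p ∣ orderOf t → Commute (v : G) t := fun v t ht =>
        Subgroup.mem_centralizer_iff.1 (mem_centralizer_of_regular hM.1 hP hG ht) v v.2
      have hu : (u : G) = u' := isPPart_unique hM.1
        (isPPart_mul (hc u s hs) (by
          obtain ⟨j, hj⟩ := IsPGroup.iff_orderOf.1 hP u
          exact ⟨j, by rw [Subgroup.orderOf_coe, hj]⟩) hs)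
        (show IsPPart p ((u : G) * s) (u' : G) from e ▸ isPPart_mul (hc u' s' hs') (by
          obtain ⟨j, hj⟩ := IsPGroup.iff_orderOf.1 hP u'
          exact ⟨j, by rw [Subgroup.orderOf_coe, hj]⟩) hs')
      simp only at e
      rw [hu] at e
      exact Prod.ext (Subtype.ext hu) (mul_left_cancel e)
    · intro g _ hg
      obtain ⟨u, hu⟩ := exists_isPPart hM.1 g
      have huP : u ∈ P := by_contra fun hn => hg (hF g u hu hn)
      obtain ⟨y, hy, -, -, hyr⟩ := hu
      refine ⟨(⟨u, huP⟩, y), Finset.mem_univ _, ?_, hy⟩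
      rw [if_neg hyr]
      change F (u * y) ≠ 0
      rwa [hy]
    · intro v _ hv
      rw [if_neg fun hd => hv (if_pos hd)]
  have hvan : ∀ g u : G, IsPPart p g u → u ∉ P →
      (χ : G → ℂ) g * conj ((χ' : G → ℂ) g) = 0 := by
    intro g u hu hn
    rw [irr_apply_eq_zero_of_not_mem_defect hM hB hu (fun E hE => ?_) hχ, zero_mul]
    obtain ⟨z, rfl⟩ := defectGroup_exists_conj hM hB hD hE
    intro hmem
    apply hn
    obtain ⟨v, hv, rfl⟩ := hmem
    exact hPn.conj_mem v hv z
  have horth : ∑ g : G, (χ : G → ℂ) g * conj ((χ' : G → ℂ) g) =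
      if χ = χ' then (Nat.card G : ℂ) else 0 := by
    have h1 := CfsgLib.Char.irr_classInner χ.2 χ'.2
    rw [CfsgLib.Char.classInner_def,
      inv_mul_eq_iff_eq_mul₀ CfsgLib.Char.natCard_ne_zero] at h1
    rw [h1]
    by_cases hcc : χ = χ'
    · simp [hcc]
    · rw [if_neg hcc, if_neg (fun e => hcc (Subtype.ext e)), mul_zero]
  have hφn : ∑ u : P, (φ : P → ℂ) u * conj ((φ : P → ℂ) u) = (Nat.card P : ℂ) := by
    have h1 := CfsgLib.Char.irr_classInner_self φ.2
    rwa [CfsgLib.Char.classInner_def,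
      inv_mul_eq_iff_eq_mul₀ CfsgLib.Char.natCard_ne_zero, mul_one] at h1
  have hterm : ∀ (u : P) (s : G),
      (if p ∣ orderOf s then 0 else
        (χ : G → ℂ) ((u : G) * s) * conj ((χ' : G → ℂ) ((u : G) * s))) * (φ : P → ℂ) 1 ^ 2 =
      (φ : P → ℂ) u * conj ((φ : P → ℂ) u) *
        (if p ∣ orderOf s then 0 else (χ : G → ℂ) s * conj ((χ' : G → ℂ) s)) := by
    intro u s
    by_cases hs : p ∣ orderOf s
    · simp [hs]
    rw [if_neg hs, if_neg hs]
    have hsC := mem_centralizer_of_regular hM.1 hP hG hs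
    have h1 := apply_mul_pConst hG χ u hsC
    have h2 := apply_mul_pConst hG χ' u hsC
    rw [h] at h2
    have h2' := congrArg (starRingEnd ℂ) h2
    rw [map_mul, map_mul, hφc] at h2'
    calc _ = ((χ : G → ℂ) ((u : G) * s) * (φ : P → ℂ) 1) *
          (conj ((χ' : G → ℂ) ((u : G) * s)) * (φ : P → ℂ) 1) := by ring
      _ = _ := by rw [h1, h2']; ring
  have h1 := hbij _ hvan
  rw [horth] at h1
  have h2 := congrArg (· * (φ : P → ℂ) 1 ^ 2) h1
  simp only [Finset.sum_mul, hterm, ← Finset.mul_sum] at h2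
  rw [← Finset.sum_mul, hφn] at h2
  rw [regPair, ← h2]
  split <;> simp

/-- The `p`-part of the ramification is at least that of the index. -/
theorem le_factorization_pMult (hM : IsPModular p M) (hB : IsPBlock M B)
    (hD : IsDefectGroup p M B P) {χ : IrrCharacter G} (hχ : χ ∈ B) :
    P.index.factorization p ≤ (pMult hG χ).factorization p := by
  have := Fact.mk hM.1
  obtain ⟨g, hg, S, hS⟩ := hD
  have hgC : g ∈ Subgroup.centralizer (P : Set G) := by
    rw [Subgroup.mem_centralizer_iff]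
    intro v hv
    rw [hS] at hv
    obtain ⟨w, -, rfl⟩ := hv
    exact Subgroup.mem_centralizer_singleton_iff.1 w.2
  have hPc : Nat.card P = p ^ (Nat.card (Subgroup.centralizer ({g} : Set G))).factorization p := by
    rw [hS]
    exact natCard_cenSub g S
  set i := (Subgroup.centralizer ({g} : Set G)).index with hidef
  have hi : i.factorization p = P.index.factorization p := by
    have h1 := factorization_index_add (p := p) g
    have h2 : P.index.factorization p + (Nat.card P).factorization p =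
        (Nat.card G).factorization p := by
      rw [← Subgroup.index_mul_card P, Nat.factorization_mul Subgroup.index_ne_zero_of_finite
        Nat.card_pos.ne', Finsupp.add_apply]
    rw [hPc, hM.1.factorization_pow, Finsupp.single_eq_same] at h2
    rw [← hidef] at h1
    omega
  have hm : pMult hG χ ≠ 0 := (pMult_pos hG χ).ne'
  by_contra hlt
  push Not at hlt
  apply hg.2.2 χ hχ
  have e : centralChar (χ : G → ℂ) g =
      ((i : ℂ) / (pMult hG χ : ℂ)) * ((χ : G → ℂ) g / (pConst hG χ : P → ℂ) 1) := by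
    have := CfsgLib.Char.irr_apply_one_ne_zero (pConst hG χ).2
    have : (pMult hG χ : ℂ) ≠ 0 := Nat.cast_ne_zero.2 hm
    rw [centralChar, apply_one_eq_pMult hG χ, ← hidef]
    field_simp
  rw [e]
  exact memLocalIdeal_mul_right (memLocalRing_of_isIntegral (isIntegral_apply_div_pConst hG χ hgC))
    (memLocalIdeal_natCast_div hM hm (Or.inr (by omega)))

/-- At most one member of the block lies over each character of `P`. -/
theorem pConst_injOn (hM : IsPModular p M) (hB : IsPBlock M B) (hD : IsDefectGroup p M B P) :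
    Set.InjOn (pConst hG) B := by
  classical
  have := Fact.mk hM.1
  have := Fintype.ofFinite G
  intro χ hχ χ' hχ' heq
  by_contra hne
  have hP : IsPGroup p P := isPGroup_defectGroup hM hB hD
  set φ := pConst hG χ with hφ
  set e := pMult hG χ with he
  set n := P.index with hn
  have hn0 : n ≠ 0 := Subgroup.index_ne_zero_of_finite
  have hφ1 := CfsgLib.Char.irr_apply_one_ne_zero φ.2
  have hφc : conj ((φ : P → ℂ) 1) = (φ : P → ℂ) 1 := by
    obtain ⟨d, hd⟩ := CfsgLib.Char.char_apply_one_eq_nat (CfsgLib.Char.irr_isCharacter φ.2)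
    rw [hd, map_natCast]
  set E : MonoidAlgebra ℂ G := mkGA fun x => if p ∣ orderOf x then 0 else
    ((e : ℂ) / (n : ℂ)) * conj ((χ : G → ℂ) x / (φ : P → ℂ) 1) with hE
  have hEloc : IsLocalCentral M E := by
    refine ⟨fun g h => ?_, fun x => ?_⟩
    · rw [hE, coeff_mkGA, coeff_mkGA, CfsgLib.Char.irr_isClassFunction χ.2 g h,
        show orderOf (h * g * h⁻¹) = orderOf g by
          simpa using orderOf_injective (MulAut.conj h).toMonoidHom (MulAut.conj h).injective g]
    · rw [hE, coeff_mkGA]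
      split
      · exact (lring M).zero_mem
      next hx =>
      refine memLocalRing_mul (memLocalRing_natCast_div hM hn0
        (Or.inr (le_factorization_pMult hG hM hB hD hχ))) (memLocalRing_of_isIntegral ?_)
      exact (isIntegral_apply_div_pConst hG χ (mem_centralizer_of_regular hM.1 hP hG hx)).map
        (starRingEnd ℂ).toIntAlgHom
  have hom : ∀ ψ : IrrCharacter G, omegaC (ψ : G → ℂ) E =
      (e : ℂ) / (n : ℂ) * regPair p ψ χ / ((φ : P → ℂ) 1 * (ψ : G → ℂ) 1) := by
    intro ψ
    rw [omegaC_eq, regPair, Finset.mul_sum, Finset.sum_div, Finset.sum_div]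
    refine Finset.sum_congr rfl fun x _ => ?_
    rw [hE, coeff_mkGA]
    split
    · simp
    · rw [map_div₀, hφc]
      have := CfsgLib.Char.irr_apply_one_ne_zero ψ.2
      field_simp
  have hPne : (Nat.card P : ℂ) ≠ 0 := by exact_mod_cast Nat.card_pos.ne'
  have hoff : omegaC (χ' : G → ℂ) E = 0 := by
    have h1 := regPair_eq hG hM hB hD hχ' hχ (h := heq)
    rw [if_neg (Ne.symm hne), mul_eq_zero] at h1
    rw [hom, h1.resolve_left hPne]
    simp
  have hon : omegaC (χ : G → ℂ) E = 1 := by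
    have h1 := regPair_eq hG hM hB hD hχ hχ (h := rfl)
    rw [if_pos rfl, ← hφ, ← Subgroup.index_mul_card P, ← hn] at h1
    have h2 : regPair p χ χ = (n : ℂ) * (φ : P → ℂ) 1 ^ 2 := by
      refine mul_left_cancel₀ hPne ?_
      rw [h1]
      push_cast
      ring
    rw [hom, h2, apply_one_eq_pMult hG χ, ← hφ, ← he]
    have : (e : ℂ) ≠ 0 := Nat.cast_ne_zero.2 (pMult_pos hG χ).ne'
    have : (n : ℂ) ≠ 0 := Nat.cast_ne_zero.2 hn0
    field_simp
  have h := omegaC_sub_memLocalIdeal hEloc (sameBlock_of_mem hB hχ hχ')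
  rw [hon, hoff, sub_zero] at h
  exact not_memLocalIdeal_one h

/-- The block maps onto the characters of `P`, with constant ramification. -/
theorem pConst_surjOn (hM : IsPModular p M) (hB : IsPBlock M B) (hD : IsDefectGroup p M B P) :
    (∀ φ : IrrCharacter P, ∃ χ ∈ B, pConst hG χ = φ) ∧
      ∀ χ ∈ B, ∀ χ' ∈ B, pMult hG χ = pMult hG χ' := by
  classical
  have := Fact.mk hM.1
  have := Fintype.ofFinite P
  have := Fintype.ofFinite (IrrCharacter P)
  have := Fintype.ofFinite (IrrCharacter G)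
  have hP : IsPGroup p P := isPGroup_defectGroup hM hB hD
  set W : IrrCharacter P → ℕ := fun ψ =>
    ∑ χ ∈ Finset.univ.filter (fun χ => χ ∈ B ∧ pConst hG χ = ψ), pMult hG χ ^ 2 with hW
  set F : P → ℂ := fun u => ∑ ψ : IrrCharacter P, (W ψ : ℂ) * (ψ : P → ℂ) 1 * conj ((ψ : P → ℂ) u)
    with hFdef
  have hF : ∀ u : P, F u =
      ∑ χ ∈ Finset.univ.filter (fun χ => χ ∈ B), (χ : G → ℂ) 1 * conj ((χ : G → ℂ) (u : G)) := by
    intro u
    simp only [hFdef, hW, Nat.cast_sum, Finset.sum_mul]
    rw [← Finset.sum_fiberwise (Finset.univ.filter (fun χ => χ ∈ B)) (pConst hG)]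
    refine Finset.sum_congr rfl fun ψ _ => ?_
    rw [Finset.filter_filter]
    refine Finset.sum_congr rfl fun χ hχ => ?_
    rw [Finset.mem_filter] at hχ
    rw [apply_one_eq_pMult hG χ, apply_coe_eq_pMult hG χ u, hχ.2.2, map_mul, map_natCast]
    push_cast
    ring
  have hF0 : ∀ u : P, u ≠ 1 → F u = 0 := by
    intro u hu
    have h1 : blockCoeff B (u : G) = 0 := by
      refine blockCoeff_eq_zero_of_singular hM hB ?_
      obtain ⟨j, hj⟩ := IsPGroup.iff_orderOf.1 hP u
      rw [Subgroup.orderOf_coe, hj]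
      refine dvd_pow_self p fun h => hu ?_
      rwa [h, pow_zero, orderOf_eq_one_iff] at hj
    unfold blockCoeff at h1
    rw [mul_eq_zero, inv_eq_zero] at h1
    rw [hF, ← h1.resolve_left (Nat.cast_ne_zero.2 (Nat.card_pos (α := G)).ne'), finsum_mem_eq_finite_toFinset_sum _
      (Set.toFinite B)]
    exact Finset.sum_congr (by ext χ; simp) fun _ _ => rfl
  have hWeq : ∀ ψ : IrrCharacter P, (W ψ : ℂ) * (Nat.card P : ℂ) = F 1 := by
    intro ψ
    have h1 : ∑ u : P, F u * (ψ : P → ℂ) u = F 1 * (ψ : P → ℂ) 1 := by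
      rw [Finset.sum_eq_single 1]
      · intro u _ hu; rw [hF0 u hu, zero_mul]
      · simp
    have h2 : ∑ u : P, F u * (ψ : P → ℂ) u = (W ψ : ℂ) * (ψ : P → ℂ) 1 * (Nat.card P : ℂ) := by
      simp only [hFdef, Finset.sum_mul]
      rw [Finset.sum_comm, Finset.sum_eq_single ψ]
      · simp only [mul_assoc, ← Finset.mul_sum]
        have h3 := CfsgLib.Char.irr_classInner_self ψ.2
        rw [CfsgLib.Char.classInner_def,
          inv_mul_eq_iff_eq_mul₀ CfsgLib.Char.natCard_ne_zero, mul_one] at h3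
        rw [← h3]
        congr 2
        exact Finset.sum_congr rfl fun u _ => mul_comm _ _
      · intro θ _ hθ
        simp only [mul_assoc, ← Finset.mul_sum]
        have h3 := CfsgLib.Char.irr_classInner_ne ψ.2 θ.2 (fun e => hθ (Subtype.ext e).symm)
        rw [CfsgLib.Char.classInner_def,
          inv_mul_eq_iff_eq_mul₀ CfsgLib.Char.natCard_ne_zero, mul_zero] at h3
        rw [show ∑ u : P, conj ((θ : P → ℂ) u) * (ψ : P → ℂ) u = 0 by
          rw [← h3]; exact Finset.sum_congr rfl fun u _ => mul_comm _ _]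
        simp
      · simp
    rw [h1] at h2
    refine mul_right_cancel₀ (CfsgLib.Char.irr_apply_one_ne_zero ψ.2) ?_
    rw [h2]
    ring
  have hPne : (Nat.card P : ℂ) ≠ 0 := by exact_mod_cast Nat.card_pos.ne'
  have hWc : ∀ ψ θ : IrrCharacter P, W ψ = W θ := fun ψ θ => by
    exact_mod_cast mul_right_cancel₀ hPne ((hWeq ψ).trans (hWeq θ).symm)
  have hWχ : ∀ χ ∈ B, W (pConst hG χ) = pMult hG χ ^ 2 := by
    intro χ hχ
    refine Finset.sum_eq_single χ (fun χ' hχ' hne => ?_) (fun h => absurd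
      (Finset.mem_filter.2 ⟨Finset.mem_univ _, hχ, rfl⟩) h)
    rw [Finset.mem_filter] at hχ'
    exact absurd (pConst_injOn hG hM hB hD hχ'.2.1 hχ hχ'.2.2) hne
  refine ⟨fun φ => ?_, fun χ hχ χ' hχ' => ?_⟩
  · obtain ⟨χ, hχ⟩ := isPBlock_nonempty hB
    have hpos : W φ ≠ 0 := by
      rw [hWc φ (pConst hG χ), hWχ χ hχ]
      exact pow_ne_zero _ (pMult_pos hG χ).ne'
    obtain ⟨χ', hχ', -⟩ := Finset.exists_ne_zero_of_sum_ne_zero hpos
    rw [Finset.mem_filter] at hχ'
    exact ⟨χ', hχ'.2.1, hχ'.2.2⟩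
  · refine Nat.pow_left_injective two_ne_zero ?_
    change pMult hG χ ^ 2 = pMult hG χ' ^ 2
    rw [← hWχ χ hχ, ← hWχ χ' hχ', hWc]

/-- The `p`-part of the ramification is exactly that of the index. -/
theorem factorization_pMult (hM : IsPModular p M) (hB : IsPBlock M B)
    (hD : IsDefectGroup p M B P) {χ : IrrCharacter G} (hχ : χ ∈ B) :
    (pMult hG χ).factorization p = P.index.factorization p := by
  have := Fact.mk hM.1
  refine le_antisymm ?_ (le_factorization_pMult hG hM hB hD hχ)
  obtain ⟨χ₀, hχ₀, h0⟩ := exists_height_zero hM hB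
  have h1 := (blockHeight_eq_zero_iff hM hB hχ₀).1 h0
  have h2 := sInf_degree_add_blockDefect hM hB
  have h3 : P.index.factorization p + blockDefect p B = (Nat.card G).factorization p := by
    conv_rhs => rw [← Subgroup.index_mul_card P, Nat.factorization_mul
      Subgroup.index_ne_zero_of_finite Nat.card_pos.ne', Finsupp.add_apply,
      natCard_defectGroup hM hB hD, hM.1.factorization_pow, Finsupp.single_eq_same]
  obtain ⟨d, hd⟩ := CfsgLib.Char.char_apply_one_eq_nat
    (CfsgLib.Char.irr_isCharacter (pConst hG χ₀).2)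
  have hdeg : charDegree (χ₀ : G → ℂ) = pMult hG χ * d := by
    have h := charDegree_cast (CfsgLib.Char.irr_isCharacter χ₀.2)
    rw [apply_one_eq_pMult hG χ₀, hd, (pConst_surjOn hG hM hB hD).2 χ₀ hχ₀ χ hχ] at h
    exact_mod_cast h
  have hd0 : d ≠ 0 := fun h =>
    CfsgLib.Char.irr_apply_one_ne_zero (pConst hG χ₀).2 (by rw [hd, h, Nat.cast_zero])
  rw [hdeg, Nat.factorization_mul (pMult_pos hG χ).ne' hd0, Finsupp.add_apply] at h1
  omega

end Block

end CfsgLib.Block
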