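import Cfsg.Agent.Lib.Block.StableTISimple

/-!
A central idempotent with trivial centre in a group algebra of order prime to the characteristic
spans a matrix algebra.
-/

set_option autoImplicit false
set_option linter.unusedSectionVars false

namespace CfsgLib.Block

open MonoidAlgebra

universe u v

variable {H : Type u} [Group H] [Finite H] {k : Type v} [Field k]

/-- Maschke for two-sided ideals: the projection commutes with both translations. -/
theorem exists_central_unit_of_ideal (hH : (Nat.card H : k) ≠ 0)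
    (I : Submodule k (MonoidAlgebra k H))
    (hl : ∀ (g : H), ∀ a ∈ I, of k H g * a ∈ I) (hr : ∀ (g : H), ∀ a ∈ I, a * of k H g ∈ I) :
    ∃ i ∈ I, (∀ a, i * a = a * i) ∧ ∀ a ∈ I, a * i = a := by
  classical
  have := Fintype.ofFinite H
  obtain ⟨J, hJ⟩ := Submodule.exists_isCompl I
  let P : MonoidAlgebra k H →ₗ[k] MonoidAlgebra k H := I.subtype ∘ₗ I.projectionOnto J hJ
  have hPmem : ∀ a, P a ∈ I := fun a => (I.projectionOnto J hJ a).2
  have hPid : ∀ a ∈ I, P a = a := fun a ha => by
    change ((I.projectionOnto J hJ a : I) : MonoidAlgebra k H) = a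
    exact congrArg Subtype.val (Submodule.projectionOnto_apply_left hJ ⟨a, ha⟩)
  let n : k := (Nat.card H : k)
  let π : MonoidAlgebra k H →ₗ[k] MonoidAlgebra k H := (n * n)⁻¹ • ∑ g : H, ∑ h : H,
    (LinearMap.mulLeft k (of k H g)) ∘ₗ (LinearMap.mulRight k (of k H h⁻¹)) ∘ₗ P ∘ₗ
      (LinearMap.mulLeft k (of k H g⁻¹)) ∘ₗ (LinearMap.mulRight k (of k H h))
  have hπ : ∀ a, π a = (n * n)⁻¹ • ∑ g : H, ∑ h : H,
      of k H g * (P (of k H g⁻¹ * (a * of k H h)) * of k H h⁻¹) := fun a => by
    simp [π, LinearMap.sum_apply]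
  have hmem : ∀ a, π a ∈ I := fun a => by
    rw [hπ]
    exact I.smul_mem _ (Submodule.sum_mem _ fun g _ => Submodule.sum_mem _ fun h _ =>
      hl _ _ (hr _ _ (hPmem _)))
  have hid : ∀ a ∈ I, π a = a := fun a ha => by
    have h1 : ∀ g h : H, of k H g * (P (of k H g⁻¹ * (a * of k H h)) * of k H h⁻¹) = a := by
      intro g h
      rw [hPid _ (hl _ _ (hr _ _ ha)), mul_assoc (of k H g⁻¹), mul_assoc a, ← map_mul (of k H) h,
        mul_inv_cancel, map_one, mul_one, ← mul_assoc, ← map_mul, mul_inv_cancel, map_one, one_mul]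
    rw [hπ, Finset.sum_congr rfl fun g _ => Finset.sum_congr rfl fun h _ => h1 g h]
    simp only [Finset.sum_const, Finset.card_univ, ← Nat.card_eq_fintype_card,
      ← Nat.cast_smul_eq_nsmul k, smul_smul]
    rw [inv_mul_cancel₀ (mul_ne_zero hH hH), one_smul]
  have hleft : ∀ (s : H) a, π (of k H s * a) = of k H s * π a := fun s a => by
    rw [hπ, hπ, mul_smul_comm, Finset.mul_sum]
    congr 1
    refine (Fintype.sum_equiv (Equiv.mulLeft s) _ _ fun g => ?_).symm
    rw [Finset.mul_sum]
    refine Finset.sum_congr rfl fun h _ => ?_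
    simp only [Equiv.coe_mulLeft, mul_inv_rev, map_mul, mul_assoc]
    rw [← mul_assoc (of k H s⁻¹) (of k H s), ← map_mul, inv_mul_cancel, map_one, one_mul]
  have hright : ∀ (s : H) a, π (a * of k H s) = π a * of k H s := fun s a => by
    rw [hπ, hπ, smul_mul_assoc, Finset.sum_mul]
    congr 1
    refine Finset.sum_congr rfl fun g _ => ?_
    rw [Finset.sum_mul]
    refine Fintype.sum_equiv (Equiv.mulLeft s) _ _ fun h => ?_
    simp only [Equiv.coe_mulLeft, mul_inv_rev, map_mul, mul_assoc]
    rw [← map_mul (of k H) s⁻¹ s, inv_mul_cancel, map_one, mul_one]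
  refine ⟨π 1, hmem 1, fun a => ?_, fun a ha => ?_⟩
  · induction a using MonoidAlgebra.induction_on with
    | of g => rw [← hright, ← hleft, one_mul, mul_one]
    | add a c ha hc => rw [mul_add, add_mul, ha, hc]
    | smul r a ha => rw [mul_smul_comm, smul_mul_assoc, ha]
  · conv_rhs => rw [← hid a ha]
    suffices ∀ c : MonoidAlgebra k H, c * π 1 = π c from this a
    intro c
    induction c using MonoidAlgebra.induction_on with
    | of g => rw [← hleft, mul_one]
    | add a c ha hc => rw [add_mul, map_add, ha, hc]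
    | smul r a ha => rw [smul_mul_assoc, map_smul, ha]

variable [IsAlgClosed k]

/-- Matrix units of a central idempotent with trivial centre. -/
theorem exists_matrixUnits (hH : (Nat.card H : k) ≠ 0) {e : MonoidAlgebra k H} (he0 : e ≠ 0)
    (hee : e * e = e) (hec : ∀ a, e * a = a * e)
    (hcen : ∀ z : MonoidAlgebra k H, (∀ a, z * a = a * z) → e * z = z → ∃ c : k, z = c • e) :
    ∃ (n : ℕ) (E : Fin (n + 1) → Fin (n + 1) → MonoidAlgebra k H),
      (∀ i j, e * E i j = E i j) ∧
      (∀ i j l m, E i j * E l m = if j = l then E i m else 0) ∧ (∑ i, E i i = e) ∧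
      (E 0 0 ≠ 0) ∧
      ∀ a, ∃ c : Fin (n + 1) → Fin (n + 1) → k, e * a = ∑ i, ∑ j, c i j • E i j := by
  classical
  have : IsArtinian (MonoidAlgebra k H) (MonoidAlgebra k H) := isArtinian_of_tower k inferInstance
  obtain ⟨V, ⟨hVe, hV0⟩, hmin⟩ := IsArtinian.set_has_minimal
    {V : Submodule (MonoidAlgebra k H) (MonoidAlgebra k H) |
      V ≤ Submodule.span (MonoidAlgebra k H) {e} ∧ V ≠ ⊥}
    ⟨_, le_rfl, fun h => he0 (Submodule.span_singleton_eq_bot.1 h)⟩
  have : IsSimpleModule (MonoidAlgebra k H) V :=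
    isSimpleModule_iff_isAtom.2 ⟨hV0, fun W hW => by
      by_contra hne
      exact hmin W ⟨hW.le.trans hVe, hne⟩ hW⟩
  have : Module.Finite k V := Module.Finite.of_injective (V.subtype.restrictScalars k)
    Subtype.val_injective
  have hact : ∀ v : V, e • v = v := fun v => by
    obtain ⟨a, ha⟩ := Submodule.mem_span_singleton.1 (hVe v.2)
    refine Subtype.ext ?_
    change e * (v : MonoidAlgebra k H) = v
    rw [← ha, smul_eq_mul, ← mul_assoc, hec, mul_assoc, hee]
  -- faithfulness
  let I : Submodule k (MonoidAlgebra k H) :=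
    { carrier := {a | e * a = a ∧ ∀ v : V, a • v = 0}
      add_mem' := fun {a c} ha hc => ⟨by rw [mul_add, ha.1, hc.1], fun v => by
        rw [add_smul, ha.2, hc.2, add_zero]⟩
      zero_mem' := ⟨mul_zero e, fun v => zero_smul _ v⟩
      smul_mem' := fun r a ha => ⟨by rw [mul_smul_comm, ha.1], fun v => by
        rw [smul_assoc, ha.2, smul_zero]⟩ }
  obtain ⟨i, hiI, hic, hiid⟩ := exists_central_unit_of_ideal hH I
    (fun g a ha => ⟨by rw [← mul_assoc, hec, mul_assoc, ha.1],
      fun v => by rw [mul_smul, ha.2, smul_zero]⟩)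
    (fun g a ha => ⟨by rw [← mul_assoc, ha.1], fun v => by rw [mul_smul, ha.2]⟩)
  have hI0 : ∀ a ∈ I, a = 0 := by
    intro a ha
    obtain ⟨c, rfl⟩ := hcen i hic hiI.1
    by_cases hc : c = 0
    · rw [← hiid a ha, hc, zero_smul, mul_zero]
    · exfalso
      obtain ⟨v, hv, hv0⟩ := (Submodule.ne_bot_iff V).1 hV0
      have h := hiI.2 ⟨v, hv⟩
      rw [smul_assoc, hact, smul_eq_zero] at h
      exact (h.resolve_left hc |> fun h' => hv0 (congrArg Subtype.val h'))
  have hext : ∀ a c, (∀ v : V, a • v = c • v) → e * a = e * c := fun a c h => by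
    rw [← sub_eq_zero, ← mul_sub]
    refine hI0 _ ⟨by rw [← mul_assoc, hee], fun v => ?_⟩
    rw [mul_smul, sub_smul, h, sub_self, smul_zero]
  obtain ⟨n, hn⟩ : ∃ n, Module.finrank k V = n + 1 := by
    have : Nontrivial V := IsSimpleModule.nontrivial (MonoidAlgebra k H) V
    exact ⟨Module.finrank k V - 1, by have := Module.finrank_pos (R := k) (M := V); omega⟩
  let β := (Module.finBasis k V).reindex (finCongr hn)
  choose r hr using fun p : Fin (n + 1) × Fin (n + 1) =>
    TIData.exists_smul_eq_end (G := H) ((β.coord p.2).smulRight (β p.1))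
  let E : Fin (n + 1) → Fin (n + 1) → MonoidAlgebra k H := fun i j => e * r (i, j)
  have hE : ∀ i j (v : V), E i j • v = β.coord j v • β i := fun i j v => by
    simp only [E, mul_smul, hr, hact, LinearMap.smulRight_apply]
  have heE : ∀ i j, e * E i j = E i j := fun i j => by simp only [E, ← mul_assoc, hee]
  refine ⟨n, E, heE, fun i j l m => ?_, ?_, fun h => ?_, fun a => ?_⟩
  · have h1 : e * (E i j * E l m) = E i j * E l m := by rw [← mul_assoc, heE]
    split_ifs with h
    · rw [← h1, ← heE i m]
      refine hext _ _ fun v => ?_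
      rw [mul_smul, hE, hE, hE, map_smul, h]
      simp
    · rw [← h1]
      refine (hext _ 0 fun v => ?_).trans (mul_zero e)
      rw [mul_smul, hE, hE, map_smul, zero_smul]
      simp [Ne.symm h]
  · rw [← hee, ← Finset.sum_congr rfl fun i _ => heE i i, ← Finset.mul_sum]
    refine hext _ _ fun v => ?_
    rw [hact, Finset.sum_smul]
    simp only [hE]
    exact β.sum_repr v
  · have h' := hE 0 0 (β 0)
    rw [h, zero_smul] at h'
    exact β.ne_zero 0 (by simpa using h'.symm)
  · refine ⟨fun i j => β.coord i (a • β j), ?_⟩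
    calc e * a = e * ∑ i, ∑ j, β.coord i (a • β j) • E i j := hext _ _ fun v => by
          simp only [Finset.sum_smul, smul_assoc, hE]
          conv_lhs => rw [← β.sum_repr v, Finset.smul_sum]
          rw [Finset.sum_comm]
          refine Finset.sum_congr rfl fun j _ => ?_
          rw [smul_comm]
          conv_lhs => rw [← β.sum_repr (a • β j), Finset.smul_sum]
          exact Finset.sum_congr rfl fun i _ => smul_comm _ _ _
      _ = _ := by simp only [Finset.mul_sum, mul_smul_comm, heE]

end CfsgLib.Block
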