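import Cfsg.Agent.Lib.Block.DefectOrder
import Cfsg.Agent.Lib.Char.Induce
import Cfsg.Agent.Lib.Char.Fixed

/-!
Characters and blocks over a normal subgroup: constituents, central characters at elements
supported on the normal subgroup, covering of blocks.
-/

set_option autoImplicit false
set_option linter.unusedSectionVars false

namespace CfsgLib.Block

open Cfsg MonoidAlgebra
open scoped ComplexConjugate

universe u

variable {G : Type u} [Group G] [Fintype G] {N : Subgroup G} [hN : N.Normal] [Fintype N]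

/-- Conjugation of an irreducible character of a normal subgroup. -/
noncomputable def conjIrr (N : Subgroup G) [hN : N.Normal] (θ : IrrCharacter N) (g : G) :
    IrrCharacter N :=
  ⟨fun n => (θ : N → ℂ) ⟨g * n * g⁻¹, hN.conj_mem n n.2 g⟩, by
    let _ := Fintype.ofFinite G
    exact CfsgLib.Char.isIrr_conj_normal N hN θ.2 g⟩

theorem conjIrr_apply (θ : IrrCharacter N) (g : G) (n : N) :
    (conjIrr N θ g : N → ℂ) n = (θ : N → ℂ) ⟨g * n * g⁻¹, hN.conj_mem n n.2 g⟩ := rfl

theorem conjIrr_one (θ : IrrCharacter N) : conjIrr N θ 1 = θ := by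
  refine Subtype.ext (funext fun n => ?_)
  rw [conjIrr_apply]
  simp

theorem conjIrr_conjIrr (θ : IrrCharacter N) (g h : G) :
    conjIrr N (conjIrr N θ g) h = conjIrr N θ (g * h) := by
  refine Subtype.ext (funext fun n => ?_)
  simp only [conjIrr_apply]
  exact congrArg (θ : N → ℂ) (Subtype.ext (by simp [mul_assoc]))

/-- Conjugation of a normal subgroup by a group element. -/
def conjEquiv (N : Subgroup G) [hN : N.Normal] (g : G) : N ≃* N where
  toFun n := ⟨g * n * g⁻¹, hN.conj_mem n n.2 g⟩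
  invFun n := ⟨g⁻¹ * n * g, by simpa using hN.conj_mem n n.2 g⁻¹⟩
  left_inv n := Subtype.ext (by simp [mul_assoc])
  right_inv n := Subtype.ext (by simp [mul_assoc])
  map_mul' a b := Subtype.ext (by simp [mul_assoc])

/-- Restrictions of characters are invariant under conjugation. -/
theorem classInner_res_conjIrr (χ : IrrCharacter G) (θ : IrrCharacter N) (g : G) :
    classInner (fun n : N => (χ : G → ℂ) n) (conjIrr N θ g : N → ℂ) =
      classInner (fun n : N => (χ : G → ℂ) n) (θ : N → ℂ) := by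
  rw [CfsgLib.Char.classInner_def, CfsgLib.Char.classInner_def]
  congr 1
  refine Fintype.sum_equiv (conjEquiv N g).toEquiv _ _ fun n => ?_
  change _ = (χ : G → ℂ) (g * n * g⁻¹) * conj ((θ : N → ℂ) _)
  rw [CfsgLib.Char.irr_isClassFunction χ.2 (n : G) g]
  rfl

theorem eq_inclSub_resSub {a : MonoidAlgebra ℂ G} (hs : ∀ x ∉ N, a.coeff x = 0) :
    a = inclSub N (resSub N a) := by
  ext x
  by_cases hx : x ∈ N
  · rw [← show ((⟨x, hx⟩ : N) : G) = x from rfl, coeff_inclSub_of_mem, coeff_resSub]
  · rw [hs x hx, coeff_inclSub_of_not_mem N _ hx]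

/-- The central character at an element supported on `N`, by constituents. -/
theorem omegaC_mul_degree_of_supported [Fintype (IrrCharacter N)] {a : MonoidAlgebra ℂ G}
    (hs : ∀ x ∉ N, a.coeff x = 0) (χ : IrrCharacter G) :
    omegaC (χ : G → ℂ) a * (χ : G → ℂ) 1 = ∑ θ : IrrCharacter N,
      classInner (fun n : N => (χ : G → ℂ) n) (θ : N → ℂ) *
        ((θ : N → ℂ) 1 * omegaC (θ : N → ℂ) (resSub N a)) := by
  classical
  have hcf : IsClassFunction N (fun n : N => (χ : G → ℂ) n) := fun n h => by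
    push_cast
    exact CfsgLib.Char.irr_isClassFunction χ.2 (n : G) (h : G)
  rw [omegaC_eq, div_mul_cancel₀ _ (CfsgLib.Char.irr_apply_one_ne_zero χ.2)]
  have h1 : ∑ x, a.coeff x * (χ : G → ℂ) x = ∑ n : N, a.coeff (n : G) * (χ : G → ℂ) n := by
    rw [← Finset.sum_subset (Finset.subset_univ (Finset.univ.filter (· ∈ N)))
      (fun x _ hx => by rw [hs x (by simpa using hx), zero_mul])]
    exact Finset.sum_subtype _ (by simp) _
  have h2 : ∀ θ : IrrCharacter N, (θ : N → ℂ) 1 * omegaC (θ : N → ℂ) (resSub N a) =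
      ∑ n : N, a.coeff (n : G) * (θ : N → ℂ) n := by
    intro θ
    rw [omegaC_eq, mul_div_cancel₀ _ (CfsgLib.Char.irr_apply_one_ne_zero θ.2)]
    simp
  rw [h1, Finset.sum_congr rfl (fun n _ => by
    rw [CfsgLib.Char.classFunction_apply_eq_sum hcf n, Finset.mul_sum])]
  rw [Finset.sum_comm]
  refine Finset.sum_congr rfl fun θ _ => ?_
  rw [h2, Finset.mul_sum]
  exact Finset.sum_congr rfl fun n _ => by ring

theorem exists_constituent_res (χ : IrrCharacter G) :
    ∃ θ : IrrCharacter N, classInner (fun n : N => (χ : G → ℂ) n) (θ : N → ℂ) ≠ 0 := by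
  by_contra h
  push Not at h
  have := Fintype.ofFinite (IrrCharacter N)
  have hcf : IsClassFunction N (fun n : N => (χ : G → ℂ) n) := fun n h => by
    push_cast
    exact CfsgLib.Char.irr_isClassFunction χ.2 (n : G) (h : G)
  have h1 := CfsgLib.Char.classFunction_apply_eq_sum hcf (1 : N)
  simp only [h, zero_mul, Finset.sum_const_zero, OneMemClass.coe_one] at h1
  exact CfsgLib.Char.irr_apply_one_ne_zero χ.2 h1

theorem exists_over_constituent (θ : IrrCharacter N) :
    ∃ χ : IrrCharacter G, classInner (fun n : N => (χ : G → ℂ) n) (θ : N → ℂ) ≠ 0 := by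
  by_contra h
  push Not at h
  have := Fintype.ofFinite (IrrCharacter G)
  have hcf := CfsgLib.Char.indFun_isClassFunction N (θ : N → ℂ)
  have h1 := CfsgLib.Char.classFunction_apply_eq_sum hcf (1 : G)
  have h0 : ∀ χ : IrrCharacter G, classInner (indFun N (θ : N → ℂ)) (χ : G → ℂ) = 0 := fun χ => by
    rw [CfsgLib.Char.frobenius_reciprocity N _ _ (CfsgLib.Char.irr_isClassFunction χ.2),
      ← CfsgLib.Char.classInner_conj_symm, h χ, map_zero]
  simp only [h0, zero_mul, Finset.sum_const_zero] at h1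
  rw [CfsgLib.Char.indFun_apply_one] at h1
  rcases mul_eq_zero.1 h1 with h2 | h2
  · exact Subgroup.index_ne_zero_of_finite (H := N) (by exact_mod_cast h2)
  · exact CfsgLib.Char.irr_apply_one_ne_zero θ.2 h2

/-- An idempotent supported on `N` takes one value on a character and all its constituents. -/
theorem omegaC_eq_of_constituent_idem {a : MonoidAlgebra ℂ G} (ha : IsClassCoeff a)
    (haa : a * a = a) (hs : ∀ x ∉ N, a.coeff x = 0) {χ : IrrCharacter G} {θ : IrrCharacter N}
    (hθ : classInner (fun n : N => (χ : G → ℂ) n) (θ : N → ℂ) ≠ 0) :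
    omegaC (θ : N → ℂ) (resSub N a) = omegaC (χ : G → ℂ) a := by
  classical
  have := Fintype.ofFinite (IrrCharacter N)
  have hra : IsClassCoeff (resSub N a) := resSub_isClassCoeff N ha
  have hrr : resSub N a * resSub N a = resSub N a := by
    conv_lhs => rw [← resSub_inclSub N (resSub N a * resSub N a), map_mul, ← eq_inclSub_resSub hs,
      haa]
  have h01 : ∀ ψ : IrrCharacter N, omegaC (ψ : N → ℂ) (resSub N a) = 0 ∨
      omegaC (ψ : N → ℂ) (resSub N a) = 1 := fun ψ => by
    have h := omegaC_mul ψ.2 hra (resSub N a)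
    rw [hrr] at h
    exact IsIdempotentElem.iff_eq_zero_or_one.1 (show _ * _ = _ from h.symm)
  have hG01 : omegaC (χ : G → ℂ) a = 0 ∨ omegaC (χ : G → ℂ) a = 1 := by
    have h := omegaC_mul χ.2 ha a
    rw [haa] at h
    exact IsIdempotentElem.iff_eq_zero_or_one.1 (show _ * _ = _ from h.symm)
  obtain ⟨d, hd⟩ := CfsgLib.Char.char_apply_one_eq_nat (CfsgLib.Char.irr_isCharacter χ.2)
  have hm : ∀ ψ : IrrCharacter N, ∃ k : ℕ,
      classInner (fun n : N => (χ : G → ℂ) n) (ψ : N → ℂ) * (ψ : N → ℂ) 1 = k := by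
    intro ψ
    obtain ⟨m, hm⟩ := CfsgLib.Char.classInner_isCharacter_nat
      (CfsgLib.Char.isCharacter_restrict (CfsgLib.Char.irr_isCharacter χ.2) N)
      (CfsgLib.Char.irr_isCharacter ψ.2)
    obtain ⟨e, he⟩ := CfsgLib.Char.char_apply_one_eq_nat (CfsgLib.Char.irr_isCharacter ψ.2)
    exact ⟨m * e, by rw [hm, he]; push_cast; ring⟩
  choose k hk using hm
  have hk0 : k θ ≠ 0 := by
    intro h
    have h' := hk θ
    rw [h, Nat.cast_zero, mul_eq_zero] at h'
    exact h'.elim hθ (CfsgLib.Char.irr_apply_one_ne_zero θ.2)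
  have htot : (d : ℂ) = ∑ ψ : IrrCharacter N, (k ψ : ℂ) := by
    have hcf : IsClassFunction N (fun n : N => (χ : G → ℂ) n) := fun n h => by
      push_cast
      exact CfsgLib.Char.irr_isClassFunction χ.2 (n : G) (h : G)
    have := CfsgLib.Char.classFunction_apply_eq_sum hcf (1 : N)
    simp only [OneMemClass.coe_one] at this
    rw [← hd, this]
    exact Finset.sum_congr rfl fun ψ _ => hk ψ
  have hsum : omegaC (χ : G → ℂ) a * d =
      ∑ ψ : IrrCharacter N, if omegaC (ψ : N → ℂ) (resSub N a) = 1 then (k ψ : ℂ) else 0 := by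
    rw [← hd, omegaC_mul_degree_of_supported hs χ]
    refine Finset.sum_congr rfl fun ψ _ => ?_
    rw [← mul_assoc, hk ψ]
    rcases h01 ψ with h | h <;> simp [h]
  rcases hG01 with h | h <;> rw [h] at hsum ⊢
  · rw [zero_mul] at hsum
    rcases h01 θ with h' | h'
    · exact h'
    · exfalso
      have h2 : ((∑ ψ : IrrCharacter N,
          if omegaC (ψ : N → ℂ) (resSub N a) = 1 then k ψ else 0 : ℕ) : ℂ) = 0 := by
        rw [hsum]; push_cast; rfl
      rw [Nat.cast_eq_zero, Finset.sum_eq_zero_iff] at h2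
      have h3 := h2 θ (Finset.mem_univ θ)
      rw [if_pos h'] at h3
      exact hk0 h3
  · rw [one_mul] at hsum
    rcases h01 θ with h' | h'
    · exfalso
      have h2 : ((∑ ψ : IrrCharacter N,
          if omegaC (ψ : N → ℂ) (resSub N a) = 1 then k ψ else 0 : ℕ) : ℂ) =
          ((∑ ψ : IrrCharacter N, k ψ : ℕ) : ℂ) := by
        push_cast
        rw [← htot, hsum]
      have hlt : ∑ ψ : IrrCharacter N,
          (if omegaC (ψ : N → ℂ) (resSub N a) = 1 then k ψ else 0) < ∑ ψ : IrrCharacter N, k ψ := by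
        refine Finset.sum_lt_sum (fun ψ _ => ?_) ⟨θ, Finset.mem_univ θ, ?_⟩
        · split <;> simp
        · rw [if_neg (by rw [h']; exact zero_ne_one)]
          omega
      exact hlt.ne (Nat.cast_injective h2)
    · exact h'

/-- The idempotent of an invariant set of characters of `N` is central in `G`. -/
theorem inclSub_blockSum_isClassCoeff {O : Set (IrrCharacter N)}
    (hO : ∀ θ ∈ O, ∀ g : G, conjIrr N θ g ∈ O) : IsClassCoeff (inclSub N (blockSum O)) := by
  intro x g
  by_cases hx : x ∈ N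
  · change (inclSub N (blockSum O)).coeff ((⟨g * x * g⁻¹, hN.conj_mem x hx g⟩ : N) : G) =
      (inclSub N (blockSum O)).coeff ((⟨x, hx⟩ : N) : G)
    rw [coeff_inclSub_of_mem, coeff_inclSub_of_mem]
    simp only [blockSum, coeff_mkGA, blockCoeff]
    congr 1
    refine finsum_mem_eq_of_bijOn (fun θ => conjIrr N θ g) ?_ ?_
    · refine Set.BijOn.mk (fun θ hθ => hO θ hθ g) ?_ ?_
      · intro a _ b _ hab
        have h := congrArg (fun t => conjIrr N t g⁻¹) hab
        simpa [conjIrr_conjIrr, conjIrr_one] using h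
      · intro θ hθ
        exact ⟨conjIrr N θ g⁻¹, hO θ hθ _, by simp [conjIrr_conjIrr, conjIrr_one]⟩
    · intro θ _
      simp only [conjIrr_apply]
      rw [show (⟨g * ((1 : N) : G) * g⁻¹, hN.conj_mem _ (1 : N).2 g⟩ : N) = 1 from
        Subtype.ext (by simp)]
  · rw [coeff_inclSub_of_not_mem N _ hx, coeff_inclSub_of_not_mem N]
    intro h
    apply hx
    simpa [mul_assoc] using hN.conj_mem _ h g⁻¹

theorem inclSub_blockSum_idem (O : Set (IrrCharacter N)) :
    inclSub N (blockSum O) * inclSub N (blockSum O) = inclSub N (blockSum O) := by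
  rw [← map_mul, blockSum_mul, Set.inter_self]

open scoped Classical in
theorem omegaC_inclSub_blockSum {O : Set (IrrCharacter N)}
    (hO : ∀ θ ∈ O, ∀ g : G, conjIrr N θ g ∈ O) {χ : IrrCharacter G} {θ : IrrCharacter N}
    (hθ : classInner (fun n : N => (χ : G → ℂ) n) (θ : N → ℂ) ≠ 0) :
    omegaC (χ : G → ℂ) (inclSub N (blockSum O)) = if θ ∈ O then 1 else 0 := by
  rw [← omegaC_eq_of_constituent_idem (inclSub_blockSum_isClassCoeff hO) (inclSub_blockSum_idem O)
    (fun x hx => coeff_inclSub_of_not_mem N _ hx) hθ, resSub_inclSub, omegaC_blockSum]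

theorem mem_iff_mem_of_constituent {O : Set (IrrCharacter N)}
    (hO : ∀ θ ∈ O, ∀ g : G, conjIrr N θ g ∈ O) {χ : IrrCharacter G} {θ θ' : IrrCharacter N}
    (hθ : classInner (fun n : N => (χ : G → ℂ) n) (θ : N → ℂ) ≠ 0)
    (hθ' : classInner (fun n : N => (χ : G → ℂ) n) (θ' : N → ℂ) ≠ 0) : θ ∈ O ↔ θ' ∈ O := by
  classical
  have h := (omegaC_inclSub_blockSum hO hθ).symm.trans (omegaC_inclSub_blockSum hO hθ')
  by_cases h1 : θ ∈ O <;> by_cases h2 : θ' ∈ O <;> simp_all

/-- Clifford: the constituents of an irreducible character are conjugate. -/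
theorem exists_conjIrr_eq {χ : IrrCharacter G} {θ θ' : IrrCharacter N}
    (hθ : classInner (fun n : N => (χ : G → ℂ) n) (θ : N → ℂ) ≠ 0)
    (hθ' : classInner (fun n : N => (χ : G → ℂ) n) (θ' : N → ℂ) ≠ 0) :
    ∃ g : G, θ' = conjIrr N θ g := by
  refine (mem_iff_mem_of_constituent (O := {ψ | ∃ g, ψ = conjIrr N θ g}) ?_ hθ hθ').1
    ⟨1, (conjIrr_one θ).symm⟩
  rintro _ ⟨g, rfl⟩ h
  exact ⟨g * h, conjIrr_conjIrr θ g h⟩

theorem omegaC_resSub_conjIrr {a : MonoidAlgebra ℂ G} (ha : IsClassCoeff a) (θ : IrrCharacter N)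
    (g : G) : omegaC (conjIrr N θ g : N → ℂ) (resSub N a) = omegaC (θ : N → ℂ) (resSub N a) := by
  rw [omegaC_eq, omegaC_eq]
  congr 1
  · refine Fintype.sum_equiv (conjEquiv N g).toEquiv _ _ fun n => ?_
    rw [conjIrr_apply, coeff_resSub, coeff_resSub]
    change _ = a.coeff (g * n * g⁻¹) * _
    rw [ha (n : G) g]
    rfl
  · rw [conjIrr_apply]
    exact congrArg (θ : N → ℂ) (Subtype.ext (by simp))

/-- The central character at an element supported on `N` is that of any constituent. -/
theorem omegaC_eq_of_constituent {a : MonoidAlgebra ℂ G} (ha : IsClassCoeff a)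
    (hs : ∀ x ∉ N, a.coeff x = 0) {χ : IrrCharacter G} {θ : IrrCharacter N}
    (hθ : classInner (fun n : N => (χ : G → ℂ) n) (θ : N → ℂ) ≠ 0) :
    omegaC (χ : G → ℂ) a = omegaC (θ : N → ℂ) (resSub N a) := by
  classical
  have := Fintype.ofFinite (IrrCharacter N)
  refine mul_right_cancel₀ (CfsgLib.Char.irr_apply_one_ne_zero χ.2) ?_
  have hcf : IsClassFunction N (fun n : N => (χ : G → ℂ) n) := fun n h => by
    push_cast
    exact CfsgLib.Char.irr_isClassFunction χ.2 (n : G) (h : G)
  have h1 := CfsgLib.Char.classFunction_apply_eq_sum hcf (1 : N)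
  simp only [OneMemClass.coe_one] at h1
  rw [omegaC_mul_degree_of_supported hs χ, h1, Finset.mul_sum]
  refine Finset.sum_congr rfl fun ψ _ => ?_
  by_cases hψ : classInner (fun n : N => (χ : G → ℂ) n) (ψ : N → ℂ) = 0
  · rw [hψ]; ring
  obtain ⟨g, rfl⟩ := exists_conjIrr_eq hθ hψ
  rw [omegaC_resSub_conjIrr ha θ g]
  ring

/-- The central character at an element of `N` is induced from that of any constituent. -/
theorem centralChar_eq_of_constituent {χ : IrrCharacter G} {θ : IrrCharacter N}
    (hθ : classInner (fun n : N => (χ : G → ℂ) n) (θ : N → ℂ) ≠ 0) (n : N) :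
    centralChar (χ : G → ℂ) (n : G) = inducedCentralChar N (θ : N → ℂ) (n : G) := by
  classical
  rw [inducedCentralChar_eq_omegaC, ← omegaC_classSum (CfsgLib.Char.irr_isClassFunction χ.2)]
  refine omegaC_eq_of_constituent (classSum_isClassCoeff _) (fun x hx => ?_) hθ
  rw [coeff_classSum, if_neg]
  intro h
  obtain ⟨c, rfl⟩ := isConj_iff.1 h
  exact hx (hN.conj_mem n n.2 c)

/-- A set with rationally integral coefficients of idempotent. -/
theorem memLocalRing_blockCoeff_of_coprime {p : ℕ} {M : Ideal AlgInt} [M.IsPrime]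
    {H : Type u} [Group H] [Finite H] (hM : IsPModular p M) (hH : ¬ p ∣ Nat.card H)
    (O : Set (IrrCharacter H)) (x : H) : MemLocalRing M (blockCoeff O x) := by
  have := Fintype.ofFinite (IrrCharacter H)
  classical
  rw [blockCoeff, finsum_mem_def, finsum_eq_sum_of_fintype]
  refine memLocalRing_mul (memLocalRing_inv_natCast hM hH) (memLocalRing_sum _ _ fun χ _ => ?_)
  rw [Set.indicator_apply]
  split
  · rw [irr_conj_eq χ.2]
    exact memLocalRing_mul (memLocalRing_irr_apply χ _) (memLocalRing_irr_apply χ _)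
  · exact (lring M).zero_mem

section Block

variable {p : ℕ} {M : Ideal AlgInt} [M.IsPrime]

theorem omegaC_sub_memLocalIdeal {χ ψ : IrrCharacter G} {a : MonoidAlgebra ℂ G}
    (ha : IsLocalCentral M a) (h : SameBlock M (χ : G → ℂ) (ψ : G → ℂ)) :
    MemLocalIdeal M (omegaC (χ : G → ℂ) a - omegaC (ψ : G → ℂ) a) := by
  classical
  have : Finite (ConjClasses G) := Finite.of_surjective ConjClasses.mk ConjClasses.mk_surjective
  have := Fintype.ofFinite (ConjClasses G)
  rw [omegaC_eq_sum_classes (CfsgLib.Char.irr_isClassFunction χ.2) ha.1,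
    omegaC_eq_sum_classes (CfsgLib.Char.irr_isClassFunction ψ.2) ha.1, ← Finset.sum_sub_distrib]
  refine memLocalIdeal_sum _ _ fun C _ => ?_
  rw [← mul_sub]
  exact memLocalIdeal_mul_left (ha.2 _) (h C.out)

theorem isLocalCentral_inclSub_blockSum {O : Set (IrrCharacter N)}
    (hO : ∀ θ ∈ O, ∀ g : G, conjIrr N θ g ∈ O) (hint : ∀ n, MemLocalRing M (blockCoeff O n)) :
    IsLocalCentral M (inclSub N (blockSum O)) := by
  refine ⟨inclSub_blockSum_isClassCoeff hO, fun x => ?_⟩
  by_cases hx : x ∈ N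
  · rw [← show ((⟨x, hx⟩ : N) : G) = x from rfl, coeff_inclSub_of_mem]
    simpa [blockSum] using hint _
  · rw [coeff_inclSub_of_not_mem N _ hx]
    exact (lring M).zero_mem

/-- Blocks respect invariant sets of characters of `N` with integral idempotent. -/
theorem mem_iff_mem_of_sameBlock {O : Set (IrrCharacter N)}
    (hO : ∀ θ ∈ O, ∀ g : G, conjIrr N θ g ∈ O) (hint : ∀ n, MemLocalRing M (blockCoeff O n))
    {χ ψ : IrrCharacter G} (h : SameBlock M (χ : G → ℂ) (ψ : G → ℂ)) {θ θ' : IrrCharacter N}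
    (hθ : classInner (fun n : N => (χ : G → ℂ) n) (θ : N → ℂ) ≠ 0)
    (hθ' : classInner (fun n : N => (ψ : G → ℂ) n) (θ' : N → ℂ) ≠ 0) : θ ∈ O ↔ θ' ∈ O := by
  classical
  have hd := omegaC_sub_memLocalIdeal (isLocalCentral_inclSub_blockSum hO hint) h
  rw [omegaC_inclSub_blockSum hO hθ, omegaC_inclSub_blockSum hO hθ'] at hd
  by_cases h1 : θ ∈ O <;> by_cases h2 : θ' ∈ O <;> simp only [h1, h2, if_true, if_false] at hd ⊢
  · rw [sub_zero] at hd
    exact absurd hd not_memLocalIdeal_one
  · rw [zero_sub] at hd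
    exact absurd (by simpa using memLocalIdeal_neg hd) (not_memLocalIdeal_one (M := M))

/-- Over a normal `p'`-subgroup, constituents are shared within blocks. -/
theorem constituent_of_sameBlock_of_coprime (hM : IsPModular p M) (hNp : ¬ p ∣ Nat.card N)
    {χ ψ : IrrCharacter G} (h : SameBlock M (χ : G → ℂ) (ψ : G → ℂ)) {θ : IrrCharacter N}
    (hθ : classInner (fun n : N => (χ : G → ℂ) n) (θ : N → ℂ) ≠ 0) :
    classInner (fun n : N => (ψ : G → ℂ) n) (θ : N → ℂ) ≠ 0 := by
  obtain ⟨θ', hθ'⟩ := exists_constituent_res (N := N) ψ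
  obtain ⟨g, hg⟩ := (mem_iff_mem_of_sameBlock (O := {φ | ∃ g, φ = conjIrr N θ g})
    (by rintro _ ⟨g, rfl⟩ k; exact ⟨g * k, conjIrr_conjIrr θ g k⟩)
    (fun n => memLocalRing_blockCoeff_of_coprime hM hNp _ n) h hθ hθ').1 ⟨1, (conjIrr_one θ).symm⟩
  rwa [hg, classInner_res_conjIrr] at hθ'

theorem sameBlock_conjIrr {θ θ' : IrrCharacter N} (h : SameBlock M (θ : N → ℂ) (θ' : N → ℂ))
    (g : G) : SameBlock M (conjIrr N θ g : N → ℂ) (conjIrr N θ' g : N → ℂ) := by
  intro n
  have hcc : ∀ φ : IrrCharacter N,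
      centralChar (conjIrr N φ g : N → ℂ) n = centralChar (φ : N → ℂ) (conjEquiv N g n) := by
    intro φ
    have hidx : (Subgroup.centralizer ({conjEquiv N g n} : Set N)).index =
        (Subgroup.centralizer ({n} : Set N)).index := by
      rw [← Subgroup.index_map_equiv (Subgroup.centralizer ({n} : Set N)) (conjEquiv N g)]
      congr 1
      ext y
      simp only [Subgroup.mem_map, MonoidHom.coe_coe, Subgroup.mem_centralizer_singleton_iff]
      constructor
      · intro hy
        refine ⟨(conjEquiv N g).symm y, (conjEquiv N g).injective ?_,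
          (conjEquiv N g).apply_symm_apply y⟩
        simpa using hy
      · rintro ⟨c, hc, rfl⟩
        simpa using congrArg (conjEquiv N g) hc
    have h1 : (conjIrr N φ g : N → ℂ) 1 = (φ : N → ℂ) 1 := by
      rw [conjIrr_apply]
      exact congrArg (φ : N → ℂ) (Subtype.ext (by simp))
    rw [centralChar, centralChar, hidx, h1, conjIrr_apply]
    rfl
  rw [hcc, hcc]
  exact h _

/-- A union of blocks has a locally integral idempotent. -/
theorem memLocalRing_blockCoeff_of_union {H : Type u} [Group H] [Finite H] (hM : IsPModular p M)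
    {A : Set (IrrCharacter H)}
    (hA : ∀ χ ∈ A, ∀ ψ : IrrCharacter H, SameBlock M (χ : H → ℂ) (ψ : H → ℂ) → ψ ∈ A) (x : H) :
    MemLocalRing M (blockCoeff A x) := by
  classical
  have h : blockSum A = ∑ B ∈ (allBlocks M H).filter (fun B => B ⊆ A), blockSum B := by
    refine eq_of_omegaC_eq (blockSum_isClassCoeff A) ?_ fun χ => ?_
    · intro y k
      simp only [coeff_sum, Finset.sum_apply']
      exact Finset.sum_congr rfl fun B _ => blockSum_isClassCoeff B y k
    rw [omegaC_blockSum, omegaC_sum]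
    by_cases hχ : χ ∈ A
    · rw [if_pos hχ, Finset.sum_eq_single (blockOf M (χ : H → ℂ))]
      · rw [omegaC_blockSum, if_pos (mem_blockOf_self χ)]
      · intro B hB hne
        rw [Finset.mem_filter, mem_allBlocks] at hB
        rw [omegaC_blockSum, if_neg]
        exact fun h => hne (isPBlock_eq_blockOf hB.1 h)
      · intro hn
        exact absurd (Finset.mem_filter.2 ⟨mem_allBlocks.2 (isPBlock_blockOf χ),
          fun ψ hψ => hA χ hχ ψ hψ⟩) hn
    · rw [if_neg hχ]
      refine (Finset.sum_eq_zero fun B hB => ?_).symm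
      rw [omegaC_blockSum, if_neg]
      exact fun h => hχ ((Finset.mem_filter.1 hB).2 h)
  have h1 := congrArg (fun a => a.coeff x) h
  simp only [blockSum, coeff_mkGA, coeff_sum, Finset.sum_apply'] at h1
  rw [h1]
  exact memLocalRing_sum _ _ fun B hB =>
    blockCoeff_memLocalRing hM (mem_allBlocks.1 (Finset.mem_filter.1 hB).1) x

/-- The conjugates of the members of a block form a union of blocks. -/
theorem exists_conjIrr_mem_of_sameBlock {b : Set (IrrCharacter N)} (hb : IsPBlock M b)
    {θ φ : IrrCharacter N} (hθ : ∃ g : G, conjIrr N θ g ∈ b)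
    (h : SameBlock M (θ : N → ℂ) (φ : N → ℂ)) : ∃ g : G, conjIrr N φ g ∈ b :=
  hθ.imp fun g hg => mem_of_sameBlock hb hg (sameBlock_conjIrr h g)

theorem covering_invariant (b : Set (IrrCharacter N)) :
    ∀ θ ∈ {θ : IrrCharacter N | ∃ g : G, conjIrr N θ g ∈ b}, ∀ k : G,
      conjIrr N θ k ∈ {θ : IrrCharacter N | ∃ g : G, conjIrr N θ g ∈ b} := by
  rintro θ ⟨g, hg⟩ k
  exact ⟨k⁻¹ * g, by rw [conjIrr_conjIrr, mul_inv_cancel_left]; exact hg⟩

/-- On elements supported on `N`, a block agrees with the blocks it covers. -/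
theorem lam_eq_lam_resZ {χ : IrrCharacter G} {θ : IrrCharacter N}
    (hθ : classInner (fun n : N => (χ : G → ℂ) n) (θ : N → ℂ) ≠ 0)
    (z : Subalgebra.center (kres M) (MonoidAlgebra (kres M) G))
    (hz : ∀ x ∉ N, (z : MonoidAlgebra (kres M) G).coeff x = 0) :
    lam M χ z = lam M θ (resZ N z) := by
  classical
  set a : MonoidAlgebra ℂ G :=
    mkGA fun x => if x ∈ N then sec M ((z : MonoidAlgebra (kres M) G).coeff x) else 0 with ha
  have hac : IsClassCoeff a := by
    intro x g
    simp only [ha, coeff_mkGA, isClassCoeff_center z x g]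
    exact if_congr ⟨fun h => by simpa [mul_assoc] using hN.conj_mem _ h g⁻¹,
      fun h => hN.conj_mem x h g⟩ rfl rfl
  have hal : IsLocalCentral M a := by
    refine ⟨hac, fun x => ?_⟩
    simp only [ha, coeff_mkGA]
    split
    · exact memLocalRing_sec _
    · exact (lring M).zero_mem
  have hred : redA M a = (z : MonoidAlgebra (kres M) G) := by
    ext x
    simp only [redA, ha, coeff_mkGA]
    by_cases hx : x ∈ N
    · rw [if_pos hx, redC_sec]
    · rw [if_neg hx, redC_zero, hz x hx]
  rw [lam_apply χ hal z hred, lam_apply θ (isLocalCentral_resSub N hal) (resZ N z)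
    (by rw [redA_resSub, hred, coe_resZ]), omegaC_eq_of_constituent hac (fun x hx => by
      simp [ha, hx]) hθ]

/-- With `p`-power index, block idempotents are supported on `N`. -/
theorem mem_of_regular_of_index (hM : IsPModular p M) {N : Subgroup G} [N.Normal]
    (hidx : ∃ k : ℕ, N.index = p ^ k) {x : G} (hx : ¬ p ∣ orderOf x) : x ∈ N := by
  obtain ⟨k, hk⟩ := hidx
  rw [← QuotientGroup.eq_one_iff, ← orderOf_eq_one_iff]
  have h1 : orderOf (x : G ⧸ N) ∣ p ^ k := by
    rw [← hk, Subgroup.index_eq_card]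
    exact orderOf_dvd_natCard _
  have h2 : orderOf (x : G ⧸ N) ∣ orderOf x := orderOf_map_dvd (QuotientGroup.mk' N) x
  exact Nat.eq_one_of_dvd_coprimes (Nat.Coprime.pow_left k (hM.1.coprime_iff_not_dvd.2 hx)) h1 h2

/-- With `p`-power index, covering characters with constituents in one block share a block. -/
theorem sameBlock_of_constituent_of_index (hM : IsPModular p M) (hidx : ∃ k : ℕ, N.index = p ^ k)
    {χ ψ : IrrCharacter G} {θ θ' : IrrCharacter N} (h : SameBlock M (θ : N → ℂ) (θ' : N → ℂ))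
    (hθ : classInner (fun n : N => (χ : G → ℂ) n) (θ : N → ℂ) ≠ 0)
    (hθ' : classInner (fun n : N => (ψ : G → ℂ) n) (θ' : N → ℂ) ≠ 0) :
    SameBlock M (χ : G → ℂ) (ψ : G → ℂ) := by
  classical
  set B := blockOf M (χ : G → ℂ)
  have hB : IsPBlock M B := isPBlock_blockOf χ
  have hl := isLocalCentral_blockSum hM hB
  have hs : ∀ x ∉ N, (blockSum B).coeff x = 0 := fun x hx => by
    simp only [blockSum, coeff_mkGA]
    exact blockCoeff_eq_zero_of_singular hM hB
      (by by_contra h'; exact hx (mem_of_regular_of_index hM hidx h'))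
  have hd := omegaC_sub_memLocalIdeal (isLocalCentral_resSub N hl) h
  rw [← omegaC_eq_of_constituent hl.1 hs hθ, ← omegaC_eq_of_constituent hl.1 hs hθ',
    omegaC_blockSum, omegaC_blockSum, if_pos (mem_blockOf_self χ)] at hd
  by_cases hψ : ψ ∈ B
  · exact hψ
  · rw [if_neg hψ, sub_zero] at hd
    exact absurd hd not_memLocalIdeal_one

end Block

end CfsgLib.Block
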