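import Cfsg.Agent.Lib.Block.Covering
import Cfsg.Agent.Lib.Char.Linear

/-!
Characters trivial on a normal subgroup and kernels of blocks.
-/

set_option autoImplicit false
set_option linter.unusedSectionVars false

namespace CfsgLib.Block

open Cfsg

universe u

variable {G : Type u} [Group G] [Finite G]

/-- The kernel of an irreducible character. -/
def kerIrr (χ : IrrCharacter G) : Subgroup G where
  carrier := {g | (χ : G → ℂ) g = (χ : G → ℂ) 1}
  one_mem' := rfl
  mul_mem' {a b} ha hb := by
    obtain ⟨n, ρ, hρ, h⟩ := χ.2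
    simp only [Set.mem_setOf_eq, ← h] at ha hb ⊢
    rw [← CfsgLib.Char.mem_ker_iff_char] at ha hb ⊢
    exact mul_mem ha hb
  inv_mem' {a} ha := by
    obtain ⟨n, ρ, hρ, h⟩ := χ.2
    simp only [Set.mem_setOf_eq, ← h] at ha ⊢
    rw [← CfsgLib.Char.mem_ker_iff_char] at ha ⊢
    exact inv_mem ha

theorem mem_kerIrr {χ : IrrCharacter G} {g : G} :
    g ∈ kerIrr χ ↔ (χ : G → ℂ) g = (χ : G → ℂ) 1 := Iff.rfl

instance kerIrr_normal (χ : IrrCharacter G) : (kerIrr χ).Normal :=
  ⟨fun n hn g => by
    rw [mem_kerIrr] at hn ⊢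
    rw [CfsgLib.Char.irr_isClassFunction χ.2 n g, hn]⟩

theorem irr_apply_mul_of_mem_kerIrr {χ : IrrCharacter G} {n : G} (hn : n ∈ kerIrr χ) (x : G) :
    (χ : G → ℂ) (n * x) = (χ : G → ℂ) x := by
  obtain ⟨m, ρ, hρ, h⟩ := χ.2
  rw [mem_kerIrr, ← h, ← CfsgLib.Char.mem_ker_iff_char, MonoidHom.mem_ker] at hn
  rw [← h]
  simp only [Representation.character, map_mul, hn, one_mul]

variable [Fintype G] {N : Subgroup G} [hN : N.Normal] [Fintype N]

theorem conjIrr_trivIrr (g : G) : conjIrr N (trivIrr (G := N)) g = trivIrr :=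
  Subtype.ext (funext fun _ => rfl)

/-- A character is trivial on `N` exactly when the trivial character is a constituent. -/
theorem le_kerIrr_iff_constituent (χ : IrrCharacter G) :
    N ≤ kerIrr χ ↔
      classInner (fun n : N => (χ : G → ℂ) n) ((trivIrr : IrrCharacter N) : N → ℂ) ≠ 0 := by
  classical
  have := Fintype.ofFinite (IrrCharacter N)
  constructor
  · intro h
    rw [show (fun n : N => (χ : G → ℂ) n) = (χ : G → ℂ) 1 • ((trivIrr : IrrCharacter N) : N → ℂ) from
      funext fun n => by simpa [trivIrr] using mem_kerIrr.1 (h n.2), CfsgLib.Char.classInner_smul_left,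
      CfsgLib.Char.irr_classInner_self trivIrr.2, mul_one]
    exact CfsgLib.Char.irr_apply_one_ne_zero χ.2
  · intro h n hn
    have hcf : IsClassFunction N (fun n : N => (χ : G → ℂ) n) := fun n h => by
      push_cast
      exact CfsgLib.Char.irr_isClassFunction χ.2 (n : G) (h : G)
    have h1 := CfsgLib.Char.classFunction_apply_eq_sum hcf (⟨n, hn⟩ : N)
    have h2 := CfsgLib.Char.classFunction_apply_eq_sum hcf (1 : N)
    simp only [OneMemClass.coe_one] at h1 h2
    rw [mem_kerIrr, h1, h2]
    refine Finset.sum_congr rfl fun θ _ => ?_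
    by_cases hθ : classInner (fun n : N => (χ : G → ℂ) n) (θ : N → ℂ) = 0
    · rw [hθ, zero_mul, zero_mul]
    · obtain ⟨g, hg⟩ := exists_conjIrr_eq h hθ
      rw [hg, conjIrr_trivIrr]
      rfl

/-- Kernels over normal `p'`-subgroups are shared within blocks. -/
theorem le_kerIrr_of_sameBlock {p : ℕ} {M : Ideal AlgInt} [M.IsPrime] (hM : IsPModular p M)
    (hNp : ¬ p ∣ Nat.card N) {χ ψ : IrrCharacter G} (h : SameBlock M (χ : G → ℂ) (ψ : G → ℂ))
    (hχ : N ≤ kerIrr χ) : N ≤ kerIrr ψ :=
  (le_kerIrr_iff_constituent ψ).2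
    (constituent_of_sameBlock_of_coprime hM hNp h ((le_kerIrr_iff_constituent χ).1 hχ))

omit [Fintype N] in
/-- The principal block is trivial on normal `p'`-subgroups. -/
theorem le_kerIrr_of_mem_principalBlock {p : ℕ} {M : Ideal AlgInt} [M.IsPrime]
    (hM : IsPModular p M) (hNp : ¬ p ∣ Nat.card N) {χ : IrrCharacter G}
    (hχ : χ ∈ principalBlock M G) : N ≤ kerIrr χ := by
  have := Fintype.ofFinite N
  exact le_kerIrr_of_sameBlock hM hNp
    (sameBlock_of_mem isPBlock_principalBlock (one_mem_principalBlock (G := G)) hχ) (fun _ _ => rfl)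

omit [Fintype N] in
/-- With a normal `p`-complement `N`, the characters trivial on `N` lie in the principal block. -/
theorem mem_principalBlock_of_le_kerIrr {p : ℕ} {M : Ideal AlgInt} [M.IsPrime]
    (hM : IsPModular p M) (hidx : ∃ k : ℕ, N.index = p ^ k) {χ : IrrCharacter G}
    (hχ : N ≤ kerIrr χ) : χ ∈ principalBlock M G := by
  have := Fintype.ofFinite N
  refine mem_of_sameBlock isPBlock_principalBlock (one_mem_principalBlock (G := G))
    (sameBlock_of_constituent_of_index hM hidx (sameBlock_refl _)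
      ((le_kerIrr_iff_constituent _).1 ?_) ((le_kerIrr_iff_constituent χ).1 hχ))
  exact fun _ _ => rfl

end CfsgLib.Block
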