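import Cfsg.Agent.Lib.BlockA.BlockNilp
import Cfsg.Agent.Lib.BlockB.HeightBound
import Mathlib.RingTheory.ZMod.UnitsCyclic
import Mathlib.NumberTheory.Basic

/-!
# Blocks with cyclic defect group: the inertial quotient and the pairs below the maximal one

`CycBlock G p M` packs a block `B` with a maximal Brauer pair `(D, eD)` and a generator `u` of `D`.
The elements of `D` are numbered by `ZMod (p ^ a)` through `el`; the stabiliser `T` of the pair acts
on the numbers through `act`, whose range `E` is cyclic of order `e ∣ p - 1` and acts freely on the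
nonzero numbers. The function `beta i` lists the coefficients of the block of `C(el i)` below
`(D, eD)`.
-/

set_option autoImplicit false
set_option linter.unusedSectionVars false

namespace CfsgLib.Block

open Cfsg CfsgLib.BlockA CfsgLib.BlockB.SubSum CfsgLib.BlockB.HeightBound

universe u

/-- A block with a maximal Brauer pair on a nontrivial cyclic group. -/
structure CycBlock (G : Type u) [Group G] [Fintype G] (p : ℕ) (M : Ideal AlgInt) [M.IsPrime] where
  hM : IsPModular p M
  B : Set (IrrCharacter G)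
  D : Subgroup G
  eD : Set (IrrCharacter (Subgroup.centralizer (D : Set G)))
  hmax : IsMaximalBrauerPair p M B D eD
  u : G
  hu : Subgroup.zpowers u = D
  a : ℕ
  ha : 1 ≤ a
  hord : orderOf u = p ^ a

namespace CycBlock

variable {G : Type u} [Group G] [Fintype G] {p : ℕ} [hp : Fact p.Prime] {M : Ideal AlgInt}
  [M.IsPrime] (S : CycBlock G p M)

local notation "cen" Q => Subgroup.centralizer ((Q : Subgroup G) : Set G)

/-- The element of `D` with a given number. -/
def el (i : ZMod (p ^ S.a)) : G := S.u ^ i.val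

theorem el_natCast (n : ℕ) : S.el (n : ZMod (p ^ S.a)) = S.u ^ n := by
  rw [el, ZMod.val_natCast, ← S.hord]
  exact pow_mod_orderOf S.u n

theorem el_zero : S.el 0 = 1 := by rw [el, ZMod.val_zero, pow_zero]

theorem el_one : S.el 1 = S.u := by
  have h := S.el_natCast 1
  rwa [Nat.cast_one, pow_one] at h

theorem el_add (i j : ZMod (p ^ S.a)) : S.el (i + j) = S.el i * S.el j := by
  rw [el, el, el, ← pow_add, ← el_natCast S (i.val + j.val), el, Nat.cast_add,
    ZMod.natCast_rightInverse i, ZMod.natCast_rightInverse j]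

theorem el_natCast_mul (n : ℕ) (i : ZMod (p ^ S.a)) : S.el (n * i) = S.el i ^ n := by
  induction n with
  | zero => rw [Nat.cast_zero, zero_mul, el_zero, pow_zero]
  | succ n ih => rw [Nat.cast_succ, add_mul, one_mul, el_add, ih, pow_succ]

theorem el_mul_eq (i j : ZMod (p ^ S.a)) : S.el (i * j) = S.el j ^ i.val := by
  rw [← el_natCast_mul, ZMod.natCast_rightInverse i]

theorem el_mem (i : ZMod (p ^ S.a)) : S.el i ∈ S.D := by
  rw [← S.hu]
  exact pow_mem (Subgroup.mem_zpowers S.u) _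

theorem el_surj {x : G} (hx : x ∈ S.D) : ∃ i : ZMod (p ^ S.a), S.el i = x := by
  rw [← S.hu, ← mem_powers_iff_mem_zpowers, Submonoid.mem_powers_iff] at hx
  obtain ⟨n, rfl⟩ := hx
  exact ⟨n, S.el_natCast n⟩

theorem el_injective : Function.Injective S.el := by
  intro i j h
  have h' : i.val = j.val := pow_injOn_Iio_orderOf
    (Set.mem_Iio.2 (S.hord.symm ▸ ZMod.val_lt i)) (Set.mem_Iio.2 (S.hord.symm ▸ ZMod.val_lt j)) h
  exact ZMod.val_injective _ h'

theorem el_eq_one_iff {i : ZMod (p ^ S.a)} : S.el i = 1 ↔ i = 0 :=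
  ⟨fun h => S.el_injective (h.trans S.el_zero.symm), fun h => h ▸ S.el_zero⟩

theorem natCard_D : Nat.card S.D = p ^ S.a := by
  rw [← S.hu, Nat.card_zpowers, S.hord]

theorem commute_mem {x y : G} (hx : x ∈ S.D) (hy : y ∈ S.D) : x * y = y * x := by
  obtain ⟨i, rfl⟩ := S.el_surj hx
  obtain ⟨j, rfl⟩ := S.el_surj hy
  rw [← el_add, ← el_add, add_comm]

theorem commute_el {x : G} (hx : x ∈ S.D) (i : ZMod (p ^ S.a)) : Commute x (S.el i) :=
  S.commute_mem hx (S.el_mem i)

theorem D_le_cen : S.D ≤ cen S.D := fun _ hx =>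
  Subgroup.mem_centralizer_iff.2 fun _ hy => S.commute_mem hy hx

theorem mem_cen_iff {g : G} : (g ∈ cen S.D) ↔ g * S.u * g⁻¹ = S.u := by
  rw [mul_inv_eq_iff_eq_mul, Subgroup.mem_centralizer_iff]
  refine ⟨fun h => (h S.u ((Subgroup.zpowers_le.1 (le_of_eq S.hu)))).symm, fun h x hx => ?_⟩
  have hx' : x ∈ Subgroup.zpowers S.u := S.hu.symm ▸ hx
  obtain ⟨k, rfl⟩ := Subgroup.mem_zpowers_iff.1 hx'
  exact (Commute.zpow_right (show Commute g S.u from h) k).eq.symm

theorem isBrauerPair_eD : IsBrauerPair p M S.D S.eD := S.hmax.1.1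

theorem isPBlock_B : IsPBlock M S.B := S.hmax.1.2.1

/-! ### The stabiliser of the pair -/

/-- The stabiliser of the maximal pair. -/
abbrev T : Subgroup G := pairStab M S.D S.eD

theorem cen_le_T : (cen S.D) ≤ S.T := centralizer_le_pairStab S.D S.eD

theorem exists_expo {t : G} (ht : t ∈ S.T) :
    ∃ k : ZMod (p ^ S.a), t * S.u * t⁻¹ = S.el k := by
  obtain ⟨k, hk⟩ := S.el_surj (x := t * S.u * t⁻¹)
    ((Subgroup.mem_normalizer_iff.1 ht.1 S.u).1 (Subgroup.zpowers_le.1 (le_of_eq S.hu)))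
  exact ⟨k, hk.symm⟩

/-- The exponent by which an element of the stabiliser acts on `D`. -/
noncomputable def expo (t : S.T) : ZMod (p ^ S.a) := (S.exists_expo t.2).choose

theorem expo_spec (t : S.T) (i : ZMod (p ^ S.a)) :
    (t : G) * S.el i * (t : G)⁻¹ = S.el (S.expo t * i) := by
  rw [el, ← conj_pow, (S.exists_expo t.2).choose_spec, ← el_natCast_mul,
    ZMod.natCast_rightInverse i, mul_comm]
  rfl

theorem expo_one : S.expo 1 = 1 := by
  apply S.el_injective
  rw [← mul_one (S.expo 1), ← expo_spec]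
  simp

theorem expo_mul (s t : S.T) : S.expo (s * t) = S.expo s * S.expo t := by
  apply S.el_injective
  have h1 := S.expo_spec (s * t) 1
  have h2 := S.expo_spec s (S.expo t * 1)
  rw [mul_one] at h1
  rw [mul_one] at h2
  rw [← h1, ← h2]
  have h3 := S.expo_spec t 1
  rw [mul_one] at h3
  rw [← h3, Subgroup.coe_mul, mul_inv_rev]
  group

/-- The action of the stabiliser on the numbers of the elements of `D`. -/
noncomputable def act : S.T →* (ZMod (p ^ S.a))ˣ :=
  MonoidHom.toHomUnits { toFun := S.expo, map_one' := S.expo_one, map_mul' := S.expo_mul }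

theorem act_spec (t : S.T) (i : ZMod (p ^ S.a)) :
    (t : G) * S.el i * (t : G)⁻¹ = S.el ((S.act t : ZMod (p ^ S.a)) * i) :=
  S.expo_spec t i

theorem act_ker : S.act.ker = (cen S.D).subgroupOf S.T := by
  ext t
  rw [MonoidHom.mem_ker, Subgroup.mem_subgroupOf, mem_cen_iff, ← S.el_one, act_spec, mul_one,
    S.el_injective.eq_iff, ← Units.val_eq_one]

/-- The inertial quotient, as a group of units. -/
noncomputable def E : Subgroup (ZMod (p ^ S.a))ˣ := S.act.range

/-- The inertial index. -/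
noncomputable def e : ℕ := (cen S.D).relIndex S.T

theorem natCard_E : Nat.card S.E = S.e := by
  rw [E, ← Subgroup.index_ker, act_ker]
  rfl

theorem e_pos : 0 < S.e := by
  rw [← natCard_E]
  exact Nat.card_pos

theorem not_dvd_e : ¬ p ∣ S.e := by
  have he := S.isBrauerPair_eD
  have hQT : S.D ≤ S.T := le_pairStab S.D S.eD
  obtain ⟨F, hF⟩ := exists_isBlockOver S.hM he hQT S.cen_le_T le_rfl
  obtain ⟨D', hD'⟩ := exists_isDefectGroup S.hM hF.1
  have h := not_dvd_index_over S.hM hF he hQT S.cen_le_T le_rfl hD'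
  obtain ⟨R, hR⟩ : ∃ R : Subgroup G, R = D'.map (Subgroup.subtype S.T) := ⟨_, rfl⟩
  have hRT : R ≤ S.T := hR ▸ Subgroup.map_subtype_le D'
  have hRD : R.subgroupOf S.T ≤ D' := by
    rintro ⟨x, hx⟩ hxR
    rw [Subgroup.mem_subgroupOf, hR] at hxR
    obtain ⟨y, hy, hyx⟩ := hxR
    rwa [show (⟨x, hx⟩ : S.T) = y from Subtype.ext hyx.symm]
  obtain ⟨g, hg⟩ := exists_pair_of_le_defect S.hM hF he le_rfl hRT hD' hRD
  have hle : SubpairLE p M S.D S.eD (S.D ⊔ R) g := Relation.ReflTransGen.single hg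
  have hpair := (isBrauerPairOf_iff_of_le S.hM hg.2.1 hle S.isPBlock_B).2 S.hmax.1
  have hDR : S.D ⊔ R = S.D := S.hmax.2 _ g hpair hle
  have hD'C : D' ≤ (cen S.D).subgroupOf S.T := fun x hx => by
    rw [Subgroup.mem_subgroupOf]
    refine S.D_le_cen (hDR.le (Subgroup.mem_sup_right ?_))
    rw [hR]
    exact ⟨x, hx, rfl⟩
  rwa [sup_eq_left.2 hD'C] at h

/-- An element of the inertial quotient which is `1` up to a non-unit is `1`. -/
theorem eq_one_of_not_isUnit {w : (ZMod (p ^ S.a))ˣ} (hw : w ∈ S.E)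
    (h : ¬ IsUnit ((w : ZMod (p ^ S.a)) - 1)) : w = 1 := by
  have hdvd : (p : ZMod (p ^ S.a)) ∣ (w : ZMod (p ^ S.a)) - 1 := by
    set x := (w : ZMod (p ^ S.a)) - 1
    have h1 : ¬ x.val.Coprime (p ^ S.a) := fun hc => h (by
      rw [← ZMod.natCast_rightInverse x]
      exact (ZMod.isUnit_iff_coprime x.val (p ^ S.a)).2 hc)
    have h2 : p ∣ x.val := by
      by_contra hc
      exact h1 (Nat.Coprime.pow_right _ ((hp.out.coprime_iff_not_dvd.2 hc).symm))
    rw [← ZMod.natCast_rightInverse x]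
    exact Nat.cast_dvd_cast h2
  have h3 := dvd_sub_pow_of_dvd_sub hdvd (S.a - 1)
  rw [Nat.sub_add_cancel S.ha, one_pow] at h3
  have h4 : ((p : ZMod (p ^ S.a)) ^ S.a) = 0 := by rw [← Nat.cast_pow, ZMod.natCast_self]
  rw [h4, zero_dvd_iff, sub_eq_zero] at h3
  have h5 : orderOf w ∣ p ^ (S.a - 1) := orderOf_dvd_of_pow_eq_one (Units.ext (by simpa using h3))
  have h6 : orderOf w ∣ S.e := S.natCard_E ▸ Subgroup.orderOf_dvd_natCard S.E hw
  have h7 : (p ^ (S.a - 1)).Coprime S.e :=
    ((hp.out.coprime_iff_not_dvd).2 S.not_dvd_e).pow_left _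
  exact orderOf_eq_one_iff.1 (Nat.eq_one_of_dvd_coprimes h7 h5 h6)

/-- **The inertial quotient acts freely.** -/
theorem free {w : (ZMod (p ^ S.a))ˣ} (hw : w ∈ S.E) {i : ZMod (p ^ S.a)}
    (hi : (w : ZMod (p ^ S.a)) * i = i) (hi0 : i ≠ 0) : w = 1 := by
  refine S.eq_one_of_not_isUnit hw fun h => hi0 ?_
  refine (h.mul_right_eq_zero).1 ?_
  rw [sub_mul, one_mul, hi, sub_self]

/-- Reduction of the inertial quotient modulo `p`. -/
noncomputable def modp : S.E →* (ZMod p)ˣ :=
  (ZMod.unitsMap (dvd_pow_self p (Nat.one_le_iff_ne_zero.1 S.ha))).comp S.E.subtype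

theorem modp_injective : Function.Injective S.modp := by
  rw [injective_iff_map_eq_one]
  intro w hw
  apply Subtype.ext
  refine S.eq_one_of_not_isUnit w.2 fun h => ?_
  have h1 := h.map (ZMod.castHom (dvd_pow_self p (Nat.one_le_iff_ne_zero.1 S.ha)) (ZMod p))
  have h2 : ZMod.castHom (dvd_pow_self p (Nat.one_le_iff_ne_zero.1 S.ha)) (ZMod p)
      ((w : (ZMod (p ^ S.a))ˣ) : ZMod (p ^ S.a)) = 1 := congrArg Units.val hw
  rw [map_sub, h2, map_one, sub_self] at h1
  exact not_isUnit_zero h1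

instance isCyclic_E : IsCyclic S.E :=
  have := ZMod.isCyclic_units_prime hp.out
  isCyclic_of_injective S.modp S.modp_injective

theorem e_dvd : S.e ∣ p - 1 := by
  have h := Subgroup.card_dvd_of_injective S.modp S.modp_injective
  rwa [natCard_E, Nat.card_eq_fintype_card, ZMod.card_units] at h

theorem isCyclic_quotient [((cen S.D).subgroupOf S.T).Normal] :
    IsCyclic (S.T ⧸ (cen S.D).subgroupOf S.T) :=
  isCyclic_of_injective (G' := S.E) (QuotientGroup.lift ((cen S.D).subgroupOf S.T)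
      S.act.rangeRestrict (le_of_eq ((MonoidHom.ker_rangeRestrict S.act).trans S.act_ker).symm))
    (by
      rw [injective_iff_map_eq_one]
      intro q
      induction q using QuotientGroup.induction_on with
      | H t =>
        intro h
        change S.act.rangeRestrict t = 1 at h
        rw [QuotientGroup.eq_one_iff, ← act_ker, MonoidHom.mem_ker]
        exact congrArg Subtype.val h)

theorem mem_cen_of_fix {t : G} (ht : t ∈ S.T) {x : G} (hx : x ∈ S.D) (hx1 : x ≠ 1)
    (hfix : t * x * t⁻¹ = x) : t ∈ cen S.D := by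
  obtain ⟨i, rfl⟩ := S.el_surj hx
  have h := S.act_spec ⟨t, ht⟩ i
  rw [hfix] at h
  have h1 := S.free (w := S.act ⟨t, ht⟩) ⟨_, rfl⟩ (S.el_injective h).symm
    fun h0 => hx1 (h0 ▸ S.el_zero)
  have h2 : (⟨t, ht⟩ : S.T) ∈ S.act.ker := h1
  rwa [act_ker] at h2

/-! ### The pairs below the maximal pair -/

theorem exists_below {Q : Subgroup G} (hQ : Q ≤ S.D) :
    ∃ f, IsPBlock M f ∧ SubpairLE p M Q f S.D S.eD :=
  exists_subpair S.hM S.isBrauerPair_eD _ Q hQ rfl

theorem zpowers_le_D (i : ZMod (p ^ S.a)) : Subgroup.zpowers (S.el i) ≤ S.D :=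
  Subgroup.zpowers_le.2 (S.el_mem i)

/-- The block below the maximal pair on the cyclic group generated by `el i`. -/
noncomputable def below (i : ZMod (p ^ S.a)) :
    Set (IrrCharacter (cen (Subgroup.zpowers (S.el i)))) :=
  (S.exists_below (S.zpowers_le_D i)).choose

theorem below_le (i : ZMod (p ^ S.a)) :
    SubpairLE p M (Subgroup.zpowers (S.el i)) (S.below i) S.D S.eD :=
  (S.exists_below (S.zpowers_le_D i)).choose_spec.2

theorem isPBlock_below (i : ZMod (p ^ S.a)) : IsPBlock M (S.below i) :=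
  (S.exists_below (S.zpowers_le_D i)).choose_spec.1

/-- The coefficients of the block below, as a function on the group. -/
noncomputable def beta (i : ZMod (p ^ S.a)) : G → ℂ :=
  subgroupBlockCoeff (cen (Subgroup.zpowers (S.el i))) (S.below i)

theorem beta_eq_of_below {Q : Subgroup G} {i : ZMod (p ^ S.a)}
    (h : Q = Subgroup.zpowers (S.el i)) {f : Set (IrrCharacter (cen Q))}
    (hf : SubpairLE p M Q f S.D S.eD) : subgroupBlockCoeff (cen Q) f = S.beta i :=
  congrArg (fun q : BrauerPairIdx G => subgroupBlockCoeff (cen q.1) q.2)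
    (idx_eq_of_below S.hM S.isBrauerPair_eD h hf (S.below_le i))

theorem zpowers_el_unit_mul (w : (ZMod (p ^ S.a))ˣ) (i : ZMod (p ^ S.a)) :
    Subgroup.zpowers (S.el ((w : ZMod (p ^ S.a)) * i)) = Subgroup.zpowers (S.el i) := by
  refine le_antisymm (Subgroup.zpowers_le.2 ?_) (Subgroup.zpowers_le.2 ?_)
  · rw [el_mul_eq]
    exact pow_mem (Subgroup.mem_zpowers (S.el i)) _
  · have h : S.el i = S.el (((w⁻¹ : (ZMod (p ^ S.a))ˣ) : ZMod (p ^ S.a)) *
        ((w : ZMod (p ^ S.a)) * i)) := by rw [Units.inv_mul_cancel_left]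
    exact Subgroup.mem_zpowers_iff.2
      ⟨_, (zpow_natCast _ _).trans (h.trans (S.el_mul_eq _ _)).symm⟩

theorem beta_unit_mul (w : (ZMod (p ^ S.a))ˣ) (i : ZMod (p ^ S.a)) :
    S.beta ((w : ZMod (p ^ S.a)) * i) = S.beta i :=
  S.beta_eq_of_below (S.zpowers_el_unit_mul w i) (S.below_le _)

/-- The stabiliser permutes the blocks below. -/
theorem beta_act (t : S.T) (i : ZMod (p ^ S.a)) :
    conjFun (t : G) (S.beta i) = S.beta ((S.act t : ZMod (p ^ S.a)) * i) := by
  have h := subpairLE_conj S.hM (S.below_le i) (t : G)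
  have e1 := conjIdx_eq_of_mem S.hM S.isBrauerPair_eD.2 t.2
  have h' : SubpairLE p M ((Subgroup.zpowers (S.el i)).map (MulAut.conj (t : G)).toMonoidHom)
      (conjBlock _ (t : G) (S.below i)) S.D S.eD := by
    unfold SubpairLE at h ⊢
    rwa [e1] at h
  have hQ : (Subgroup.zpowers (S.el i)).map (MulAut.conj (t : G)).toMonoidHom =
      Subgroup.zpowers (S.el ((S.act t : ZMod (p ^ S.a)) * i)) := by
    rw [MonoidHom.map_zpowers, ← act_spec]
    rfl
  rw [← S.beta_eq_of_below hQ h']
  funext k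
  rw [conjBlock_eq_blockMap]
  unfold conjFun beta subgroupBlockCoeff
  set Q := Subgroup.zpowers (S.el i)
  have hiff : k ∈ (cen (Q.map (MulAut.conj (t : G)).toMonoidHom)) ↔
      (t : G)⁻¹ * k * t ∈ (cen Q) := by
    constructor
    · intro hk
      exact (cenMap Q (t : G) ⟨k, hk⟩).2
    · intro hk
      rw [← map_conj_centralizer, mem_map_conj_iff]
      exact hk
  by_cases hk : k ∈ (cen (Q.map (MulAut.conj (t : G)).toMonoidHom))
  · rw [dif_pos hk, dif_pos (hiff.1 hk), blockCoeff_blockMap]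
    rfl
  · rw [dif_neg hk, dif_neg fun h2 => hk (hiff.2 h2)]

theorem isPPower_el (i : ZMod (p ^ S.a)) : ∃ k : ℕ, orderOf (S.el i) = p ^ k := by
  obtain ⟨k, -, hk⟩ := (Nat.dvd_prime_pow hp.out).1 (show orderOf (S.el i) ∣ p ^ S.a from
    S.natCard_D ▸ Subgroup.orderOf_dvd_natCard S.D (S.el_mem i))
  exact ⟨k, hk⟩

/-- The block below, as a block of the centralizer of the element. -/
theorem exists_major_block (i : ZMod (p ^ S.a)) :
    ∃ b : Set (IrrCharacter (Subgroup.centralizer ({S.el i} : Set G))),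
      IsInducedBlock M (Subgroup.centralizer ({S.el i} : Set G)) b S.B ∧
      subgroupBlockCoeff (Subgroup.centralizer ({S.el i} : Set G)) b = S.beta i ∧
      blockDefect p b = blockDefect p S.B :=
  exists_major S.hM S.hmax (S.el_mem i) (fun _ hw => S.commute_el hw i) (S.below_le i)

/-- The block of the centralizer of `el i` below the maximal pair. -/
noncomputable def blk (i : ZMod (p ^ S.a)) :
    Set (IrrCharacter (Subgroup.centralizer ({S.el i} : Set G))) :=
  (S.exists_major_block i).choose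

theorem blk_induced (i : ZMod (p ^ S.a)) :
    IsInducedBlock M (Subgroup.centralizer ({S.el i} : Set G)) (S.blk i) S.B :=
  (S.exists_major_block i).choose_spec.1

theorem blk_coeff (i : ZMod (p ^ S.a)) :
    subgroupBlockCoeff (Subgroup.centralizer ({S.el i} : Set G)) (S.blk i) = S.beta i :=
  (S.exists_major_block i).choose_spec.2.1

theorem blk_defect (i : ZMod (p ^ S.a)) : blockDefect p (S.blk i) = blockDefect p S.B :=
  (S.exists_major_block i).choose_spec.2.2

theorem isPBlock_blk (i : ZMod (p ^ S.a)) : IsPBlock M (S.blk i) := (S.blk_induced i).1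

theorem blockDefect_B : blockDefect p S.B = S.a := by
  have h := natCard_defectGroup S.hM S.isPBlock_B (maximal_core S.hM S.hmax).1
  rw [natCard_D] at h
  exact (Nat.pow_right_injective hp.out.two_le h).symm

/-- Fusion of the numbered subsections is given by the inertial quotient. -/
theorem exists_unit_of_conj {a : G} {i j : ZMod (p ^ S.a)} (ha : a * S.el i * a⁻¹ = S.el j)
    (hβ : conjFun a (S.beta i) = S.beta j) :
    ∃ w ∈ S.E, j = (w : ZMod (p ^ S.a)) * i := by
  obtain ⟨t, ht, hti⟩ := exists_stab_conj S.hM S.hmax (S.el_mem i) (fun _ hw => S.commute_el hw i)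
    (S.el_mem j) (fun _ hw => S.commute_el hw j) ha (S.below_le i) (S.below_le j) hβ
  exact ⟨S.act ⟨t, ht⟩, ⟨_, rfl⟩, S.el_injective (hti.symm.trans (S.act_spec ⟨t, ht⟩ i))⟩

end CycBlock

theorem exists_cycBlock {G : Type u} [Group G] [Fintype G] {p : ℕ} [Fact p.Prime]
    {M : Ideal AlgInt} [M.IsPrime] (hM : IsPModular p M) {B : Set (IrrCharacter G)}
    {D : Subgroup G} (hDd : IsDefectGroup p M B D) (hcyc : IsCyclic D) {a : ℕ} (ha : 1 ≤ a)
    (hDa : Nat.card D = p ^ a)
    {b : Set (IrrCharacter (Subgroup.centralizer (D : Set G)))}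
    (hind : IsInducedBlock M (Subgroup.centralizer (D : Set G)) b B) :
    ∃ S : CycBlock G p M, S.B = B ∧ S.a = a ∧
      ∃ h : S.D = D, h ▸ S.eD = b := by
  have hb : IsBrauerPair p M D b := ⟨isPGroup_defectGroup hM hind.2.1 hDd, hind.1⟩
  obtain ⟨B', hB', -⟩ := existsUnique_block hM hb
  have hB'B : B' = B :=
    isInducedBlock_unique _ (isInducedBlock_of_isBrauerPairOf hM hB') hind
  subst hB'B
  obtain ⟨g, hg⟩ := hcyc.exists_generator
  refine ⟨⟨hM, B', D, b, isMaximal_of_card hM hB' hDd le_rfl, g, ?_, a, ha, ?_⟩, rfl, rfl,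
    rfl, rfl⟩
  · refine le_antisymm (Subgroup.zpowers_le.2 g.2) fun x hx => ?_
    obtain ⟨k, hk⟩ := Subgroup.mem_zpowers_iff.1 (hg ⟨x, hx⟩)
    exact Subgroup.mem_zpowers_iff.2 ⟨k, by rw [← Subgroup.coe_zpow, hk]⟩
  · rw [Subgroup.orderOf_coe, orderOf_eq_card_of_forall_mem_zpowers hg, hDa]

end CfsgLib.Block
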