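import Cfsg.Agent.Lib.Block.GroupAlg
import Mathlib.RingTheory.SimpleModule.Basic
import Mathlib.FieldTheory.IsAlgClosed.Basic
import Mathlib.LinearAlgebra.Dual.Lemmas
import Mathlib.LinearAlgebra.Basis.VectorSpace
import Mathlib.Tactic

/-!
The elementary stable correspondence over a block with uniserial structure: the data, weights and
the existence of simple modules with live vectors.
-/

set_option autoImplicit false
set_option linter.unusedSectionVars false

namespace CfsgLib.Block

open MonoidAlgebra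

universe u v w

variable {G : Type u} [Group G] [Finite G] {k : Type v} [Field k]

/-- The coefficients vanish outside `H`. -/
def SuppIn (H : Subgroup G) (a : MonoidAlgebra k G) : Prop := ∀ g ∉ H, a.coeff g = 0

theorem suppIn_of {H : Subgroup G} {g : G} (hg : g ∈ H) : SuppIn H (of k G g) := by
  classical
  intro x hx
  rw [of_apply, coeff_single, Finsupp.single_apply, if_neg]
  rintro rfl
  exact hx hg

theorem suppIn_one (H : Subgroup G) : SuppIn H (1 : MonoidAlgebra k G) := by
  have h := suppIn_of (k := k) (one_mem H)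
  rwa [map_one] at h

theorem suppIn_zero (H : Subgroup G) : SuppIn H (0 : MonoidAlgebra k G) := fun g _ => by simp

theorem suppIn_add {H : Subgroup G} {a b : MonoidAlgebra k G} (ha : SuppIn H a) (hb : SuppIn H b) :
    SuppIn H (a + b) := fun g hg => by simp [ha g hg, hb g hg]

theorem suppIn_sub {H : Subgroup G} {a b : MonoidAlgebra k G} (ha : SuppIn H a) (hb : SuppIn H b) :
    SuppIn H (a - b) := fun g hg => by simp [ha g hg, hb g hg]

theorem suppIn_smul {H : Subgroup G} (c : k) {a : MonoidAlgebra k G} (ha : SuppIn H a) :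
    SuppIn H (c • a) := fun g hg => by simp [ha g hg]

theorem suppIn_mul {H : Subgroup G} {a b : MonoidAlgebra k G} (ha : SuppIn H a) (hb : SuppIn H b) :
    SuppIn H (a * b) := by
  have := Fintype.ofFinite G
  intro g hg
  rw [coeff_mul_eq]
  refine Finset.sum_eq_zero fun x _ => ?_
  by_cases hx : x ∈ H
  · rw [hb _ fun h => hg (by simpa using mul_mem hx h), mul_zero]
  · rw [ha x hx, zero_mul]

theorem suppIn_pow {H : Subgroup G} {a : MonoidAlgebra k G} (ha : SuppIn H a) (n : ℕ) :
    SuppIn H (a ^ n) := by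
  induction n with
  | zero => rw [pow_zero]; exact suppIn_one H
  | succ n ih => rw [pow_succ]; exact suppIn_mul ih ha

theorem suppIn_mono {H H' : Subgroup G} (h : H ≤ H') {a : MonoidAlgebra k G} (ha : SuppIn H a) :
    SuppIn H' a := fun g hg => ha g fun h' => hg (h h')

theorem eq_sum_of_suppIn [Fintype G] {H : Subgroup G} [DecidablePred (· ∈ H)]
    {a : MonoidAlgebra k G} (ha : SuppIn H a) :
    a = ∑ g ∈ Finset.univ.filter (· ∈ H), a.coeff g • of k G g := by
  classical
  ext x
  rw [coeff_sum, Finsupp.finsetSum_apply]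
  have hterm : ∀ g : G, (a.coeff g • of k G g).coeff x = if g = x then a.coeff g else 0 := fun g => by
    rw [coeff_smul, Finsupp.smul_apply, of_apply, coeff_single, Finsupp.single_apply, smul_eq_mul,
      mul_ite, mul_one, mul_zero]
  rw [Finset.sum_congr rfl fun g _ => hterm g, Finset.sum_ite_eq']
  split_ifs with h
  · rfl
  · exact ha x fun hx => h (Finset.mem_filter.2 ⟨Finset.mem_univ x, hx⟩)

/-- The projection to the elements supported in `T`. -/
noncomputable def projT (T : Subgroup G) : MonoidAlgebra k G →ₗ[k] MonoidAlgebra k G :=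
  open Classical in
  { toFun := fun a => mkGA fun g => if g ∈ T then a.coeff g else 0
    map_add' := fun a b => by ext g; by_cases h : g ∈ T <;> simp [h]
    map_smul' := fun c a => by ext g; by_cases h : g ∈ T <;> simp [h] }

theorem coeff_projT (T : Subgroup G) [DecidablePred (· ∈ T)] (a : MonoidAlgebra k G) (g : G) :
    (projT T a).coeff g = if g ∈ T then a.coeff g else 0 := by
  simp only [projT, LinearMap.coe_mk, AddHom.coe_mk, coeff_mkGA]
  congr

theorem suppIn_projT (T : Subgroup G) (a : MonoidAlgebra k G) : SuppIn T (projT T a) := by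
  classical
  intro g hg
  rw [coeff_projT, if_neg hg]

theorem projT_mul_right {T : Subgroup G} (a : MonoidAlgebra k G) {c : MonoidAlgebra k G}
    (hc : SuppIn T c) : projT T (a * c) = projT T a * c := by
  classical
  have := Fintype.ofFinite G
  ext g
  rw [coeff_projT, coeff_mul_eq, coeff_mul_eq]
  split_ifs with hg
  · refine Finset.sum_congr rfl fun x _ => ?_
    rw [coeff_projT]
    split_ifs with hx
    · rfl
    · rw [hc _ fun h => hx ?_, mul_zero, mul_zero]
      simpa using mul_mem hg (inv_mem h)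
  · refine (Finset.sum_eq_zero fun x _ => ?_).symm
    rw [coeff_projT]
    split_ifs with hx
    · rw [hc _ fun h => hg ?_, mul_zero]
      simpa using mul_mem hx h
    · rw [zero_mul]

theorem projT_mul_left {T : Subgroup G} {c : MonoidAlgebra k G} (hc : SuppIn T c)
    (a : MonoidAlgebra k G) : projT T (c * a) = c * projT T a := by
  classical
  have := Fintype.ofFinite G
  ext g
  rw [coeff_projT, coeff_mul_eq, coeff_mul_eq]
  split_ifs with hg
  · refine Finset.sum_congr rfl fun x _ => ?_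
    by_cases hx : x ∈ T
    · rw [coeff_projT, if_pos (mul_mem (inv_mem hx) hg)]
    · rw [hc x hx, zero_mul, zero_mul]
  · refine (Finset.sum_eq_zero fun x _ => ?_).symm
    by_cases hx : x ∈ T
    · rw [coeff_projT, if_neg, mul_zero]
      intro h
      exact hg (by simpa using mul_mem hx h)
    · rw [hc x hx, zero_mul]

/-- A `T`-stable block `b` of a normal subgroup `C` with a uniserial structure given by `X`,
relatively projective for a subgroup `D` whose conjugates meet trivially modulo `b`. -/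
structure StableData (G : Type u) [Group G] [Finite G] (k : Type v) [Field k] (p : ℕ) where
  T : Subgroup G
  C : Subgroup G
  D : Subgroup G
  hCT : C ≤ T
  hDC : D ≤ C
  hnorm : ∀ t ∈ T, ∀ c ∈ C, t * c * t⁻¹ ∈ C
  hidx : ¬ p ∣ C.relIndex T
  b : MonoidAlgebra k G
  hbC : SuppIn C b
  hbb : b * b = b
  hbT : ∀ t ∈ T, of k G t * b = b * of k G t
  X : MonoidAlgebra k G
  hXC : SuppIn C X
  hXb : X * b = X
  hXcomm : ∀ c ∈ C, b * of k G c * X = X * of k G c
  hXT : ∀ t ∈ T, ∃ c : MonoidAlgebra k G, SuppIn T c ∧ of k G t * X = X * c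
  hXT' : ∀ t ∈ T, ∃ c : MonoidAlgebra k G, SuppIn T c ∧ X * of k G t = c * X
  q : ℕ
  hq : 2 ≤ q
  hXq : X ^ q = 0
  hann : ∀ a : MonoidAlgebra k G, SuppIn C a → b * a = a → X * a = 0 →
    ∃ u, SuppIn C u ∧ a = X ^ (q - 1) * u
  eps : MonoidAlgebra k G
  hepsC : SuppIn C eps
  hee : eps * eps = eps
  hepsb : eps * b = eps
  heps : ∀ a, SuppIn C a → ∃ f : ℕ → k, eps * a * eps =
    ∑ i ∈ Finset.range q, f i • (X ^ i * eps)
  hfull : ∃ (n : ℕ) (a c : Fin n → MonoidAlgebra k G),
    (∀ i, SuppIn C (a i)) ∧ (∀ i, SuppIn C (c i)) ∧ b = ∑ i, a i * eps * c i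
  β : MonoidAlgebra k G
  hβC : SuppIn C β
  hβD : ∀ y ∈ D, of k G y * β = β * of k G y
  hβ : ∀ (V : Finset G), (∀ c ∈ C, ∃! d, d ∈ V ∧ d⁻¹ * c ∈ D) → (∀ d ∈ V, d ∈ C) →
    ∑ d ∈ V, of k G d * β * of k G d⁻¹ = b
  hTI : ∀ g ∉ T, of k G g * b * of k G g⁻¹ * b = 0 ∨
    ∀ y ∈ D, g⁻¹ * y * g ∈ D → y = 1

namespace StableData

variable {p : ℕ} (S : StableData G k p)

theorem hbT' {a : MonoidAlgebra k G} (ha : SuppIn S.T a) : a * S.b = S.b * a := by
  classical
  have := Fintype.ofFinite G
  rw [eq_sum_of_suppIn ha, Finset.sum_mul, Finset.mul_sum]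
  exact Finset.sum_congr rfl fun g hg => by
    rw [smul_mul_assoc, mul_smul_comm, S.hbT g (Finset.mem_filter.1 hg).2]

theorem bX : S.b * S.X = S.X := by
  rw [← S.hbT' (suppIn_mono S.hCT S.hXC), S.hXb]

theorem X_comm {a : MonoidAlgebra k G} (ha : SuppIn S.C a) : a * S.X = S.X * a := by
  classical
  have := Fintype.ofFinite G
  have hb := S.hbT' (suppIn_mono S.hCT ha)
  have h1 : S.b * a * S.X = S.X * a := by
    rw [eq_sum_of_suppIn ha, Finset.mul_sum, Finset.sum_mul, Finset.mul_sum]
    exact Finset.sum_congr rfl fun g hg => by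
      rw [mul_smul_comm, smul_mul_assoc, mul_smul_comm, S.hXcomm g (Finset.mem_filter.1 hg).2]
  rw [← hb, mul_assoc, S.bX] at h1
  exact h1

theorem commute_eps : Commute S.eps S.X := S.X_comm S.hepsC

theorem suppIn_X_pow (n : ℕ) : SuppIn S.T (S.X ^ n) := suppIn_mono S.hCT (suppIn_pow S.hXC n)

theorem exists_comm_X {a : MonoidAlgebra k G} (ha : SuppIn S.T a) :
    ∃ c, SuppIn S.T c ∧ a * S.X = S.X * c := by
  classical
  have := Fintype.ofFinite G
  choose! c hc hcX using S.hXT
  refine ⟨∑ g ∈ Finset.univ.filter (· ∈ S.T), a.coeff g • c g, ?_, ?_⟩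
  · refine Finset.sum_induction _ (SuppIn S.T) (fun _ _ => suppIn_add) (suppIn_zero _) fun g hg => ?_
    exact suppIn_smul _ (hc g (Finset.mem_filter.1 hg).2)
  · conv_lhs => rw [eq_sum_of_suppIn ha]
    rw [Finset.sum_mul, Finset.mul_sum]
    exact Finset.sum_congr rfl fun g hg => by
      rw [smul_mul_assoc, mul_smul_comm, hcX g (Finset.mem_filter.1 hg).2]

theorem exists_comm_X_pow {a : MonoidAlgebra k G} (ha : SuppIn S.T a) (n : ℕ) :
    ∃ c, SuppIn S.T c ∧ a * S.X ^ n = S.X ^ n * c := by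
  induction n generalizing a with
  | zero => exact ⟨a, ha, by simp⟩
  | succ n ih =>
    obtain ⟨c, hc, h⟩ := S.exists_comm_X ha
    obtain ⟨d, hd, h'⟩ := ih hc
    exact ⟨d, hd, by rw [pow_succ', ← mul_assoc, h, mul_assoc, h', ← mul_assoc]⟩

theorem X_mul_X_pow {a : MonoidAlgebra k G} (ha : SuppIn S.T a) :
    S.X * a * S.X ^ (S.q - 1) = 0 := by
  obtain ⟨c, -, h⟩ := S.exists_comm_X_pow ha (S.q - 1)
  rw [mul_assoc, h, ← mul_assoc, ← pow_succ', Nat.sub_add_cancel (by have := S.hq; omega : 1 ≤ S.q), S.hXq, zero_mul]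

/-- The ideal `X k[T]`. -/
def InI (a : MonoidAlgebra k G) : Prop := ∃ c, SuppIn S.T c ∧ a = S.X * c

theorem inI_add {a c : MonoidAlgebra k G} (ha : S.InI a) (hc : S.InI c) : S.InI (a + c) := by
  obtain ⟨a', ha', rfl⟩ := ha
  obtain ⟨c', hc', rfl⟩ := hc
  exact ⟨a' + c', suppIn_add ha' hc', (mul_add _ _ _).symm⟩

theorem inI_mul_right {a c : MonoidAlgebra k G} (ha : S.InI a) (hc : SuppIn S.T c) :
    S.InI (a * c) := by
  obtain ⟨a', ha', rfl⟩ := ha
  exact ⟨a' * c, suppIn_mul ha' hc, mul_assoc _ _ _⟩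

theorem inI_mul_left {a c : MonoidAlgebra k G} (ha : S.InI a) (hc : SuppIn S.T c) :
    S.InI (c * a) := by
  obtain ⟨a', ha', rfl⟩ := ha
  obtain ⟨d, hd, h⟩ := S.exists_comm_X hc
  exact ⟨d * a', suppIn_mul hd ha', by rw [← mul_assoc, h, mul_assoc]⟩

/-- A weight: an idempotent of the algebra of the stabilizer, primitive modulo `X`. -/
structure Weight (η : MonoidAlgebra k G) : Prop where
  supp : SuppIn S.T η
  idem : η * η = η
  hb : S.b * η = η
  not_inI : ¬ S.InI η
  scalar : ∀ a, SuppIn S.T a → ∃ c : k, S.InI (η * a * η - c • η)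
  sep : ∀ a, SuppIn S.T a → ¬ S.InI (a * η) →
    ∃ c, SuppIn S.T c ∧ ¬ S.InI (η * c * a * η)

section Module

variable {V : Type w} [AddCommGroup V] [Module (MonoidAlgebra k G) V]

/-- A live vector. -/
def IsLive (η : MonoidAlgebra k G) (v : V) : Prop :=
  S.X • v = 0 ∧ η • v = v ∧ ∀ z : V, S.X ^ (S.q - 1) • z ≠ v

theorem exists_comm_X' {a : MonoidAlgebra k G} (ha : SuppIn S.T a) :
    ∃ c, SuppIn S.T c ∧ S.X * a = c * S.X := by
  classical
  have := Fintype.ofFinite G
  choose! c hc hcX using S.hXT'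
  refine ⟨∑ g ∈ Finset.univ.filter (· ∈ S.T), a.coeff g • c g, ?_, ?_⟩
  · refine Finset.sum_induction _ (SuppIn S.T) (fun _ _ => suppIn_add) (suppIn_zero _) fun g hg => ?_
    exact suppIn_smul _ (hc g (Finset.mem_filter.1 hg).2)
  · conv_lhs => rw [eq_sum_of_suppIn ha]
    rw [Finset.mul_sum, Finset.sum_mul]
    exact Finset.sum_congr rfl fun g hg => by
      rw [mul_smul_comm, smul_mul_assoc, hcX g (Finset.mem_filter.1 hg).2]

theorem X_smul_smul {a : MonoidAlgebra k G} (ha : SuppIn S.T a) {v : V} (hv : S.X • v = 0) :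
    S.X • a • v = 0 := by
  obtain ⟨c, -, h⟩ := S.exists_comm_X' ha
  rw [smul_smul, h, mul_smul, hv, smul_zero]

theorem inI_smul {a : MonoidAlgebra k G} (ha : S.InI a) {v : V} (hv : S.X • v = 0) : a • v = 0 := by
  obtain ⟨c, hc, rfl⟩ := ha
  rw [mul_smul, S.X_smul_smul hc hv]

/-- Half exactness. -/
theorem exists_live_sub_or_quot {η : MonoidAlgebra k G} (hη : S.Weight η)
    (U : Submodule (MonoidAlgebra k G) V) {v : V} (hv : S.IsLive η v) :
    (∃ w : U, S.IsLive η w) ∨ (∃ w : V ⧸ U, S.IsLive η w) := by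
  by_cases h : ∀ z : V ⧸ U, S.X ^ (S.q - 1) • z ≠ Submodule.Quotient.mk v
  · refine Or.inr ⟨_, ?_, ?_, h⟩
    · rw [← Submodule.Quotient.mk_smul, hv.1, Submodule.Quotient.mk_zero]
    · rw [← Submodule.Quotient.mk_smul, hv.2.1]
  · push Not at h
    obtain ⟨z, hz⟩ := h
    obtain ⟨z, rfl⟩ := Submodule.Quotient.mk_surjective _ z
    rw [← Submodule.Quotient.mk_smul] at hz
    have hmem : v - η • S.X ^ (S.q - 1) • z ∈ U := by
      rw [← Submodule.Quotient.eq, Submodule.Quotient.mk_smul, hz, ← Submodule.Quotient.mk_smul,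
        hv.2.1]
    refine Or.inl ⟨⟨_, hmem⟩, Subtype.ext ?_, Subtype.ext ?_, fun w hw => ?_⟩
    · simp only [Submodule.coe_smul, ZeroMemClass.coe_zero]
      rw [smul_sub, hv.1, smul_smul, smul_smul, S.X_mul_X_pow hη.supp, zero_smul, sub_zero]
    · simp only [Submodule.coe_smul]
      rw [smul_sub, hv.2.1, smul_smul η η, hη.idem]
    · obtain ⟨c, -, hc⟩ := S.exists_comm_X_pow hη.supp (S.q - 1)
      apply hv.2.2 ((w : V) + c • z)
      have h1 := congrArg Subtype.val hw
      simp only [Submodule.coe_smul] at h1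
      rw [smul_add, h1, smul_smul (S.X ^ (S.q - 1)) c, ← hc, mul_smul, sub_add_cancel]

end Module

theorem exists_live_regular {η E : MonoidAlgebra k G} (hη : S.Weight η)
    (hE : ∀ a, E * a = a * E) (hEη : ¬ S.InI (projT S.T E * η)) :
    ∃ (J : Submodule (MonoidAlgebra k G) (MonoidAlgebra k G))
      (v : MonoidAlgebra k G ⧸ J), S.IsLive η v ∧ v = Submodule.Quotient.mk E := by
  set J : Submodule (MonoidAlgebra k G) (MonoidAlgebra k G) :=
    Submodule.span (MonoidAlgebra k G) {S.X * η, 1 - η} with hJ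
  refine ⟨J, _, ⟨?_, ?_, ?_⟩, rfl⟩
  · rw [← Submodule.Quotient.mk_smul, smul_eq_mul, Submodule.Quotient.mk_eq_zero,
      show S.X * E = (E * S.X) * (1 - η) + E * (S.X * η) by rw [mul_sub, mul_one, mul_assoc, sub_add_cancel, hE S.X]]
    exact add_mem (J.smul_mem _ (Submodule.subset_span (by simp)))
      (J.smul_mem E (Submodule.subset_span (by simp)))
  · rw [← Submodule.Quotient.mk_smul, smul_eq_mul, Submodule.Quotient.eq, ← hE η,
      show E * η - E = (-E) * (1 - η) by noncomm_ring]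
    exact J.smul_mem _ (Submodule.subset_span (by simp))
  · intro z hz
    obtain ⟨z, rfl⟩ := Submodule.Quotient.mk_surjective _ z
    rw [← Submodule.Quotient.mk_smul, smul_eq_mul, Submodule.Quotient.eq, hJ,
      Submodule.mem_span_pair] at hz
    obtain ⟨a, c, hac⟩ := hz
    rw [smul_eq_mul, smul_eq_mul] at hac
    apply hEη
    have h1 : E * η = S.X ^ (S.q - 1) * (z * η) - a * (S.X * η) := by
      have h2 := congrArg (· * η) hac
      simp only [add_mul, sub_mul, mul_assoc, hη.idem] at h2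
      simp only [one_mul, sub_self, mul_zero, add_zero] at h2
      rw [h2]; abel
    have h3 := congrArg (projT S.T) h1
    rw [projT_mul_right _ hη.supp, map_sub, projT_mul_left (S.suppIn_X_pow _),
      projT_mul_right _ hη.supp, projT_mul_right _ (suppIn_mul (suppIn_mono S.hCT S.hXC) hη.supp)] at h3
    rw [h3]
    have hXη : S.InI (S.X * η) := ⟨η, hη.supp, rfl⟩
    have hsub : ∀ {x y}, S.InI x → S.InI y → S.InI (x - y) := fun {x y} hx hy => by
      obtain ⟨x', hx', rfl⟩ := hx
      obtain ⟨y', hy', rfl⟩ := hy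
      exact ⟨x' - y', suppIn_sub hx' hy', (mul_sub _ _ _).symm⟩
    refine hsub ?_ (S.inI_mul_left hXη (suppIn_projT _ _))
    obtain ⟨m, hm⟩ : ∃ m, S.q - 1 = m + 1 := ⟨S.q - 2, by have := S.hq; omega⟩
    rw [hm, pow_succ', mul_assoc]
    exact ⟨_, suppIn_mul (S.suppIn_X_pow m) (suppIn_mul (suppIn_projT _ _) hη.supp), rfl⟩

end StableData

end CfsgLib.Block
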