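import Mathlib.RingTheory.SimpleModule.IsAlgClosed
import Mathlib.RingTheory.Artinian.Ring
import Mathlib.RingTheory.Idempotents
import Mathlib.LinearAlgebra.Matrix.Transvection
import Mathlib.LinearAlgebra.Dual.Lemmas
import Mathlib.Tactic

/-!
A block corner whose trace functionals killing a central nilpotent element `X` form at most a line
is a matrix algebra over a local corner which is generated by `X`.
-/

set_option autoImplicit false
set_option linter.unusedSectionVars false
set_option maxHeartbeats 800000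

namespace CfsgLib.Block

open Module

variable {k R : Type*} [Field k] [IsAlgClosed k] [Ring R] [Algebra k R] [FiniteDimensional k R]

/-- **A local corner generated by `X`.** If, up to a scalar, only one trace functional kills the
complement of the central idempotent `e` and the multiples of the central nilpotent `X`, some
idempotent `ε` below `e` is full and has corner `k ε + X (ε R ε)`. -/
theorem exists_uniserial_corner (e X : R) (he : e * e = e) (hec : ∀ x, e * x = x * e) (he0 : e ≠ 0)
    (hXc : ∀ x, X * x = x * X) (hXe : X * e = X) (hXnil : IsNilpotent X) (f₀ : R →ₗ[k] k)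
    (htr : ∀ g : R →ₗ[k] k, (∀ x y, g (x * y) = g (y * x)) → (∀ a, g (e * a) = g a) →
      (∀ a, g (X * a) = 0) → ∃ c : k, g = c • f₀) :
    ∃ ε : R, ε * ε = ε ∧ ε * e = ε ∧
      (∃ (n : ℕ) (a c : Fin n → R), e = ∑ i, a i * ε * c i) ∧
      ∀ a, ∃ (r : k) (w : R), ε * a * ε = r • ε + X * (ε * w * ε) := by
  classical
  have : IsArtinianRing R := IsArtinianRing.of_finite k R
  set J := Ring.jacobson R with hJ
  obtain ⟨N, hN⟩ : IsNilpotent J := IsSemiprimaryRing.isNilpotent
  have hJN : J ^ (N + 1) = ⊥ := by rw [Submodule.pow_succ, hN]; simp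
  have hnilJ : ∀ x ∈ J, IsNilpotent x := fun x hx => ⟨N + 1, by
    have h := Ideal.pow_mem_pow hx (N + 1)
    rwa [hJN, Submodule.mem_bot] at h⟩
  have : Module.Finite k (R ⧸ J) :=
    Module.Finite.of_surjective (Ideal.Quotient.mkₐ k J).toLinearMap Ideal.Quotient.mk_surjective
  obtain ⟨q, d, hd, ⟨φ⟩⟩ :=
    IsSemisimpleRing.exists_algEquiv_pi_matrix_of_isAlgClosed k (R ⧸ J)
  let π : R →ₐ[k] Π i, Matrix (Fin (d i)) (Fin (d i)) k :=
    φ.toAlgHom.comp (Ideal.Quotient.mkₐ k J)
  have hπ : Function.Surjective π := φ.surjective.comp Ideal.Quotient.mk_surjective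
  have hker : ∀ x, π x = 0 ↔ x ∈ J := fun x =>
    ((map_eq_zero_iff φ φ.injective).trans Ideal.Quotient.eq_zero_iff_mem)
  have hscalar : ∀ c : R, (∀ x, c * x = x * c) → ∀ i, ∃ r : k, π c i = r • 1 := by
    intro c hc i
    obtain ⟨r, hr⟩ := Matrix.mem_range_scalar_of_commute_single (M := π c i) fun a b _ => by
      obtain ⟨x, hx⟩ := hπ (Pi.single i (Matrix.single a b (1 : k)))
      have h := congrArg (fun P => P i) (congrArg π (hc x))
      simp only [map_mul, Pi.mul_apply, hx, Pi.single_eq_same] at h
      exact h.symm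
    exact ⟨r, by rw [← hr]; simp [Matrix.scalar_apply, Matrix.smul_one_eq_diagonal]⟩
  have hε : ∀ i, π e i = 0 ∨ π e i = 1 := by
    intro i
    obtain ⟨r, hr⟩ := hscalar e hec i
    have h := congrArg (fun P => P i) (congrArg π he)
    simp only [map_mul, Pi.mul_apply, hr, smul_mul_smul_comm, one_mul] at h
    have hi := hd i
    have h00 := congrFun (congrFun h 0) 0
    simp only [Matrix.smul_apply, Matrix.one_apply_eq, smul_eq_mul, mul_one] at h00
    rcases eq_or_ne r 0 with h0 | h0
    · exact Or.inl (by rw [hr, h0, zero_smul])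
    · exact Or.inr (by rw [hr, mul_left_eq_self₀.1 h00 |>.resolve_right h0, one_smul])
  have hπX : π X = 0 := by
    funext i
    obtain ⟨r, hr⟩ := hscalar X hXc i
    obtain ⟨m, hm⟩ := hXnil
    have h := congrArg (fun P => P i) (congrArg π hm)
    simp only [map_pow, Pi.pow_apply, map_zero, Pi.zero_apply, hr, smul_pow, one_pow] at h
    have := hd i
    have h00 := congrFun (congrFun h 0) 0
    simp only [Matrix.smul_apply, Matrix.one_apply_eq, smul_eq_mul, mul_one,
      Matrix.zero_apply] at h00
    rw [hr, (pow_eq_zero_iff'.1 h00).1, zero_smul]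
    rfl
  let S : Finset (Fin q) := Finset.univ.filter fun i => π e i ≠ 0
  have hS : ∀ i, i ∈ S → π e i = 1 := fun i hi =>
    (hε i).resolve_left (Finset.mem_filter.1 hi).2
  have hS' : ∀ i, i ∉ S → π e i = 0 := fun i hi => by
    by_contra h
    exact hi (Finset.mem_filter.2 ⟨Finset.mem_univ _, h⟩)
  let E : ∀ i, Matrix (Fin (d i)) (Fin (d i)) k := fun i => haveI := hd i; Matrix.single 0 0 1
  have hEE : ∀ i, E i * E i = E i := fun i => by
    simp only [E]; rw [Matrix.single_mul_single_same, mul_one]
  have hEtr : ∀ i, (E i).trace = 1 := fun i => by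
    have := hd i
    simp only [E]
    rw [Matrix.trace_single_eq_same]
  -- the trace functional of a simple component
  let tr : Fin q → (R →ₗ[k] k) := fun i =>
    (Matrix.traceLinearMap (Fin (d i)) k k).comp ((LinearMap.proj i).comp π.toLinearMap)
  have htrapp : ∀ i a, tr i a = (π a i).trace := fun _ _ => rfl
  have htrline : ∀ i ∈ S, ∃ c : k, tr i = c • f₀ := fun i hi =>
    htr (tr i) (fun x y => by
      rw [htrapp, htrapp, map_mul, map_mul, Pi.mul_apply, Pi.mul_apply, Matrix.trace_mul_comm])
      (fun a => by simp only [htrapp, map_mul, Pi.mul_apply, hS i hi, one_mul])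
      (fun a => by simp only [htrapp, map_mul, Pi.mul_apply, hπX, Pi.zero_apply, zero_mul,
        Matrix.trace_zero])
  have hSne : S.Nonempty := by
    by_contra h
    rw [Finset.not_nonempty_iff_eq_empty] at h
    obtain ⟨m, hm⟩ := hnilJ e ((hker e).1 (funext fun i => hS' i (by simp [h])))
    apply he0
    rw [← IsIdempotentElem.pow_succ_eq m he, pow_succ, hm, zero_mul]
  obtain ⟨i₀, hi₀⟩ := hSne
  have hS1 : ∀ j ∈ S, j = i₀ := by
    intro j hj
    by_contra hne
    obtain ⟨cj, hcj⟩ := htrline j hj
    obtain ⟨ci, hci⟩ := htrline i₀ hi₀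
    obtain ⟨rj, hrj⟩ := hπ (Pi.single j (E j))
    obtain ⟨ri, hri⟩ := hπ (Pi.single i₀ (E i₀))
    have h1 : tr j rj = 1 := by rw [htrapp, hrj, Pi.single_eq_same, hEtr]
    have h2 : tr i₀ rj = 0 := by
      rw [htrapp, hrj, Pi.single_eq_of_ne (Ne.symm hne), Matrix.trace_zero]
    have h3 : tr i₀ ri = 1 := by rw [htrapp, hri, Pi.single_eq_same, hEtr]
    rw [hcj, LinearMap.smul_apply, smul_eq_mul] at h1
    rw [hci, LinearMap.smul_apply, smul_eq_mul] at h2 h3
    rcases mul_eq_zero.1 h2 with h | h
    · rw [h, zero_mul] at h3; exact zero_ne_one h3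
    · rw [h, mul_zero] at h1; exact zero_ne_one h1
  let F : Π i, Matrix (Fin (d i)) (Fin (d i)) k := fun i => if i ∈ S then E i else 0
  obtain ⟨f', hf', hπf'⟩ := exists_isIdempotentElem_eq_of_ker_isNilpotent π.toRingHom
    (fun x hx => hnilJ x ((hker x).1 hx)) F (RingHom.mem_range.2 (hπ F))
    (funext fun i => by by_cases h : i ∈ S <;> simp [F, h, hEE])
  set f := e * f' with hf
  have hff : f * f = f := by
    rw [hf]
    calc e * f' * (e * f') = e * (f' * e) * f' := by simp only [mul_assoc]
      _ = e * e * (f' * f') := by rw [← hec f']; simp only [mul_assoc]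
      _ = e * f' := by rw [he, hf'.eq]
  have hef : e * f = f := by rw [hf, ← mul_assoc, he]
  have hfe : f * e = f := by rw [← hec, hef]
  have hπf : π f = F := by
    funext i
    rw [hf, map_mul, Pi.mul_apply, show π f' = F from hπf']
    by_cases h : i ∈ S
    · rw [hS i h, one_mul]
    · simp [F, h]
  clear_value f
  -- the ideal generated by the idempotent contains `e`
  set I := Submodule.span k (Set.range fun p : R × R => p.1 * f * p.2) with hI
  have hIgen : ∀ a b : R, a * f * b ∈ I := fun a b => Submodule.subset_span ⟨(a, b), rfl⟩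
  have hIl : ∀ r, ∀ y ∈ I, r * y ∈ I := by
    intro r y hy
    induction hy using Submodule.span_induction with
    | mem w hw => obtain ⟨⟨a, b⟩, rfl⟩ := hw; simpa [mul_assoc] using hIgen (r * a) b
    | zero => simp
    | add a b _ _ ha hb => rw [mul_add]; exact add_mem ha hb
    | smul c a _ ha => rw [mul_smul_comm]; exact Submodule.smul_mem _ c ha
  have hIr : ∀ r, ∀ y ∈ I, y * r ∈ I := by
    intro r y hy
    induction hy using Submodule.span_induction with
    | mem w hw => obtain ⟨⟨a, b⟩, rfl⟩ := hw; simpa [mul_assoc] using hIgen a (b * r)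
    | zero => simp
    | add a b _ _ ha hb => rw [add_mul]; exact add_mem ha hb
    | smul c a _ ha => rw [smul_mul_assoc]; exact Submodule.smul_mem _ c ha
  have hy : ∃ y ∈ I, π y = π e := by
    have := hd i₀
    choose l hl using fun a => hπ (Pi.single i₀ (Matrix.single a 0 (1 : k)))
    choose r hr using fun a => hπ (Pi.single i₀ (Matrix.single (0 : Fin (d i₀)) a (1 : k)))
    refine ⟨∑ a, l a * f * r a, Submodule.sum_mem _ fun a _ => hIgen _ _, funext fun j => ?_⟩
    simp only [map_sum, map_mul, hl, hr, hπf, Finset.sum_apply, Pi.mul_apply]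
    by_cases hji : j = i₀
    · subst hji
      simp only [Pi.single_eq_same, F, if_pos hi₀, E, Matrix.single_mul_single_same, mul_one,
        hS _ hi₀]
      exact Matrix.sum_single_one
    · simp [Pi.single_eq_of_ne hji, hS' j fun h => hji (hS1 j h)]
  have heI : e ∈ I := by
    obtain ⟨y, hyI, hyπ⟩ := hy
    set j := e - e * y with hj
    have hjJ : j ∈ J := (hker j).1 (by
      rw [hj, map_sub, map_mul, hyπ, ← map_mul, he, sub_self])
    obtain ⟨u, hu⟩ := (hnilJ j hjJ).isUnit_one_sub
    have hej : e * (1 - j) = e * y := by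
      rw [hj]; simp only [mul_sub, mul_one, ← mul_assoc, he, sub_sub_cancel]
    have : e = e * y * (↑u⁻¹ : R) := by rw [← hej, ← hu, Units.mul_inv_cancel_right]
    rw [this]
    exact hIr _ _ (hIl e y hyI)
  obtain ⟨co, hco⟩ := Finsupp.mem_span_range_iff_exists_finsupp.1 heI
  let s := co.support
  let b : R × R → R := fun p => co p • p.1
  let c : R × R → R := fun p => p.2 * e
  have hdec : e = ∑ p ∈ s, b p * f * c p := by
    have e1 : e = (co.sum fun p a => a • (p.1 * f * p.2)) * e := by rw [hco, he]
    refine e1.trans ?_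
    rw [Finsupp.sum, Finset.sum_mul]
    exact Finset.sum_congr rfl fun p _ => by simp [b, c, mul_assoc]
  have hce : ∀ p, c p * e = c p := fun p => by simp [c, mul_assoc, he]
  -- the corner
  let A : Submodule k R := LinearMap.range (LinearMap.mulLeft k f ∘ₗ LinearMap.mulRight k f)
  have hA : ∀ a : R, a ∈ A ↔ f * a = a ∧ a * f = a := by
    intro a
    constructor
    · rintro ⟨r, rfl⟩
      simp only [LinearMap.comp_apply, LinearMap.mulLeft_apply, LinearMap.mulRight_apply]
      exact ⟨by rw [← mul_assoc, hff], by simp only [mul_assoc, hff]⟩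
    · rintro ⟨h1, h2⟩
      exact ⟨a, by simp [h1, h2]⟩
  have hAmem : ∀ r, f * r * f ∈ A := fun r => (hA _).2
    ⟨by simp only [← mul_assoc, hff], by simp only [mul_assoc, hff]⟩
  have hAf : f ∈ A := (hA f).2 ⟨hff, hff⟩
  have := hd i₀
  let coef : R → k := fun a => π a i₀ 0 0
  let JA : Submodule k R := A ⊓ J.restrictScalars k
  have hsub : ∀ a ∈ A, a - coef a • f ∈ JA := by
    intro a ha
    refine ⟨A.sub_mem ha (A.smul_mem _ hAf), (hker _).1 (funext fun i => ?_)⟩
    obtain ⟨h1, h2⟩ := (hA a).1 ha
    have hval : π a i = F i * π a i * F i := by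
      conv_lhs => rw [← h1, ← h2, ← mul_assoc, map_mul, map_mul, Pi.mul_apply, Pi.mul_apply, hπf]
    rw [map_sub, map_smul, Pi.sub_apply, Pi.smul_apply, hπf, hval]
    by_cases h : i ∈ S
    · have : i = i₀ := hS1 i h
      subst this
      simp only [F, if_pos h, E, coef]
      rw [Matrix.single_mul_mul_single, Matrix.smul_single, smul_eq_mul]
      simp
    · simp [F, h]
  let W : Submodule k R := Submodule.span k {w | ∃ x ∈ A, ∃ y ∈ A, w = x * y - y * x}
  have hWJJ : W ≤ JA * JA := by
    refine Submodule.span_le.2 ?_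
    rintro w ⟨a, ha, a', ha', rfl⟩
    obtain ⟨h1, h2⟩ := (hA a).1 ha
    obtain ⟨h1', h2'⟩ := (hA a').1 ha'
    have : a * a' - a' * a = (a - coef a • f) * (a' - coef a' • f) -
        (a' - coef a' • f) * (a - coef a • f) := by
      simp only [mul_sub, sub_mul, smul_mul_assoc, mul_smul_comm, h1, h2, h1', h2', hff, smul_smul,
        mul_comm (coef a) (coef a'), smul_sub, smul_add]
      abel
    rw [this]
    exact sub_mem (Submodule.mul_mem_mul (hsub a ha) (hsub a' ha'))
      (Submodule.mul_mem_mul (hsub a' ha') (hsub a ha))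
  let U : Submodule k R := A.map (LinearMap.mulLeft k X)
  -- the radical of the corner is `X` times the corner modulo its square
  have hgen : JA ≤ U ⊔ JA * JA := by
    intro x hx
    by_contra hxV
    obtain ⟨g, hgx, hgV⟩ := Submodule.exists_le_ker_of_notMem hxV
    have hgW : ∀ y ∈ W, g y = 0 := fun y hy =>
      LinearMap.mem_ker.1 (hgV (Submodule.mem_sup_right (hWJJ hy)))
    have hcomm : ∀ y ∈ A, ∀ z ∈ A, g (y * z) = g (z * y) := fun y hy z hz => by
      have h := hgW _ (Submodule.subset_span ⟨y, hy, z, hz, rfl⟩)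
      rwa [map_sub, sub_eq_zero] at h
    let G₁ : R →ₗ[k] k :=
      ∑ p ∈ s, g.comp (LinearMap.mulLeft k (f * c p) ∘ₗ LinearMap.mulRight k (b p * f))
    have hG₁ : ∀ a, G₁ a = ∑ p ∈ s, g (f * c p * (a * (b p * f))) := fun a => by
      simp [G₁, LinearMap.sum_apply, mul_assoc]
    obtain ⟨κ, hκ⟩ := htr G₁
      (fun y z => by
        have hexp : ∀ y z : R, G₁ (y * z) = ∑ p ∈ s, ∑ r ∈ s,
            g ((f * c p * y * b r * f) * (f * c r * z * b p * f)) := fun y z => by
          rw [hG₁]
          refine Finset.sum_congr rfl fun p _ => ?_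
          rw [← map_sum]
          congr 1
          calc f * c p * (y * z * (b p * f)) = f * c p * (e * (y * z * (b p * f))) := by
                conv_rhs => rw [← mul_assoc, mul_assoc f (c p) e, hce]
            _ = f * c p * (y * (e * (z * (b p * f)))) := by
                rw [← mul_assoc e, ← mul_assoc e, hec y]; simp only [mul_assoc]
            _ = _ := by
                rw [hdec, Finset.sum_mul, Finset.mul_sum, Finset.mul_sum]
                refine Finset.sum_congr rfl fun r _ => ?_
                simp only [mul_assoc]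
                rw [← mul_assoc f f, hff]
        rw [hexp, hexp, Finset.sum_comm]
        refine Finset.sum_congr rfl fun p _ => Finset.sum_congr rfl fun r _ =>
          hcomm _ (by simpa [mul_assoc] using hAmem (c r * y * b p)) _
            (by simpa [mul_assoc] using hAmem (c p * z * b r)))
      (fun a => by
        rw [hG₁, hG₁]
        refine Finset.sum_congr rfl fun p _ => ?_
        congr 1
        rw [mul_assoc e, ← mul_assoc _ e, mul_assoc f, hce])
      (fun a => by
        rw [hG₁]
        refine Finset.sum_eq_zero fun p _ => LinearMap.mem_ker.1 (hgV (Submodule.mem_sup_left ?_))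
        refine ⟨f * c p * (a * (b p * f)), ?_, ?_⟩
        · simpa [mul_assoc] using hAmem (c p * a * b p)
        · rw [LinearMap.mulLeft_apply, ← mul_assoc X (f * c p), hXc (f * c p)]
          simp only [mul_assoc])
    obtain ⟨κ₀, hκ₀⟩ := htrline i₀ hi₀
    have hκ₀0 : κ₀ ≠ 0 := by
      intro h
      obtain ⟨ri, hri⟩ := hπ (Pi.single i₀ (E i₀))
      have h3 : tr i₀ ri = 1 := by rw [htrapp, hri, Pi.single_eq_same, hEtr]
      rw [hκ₀, h, zero_smul, LinearMap.zero_apply] at h3
      exact zero_ne_one h3
    obtain ⟨hx1, hx2⟩ := (hA x).1 hx.1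
    have h1 : G₁ x = g x := by
      rw [hG₁]
      calc ∑ p ∈ s, g (f * c p * (x * (b p * f)))
          = ∑ p ∈ s, g (x * (f * b p * f) * (f * c p * f)) := by
            refine Finset.sum_congr rfl fun p _ => ?_
            have e1 : f * c p * (x * (b p * f)) = (f * c p * f) * (x * (f * b p * f)) := by
              conv_lhs => rw [← hx1, ← hx2]
              simp only [mul_assoc]
            rw [e1]
            refine hcomm _ (hAmem _) _ ((hA _).2 ⟨?_, ?_⟩)
            · rw [← mul_assoc, hx1]
            · simp only [mul_assoc, hff]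
        _ = g x := by
            rw [← map_sum]
            congr 1
            calc ∑ p ∈ s, x * (f * b p * f) * (f * c p * f)
                = x * f * (∑ p ∈ s, b p * f * c p) * f := by
                  rw [Finset.mul_sum, Finset.sum_mul]
                  refine Finset.sum_congr rfl fun p _ => ?_
                  simp only [mul_assoc]
                  rw [← mul_assoc f f, hff]
              _ = x := by rw [← hdec, mul_assoc, hef, hx2, hx2]
    have h2 : tr i₀ x = 0 := by
      rw [htrapp, (hker x).2 hx.2, Pi.zero_apply, Matrix.trace_zero]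
    rw [hκ, LinearMap.smul_apply] at h1
    rw [hκ₀, LinearMap.smul_apply, smul_eq_mul, mul_eq_zero] at h2
    rw [h2.resolve_left hκ₀0, smul_zero] at h1
    exact hgx h1.symm
  have hJApow : ∀ m : ℕ, JA ^ (m + 1) ≤ (J ^ (m + 1)).restrictScalars k := by
    intro m
    induction m with
    | zero => rw [zero_add, pow_one, Submodule.pow_one]; exact inf_le_right
    | succ m ih =>
      rw [pow_succ]
      refine Submodule.mul_le.2 fun a ha a' ha' => ?_
      rw [Submodule.restrictScalars_mem, Submodule.pow_succ]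
      exact Ideal.mul_mem_mul (ih ha) ha'.2
  have hUA : ∀ y ∈ U, ∀ a ∈ A, y * a ∈ U := by
    rintro _ ⟨w, hw, rfl⟩ a ha
    refine ⟨w * a, (hA _).2 ⟨?_, ?_⟩, by simp [mul_assoc]⟩
    · rw [← mul_assoc, ((hA w).1 hw).1]
    · rw [mul_assoc, ((hA a).1 ha).2]
  have hfilt : ∀ m : ℕ, JA ≤ U ⊔ JA ^ (m + 1) := by
    intro m
    induction m with
    | zero => simp
    | succ m ih =>
      refine hgen.trans (sup_le le_sup_left ((mul_le_mul' ih le_rfl).trans ?_))
      rw [Submodule.sup_mul, ← pow_succ]
      refine sup_le_sup_right (Submodule.mul_le.2 fun y hy a ha => hUA y hy a (Submodule.mem_inf.1 ha).1) _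
  have hJU : JA ≤ U := (hfilt N).trans (sup_le le_rfl ((hJApow N).trans fun y hy => by
    rw [Submodule.restrictScalars_mem, hJN, Submodule.mem_bot] at hy
    simp [hy]))
  refine ⟨f, hff, hfe, ⟨s.card, fun i => b (s.equivFin.symm i), fun i => c (s.equivFin.symm i),
    ?_⟩, fun a => ?_⟩
  · rw [hdec, ← Finset.sum_coe_sort s]
    exact (Equiv.sum_comp s.equivFin.symm (fun p : s => b p * f * c p)).symm
  · obtain ⟨w, hw, hXw⟩ := hJU (hsub _ (hAmem a))
    refine ⟨coef (f * a * f), w, ?_⟩
    obtain ⟨h1, h2⟩ := (hA w).1 hw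
    rw [h1, h2, show X * w = f * a * f - coef (f * a * f) • f from hXw, add_sub_cancel]

/-- The consequences for the powers of `X`. -/
theorem exists_uniserial_data (e X : R) (he : e * e = e) (hec : ∀ x, e * x = x * e)
    (hXc : ∀ x, X * x = x * X) (hXe : X * e = X) {q : ℕ} (hq : 1 ≤ q) (hXq : X ^ q = 0)
    (hXq1 : e * X ^ (q - 1) ≠ 0) (f₀ : R →ₗ[k] k)
    (htr : ∀ g : R →ₗ[k] k, (∀ x y, g (x * y) = g (y * x)) → (∀ a, g (e * a) = g a) →
      (∀ a, g (X * a) = 0) → ∃ c : k, g = c • f₀) :
    ∃ ε : R, ε * ε = ε ∧ ε * e = ε ∧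
      (∃ (n : ℕ) (a c : Fin n → R), e = ∑ i, a i * ε * c i) ∧
      (∀ a, ∃ f : ℕ → k, ε * a * ε = ∑ i ∈ Finset.range q, f i • (X ^ i * ε)) ∧
      (∀ a, e * a = a → X * a = 0 → ∃ u, a = X ^ (q - 1) * u) := by
  classical
  have he0 : e ≠ 0 := fun h => hXq1 (by rw [h, zero_mul])
  obtain ⟨ε, hεε, hεe, ⟨n, u, v, hfull⟩, hloc⟩ :=
    exists_uniserial_corner e X he hec he0 hXc hXe ⟨q, hXq⟩ f₀ htr
  have hXpc : ∀ (i : ℕ) (x : R), X ^ i * x = x * X ^ i := fun i x =>
    ((show Commute X x from hXc x).pow_left i).eq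
  have hexp : ∀ (m : ℕ) (a : R), ∃ (f : ℕ → k) (w : R),
      ε * a * ε = (∑ i ∈ Finset.range m, f i • (X ^ i * ε)) + X ^ m * (ε * w * ε) := by
    intro m
    induction m with
    | zero => exact fun a => ⟨fun _ => 0, a, by simp⟩
    | succ m ih =>
      intro a
      obtain ⟨f, w, hfw⟩ := ih a
      obtain ⟨r, w', hw'⟩ := hloc w
      refine ⟨fun i => if i = m then r else f i, w', ?_⟩
      rw [hfw, hw', Finset.sum_range_succ]
      dsimp only
      rw [if_pos rfl, mul_add, mul_smul_comm, pow_succ,
        mul_assoc, add_assoc]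
      simp only [mul_assoc]
      congr 1
      exact Finset.sum_congr rfl fun i hi => by rw [if_neg (Finset.mem_range.1 hi).ne]
  have heps : ∀ a, ∃ f : ℕ → k, ε * a * ε = ∑ i ∈ Finset.range q, f i • (X ^ i * ε) := fun a => by
    obtain ⟨f, w, h⟩ := hexp q a
    exact ⟨f, by rw [h, hXq, zero_mul, add_zero]⟩
  have hne : ∀ i < q, X ^ i * ε ≠ 0 := by
    intro i hi h
    apply hXq1
    have h1 : X ^ (q - 1) * ε = 0 := by
      rw [show q - 1 = q - 1 - i + i by omega, pow_add, mul_assoc, h, mul_zero]
    rw [← hXpc, hfull, Finset.mul_sum]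
    refine Finset.sum_eq_zero fun j _ => ?_
    rw [← mul_assoc, ← mul_assoc, hXpc, mul_assoc (u j), h1, mul_zero, zero_mul]
  refine ⟨ε, hεε, hεe, ⟨n, u, v, hfull⟩, heps, fun a hea hXa => ?_⟩
  have hij : ∀ i j, ∃ r : k, ε * (v i * a * u j) * ε = r • (X ^ (q - 1) * ε) := by
    intro i j
    obtain ⟨f, hf⟩ := heps (v i * a * u j)
    refine ⟨f (q - 1), ?_⟩
    have hX0 : X * (ε * (v i * a * u j) * ε) = 0 := by
      rw [← mul_assoc, ← mul_assoc, hXc ε, mul_assoc ε X, ← mul_assoc X (v i * a), ← mul_assoc X,
        hXc (v i), mul_assoc (v i) X a, hXa]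
      simp
    rw [hf, Finset.sum_eq_single_of_mem (q - 1) (Finset.mem_range.2 (by omega))]
    intro l hl hlq
    rw [Finset.mem_range] at hl
    -- the lower coefficients vanish
    have hall : ∀ l, l < q - 1 → f l = 0 := by
      intro l
      induction l using Nat.strong_induction_on with
      | _ l ih =>
        intro hl
        rw [hf] at hX0
        have h2 : X ^ (q - 2 - l) * (X * ∑ i ∈ Finset.range q, f i • (X ^ i * ε)) = 0 := by
          rw [hX0, mul_zero]
        rw [← mul_assoc, ← pow_succ, show q - 2 - l + 1 = q - 1 - l by omega, Finset.mul_sum,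
          Finset.sum_eq_single_of_mem l (Finset.mem_range.2 (by omega))] at h2
        · rw [mul_smul_comm, ← mul_assoc, ← pow_add, show q - 1 - l + l = q - 1 by omega,
            smul_eq_zero] at h2
          exact h2.resolve_right (hne _ (by omega))
        · intro i hi hil
          rcases lt_or_gt_of_ne hil with h | h
          · rw [ih i h (by omega), zero_smul, mul_zero]
          · rw [mul_smul_comm, ← mul_assoc, ← pow_add,
              show q - 1 - l + i = q + (i - l - 1) by omega, pow_add, hXq, zero_mul, zero_mul,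
              smul_zero]
    rw [hall l (by omega), zero_smul]
  choose r hr using hij
  refine ⟨∑ i, ∑ j, r i j • (u i * ε * v j), ?_⟩
  calc a = e * a * e := by rw [hea, ← hec, hea]
    _ = ∑ i, ∑ j, u i * (ε * (v i * a * u j) * ε) * v j := by
        rw [hfull, Finset.sum_mul, Finset.sum_mul]
        refine Finset.sum_congr rfl fun i _ => ?_
        rw [Finset.mul_sum]
        refine Finset.sum_congr rfl fun j _ => ?_
        simp only [mul_assoc]
    _ = _ := by
        simp only [hr]
        simp only [Finset.mul_sum, mul_smul_comm, smul_mul_assoc, ← mul_assoc, ← hXpc (q - 1) (u _)]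

end CfsgLib.Block
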