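import Cfsg.Agent.Lib.Block.CyclicDescent
import Cfsg.Agent.Lib.Block.UniserialCorner
import Cfsg.Agent.Lib.Block.StableBlock
import Cfsg.Agent.Lib.Block.ResidueSpan
import Cfsg.Agent.Lib.BlockA.BlockDim
import Cfsg.Agent.Lib.BlockA.CoverSub

/-!
# The modular algebra of a block with cyclic defect group and trivial inertial quotient

For inertial index one the Brauer homomorphism at the defect group `D` identifies the centre of
the block algebra with `k[X] / X ^ |D|`; the block algebra is a matrix algebra over this ring.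
-/

set_option autoImplicit false
set_option linter.unusedSectionVars false
set_option maxHeartbeats 1000000

namespace CfsgLib.Block.CycBlock

open Cfsg CfsgLib.Block CfsgLib.BlockA MonoidAlgebra

universe u

variable {G : Type u} [Group G] [Fintype G] {p : ℕ} [hp : Fact p.Prime] {M : Ideal AlgInt}
  [M.IsPrime] (S : CycBlock G p M)

local notation "cen" Q => Subgroup.centralizer ((Q : Subgroup G) : Set G)
local notation "kk" => kres M
local notation "ofG" => MonoidAlgebra.of (kres M) G

/-- The block idempotent in the group algebra. -/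
noncomputable abbrev EB : MonoidAlgebra (kres M) G := (blkIdem M S.B : MonoidAlgebra (kres M) G)

/-- The idempotent of the maximal pair. -/
noncomputable abbrev ED : MonoidAlgebra (kres M) G := sIdem M (cen S.D) S.eD

theorem EB_class : IsClassCoeff S.EB := isClassCoeff_center _

theorem EB_comm (a : MonoidAlgebra (kres M) G) : S.EB * a = a * S.EB :=
  ((Subalgebra.mem_center_iff.1 (blkIdem M S.B).2) a).symm

theorem EB_idem : S.EB * S.EB = S.EB := by
  rw [EB, ← Subalgebra.coe_mul, blkIdem_idem S.hM S.isPBlock_B]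

theorem isPGroup_D : IsPGroup p S.D := IsPGroup.of_card S.natCard_D

/-- The truncation to the centralizer of the defect group is multiplicative on invariant
elements. -/
theorem projT_cen_mul {a b : MonoidAlgebra (kres M) G} (ha : IsPInv S.D a) (hb : IsPInv S.D b) :
    projT (cen S.D) (a * b) = projT (cen S.D) a * projT (cen S.D) b := by
  classical
  have hproj : ∀ c : MonoidAlgebra (kres M) G,
      projT (cen S.D) c = inclSub (cen S.D) (resSub (cen S.D) c) := fun c => by
    ext g
    rw [coeff_projT]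
    split_ifs with hg
    · rw [show g = ((⟨g, hg⟩ : (cen S.D)) : G) from rfl, coeff_inclSub_of_mem, coeff_resSub]
    · rw [coeff_inclSub_of_not_mem _ _ hg]
  rw [hproj, hproj, hproj, resSub_mul S.hM S.isPGroup_D ha hb, map_mul]

theorem ED_comm {a : MonoidAlgebra (kres M) G} (ha : SuppIn (cen S.D) a) :
    S.ED * a = a * S.ED :=
  sIdem_mul_comm S.eD ha

theorem ED_supp : SuppIn (cen S.D) S.ED := fun _ hg => coeff_sIdem_of_not_mem _ hg

theorem ED_idem : S.ED * S.ED = S.ED := sIdem_idem S.hM S.isBrauerPair_eD.2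

/-- The Brauer homomorphism followed by the idempotent of the pair. -/
noncomputable def Phi (a : MonoidAlgebra (kres M) G) : MonoidAlgebra (kres M) G :=
  projT (cen S.D) a * S.ED

theorem Phi_EB : S.Phi S.EB = S.ED := by
  classical
  have h := (isBrauerPairOf_iff_mul S.hM S.isBrauerPair_eD S.isPBlock_B).1 S.hmax.1
  rw [Phi, ← S.ED_comm (suppIn_projT _ _)]
  refine Eq.trans ?_ h
  congr 1
  ext g
  rw [coeff_projT]
  split_ifs with hg
  · rw [show g = ((⟨g, hg⟩ : (cen S.D)) : G) from rfl, coeff_inclSub_of_mem, coeff_resSub]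
  · rw [coeff_inclSub_of_not_mem _ _ hg]

theorem Phi_mul {a b : MonoidAlgebra (kres M) G} (ha : IsClassCoeff a) (hb : IsClassCoeff b) :
    S.Phi (a * b) = S.Phi a * S.Phi b := by
  rw [Phi, Phi, Phi, S.projT_cen_mul (isPInv_of_isClassCoeff ha _) (isPInv_of_isClassCoeff hb _)]
  calc projT (cen S.D) a * projT (cen S.D) b * S.ED
      = projT (cen S.D) a * (projT (cen S.D) b * S.ED * S.ED) := by
        rw [mul_assoc (projT (cen S.D) b), S.ED_idem, mul_assoc]
    _ = _ := by
        simp only [mul_assoc]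
        rw [← mul_assoc S.ED, S.ED_comm (suppIn_projT _ b), mul_assoc]

/-- The element `u - 1`. -/
noncomputable def vv : MonoidAlgebra (kres M) G := ofG S.u - 1

theorem commute_u_of_mem {n : G} (hn : n ∈ (cen S.D)) : Commute n S.u := by
  have h := S.mem_cen_iff.1 hn
  exact mul_inv_eq_iff_eq_mul.1 h

theorem vv_supp : SuppIn (cen S.D) S.vv :=
  suppIn_sub (suppIn_of (S.D_le_cen (S.hu ▸ Subgroup.mem_zpowers S.u))) (suppIn_one _)

theorem vv_pow_q : S.vv ^ (p ^ S.a) = 0 := by
  have := charP_kres S.hM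
  have hpoly : ((Polynomial.X : Polynomial (kres M)) - 1) ^ (p ^ S.a) =
      Polynomial.X ^ (p ^ S.a) - 1 := by
    rw [sub_pow_char_pow, one_pow]
  have h := congrArg (Polynomial.aeval (ofG S.u)) hpoly
  simp only [map_pow, map_sub, Polynomial.aeval_X, map_one] at h
  rw [vv, h, ← map_pow, ← S.hord, pow_orderOf_eq_one, map_one, sub_self]

theorem vv_pow_pred :
    S.vv ^ (p ^ S.a - 1) = ∑ i ∈ Finset.range (p ^ S.a), ofG (S.u ^ i) := by
  have := charP_kres S.hM
  have hpoly : ∑ i ∈ Finset.range (p ^ S.a), (Polynomial.X : Polynomial (kres M)) ^ i =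
      (Polynomial.X - 1) ^ (p ^ S.a - 1) := by
    refine mul_right_cancel₀ (Polynomial.X_sub_C_ne_zero 1) ?_
    rw [map_one, geom_sum_mul, ← pow_succ,
      Nat.sub_add_cancel (Nat.one_le_pow _ _ hp.out.pos), sub_pow_char_pow, one_pow]
  have h := congrArg (Polynomial.aeval (ofG S.u)) hpoly
  simp only [map_sum, map_pow, map_sub, Polynomial.aeval_X, map_one] at h
  rw [vv, ← h]
  simp [map_pow]

theorem vv_pow_pred_mul_ED : S.vv ^ (p ^ S.a - 1) * S.ED ≠ 0 := by
  classical
  intro h0
  obtain ⟨c, hc⟩ : ∃ c, S.ED.coeff c ≠ 0 := by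
    by_contra h
    push Not at h
    exact sIdem_ne_zero S.hM S.isBrauerPair_eD.2 (by ext c; simpa using h c)
  have hreg : ∀ y, S.ED.coeff y ≠ 0 → y ∈ (cen S.D) ∧ ¬ p ∣ orderOf y := by
    intro y hy
    have hyC : y ∈ (cen S.D) := by
      by_contra hyC
      exact hy (S.ED_supp y hyC)
    refine ⟨hyC, fun hdvd => hy ?_⟩
    rw [ED, sIdem, show y = ((⟨y, hyC⟩ : (cen S.D)) : G) from rfl, coeff_inclSub_of_mem]
    exact blkIdem_coeff_eq_zero_of_singular S.hM S.isBrauerPair_eD.2
      (by rwa [Subgroup.orderOf_mk])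
  have h1 := congrArg (fun a : MonoidAlgebra (kres M) G => a.coeff c) h0
  simp only [S.vv_pow_pred, Finset.sum_mul, coeff_sum, Finsupp.finsetSum_apply, of_apply,
    coeff_single_mul_apply, one_mul] at h1
  rw [Finset.sum_eq_single_of_mem 0 (Finset.mem_range.2 (pow_pos hp.out.pos _))] at h1
  · simp at h1
    exact hc h1
  intro i hi hi0
  by_contra hne
  obtain ⟨hyC, hyr⟩ := hreg _ hne
  obtain ⟨hcC, hcr⟩ := hreg _ hc
  apply hi0
  have hcomm : Commute (S.u ^ i)⁻¹ c := ((S.commute_u_of_mem hcC).symm.pow_left i).inv_left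
  set x := (S.u ^ i)⁻¹ with hx
  -- `x` is a `p`-element and the quotient of two commuting regular elements
  have hxord : orderOf x ∣ p ^ S.a := by
    rw [hx, orderOf_inv, ← S.hord]
    exact orderOf_pow_dvd i
  have hxreg : orderOf x ∣ orderOf (x * c) * orderOf c := by
    have e : x = x * c * c⁻¹ := by rw [mul_inv_cancel_right]
    conv_lhs => rw [e]
    refine (Commute.orderOf_mul_dvd_lcm ?_).trans
      ((Nat.lcm_dvd_mul _ _).trans (by rw [orderOf_inv]))
    exact ((hcomm.mul_left (Commute.refl c)).inv_right)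
  have hcop : Nat.Coprime (orderOf x) (orderOf (x * c) * orderOf c) := by
    refine Nat.Coprime.coprime_dvd_left hxord (Nat.Coprime.pow_left _ ?_)
    exact (Nat.Prime.coprime_iff_not_dvd hp.out).2 fun h =>
      (hp.out.dvd_mul.1 h).elim hyr hcr
  have hx1 : x = 1 := orderOf_eq_one_iff.1 (Nat.eq_one_of_dvd_coprimes hcop dvd_rfl hxreg)
  rw [hx, inv_eq_one] at hx1
  have h2 := orderOf_dvd_of_pow_eq_one hx1
  rw [S.hord] at h2
  exact Nat.eq_zero_of_dvd_of_lt h2 (Finset.mem_range.1 hi)

theorem T_eq_cen (he : S.e = 1) : S.T = (cen S.D) :=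
  le_antisymm (Subgroup.relIndex_eq_one.1 he) S.cen_le_T

/-- The trace from the stabilizer of an element of the pair maps to it. -/
theorem exists_trace_preimage (he : S.e = 1) {a : MonoidAlgebra (kres M) G}
    (hainv : IsPInv (cen S.D) a) (hasupp : SuppIn (cen S.D) a) (haE : a * S.ED = a)
    (hdef : ∀ x, a.coeff x ≠ 0 → ∀ R : Subgroup G, IsPGroup p R → R ≤ (cen S.D) →
      R ≤ Subgroup.centralizer ({x} : Set G) → R ≤ S.D) :
    ∃ X₀, IsClassCoeff X₀ ∧ S.Phi X₀ = a := by
  classical
  have := charP_kres S.hM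
  set C := (cen S.D) with hC
  have := Fintype.ofFinite (G ⧸ C)
  set X₀ : MonoidAlgebra (kres M) G := ∑ q : G ⧸ C, conjGA q.out a with hX₀
  have hout : ∀ (y : G) (q : G ⧸ C), conjGA y (conjGA q.out a) = conjGA (y • q).out a := by
    intro y q
    rw [conjGA_conjGA]
    refine conjGA_eq_of_mem hainv ?_
    have h : ((y * q.out : G) : G ⧸ C) = ((y • q).out : G ⧸ C) := by
      rw [QuotientGroup.out_eq', ← smul_eq_mul]
      conv_rhs => rw [← QuotientGroup.out_eq' q]
      rfl
    exact QuotientGroup.eq.1 h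
  have hinv : ∀ y, conjGA y X₀ = X₀ := fun y => by
    rw [hX₀, conjGA_sum]
    exact Fintype.sum_equiv (MulAction.toPerm y) _ _ (hout y)
  refine ⟨X₀, fun g h => ?_, ?_⟩
  · conv_rhs => rw [← hinv h⁻¹, coeff_conjGA, inv_inv]
  have hNle : Subgroup.normalizer (S.D : Set G) ≤ Subgroup.normalizer (C : Set G) :=
    normalizer_le_normalizer_centralizer S.hM S.D
  have hstep : projT C X₀ =
      ∑ q ∈ Finset.univ.filter (fun q : G ⧸ C => q.out ∈ Subgroup.normalizer (S.D : Set G)),
        conjGA q.out a := by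
    ext c
    rw [coeff_projT, hX₀, coeff_sum, Finsupp.finsetSum_apply, coeff_sum, Finsupp.finsetSum_apply]
    split_ifs with hc
    · have hfix : ∀ (d : S.D) (q : G ⧸ C),
          (conjGA (d • q).out a).coeff c = (conjGA q.out a).coeff c := fun d q => by
        have h := hout (d : G) q
        rw [show (d • q) = ((d : G) • q) from rfl, ← h, coeff_conjGA]
        congr 1
        rw [(Subgroup.mem_centralizer_iff.1 hc (d : G) d.2 |> fun h' =>
          show ((d : G))⁻¹ * c * d = c by rw [mul_assoc, ← h', inv_mul_cancel_left])]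
      rw [sum_eq_sum_fixed (p := p) (P := S.D) S.isPGroup_D (α := G ⧸ C)
        (fun v => by rw [nsmul_eq_mul, CharP.cast_eq_zero, zero_mul]) _ hfix]
      refine (Finset.sum_subset ?_ ?_).symm
      · intro q hq
        refine Finset.mem_filter.2 ⟨Finset.mem_univ _, fun d => ?_⟩
        have hq' := (Finset.mem_filter.1 hq).2
        show ((d : G) • q) = q
        conv_lhs => rw [← QuotientGroup.out_eq' q]
        conv_rhs => rw [← QuotientGroup.out_eq' q]
        refine (QuotientGroup.eq.2 ?_).symm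
        show q.out⁻¹ * ((d : G) * q.out) ∈ C
        rw [← mul_assoc]
        have := (Subgroup.mem_normalizer_iff''.1 hq' (d : G)).1 d.2
        exact S.D_le_cen (by simpa [mul_assoc] using this)
      · intro q hq hq'
        by_contra hne
        apply hq'
        refine Finset.mem_filter.2 ⟨Finset.mem_univ _, ?_⟩
        rw [coeff_conjGA] at hne
        set x := q.out⁻¹ * c * q.out with hx
        set R := S.D.map (MulAut.conj q.out⁻¹).toMonoidHom with hR
        have hfixq : ∀ d ∈ S.D, q.out⁻¹ * d * q.out ∈ C := fun d hd => by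
          have h1 : ((d : G) • q) = q := (Finset.mem_filter.1 hq).2 ⟨d, hd⟩
          have h2 : ((d * q.out : G) : G ⧸ C) = (q.out : G ⧸ C) := by
            conv_rhs => rw [QuotientGroup.out_eq', ← h1]
            conv_rhs => rw [← QuotientGroup.out_eq' q]
            rfl
          have h3 := C.inv_mem (QuotientGroup.eq.1 h2)
          simpa [mul_assoc] using h3
        have hRC : R ≤ C := by
          rintro _ ⟨d, hd, rfl⟩
          simpa [MulAut.conj_apply] using hfixq d hd
        have hRx : R ≤ Subgroup.centralizer ({x} : Set G) := by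
          rintro _ ⟨d, hd, rfl⟩
          rw [Subgroup.mem_centralizer_singleton_iff]
          have h := Subgroup.mem_centralizer_iff.1 hc d hd
          simp only [MulEquiv.coe_toMonoidHom, MulAut.conj_apply, inv_inv, hx]
          rw [show q.out⁻¹ * d * q.out * (q.out⁻¹ * c * q.out) = q.out⁻¹ * (d * c) * q.out by group,
            show q.out⁻¹ * c * q.out * (q.out⁻¹ * d * q.out) = q.out⁻¹ * (c * d) * q.out by group,
            h]
        have hle := hdef x hne R (S.isPGroup_D.map _) hRC hRx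
        have heq : R = S.D := Subgroup.eq_of_le_of_card_ge hle (by rw [hR, natCard_map_conj])
        refine Subgroup.mem_normalizer_iff''.2 fun d => ⟨fun hd => ?_, fun hd => ?_⟩
        · rw [← heq]
          exact ⟨d, hd, by simp [MulAut.conj_apply]⟩
        · rw [← heq] at hd
          obtain ⟨d', hd', he'⟩ := hd
          simp [MulAut.conj_apply] at he'
          rwa [← he']
    · refine (Finset.sum_eq_zero fun q hq => ?_).symm
      rw [coeff_conjGA]
      refine hasupp _ fun h => hc ?_
      exact (Subgroup.mem_normalizer_iff''.1 (hNle (Finset.mem_filter.1 hq).2) c).2 h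
  rw [Phi, hstep, Finset.sum_mul]
  have hE0 : S.ED ≠ 0 := sIdem_ne_zero S.hM S.isBrauerPair_eD.2
  rw [Finset.sum_eq_single_of_mem ((1 : G) : G ⧸ C)]
  · rw [conjGA_eq_of_mem hainv (y := (1 : G)) (by
      have h : (((1 : G) : G ⧸ C).out : G ⧸ C) = ((1 : G) : G ⧸ C) := QuotientGroup.out_eq' _
      exact QuotientGroup.eq.1 h), conjGA_one, haE]
  · refine Finset.mem_filter.2 ⟨Finset.mem_univ _, Subgroup.centralizer_le_normalizer _ ?_⟩
    have h : (((1 : G) : G ⧸ C).out : G ⧸ C) = ((1 : G) : G ⧸ C) := QuotientGroup.out_eq' _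
    have h' := C.inv_mem (QuotientGroup.eq.1 h)
    simpa using h'
  intro q hq hq1
  set n := q.out with hn
  have hnN := (Finset.mem_filter.1 hq).2
  have hnC : n ∉ C := fun h => hq1 (by
    rw [← QuotientGroup.out_eq' q]
    exact QuotientGroup.eq.2 (by simpa using C.inv_mem h))
  have hzsupp : ∀ m ∈ Subgroup.normalizer (S.D : Set G), SuppIn C (conjGA m S.ED) := by
    intro m hm x hx
    rw [coeff_conjGA]
    exact S.ED_supp _ fun h => hx ((Subgroup.mem_normalizer_iff''.1 (hNle hm) x).2 h)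
  have hzinv : ∀ m ∈ Subgroup.normalizer (S.D : Set G), IsPInv C (conjGA m S.ED) := by
    intro m hm c hcC x
    rw [coeff_conjGA, coeff_conjGA]
    have h := (Subgroup.mem_normalizer_iff''.1 (hNle hm) c).1 hcC
    have := isPInv_sIdem_pairStab (M := M) S.D S.eD (m⁻¹ * c * m) (S.cen_le_T h) (m⁻¹ * x * m)
    rw [← this]
    congr 1
    group
  rw [← haE, conjGA_mul, mul_assoc]
  rcases mul_sIdem_eq S.hM S.isBrauerPair_eD.2 (hzsupp n hnN)
    (by rw [← conjGA_mul, S.ED_idem]) (hzinv n hnN) with h | h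
  · exfalso
    apply hnC
    -- the conjugate pair equals the pair
    have hn' : n⁻¹ ∈ Subgroup.normalizer (S.D : Set G) := inv_mem hnN
    set z' := conjGA n⁻¹ S.ED with hz'
    have h1 : S.ED * z' = z' := by
      have := congrArg (conjGA n⁻¹) h
      rwa [conjGA_mul, conjGA_conjGA, inv_mul_cancel, conjGA_one] at this
    have h2 : z' * S.ED = z' := by rw [← S.ED_comm (hzsupp _ hn'), h1]
    rcases mul_sIdem_eq S.hM S.isBrauerPair_eD.2 (hzsupp _ hn')
      (by rw [← conjGA_mul, S.ED_idem]) (hzinv _ hn') with h3 | h3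
    · rw [h2] at h3
      have hT : n⁻¹ ∈ S.T := ⟨hn', fun g => by
        conv_rhs => rw [← h3]
        rw [hz', coeff_conjGA]⟩
      rw [S.T_eq_cen he] at hT
      exact inv_mem_iff.1 hT
    · rw [h2] at h3
      have h4 := congrArg (conjGA n) h3
      rw [hz', conjGA_conjGA, mul_inv_cancel, conjGA_one, conjGA_zero] at h4
      exact absurd h4 hE0
  · rw [h, mul_zero]

theorem exists_seed_unit (he : S.e = 1) :
    ∃ w : MonoidAlgebra (kres M) G, IsPInv (cen S.D) w ∧ SuppIn (cen S.D) w ∧ w * S.ED = w ∧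
      (∀ x, w.coeff x ≠ 0 → ∀ R : Subgroup G, IsPGroup p R → R ≤ (cen S.D) →
        R ≤ Subgroup.centralizer ({x} : Set G) → R ≤ S.D) ∧
      ∀ a, a * S.ED = a → a * w = 0 → a = 0 := by
  classical
  obtain ⟨ξ, hξ⟩ := isPBlock_nonempty S.isBrauerPair_eD.2
  obtain ⟨w, hinv, hsupp, hwE, hval, hdef⟩ := exists_seed S.hM S.hmax hξ
  rw [show pairStab M S.D S.eD = (cen S.D) from S.T_eq_cen he] at hinv hdef
  refine ⟨w, hinv, hsupp, hwE, hdef, fun a haE haw => ?_⟩
  have hC : IsCInv S.D w := isCInv_of_isPInv le_rfl hinv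
  rw [pairVal_eq ξ hC] at hval
  set w' : Subalgebra.center (kres M) (MonoidAlgebra (kres M) (cen S.D)) :=
    ⟨resSub (cen S.D) w, isClassCoeff_iff_mem_center.1 hC⟩ with hw'
  set r := lam M ξ w' with hr
  obtain ⟨m, hm⟩ := isNilpotent_sub_lam_mul_blkIdem S.hM S.isBrauerPair_eD.2 hξ w'
  have hN : (w - r • S.ED) ^ m = 0 := by
    have h := congrArg (fun z : Subalgebra.center (kres M) (MonoidAlgebra (kres M) (cen S.D)) =>
      inclSub (cen S.D) (z : MonoidAlgebra (kres M) (cen S.D))) hm
    simp only [SubmonoidClass.coe_pow, map_pow, Subalgebra.coe_zero, map_zero] at h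
    rw [← h]
    congr 1
    rw [Subalgebra.coe_mul, map_mul, ← sIdem, Subalgebra.coe_sub, map_sub,
      Subalgebra.coe_algebraMap, sub_mul,
      show inclSub (cen S.D) (w' : MonoidAlgebra (kres M) (cen S.D)) = w from
        inclSub_resSub _ hsupp, hwE, Algebra.algebraMap_eq_smul_one]
    congr 1
    ext g
    by_cases hg : g ∈ (cen S.D)
    · rw [show g = ((⟨g, hg⟩ : (cen S.D)) : G) from rfl]
      have : inclSub (cen S.D) (r • (1 : MonoidAlgebra (kres M) (cen S.D))) = r • 1 := by
        simp [inclSub, MonoidAlgebra.mapDomainRingHom, MonoidAlgebra.one_def]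
      rw [this, smul_mul_assoc, one_mul]
    · have : inclSub (cen S.D) (r • (1 : MonoidAlgebra (kres M) (cen S.D))) = r • 1 := by
        simp [inclSub, MonoidAlgebra.mapDomainRingHom, MonoidAlgebra.one_def]
      rw [this, smul_mul_assoc, one_mul]
  have hit : ∀ i : ℕ, a * (w - r • S.ED) ^ i = (-r) ^ i • a := by
    intro i
    induction i with
    | zero => simp
    | succ i ih =>
      rw [pow_succ, ← mul_assoc, ih, smul_mul_assoc, mul_sub, haw, mul_smul_comm, haE, zero_sub,
        ← neg_smul, smul_smul, ← pow_succ]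
  have h := hit m
  rw [hN, mul_zero] at h
  exact (smul_eq_zero.1 h.symm).resolve_left (pow_ne_zero _ (neg_ne_zero.2 hval))

/-- **The centre of the block algebra is generated by one nilpotent element.** -/
theorem exists_center_generator (he : S.e = 1) :
    ∃ X : MonoidAlgebra (kres M) G, IsClassCoeff X ∧ X * S.EB = X ∧ X ^ (p ^ S.a) = 0 ∧
      S.EB * X ^ (p ^ S.a - 1) ≠ 0 ∧
      (∀ f : ℕ → kres M, ∑ i ∈ Finset.range (p ^ S.a), f i • (X ^ i * S.EB) = 0 →
        ∀ i < p ^ S.a, f i = 0) ∧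
      ∀ c, IsClassCoeff c → ∃ f : ℕ → kres M,
        c * S.EB = ∑ i ∈ Finset.range (p ^ S.a), f i • (X ^ i * S.EB) := by
  classical
  obtain ⟨w, hwinv, hwsupp, hwE, hwdef, hwcancel⟩ := S.exists_seed_unit he
  set q := p ^ S.a with hq
  have hvinv : ∀ n ∈ (cen S.D), ofG n * S.vv = S.vv * ofG n := fun n hn => by
    rw [vv, mul_sub, sub_mul, ← map_mul, ← map_mul, (S.commute_u_of_mem hn).eq, one_mul, mul_one]
  have hvE : S.vv * S.ED = S.ED * S.vv := (S.ED_comm S.vv_supp).symm
  have hvw : IsPInv (cen S.D) (S.vv * w) := by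
    refine isPInv_mul (fun n hn x => ?_) hwinv
    have h := hvinv n hn
    have h' := congrArg (fun a : MonoidAlgebra (kres M) G => a.coeff (n * x)) h
    simp only [of_apply, coeff_single_mul_apply, coeff_mul_single_apply, one_mul, mul_one,
      inv_mul_cancel_left] at h'
    exact h'.symm
  obtain ⟨X₀, hX₀c, hX₀⟩ := S.exists_trace_preimage he (a := S.vv * w) hvw
    (suppIn_mul S.vv_supp hwsupp) (by rw [mul_assoc, hwE]) fun x hx R hR hRC hRx => by
      have hterm : (S.vv * w).coeff x = w.coeff (S.u⁻¹ * x) - w.coeff x := by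
        rw [vv, sub_mul, one_mul, coeff_sub, Finsupp.sub_apply, of_apply, coeff_single_mul_apply,
          one_mul]
      by_cases h : w.coeff x = 0
      · refine hwdef (S.u⁻¹ * x) (fun h' => hx (by rw [hterm, h, h', sub_zero])) R hR hRC
          fun r hr => Subgroup.mem_centralizer_singleton_iff.2 ?_
        exact (((S.commute_u_of_mem (hRC hr)).inv_right).mul_right
          (Subgroup.mem_centralizer_singleton_iff.1 (hRx hr) : Commute r x)).eq
      · exact hwdef x h R hR hRC hRx
  set X := X₀ * S.EB with hX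
  have hX₀comm : ∀ a, X₀ * a = a * X₀ := fun a =>
    ((Subalgebra.mem_center_iff.1 (isClassCoeff_iff_mem_center.1 hX₀c)) a).symm
  have hXc : IsClassCoeff X := by
    rw [isClassCoeff_iff_mem_center] at hX₀c ⊢
    exact Subalgebra.mul_mem _ hX₀c (blkIdem M S.B).2
  have hXE : X * S.EB = X := by rw [hX, mul_assoc, S.EB_idem]
  have hpowc : ∀ i, IsClassCoeff (X ^ i * S.EB) := fun i => by
    rw [isClassCoeff_iff_mem_center] at hXc ⊢
    exact Subalgebra.mul_mem _ (Subalgebra.pow_mem _ hXc i) (blkIdem M S.B).2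
  have hPhiX : S.Phi X = S.vv * w := by
    rw [hX, S.Phi_mul hX₀c S.EB_class, hX₀, S.Phi_EB, mul_assoc, hwE]
  have hPhi : ∀ i, S.Phi (X ^ i * S.EB) = (S.vv * w) ^ i * S.ED := by
    intro i
    induction i with
    | zero => rw [pow_zero, one_mul, S.Phi_EB, pow_zero, one_mul]
    | succ i ih => rw [pow_succ', mul_assoc, S.Phi_mul hXc (hpowc i), hPhiX, ih, ← mul_assoc,
        ← pow_succ']
  have hcvw : Commute S.vv w := by
    show S.vv * w = w * S.vv
    rw [eq_sum_of_suppIn hwsupp, Finset.mul_sum, Finset.sum_mul]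
    exact Finset.sum_congr rfl fun g hg => by
      rw [mul_smul_comm, smul_mul_assoc, hvinv g (Finset.mem_filter.1 hg).2]
  have hne : ∀ n, n < q → ∀ m, S.vv ^ n * S.ED * w ^ m ≠ 0 := by
    intro n hn m
    induction m with
    | zero =>
      intro h
      apply S.vv_pow_pred_mul_ED
      rw [pow_zero, mul_one] at h
      rw [show p ^ S.a - 1 = p ^ S.a - 1 - n + n by omega, pow_add, mul_assoc, h, mul_zero]
    | succ m ih =>
      intro h
      refine ih (hwcancel _ ?_ (by rw [mul_assoc, ← pow_succ, h]))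
      rw [mul_assoc, ← S.ED_comm (suppIn_pow hwsupp m), ← mul_assoc, mul_assoc (S.vv ^ n),
        S.ED_idem]
  have hPhilin : ∀ f : ℕ → kres M, S.Phi (∑ i ∈ Finset.range q, f i • (X ^ i * S.EB)) =
      ∑ i ∈ Finset.range q, f i • ((S.vv * w) ^ i * S.ED) := fun f => by
    rw [Phi, map_sum, Finset.sum_mul]
    refine Finset.sum_congr rfl fun i _ => ?_
    rw [map_smul, smul_mul_assoc, ← hPhi i, Phi]
  have hv0 : ∀ n, q ≤ n → S.vv ^ n = 0 := fun n hn => by
    rw [show n = p ^ S.a + (n - p ^ S.a) by omega, pow_add, S.vv_pow_q, zero_mul]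
  have hind' : ∀ f : ℕ → kres M, ∑ i ∈ Finset.range q, f i • ((S.vv * w) ^ i * S.ED) = 0 →
      ∀ i < q, f i = 0 := by
    intro f hf i
    induction i using Nat.strong_induction_on with
    | _ i ih =>
      intro hi
      have h2 : S.vv ^ (q - 1 - i) * ∑ j ∈ Finset.range q, f j • ((S.vv * w) ^ j * S.ED) = 0 := by
        rw [hf, mul_zero]
      rw [Finset.mul_sum, Finset.sum_eq_single_of_mem i (Finset.mem_range.2 hi)] at h2
      · rw [mul_smul_comm, smul_eq_zero] at h2
        refine h2.resolve_right ?_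
        rw [hcvw.mul_pow, mul_assoc (S.vv ^ i), ← S.ED_comm (suppIn_pow hwsupp i), ← mul_assoc,
          ← mul_assoc, ← pow_add]
        exact hne _ (by omega) i
      · intro j _ hji
        rcases lt_or_gt_of_ne hji with h | h
        · rw [ih j h (by omega), zero_smul, mul_zero]
        · rw [mul_smul_comm, hcvw.mul_pow, ← mul_assoc, ← mul_assoc, ← pow_add,
            hv0 _ (by omega), zero_mul, zero_mul, smul_zero]
  have hind : ∀ f : ℕ → kres M, ∑ i ∈ Finset.range q, f i • (X ^ i * S.EB) = 0 →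
      ∀ i < q, f i = 0 := fun f hf => hind' f (by
    rw [← hPhilin, hf, Phi, map_zero, zero_mul])
  -- the span is the whole centre
  set W := LinearMap.range (LinearMap.mulLeft (kres M) S.EB ∘ₗ classEmb (kres M) G) with hW
  have hmemW : ∀ c, IsClassCoeff c → S.EB * c ∈ W := fun c hc => by
    refine ⟨fun C => c.coeff C.out, ?_⟩
    rw [LinearMap.comp_apply, LinearMap.mulLeft_apply]
    congr 1
    ext g
    show (mkGA fun g => c.coeff (ConjClasses.mk g).out).coeff g = c.coeff g
    rw [coeff_mkGA]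
    exact coeff_eq_of_isConj hc (ConjClasses.mk_eq_mk_iff_isConj.1 (Quotient.out_eq _))
  let b : Fin q → W := fun i => ⟨S.EB * (X ^ (i : ℕ) * S.EB), hmemW _ (hpowc i)⟩
  have hb : ∀ i, ((b i : W) : MonoidAlgebra (kres M) G) = X ^ (i : ℕ) * S.EB := fun i => by
    show S.EB * _ = _
    rw [S.EB_comm, mul_assoc, S.EB_idem]
  have hli : LinearIndependent (kres M) b := by
    rw [Fintype.linearIndependent_iff]
    intro g hg i
    have h := congrArg Subtype.val hg
    simp only [AddSubmonoidClass.coe_finsetSum, Submodule.coe_smul, hb, ZeroMemClass.coe_zero] at h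
    have h2 := hind (fun j => if hj : j < q then g ⟨j, hj⟩ else 0) (by
      rw [← h, Finset.sum_range]
      exact Finset.sum_congr rfl fun j _ => by simp) i i.2
    simpa using h2
  have hcard : Module.finrank (kres M) W = Fintype.card (Fin q) := by
    rw [Fintype.card_fin, hW, finrank_block_center S.hM S.isPBlock_B,
      (S.rank_card_of_e_eq_one he).2]
  have hspan := hli.span_eq_top_of_card_eq_finrank' hcard.symm
  have hexp : ∀ c, IsClassCoeff c → ∃ f : ℕ → kres M,
      c * S.EB = ∑ i ∈ Finset.range q, f i • (X ^ i * S.EB) := by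
    intro c hc
    have hmem : (⟨S.EB * c, hmemW c hc⟩ : W) ∈ Submodule.span (kres M) (Set.range b) := by
      rw [hspan]; trivial
    obtain ⟨g, hg⟩ := (Submodule.mem_span_range_iff_exists_fun _).1 hmem
    refine ⟨fun j => if hj : j < q then g ⟨j, hj⟩ else 0, ?_⟩
    have h := congrArg Subtype.val hg
    simp only [AddSubmonoidClass.coe_finsetSum, Submodule.coe_smul, hb] at h
    rw [← S.EB_comm, ← h, Finset.sum_range]
    exact Finset.sum_congr rfl fun j _ => by simp
  refine ⟨X, hXc, hXE, ?_, fun h => ?_, hind, hexp⟩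
  · obtain ⟨f, hf⟩ := hexp (X ^ q) (by
      rw [isClassCoeff_iff_mem_center] at hXc ⊢
      exact Subalgebra.pow_mem _ hXc q)
    have h0 : ∀ i < q, f i = 0 := hind' f (by
      rw [← hPhilin, ← hf, hPhi, hcvw.mul_pow, hv0 q le_rfl, zero_mul, zero_mul])
    obtain ⟨n, hn⟩ := Nat.exists_eq_succ_of_ne_zero (pow_ne_zero S.a hp.out.ne_zero)
    have hXq : X ^ q * S.EB = X ^ q := by rw [hq, hn, pow_succ, mul_assoc, hXE]
    rw [← hXq, hf]
    exact Finset.sum_eq_zero fun i hi => by rw [h0 i (Finset.mem_range.1 hi), zero_smul]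
  · rw [S.EB_comm] at h
    have := hPhi (q - 1)
    rw [h, Phi, map_zero, zero_mul, hcvw.mul_pow, mul_assoc,
      ← S.ED_comm (suppIn_pow hwsupp (q - 1)), ← mul_assoc] at this
    exact hne (q - 1) (by have := pow_pos hp.out.pos S.a; omega) (q - 1) this.symm

/-- An element whose trace from the defect group is the block idempotent. -/
theorem exists_trace_idem (he : S.e = 1) :
    ∃ β : MonoidAlgebra (kres M) G, (∀ y ∈ S.D, ofG y * β = β * ofG y) ∧
      ∀ V : Finset G, (∀ c : G, ∃! d, d ∈ V ∧ d⁻¹ * c ∈ S.D) →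
        ∑ d ∈ V, ofG d * β * ofG d⁻¹ = S.EB := by
  classical
  have := charP_kres S.hM
  obtain ⟨X, hXc, hXE, hXq, -, -, hexp⟩ := S.exists_center_generator he
  obtain ⟨g₀, hg₀, P, hP⟩ := (maximal_core S.hM S.hmax).1
  obtain ⟨χ, hχ⟩ := isPBlock_nonempty S.isPBlock_B
  have hlam := ((isDefectClass_iff S.hM S.isPBlock_B hχ g₀).1 hg₀).2
  set K := classSumZ (kres M) g₀ with hK
  obtain ⟨f, hf⟩ := hexp (classSum (kres M) g₀) (classSum_isClassCoeff g₀)
  set q := p ^ S.a with hq
  let Xz : Subalgebra.center (kres M) (MonoidAlgebra (kres M) G) :=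
    ⟨X, isClassCoeff_iff_mem_center.1 hXc⟩
  have hq0 : 0 < q := pow_pos hp.out.pos _
  set N : Subalgebra.center (kres M) (MonoidAlgebra (kres M) G) :=
    ∑ i ∈ (Finset.range q).erase 0, f i • (Xz ^ i * blkIdem M S.B) with hN
  have hKeq : K * blkIdem M S.B = f 0 • blkIdem M S.B + N := by
    apply Subtype.ext
    rw [hN, Subalgebra.coe_add, AddSubmonoidClass.coe_finsetSum, Subalgebra.coe_mul]
    show classSum (kres M) g₀ * S.EB = _
    rw [hf, ← Finset.add_sum_erase _ _ (Finset.mem_range.2 hq0), pow_zero, one_mul]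
    rfl
  have hNnil : IsNilpotent N := by
    refine Commute.isNilpotent_sum (fun i hi => ⟨q, ?_⟩) fun i j _ _ => Commute.all _ _
    have hXz : Xz ^ q = 0 := Subtype.ext (by rw [SubmonoidClass.coe_pow]; exact hXq)
    obtain ⟨n, hn⟩ := Nat.exists_eq_succ_of_ne_zero (Finset.mem_erase.1 hi).1
    rw [smul_pow, mul_pow, ← pow_mul, hn, Nat.succ_mul, pow_add, hXz, mul_zero, zero_mul,
      smul_zero]
  have hone : lam M χ (blkIdem M S.B) = 1 :=
    (algHom_blkIdem_eq_one_iff S.hM S.isPBlock_B χ).2 hχ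
  have hf0 : f 0 ≠ 0 := by
    intro h
    apply hlam
    have h1 := congrArg (lam M χ) hKeq
    rw [map_mul, hone, mul_one, h, zero_smul, zero_add] at h1
    rw [h1]
    exact (hNnil.map (lam M χ)).eq_zero
  obtain ⟨U, hU⟩ := hNnil.isUnit_add_left_of_commute ((isUnit_iff_ne_zero.2 hf0).map
    (algebraMap (kres M) (Subalgebra.center (kres M) (MonoidAlgebra (kres M) G))))
      (Commute.all _ _)
  set W : MonoidAlgebra (kres M) G :=
    Subtype.val
      ((↑U⁻¹ : Subalgebra.center (kres M) (MonoidAlgebra (kres M) G)) * blkIdem M S.B) with hW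
  have hWcomm : ∀ a, W * a = a * W := fun a =>
    ((Subalgebra.mem_center_iff.1 (Subtype.prop _)) a).symm
  have hKW : classSum (kres M) g₀ * W = S.EB := by
    have h2 : N * blkIdem M S.B = N := by
      rw [hN, Finset.sum_mul]
      exact Finset.sum_congr rfl fun i _ => by
        rw [smul_mul_assoc, mul_assoc, blkIdem_idem S.hM S.isPBlock_B]
    have h : K * ((↑U⁻¹ : Subalgebra.center (kres M) (MonoidAlgebra (kres M) G)) * blkIdem M S.B) =
        blkIdem M S.B := by
      rw [mul_left_comm,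
        show K * blkIdem M S.B = (U : Subalgebra.center (kres M) _) * blkIdem M S.B by
          rw [hKeq, hU, add_mul, ← Algebra.smul_def, h2],
        ← mul_assoc, Units.inv_mul, one_mul]
    exact congrArg Subtype.val h
  have hgD : g₀ ∈ (cen S.D) := by
    rw [Subgroup.mem_centralizer_iff]
    intro y hy
    rw [hP] at hy
    obtain ⟨y', -, rfl⟩ := hy
    exact Subgroup.mem_centralizer_singleton_iff.1 y'.2
  have hDcard' := natCard_cenSub g₀ P
  rw [show cenSub g₀ (P : Subgroup (Subgroup.centralizer ({g₀} : Set G))) = S.D from hP.symm]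
    at hDcard'
  set Cg := Subgroup.centralizer ({g₀} : Set G) with hCg
  set m := (Nat.card Cg) / p ^ (Nat.card Cg).factorization p with hm
  have hDcard : Nat.card S.D = p ^ (Nat.card Cg).factorization p := by
    exact hDcard'
  have hm0 : (m : kres M) ≠ 0 := by
    rw [Ne, CharP.cast_eq_zero_iff (kres M) p]
    exact Nat.not_dvd_ordCompl hp.out Nat.card_pos.ne'
  have hcard : Nat.card Cg = Nat.card S.D * m := by
    rw [hDcard, hm, Nat.ordProj_mul_ordCompl_eq_self]
  refine ⟨(m : kres M)⁻¹ • (ofG g₀ * W), fun y hy => ?_, fun V hV => ?_⟩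
  · rw [mul_smul_comm, smul_mul_assoc, ← mul_assoc, ← map_mul,
      (Subgroup.mem_centralizer_iff.1 hgD y hy), map_mul, mul_assoc, ← hWcomm, ← mul_assoc]
  have hsum : ∑ d ∈ V, ofG (d * g₀ * d⁻¹) = (m : kres M) • classSum (kres M) g₀ := by
    ext x
    rw [coeff_smul, Finsupp.smul_apply, coeff_classSum, coeff_sum, Finsupp.finsetSum_apply]
    simp only [of_apply, coeff_single, Finsupp.single_apply, Finset.sum_boole, smul_eq_mul]
    split_ifs with hx
    · obtain ⟨h₀, hh₀⟩ := isConj_iff.1 hx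
      rw [mul_one]
      congr 1
      have e1 : Nat.card ({d ∈ V | d * g₀ * d⁻¹ = x} : Finset G) * Nat.card S.D =
          Nat.card Cg := by
        rw [← Nat.card_prod]
        refine Nat.card_congr (Equiv.ofBijective (fun dy => ⟨h₀⁻¹ * ((dy.1 : G) * dy.2), ?_⟩)
          ⟨?_, ?_⟩)
        · obtain ⟨⟨d, hd⟩, ⟨y, hy⟩⟩ := dy
          have hd' := (Finset.mem_filter.1 hd).2
          have hyg : y * g₀ * y⁻¹ = g₀ := by
            rw [Subgroup.mem_centralizer_iff.1 hgD y hy, mul_inv_cancel_right]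
          rw [Subgroup.mem_centralizer_singleton_iff]
          show h₀⁻¹ * (d * y) * g₀ = g₀ * (h₀⁻¹ * (d * y))
          have hh : d * g₀ * d⁻¹ = h₀ * g₀ * h₀⁻¹ := hd'.trans hh₀.symm
          calc h₀⁻¹ * (d * y) * g₀ = h₀⁻¹ * (d * (y * g₀ * y⁻¹) * d⁻¹) * d * y := by group
            _ = h₀⁻¹ * (h₀ * g₀ * h₀⁻¹) * d * y := by rw [hyg, hh]
            _ = g₀ * (h₀⁻¹ * (d * y)) := by group
        · rintro ⟨⟨d, hd⟩, ⟨y, hy⟩⟩ ⟨⟨d', hd'⟩, ⟨y', hy'⟩⟩ h
          have h1 : d * y = d' * y' := mul_left_cancel (congrArg Subtype.val h)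
          have h2 : d = d' := (hV (d * y)).unique
            ⟨(Finset.mem_filter.1 hd).1, by rw [inv_mul_cancel_left]; exact hy⟩
            ⟨(Finset.mem_filter.1 hd').1, by rw [h1, inv_mul_cancel_left]; exact hy'⟩
          subst h2
          obtain rfl := mul_left_cancel h1
          rfl
        · rintro ⟨c, hc⟩
          obtain ⟨d, ⟨hdV, hdD⟩, -⟩ := hV (h₀ * c)
          have hd : d * g₀ * d⁻¹ = x := by
            have hy : d⁻¹ * (h₀ * c) * g₀ = g₀ * (d⁻¹ * (h₀ * c)) :=
              Subgroup.mem_centralizer_iff.1 hgD _ hdD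
            have hc' : c * g₀ = g₀ * c := Subgroup.mem_centralizer_singleton_iff.1 hc
            calc d * g₀ * d⁻¹ = d * (g₀ * (d⁻¹ * (h₀ * c))) * (c⁻¹ * h₀⁻¹) := by group
              _ = h₀ * (c * g₀) * c⁻¹ * h₀⁻¹ := by rw [← hy]; group
              _ = x := by rw [hc', ← hh₀]; group
          exact ⟨⟨⟨d, Finset.mem_filter.2 ⟨hdV, hd⟩⟩, ⟨_, hdD⟩⟩, Subtype.ext (by simp)⟩
      rw [hcard, Nat.card_eq_finsetCard, mul_comm] at e1
      exact Nat.eq_of_mul_eq_mul_left Nat.card_pos e1
    · rw [mul_zero, Finset.filter_false_of_mem, Finset.card_empty, Nat.cast_zero]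
      exact fun d _ h => hx (isConj_iff.2 ⟨d, h⟩)
  calc ∑ d ∈ V, ofG d * ((m : kres M)⁻¹ • (ofG g₀ * W)) * ofG d⁻¹
      = (m : kres M)⁻¹ • ((∑ d ∈ V, ofG (d * g₀ * d⁻¹)) * W) := by
        rw [Finset.sum_mul, Finset.smul_sum]
        refine Finset.sum_congr rfl fun d _ => ?_
        rw [mul_smul_comm, smul_mul_assoc]
        congr 1
        simp only [map_mul, mul_assoc]
        rw [hWcomm (ofG d⁻¹)]
    _ = S.EB := by rw [hsum, smul_mul_assoc, smul_smul, inv_mul_cancel₀ hm0, one_smul, hKW]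

/-- **The uniserial structure of the block algebra.** -/
theorem exists_uniserial (he : S.e = 1) :
    ∃ X ε : MonoidAlgebra (kres M) G, (∀ a, X * a = a * X) ∧ X * S.EB = X ∧
      X ^ (p ^ S.a) = 0 ∧ S.EB * X ^ (p ^ S.a - 1) ≠ 0 ∧
      (∀ c, (∀ a, c * a = a * c) → ∃ f : ℕ → kres M,
        c * S.EB = ∑ i ∈ Finset.range (p ^ S.a), f i • (X ^ i * S.EB)) ∧
      ε * ε = ε ∧ ε * S.EB = ε ∧
      (∃ (n : ℕ) (a c : Fin n → MonoidAlgebra (kres M) G), S.EB = ∑ i, a i * ε * c i) ∧
      (∀ a, ∃ f : ℕ → kres M, ε * a * ε = ∑ i ∈ Finset.range (p ^ S.a), f i • (X ^ i * ε)) ∧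
      (∀ a, S.EB * a = a → X * a = 0 → ∃ u, a = X ^ (p ^ S.a - 1) * u) := by
  classical
  have := isAlgClosed_kres (M := M)
  obtain ⟨X, hXc, hXE, hXq, hXq1, hind, hexp⟩ := S.exists_center_generator he
  have hXcomm : ∀ a, X * a = a * X := fun a =>
    ((Subalgebra.mem_center_iff.1 (isClassCoeff_iff_mem_center.1 hXc)) a).symm
  have hcl : ∀ c : MonoidAlgebra (kres M) G, (∀ a, c * a = a * c) → IsClassCoeff c := fun c hc =>
    isClassCoeff_iff_mem_center.2 (Subalgebra.mem_center_iff.2 fun a => (hc a).symm)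
  set q := p ^ S.a with hq
  have hq0 : 0 < q := pow_pos hp.out.pos _
  set Z := X ^ (q - 1) * S.EB with hZ
  let f₀ : MonoidAlgebra (kres M) G →ₗ[kres M] kres M :=
    { toFun := fun a => (Z * a).coeff 1
      map_add' := fun a b => by simp [mul_add]
      map_smul' := fun r a => by simp [mul_smul_comm] }
  have htr : ∀ g : MonoidAlgebra (kres M) G →ₗ[kres M] kres M,
      (∀ x y, g (x * y) = g (y * x)) → (∀ a, g (S.EB * a) = g a) → (∀ a, g (X * a) = 0) →
      ∃ c : kres M, g = c • f₀ := by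
    intro g hsym hgE hgX
    set w : MonoidAlgebra (kres M) G := mkGA fun x => g (ofG x⁻¹) with hw
    have hga : ∀ a, g a = (w * a).coeff 1 := by
      intro a
      induction a using MonoidAlgebra.induction_on with
      | of y => rw [of_apply, coeff_mul_single_apply, one_mul, mul_one, hw, coeff_mkGA, inv_inv]; rfl
      | add a b ha hb => rw [map_add, ha, hb, mul_add, coeff_add, Finsupp.add_apply]
      | smul r a ha => rw [map_smul, ha, mul_smul_comm, coeff_smul, Finsupp.smul_apply]
    have hwc : IsClassCoeff w := fun x h => by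
      rw [hw, coeff_mkGA, coeff_mkGA, show (h * x * h⁻¹)⁻¹ = h * (x⁻¹ * h⁻¹) by group, map_mul,
        hsym, ← map_mul, inv_mul_cancel_right]
    have hwcomm : ∀ a, w * a = a * w := fun a =>
      ((Subalgebra.mem_center_iff.1 (isClassCoeff_iff_mem_center.1 hwc)) a).symm
    have hzero : ∀ c : MonoidAlgebra (kres M) G, (∀ a, g (c * a) = 0) → w * c = 0 := by
      intro c hc
      ext x
      have h := hc (ofG x⁻¹)
      rw [hga, ← mul_assoc, of_apply, coeff_mul_single_apply, inv_inv, one_mul, mul_one] at h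
      simpa using h
    have h1 : w * (1 - S.EB) = 0 := hzero _ fun a => by rw [sub_mul, one_mul, map_sub, hgE, sub_self]
    have h2 : w * X = 0 := hzero X hgX
    rw [mul_sub, mul_one, sub_eq_zero] at h1
    obtain ⟨f, hf⟩ := hexp w hwc
    rw [← h1] at hf
    have hlow : ∀ i < q - 1, f i = 0 := by
      intro i hi
      have h3 : ∑ j ∈ Finset.range q, (if j = 0 then 0 else f (j - 1)) • (X ^ j * S.EB) = 0 := by
        have h4 : X * w = 0 := by rw [hXcomm, h2]
        rw [hf, Finset.mul_sum] at h4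
        obtain ⟨r, hr⟩ : ∃ r, q = r + 1 := ⟨q - 1, by omega⟩
        rw [hr, Finset.sum_range_succ', if_pos rfl, zero_smul, add_zero]
        rw [hr, Finset.sum_range_succ, mul_smul_comm, ← mul_assoc, ← pow_succ', ← hr, hXq, zero_mul,
          smul_zero, add_zero] at h4
        rw [← h4]
        refine Finset.sum_congr rfl fun j _ => ?_
        rw [if_neg (by omega), Nat.add_sub_cancel, mul_smul_comm, ← mul_assoc, ← pow_succ']
      have := hind _ h3 (i + 1) (by omega)
      rwa [if_neg (by omega), Nat.add_sub_cancel] at this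
    refine ⟨f (q - 1), LinearMap.ext fun a => ?_⟩
    rw [hga, hf, LinearMap.smul_apply]
    show _ = f (q - 1) • (Z * a).coeff 1
    rw [Finset.sum_eq_single_of_mem (q - 1) (Finset.mem_range.2 (by omega)) fun i hi hne => by
      rw [hlow i (by have := Finset.mem_range.1 hi; omega), zero_smul], smul_mul_assoc, coeff_smul,
      Finsupp.smul_apply, hZ]
  obtain ⟨ε, hεε, hεE, hfull, heps, hann⟩ := exists_uniserial_data S.EB X S.EB_idem S.EB_comm hXcomm
    hXE hq0 hXq hXq1 f₀ htr
  exact ⟨X, ε, hXcomm, hXE, hXq, hXq1, fun c hc => hexp c (hcl c hc), hεε, hεE, hfull, heps, hann⟩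

end CfsgLib.Block.CycBlock
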