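import Cfsg.Agent.Lib.Block.CyclicSection
import Mathlib.FieldTheory.Finite.Basic

/-!
# Congruences modulo `p` between cyclotomic functions

A cyclotomic function divisible by `p` with all conjugates of absolute value less than `p` vanishes.
So a cyclotomic function of absolute value one that is congruent to an integer is a sign, and for
odd `p` a cyclotomic number of level `p ^ a` of absolute value one is a signed root of unity.
-/

set_option autoImplicit false
set_option linter.unusedSectionVars false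

namespace CfsgLib.Block

open CfsgLib.BlockB
open scoped ComplexConjugate
open Polynomial

variable {p n : ℕ}

/-- Congruence modulo `p` of functions at the primitive powers of the root of unity. -/
def CycCongr (p n : ℕ) (f g : ℕ → ℂ) : Prop :=
  ∃ h : ℕ → ℂ, IsCyclo n h ∧ ∀ k, k.Coprime n → f k - g k = p * h k

theorem isCyclo_sub {f g : ℕ → ℂ} (hf : IsCyclo n f) (hg : IsCyclo n g) :
    IsCyclo n (fun k => f k - g k) := by
  obtain ⟨P, hP⟩ := hf
  obtain ⟨Q, hQ⟩ := hg
  exact ⟨P - Q, fun k => by simp only [map_sub, hP, hQ]⟩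

theorem isCyclo_add {f g : ℕ → ℂ} (hf : IsCyclo n f) (hg : IsCyclo n g) :
    IsCyclo n (fun k => f k + g k) := by
  obtain ⟨P, hP⟩ := hf
  obtain ⟨Q, hQ⟩ := hg
  exact ⟨P + Q, fun k => by simp only [map_add, hP, hQ]⟩

theorem isCyclo_const_mul (z : ℤ) {f : ℕ → ℂ} (hf : IsCyclo n f) :
    IsCyclo n (fun k => (z : ℂ) * f k) :=
  (isCyclo_intCast n z).mul hf

theorem isCyclo_pow {f : ℕ → ℂ} (hf : IsCyclo n f) (m : ℕ) : IsCyclo n (fun k => f k ^ m) := by
  obtain ⟨P, hP⟩ := hf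
  exact ⟨P ^ m, fun k => by simp only [map_pow, hP]⟩

theorem isCyclo_rootPow (j : ℕ) : IsCyclo n (fun k => zetaN n ^ (j * k)) :=
  ⟨X ^ j, fun k => by rw [map_pow, aeval_X, ← pow_mul, mul_comm]⟩

theorem CycCongr.of_eq {f g : ℕ → ℂ} (h : ∀ k, k.Coprime n → f k = g k) :
    CycCongr p n f g :=
  ⟨fun _ => ((0 : ℤ) : ℂ), isCyclo_intCast n 0, fun k hk => by simp [h k hk]⟩

theorem CycCongr.refl (f : ℕ → ℂ) : CycCongr p n f f := CycCongr.of_eq fun _ _ => rfl

theorem CycCongr.symm {f g : ℕ → ℂ} (h : CycCongr p n f g) : CycCongr p n g f := by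
  obtain ⟨w, hw, e⟩ := h
  exact ⟨fun k => ((-1 : ℤ) : ℂ) * w k, isCyclo_const_mul (-1) hw, fun k hk => by
    push_cast
    linear_combination (-1 : ℂ) * e k hk⟩

theorem CycCongr.trans {f g h : ℕ → ℂ} (h1 : CycCongr p n f g) (h2 : CycCongr p n g h) :
    CycCongr p n f h := by
  obtain ⟨w, hw, e⟩ := h1
  obtain ⟨w', hw', e'⟩ := h2
  exact ⟨fun k => w k + w' k, isCyclo_add hw hw', fun k hk => by linear_combination e k hk + e' k hk⟩

theorem CycCongr.add {f g f' g' : ℕ → ℂ} (h : CycCongr p n f g) (h' : CycCongr p n f' g') :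
    CycCongr p n (fun k => f k + f' k) (fun k => g k + g' k) := by
  obtain ⟨w, hw, e⟩ := h
  obtain ⟨w', hw', e'⟩ := h'
  exact ⟨fun k => w k + w' k, isCyclo_add hw hw', fun k hk => by linear_combination e k hk + e' k hk⟩

theorem CycCongr.mul_left {f g c : ℕ → ℂ} (hc : IsCyclo n c) (h : CycCongr p n f g) :
    CycCongr p n (fun k => c k * f k) (fun k => c k * g k) := by
  obtain ⟨w, hw, e⟩ := h
  exact ⟨fun k => c k * w k, hc.mul hw, fun k hk => by linear_combination c k * e k hk⟩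

theorem CycCongr.mul {f g f' g' : ℕ → ℂ} (hf : IsCyclo n f) (hg' : IsCyclo n g')
    (h : CycCongr p n f g) (h' : CycCongr p n f' g') :
    CycCongr p n (fun k => f k * f' k) (fun k => g k * g' k) := by
  refine (h'.mul_left hf).trans ?_
  exact ((CycCongr.of_eq fun k _ => mul_comm (f k) (g' k)).trans (h.mul_left hg')).trans
    (CycCongr.of_eq fun k _ => mul_comm (g' k) (g k))

theorem CycCongr.pow {f g : ℕ → ℂ} (hf : IsCyclo n f) (hg : IsCyclo n g) (h : CycCongr p n f g)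
    (m : ℕ) : CycCongr p n (fun k => f k ^ m) (fun k => g k ^ m) := by
  induction m with
  | zero => exact CycCongr.of_eq fun k _ => by simp
  | succ m ih =>
    refine ((CycCongr.of_eq fun k _ => pow_succ (f k) m).trans
      (ih.mul (isCyclo_pow hf m) hg h)).trans ?_
    exact CycCongr.of_eq fun k _ => (pow_succ (g k) m).symm

theorem CycCongr.conj (hn : n ≠ 0) {f g : ℕ → ℂ} (h : CycCongr p n f g) :
    CycCongr p n (fun k => conj (f k)) (fun k => conj (g k)) := by
  obtain ⟨w, hw, e⟩ := h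
  refine ⟨fun k => conj (w k), hw.conj hn, fun k hk => ?_⟩
  show conj (f k) - conj (g k) = (p : ℂ) * conj (w k)
  rw [← map_sub, e k hk, map_mul, map_natCast]

variable [hp : Fact p.Prime]

/-- Frobenius: the `p`-th power is congruent to the value at the `p`-th power. -/
theorem cycCongr_frobenius {f : ℕ → ℂ} (hf : IsCyclo n f) :
    CycCongr p n (fun k => f k ^ p) (fun k => f (k * p)) := by
  obtain ⟨P, hP⟩ := hf
  obtain ⟨Q, hQ⟩ : C (p : ℤ) ∣ P ^ p - expand ℤ p P := by
    rw [C_dvd_iff_dvd_coeff]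
    intro i
    rw [← ZMod.intCast_zmod_eq_zero_iff_dvd, ← eq_intCast (Int.castRingHom (ZMod p)),
      ← coeff_map, Polynomial.map_sub, Polynomial.map_pow, map_expand, ZMod.expand_card, sub_self,
      coeff_zero]
  refine ⟨fun k => aeval (zetaN n ^ k) Q, ⟨Q, fun _ => rfl⟩, fun k _ => ?_⟩
  have h := congrArg (aeval (zetaN n ^ k)) hQ
  rw [map_sub, map_pow, expand_aeval, map_mul, aeval_C] at h
  beta_reduce
  rw [hP, hP, pow_mul]
  simpa using h

theorem cycCongr_frobenius_pow {f : ℕ → ℂ} (hf : IsCyclo n f) (j : ℕ) :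
    CycCongr p n (fun k => f k ^ p ^ j) (fun k => f (k * p ^ j)) := by
  induction j with
  | zero => exact CycCongr.of_eq fun k _ => by simp
  | succ j ih =>
    have h1 := ih.pow (isCyclo_pow hf _) (hf.comp_mul _) p
    refine ((CycCongr.of_eq fun k _ => by rw [← pow_mul, ← pow_succ]).trans h1).trans ?_
    refine (cycCongr_frobenius (hf.comp_mul (p ^ j))).trans (CycCongr.of_eq fun k _ => ?_)
    rw [mul_assoc, ← pow_succ']

theorem apply_val_one [NeZero n] {f : ℕ → ℂ} (hf : IsCyclo n f) :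
    f ((1 : (ZMod n)ˣ) : ZMod n).val = f 1 := by
  rw [Units.val_one, ZMod.val_one_eq_one_mod, hf.apply_mod (NeZero.ne n)]

/-- **Rigidity.** -/
theorem eq_zero_of_cycCongr_zero [NeZero n] {f : ℕ → ℂ}
    (h : CycCongr p n f (fun _ => 0)) (hsmall : ∀ u : (ZMod n)ˣ, ‖f (u : ZMod n).val‖ < p)
    (u : (ZMod n)ˣ) : f (u : ZMod n).val = 0 := by
  classical
  have hn : n ≠ 0 := NeZero.ne n
  obtain ⟨w, hw, e⟩ := h
  have hwf : ∀ v : (ZMod n)ˣ, f (v : ZMod n).val = p * w (v : ZMod n).val := fun v => by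
    simpa using e _ (ZMod.val_coe_unit_coprime v)
  suffices hw1 : w 1 = 0 by
    rw [hwf, hw.eq_int_of_coprime hn (m := 0) (by simpa using hw1)
      (ZMod.val_coe_unit_coprime u)]
    simp
  by_contra hw1
  have hne : ∀ v : (ZMod n)ˣ, w (v : ZMod n).val ≠ 0 := fun v hv => by
    apply hw1
    have h1 := (hw.comp_mul (v : ZMod n).val).eq_int_of_coprime hn (m := 0) (by simpa using hv)
      (ZMod.val_coe_unit_coprime v⁻¹)
    rw [← hw.apply_mod hn, ← ZMod.val_mul, Units.inv_mul, ← Units.val_one,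
      apply_val_one hw] at h1
    simpa using h1
  have h2 := one_le_prod_units hw hne
  have h3 : ∀ v : (ZMod n)ˣ, ‖w (v : ZMod n).val‖ < 1 := fun v => by
    have := hsmall v
    rw [hwf, norm_mul, Complex.norm_natCast] at this
    have hp0 : (0 : ℝ) < p := Nat.cast_pos.2 hp.out.pos
    nlinarith
  have h4 : ∏ v : (ZMod n)ˣ, ‖w (v : ZMod n).val‖ <
      ∏ _v : (ZMod n)ˣ, (1 : ℝ) :=
    Finset.prod_lt_prod_of_nonempty (fun v _ => norm_pos_iff.2 (hne v)) (fun v _ => h3 v)
      Finset.univ_nonempty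
  rw [Finset.prod_const_one] at h4
  linarith

theorem int_dvd_of_isIntegral {z : ℤ} {y : ℂ} (hy : IsIntegral ℤ y) (h : (z : ℂ) = p * y) :
    (p : ℤ) ∣ z := by
  have h1 : y = (((z : ℤ) : ℚ) / p : ℚ) := by
    push_cast
    rw [eq_div_iff (Nat.cast_ne_zero.2 hp.out.ne_zero), h, mul_comm]
  rw [h1] at hy
  obtain ⟨m, hm⟩ := IsIntegrallyClosed.isIntegral_iff.1
    ((isIntegral_algHom_iff (Algebra.ofId ℚ ℂ |>.restrictScalars ℤ)
      (algebraMap ℚ ℂ).injective).1 hy)
  refine ⟨m, ?_⟩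
  rw [eq_intCast, eq_div_iff (Nat.cast_ne_zero.2 hp.out.ne_zero)] at hm
  exact_mod_cast (show ((z : ℤ) : ℚ) = ((p * m : ℤ) : ℚ) by rw [← hm]; push_cast; ring)

theorem int_dvd_of_cycCongr (hn : n ≠ 0) {c d : ℤ}
    (h : CycCongr p n (fun _ => (c : ℂ)) (fun _ => (d : ℂ))) : (p : ℤ) ∣ c - d := by
  obtain ⟨w, hw, e⟩ := h
  exact int_dvd_of_isIntegral (hw.isIntegral hn 1) (by
    push_cast
    exact e 1 (Nat.coprime_one_left n))

variable [NeZero n]

theorem three_le (hp2 : p ≠ 2) : (3 : ℝ) ≤ p := by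
  exact_mod_cast (Nat.succ_le_of_lt (lt_of_le_of_ne hp.out.two_le (Ne.symm hp2)))

/-- A function of absolute value one congruent to an integer is a sign. -/
theorem exists_sign_of_cycCongr (hp2 : p ≠ 2) {f : ℕ → ℂ} (hf : IsCyclo n f)
    (habs : ∀ u : (ZMod n)ˣ, Complex.normSq (f (u : ZMod n).val) = 1) {c : ℤ}
    (hc : CycCongr p n f (fun _ => (c : ℂ))) :
    ∃ ε : ℤ, (ε = 1 ∨ ε = -1) ∧ (∀ u : (ZMod n)ˣ, f (u : ZMod n).val = ε) ∧
      (p : ℤ) ∣ ε - c := by
  have hn : n ≠ 0 := NeZero.ne n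
  have hfc := hf.conj hn
  -- `f ^ 2 - 1` at the units
  have hg : CycCongr p n (fun k => f k * f k - f k * conj (f k)) (fun _ => 0) := by
    have h1 : CycCongr p n (fun k => f k * f k) (fun _ => (c : ℂ) * c) :=
      hc.mul hf (isCyclo_intCast n c) hc
    have h2 : CycCongr p n (fun k => f k * conj (f k)) (fun _ => (c : ℂ) * c) :=
      (hc.mul hf (isCyclo_intCast n c) (hc.conj hn |>.trans
        (CycCongr.of_eq fun _ _ => by simp)))
    obtain ⟨w, hw, e⟩ := h1.trans h2.symm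
    exact ⟨w, hw, fun k hk => by simpa using e k hk⟩
  have hsq : ∀ u : (ZMod n)ˣ, f (u : ZMod n).val * f (u : ZMod n).val = 1 := fun u => by
    have h0 := eq_zero_of_cycCongr_zero hg (fun v => ?_) u
    · rw [Complex.mul_conj, habs u, Complex.ofReal_one, sub_eq_zero] at h0
      exact h0
    · rw [Complex.mul_conj, habs v, Complex.ofReal_one]
      refine lt_of_le_of_lt (norm_sub_le _ _) ?_
      rw [norm_mul, norm_one, Complex.norm_def, habs v, Real.sqrt_one]
      linarith [three_le (p := p) hp2]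
  obtain ⟨ε, hε, hε1⟩ : ∃ ε : ℤ, (ε = 1 ∨ ε = -1) ∧ f 1 = ε := by
    have h1 := hsq 1
    have h2 := apply_val_one hf
    rw [h2] at h1
    rcases mul_self_eq_one_iff.1 h1 with h | h
    · exact ⟨1, Or.inl rfl, by simpa using h⟩
    · exact ⟨-1, Or.inr rfl, by simpa using h⟩
  refine ⟨ε, hε, fun u => hf.eq_int_of_coprime hn hε1 (ZMod.val_coe_unit_coprime u), ?_⟩
  obtain ⟨w, hw, e⟩ := hc
  refine int_dvd_of_isIntegral (hw.isIntegral hn 1) ?_
  rw [← e 1 (Nat.coprime_one_left n), hε1]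
  push_cast
  ring

/-- **For odd `p` a cyclotomic number of absolute value one is a signed root of unity.** -/
theorem exists_root_of_normSq {a : ℕ} (hna : n = p ^ a) (hp2 : p ≠ 2) {f : ℕ → ℂ}
    (hf : IsCyclo n f) (habs : ∀ u : (ZMod n)ˣ, Complex.normSq (f (u : ZMod n).val) = 1)
    {c : ℤ} (hc : f 0 = c) :
    ∃ (ε : ℤ) (j : ℕ), (ε = 1 ∨ ε = -1) ∧
      ∀ u : (ZMod n)ˣ, f (u : ZMod n).val = ε * zetaN n ^ (j * (u : ZMod n).val) := by
  have hn : n ≠ 0 := NeZero.ne n
  have hcong : CycCongr p n (fun k => f k ^ n) (fun _ => (c : ℂ)) := by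
    subst hna
    refine (cycCongr_frobenius_pow hf a).trans (CycCongr.of_eq fun k _ => ?_)
    rw [← hf.apply_mod hn (k * p ^ a), Nat.mul_mod_left, hc]
  obtain ⟨ε, hε, hεu, -⟩ := exists_sign_of_cycCongr hp2 (isCyclo_pow hf n)
    (fun u => by rw [map_pow, habs u, one_pow]) hcong
  have hodd : Odd n := by
    rw [hna]
    exact (hp.out.odd_of_ne_two hp2).pow
  have hεn : (ε : ℂ) ^ n = ε := by
    rcases hε with rfl | rfl
    · simp
    · push_cast
      exact hodd.neg_one_pow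
  have hεε : (ε : ℂ) * ε = 1 := by rcases hε with rfl | rfl <;> simp
  have h1 : ((ε : ℂ) * f 1) ^ n = 1 := by
    rw [mul_pow, hεn, ← apply_val_one hf, hεu 1, hεε]
  obtain ⟨j, -, hj⟩ := (zetaN_isPrimitiveRoot hn).eq_pow_of_pow_eq_one h1
  refine ⟨ε, j, hε, fun u => ?_⟩
  have hg := isCyclo_sub hf (isCyclo_const_mul ε (isCyclo_rootPow (n := n) j))
  have h0 := hg.eq_int_of_coprime hn (m := 0) (by
    rw [mul_one, hj, ← mul_assoc, hεε, one_mul, sub_self, Int.cast_zero])
    (ZMod.val_coe_unit_coprime u)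
  rw [Int.cast_zero, sub_eq_zero] at h0
  exact h0

end CfsgLib.Block
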