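import Cfsg.Agent.Lib.Block.CyclicRestrict
import Cfsg.Agent.Lib.Block.CycloRigid
import Mathlib.NumberTheory.LegendreSymbol.AddCharacter

/-!
# Coherence for a cyclic defect block with trivial inertial quotient

For odd `p` every column of such a block at a nonzero number `i` is `c i * s θ * ψ (lam θ * i)` with
a sign `s θ`, an exponent `lam θ` and a number `c i` depending only on the level of `i`.
-/

set_option autoImplicit false
set_option linter.unusedSectionVars false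

namespace CfsgLib.Block

open Cfsg CfsgLib.Block CfsgLib.BlockA CfsgLib.BlockB CfsgLib.BlockB.SubSum
  CfsgLib.BlockB.HeightBound
open scoped ComplexConjugate

universe u

/-- The standard additive character of `ZMod n`. -/
noncomputable def zpsi (n : ℕ) [NeZero n] : AddChar (ZMod n) ℂ :=
  AddChar.zmodChar n (zetaN_isPrimitiveRoot (NeZero.ne n)).pow_eq_one

theorem zpsi_natCast {n : ℕ} [NeZero n] (k : ℕ) : zpsi n (k : ZMod n) = zetaN n ^ k :=
  AddChar.zmodChar_apply' _ k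

theorem zpsi_isPrimitive (n : ℕ) [NeZero n] : (zpsi n).IsPrimitive :=
  AddChar.zmodChar_primitive_of_primitive_root n (zetaN_isPrimitiveRoot (NeZero.ne n))

theorem conj_zpsi {n : ℕ} [NeZero n] (x : ZMod n) : conj (zpsi n x) = zpsi n (-x) := by
  have h1 : zpsi n (-x) * zpsi n x = 1 := by
    rw [← AddChar.map_add_eq_mul, neg_add_cancel, AddChar.map_zero_eq_one]
  have hn : ‖zpsi n x‖ = 1 := by
    rw [← ZMod.natCast_rightInverse x, zpsi_natCast, norm_pow,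
      (zetaN_isPrimitiveRoot (NeZero.ne n)).norm'_eq_one (NeZero.ne n), one_pow]
  rw [← Complex.inv_eq_conj hn]
  exact (eq_inv_of_mul_eq_one_left h1).symm

theorem zpsi_mul_conj {n : ℕ} [NeZero n] (x : ZMod n) : zpsi n x * conj (zpsi n x) = 1 := by
  rw [conj_zpsi, ← AddChar.map_add_eq_mul, add_neg_cancel, AddChar.map_zero_eq_one]

namespace CycBlock

variable {G : Type u} [Group G] [Fintype G] {p : ℕ} [hp : Fact p.Prime] {M : Ideal AlgInt}
  [M.IsPrime] (S : CycBlock G p M)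

local notation "cs" y => Subgroup.centralizer (Singleton.singleton y : Set G)

attribute [local instance] csFintype

/-- Every nonzero number is a unit times a power of `p`. -/
theorem exists_unit_mul_pow {i : ZMod (p ^ S.a)} (hi : i ≠ 0) :
    ∃ (j : ℕ) (w : (ZMod (p ^ S.a))ˣ), j < S.a ∧
      i = (w : ZMod (p ^ S.a)) * ((p ^ j : ℕ) : ZMod (p ^ S.a)) := by
  have hv : i.val ≠ 0 := fun h => hi ((ZMod.val_eq_zero i).1 h)
  obtain ⟨j, m, hm, hjm⟩ := Nat.exists_eq_pow_mul_and_not_dvd hv p hp.out.ne_one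
  have hlt : p ^ j < p ^ S.a := lt_of_le_of_lt
    (Nat.le_of_dvd (Nat.pos_of_ne_zero hv) ⟨m, hjm⟩) (ZMod.val_lt i)
  have hcop : m.Coprime (p ^ S.a) :=
    Nat.Coprime.pow_right _ ((hp.out.coprime_iff_not_dvd.2 hm).symm)
  refine ⟨j, ZMod.unitOfCoprime m hcop, (Nat.pow_lt_pow_iff_right hp.out.one_lt).1 hlt, ?_⟩
  rw [ZMod.coe_unitOfCoprime, ← Nat.cast_mul, mul_comm, ← hjm, ZMod.natCast_rightInverse i]

theorem pow_cast_ne_zero {j : ℕ} (hj : j < S.a) : ((p ^ j : ℕ) : ZMod (p ^ S.a)) ≠ 0 := by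
  rw [Ne, ZMod.natCast_eq_zero_iff]
  intro h
  exact absurd ((Nat.pow_dvd_pow_iff_le_right hp.out.one_lt).1 h) (not_le.2 hj)

theorem allEq_one : S.AllEq 1 := by simpa using (S.generator_block 1).1

theorem natCard_blk_one : Nat.card (S.blk 1) = p ^ S.a := by
  simpa using (S.generator_block 1).2.2

theorem secPow_zero (χ : IrrCharacter G) (i : ZMod (p ^ S.a)) :
    ∃ K : ℤ, S.secPow χ i 0 = K :=
  ⟨∑ θ ∈ (S.blk i).toFinite.toFinset, (resMult (S.el i) χ θ : ℤ), by simp [secPow]⟩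

variable (he : S.e = 1) (hp2 : p ≠ 2)
include he hp2

/-- The values at the generator. -/
theorem exists_root {θ : IrrCharacter G} (hθ : θ ∈ S.B) :
    ∃ (s : ℤ) (l : ℕ), (s = 1 ∨ s = -1) ∧ ∀ w : (ZMod (p ^ S.a))ˣ,
      S.secPow θ 1 (w : ZMod (p ^ S.a)).val = s * zetaN (p ^ S.a) ^ (l * (w : ZMod (p ^ S.a)).val) := by
  obtain ⟨K, hK⟩ := S.secPow_zero θ 1
  exact exists_root_of_normSq rfl hp2 (S.isCyclo_secPow θ 1)
    (normSq_secPow_eq_one S.allEq_one
      (by rw [natCard_blk_one, (S.rank_card_of_e_eq_one he).2]) hθ) hK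

/-- The congruence between the generator and a lower level. -/
theorem exists_level (j : ℕ) (hj : j < S.a) :
    ∃ K : ℤ, ∀ θ : IrrCharacter G, CycCongr p (p ^ S.a)
      (fun k => S.secPow θ 1 (k * p ^ j))
      (fun k => (K : ℂ) * S.secPow θ ((p ^ j : ℕ) : ZMod (p ^ S.a)) k) ∧
      S.dg ((p ^ j : ℕ) : ZMod (p ^ S.a)) * conj (S.dg ((p ^ j : ℕ) : ZMod (p ^ S.a))) *
        (p ^ S.a : ℕ) = S.nrm ((p ^ j : ℕ) : ZMod (p ^ S.a)) := by
  classical
  set i : ZMod (p ^ S.a) := ((p ^ j : ℕ) : ZMod (p ^ S.a)) with hi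
  have hi0 : i ≠ 0 := S.pow_cast_ne_zero hj
  have hAE := S.allEq_of_ne_zero hi0
  have := Fintype.ofFinite (IrrCharacter (cs (S.el i)))
  obtain ⟨S', hB', ha', he', hu', hβ'⟩ := S.exists_cenBlock' hi0
  have helu : S.el i = S.u ^ p ^ j := S.el_natCast _
  have hC1 : (cs (S.u ^ 1)) ≤ (cs (S.el i)) := by
    rw [pow_one, helu]
    exact centralizer_le_pow S.hM ⟨S.a, S.hord⟩ _
  have hβ1 : ∀ t : (cs (S.el i)), S'.beta 1 t = S.beta 1 (t : G) := fun t => by
    simpa using hβ' 1 hC1 t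
  have hel' : (S'.el 1 : G) = S.u := by rw [el_one, hu']
  -- the degrees agree
  have hdg : S'.dg 1 = S.dg 1 := by
    obtain ⟨d, hd, hdd⟩ := S.dg_eq_nat 1
    obtain ⟨d', hd', hdd'⟩ := S'.dg_eq_nat 1
    have h1 : S'.nrm 1 = S.nrm 1 := by
      rw [nrm_eq_beta, nrm_eq_beta, hβ1, OneMemClass.coe_one,
        natCard_cs_subgroup (x := S'.el 1) (by rw [hel', ← pow_one S.u]; exact hC1), hel', el_one]
    rw [nrm_eq S'.allEq_one, nrm_eq S.allEq_one, S'.natCard_blk_one, S.natCard_blk_one,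
      show ((p ^ S'.a : ℕ) : ℂ) = ((p ^ S.a : ℕ) : ℂ) by rw [ha'], hdd, hdd', Complex.conj_natCast, Complex.conj_natCast] at h1
    have h2 := mul_left_cancel₀ (Nat.cast_ne_zero.2 (pow_ne_zero _ hp.out.ne_zero)) h1
    have h3 : d' * d' = d * d := by exact_mod_cast h2
    rw [hdd, hdd', Nat.mul_self_inj.1 h3]
  -- the sums over the generator block
  let F : IrrCharacter (cs (S.el i)) → ℂ := fun ρ =>
    ∑ t : (cs (S.el i)), S.beta 1 (t : G) * (ρ : (cs (S.el i)) → ℂ) t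
  have hF : ∀ ρ, F ρ = S'.secPow ρ 1 0 * S.dg 1 := fun ρ => by
    rw [← hdg, S'.secPow_mul_dg S'.allEq_one, pow_zero]
    simp [F, subFun, hβ1]
  have hmem : ∀ ρ ∈ S.blk i, F ρ = F (S.member i) := fun ρ hρ => by
    refine Finset.sum_congr rfl fun t _ => ?_
    by_cases ht : S.beta 1 (t : G) = 0
    · rw [ht, zero_mul, zero_mul]
    · rw [← S.blk_coeff 1] at ht
      rw [hAE ρ hρ _ (S.member_mem i) t (by
        rw [← Subgroup.orderOf_coe]
        exact (SubColumn.beta_support S.hM (S.isPBlock_blk 1) ht).2)]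
  obtain ⟨K, hK⟩ := S'.secPow_zero (S.member i) 1
  have hnot : ∀ ρ, ρ ∉ S.blk i → ∃ l : ℤ, S'.secPow ρ 1 0 = ((p : ℤ) * l : ℤ) := by
    intro ρ hρ
    have : NeZero (p ^ S'.a) := ⟨pow_ne_zero _ hp.out.ne_zero⟩
    have h1 : S'.secPow ρ 1 1 = 0 := by
      have h := col_eq_secPow S'.allEq_one ρ
      rw [S'.col_eq_zero_of_not_mem (by rwa [hB'])] at h
      exact (mul_eq_zero.1 h.symm).resolve_right (S'.dg_ne_zero 1)
    obtain ⟨K', hK'⟩ := S'.secPow_zero ρ 1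
    obtain ⟨w, hw, e⟩ := cycCongr_frobenius_pow (p := p) (S'.isCyclo_secPow ρ 1) S'.a
    have h2 := e 1 (Nat.coprime_one_left _)
    simp only [one_mul, h1, zero_pow (pow_ne_zero _ hp.out.ne_zero)] at h2
    rw [← (S'.isCyclo_secPow ρ 1).apply_mod (pow_ne_zero _ hp.out.ne_zero) (p ^ S'.a), Nat.mod_self,
      hK', zero_sub] at h2
    obtain ⟨l, hl⟩ := int_dvd_of_isIntegral (z := -K') (hw.isIntegral (NeZero.ne _) 1)
      (by push_cast; exact h2)
    exact ⟨-l, by rw [hK']; congr 1; linear_combination (-1 : ℤ) * hl⟩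
  choose! l hl using hnot
  refine ⟨K, fun θ => ⟨?_, ?_⟩⟩
  · -- expansion through the centralizer
    have hexp : ∀ k : ℕ, S.secPow θ 1 (k * p ^ j) = ∑ ρ : IrrCharacter (cs (S.el i)),
        ((resMult (S.el i) θ ρ : ℂ) * centralRoot (S.el i) ρ ^ k) * S'.secPow ρ 1 0 := by
      intro k
      apply mul_right_cancel₀ (S.dg_ne_zero 1)
      rw [S.secPow_mul_dg S.allEq_one, el_one]
      unfold subFun
      rw [sum_mul_eq_sum_subgroup (H := (cs (S.el i))) (fun g hg => by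
        have h := S.mem_cs_of_beta hg
        rw [el_one] at h
        exact hC1 (by rwa [pow_one])) (fun g => (θ : G → ℂ) (g * S.u ^ (k * p ^ j)))]
      have hres : ∀ t : (cs (S.el i)), (θ : G → ℂ) ((t : G) * S.u ^ (k * p ^ j)) =
          ∑ ρ : IrrCharacter (cs (S.el i)), ((resMult (S.el i) θ ρ : ℂ) *
            centralRoot (S.el i) ρ ^ k) * (ρ : (cs (S.el i)) → ℂ) t := fun t => by
        rw [← apply_pow_mul S.hM (S.isPPower_el i) θ k t]
        have h : Commute (t : G) (S.el i) := Subgroup.mem_centralizer_singleton_iff.1 t.2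
        rw [mul_comm k, pow_mul, ← helu, (h.pow_right k).eq]
      simp only [hres, Finset.mul_sum, Finset.sum_mul]
      rw [Finset.sum_comm]
      refine Finset.sum_congr rfl fun ρ _ => ?_
      rw [mul_assoc _ (S'.secPow ρ 1 0), ← hF, Finset.mul_sum]
      exact Finset.sum_congr rfl fun t _ => by ring
    refine ⟨fun k => ∑ ρ ∈ (Finset.univ.filter fun ρ => ρ ∉ S.blk i),
        (l ρ : ℂ) * ((resMult (S.el i) θ ρ : ℂ) * centralRoot (S.el i) ρ ^ k), ?_, fun k _ => ?_⟩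
    · refine IsCyclo.sum _ fun ρ _ => ?_
      have h := isCyclo_const_mul (l ρ) (isCyclo_sum_roots (n := p ^ S.a)
        (pow_ne_zero _ hp.out.ne_zero) ({ρ} : Finset _) (fun ρ => resMult (S.el i) θ ρ)
        (fun ρ => centralRoot (S.el i) ρ) (fun ρ' _ => by
          obtain ⟨c, hc⟩ := S.orderOf_el_dvd i
          rw [hc, pow_mul, (centralRoot_spec S.hM (S.isPPower_el i) ρ').2.1, one_pow]))
      simpa only [Finset.sum_singleton] using h
    · beta_reduce
      rw [hexp, ← Finset.sum_filter_add_sum_filter_not Finset.univ (fun ρ => ρ ∈ S.blk i),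
        secPow, Finset.mul_sum, Finset.mul_sum]
      have h1 : ∀ ρ ∈ S.blk i, S'.secPow ρ 1 0 = K := fun ρ hρ => by
        apply mul_right_cancel₀ (S.dg_ne_zero 1)
        rw [← hF, hmem ρ hρ, hF, hK]
      rw [Finset.sum_congr (show (Finset.univ.filter fun ρ => ρ ∈ S.blk i) =
        (S.blk i).toFinite.toFinset by ext; simp) (fun ρ hρ => by
          rw [h1 ρ (by simpa using hρ), mul_comm]), add_sub_cancel_left]
      exact Finset.sum_congr rfl fun ρ hρ => by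
        rw [hl ρ (by simpa using hρ)]
        push_cast
        ring
  · rw [nrm_eq hAE, (S.natCard_blk hi0).2]
    ring

/-- **Coherence.** -/
theorem coherence : ∃ (s : IrrCharacter G → ℤ) (lam : IrrCharacter G → ZMod (p ^ S.a))
    (c : ZMod (p ^ S.a) → ℂ),
    haveI : NeZero (p ^ S.a) := ⟨pow_ne_zero _ hp.out.ne_zero⟩
    (∀ θ ∈ S.B, s θ = 1 ∨ s θ = -1) ∧
    (∀ θ ∈ S.B, ∀ i, i ≠ 0 → S.col θ i = c i * (s θ : ℂ) * zpsi (p ^ S.a) (lam θ * i)) ∧
    (∀ i, i ≠ 0 → ∀ w : (ZMod (p ^ S.a))ˣ, c ((w : ZMod (p ^ S.a)) * i) = c i) ∧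
    (∀ i, i ≠ 0 → c i * conj (c i) * (p ^ S.a : ℕ) = S.nrm i) := by
  classical
  have : NeZero (p ^ S.a) := ⟨pow_ne_zero _ hp.out.ne_zero⟩
  choose! s l hs hroot using fun θ (hθ : θ ∈ S.B) => S.exists_root he hp2 hθ
  choose! K hK using fun j (hj : j < S.a) => S.exists_level he hp2 j hj
  have hss : ∀ θ ∈ S.B, (s θ : ℂ) * s θ = 1 := fun θ hθ => by
    rcases hs θ hθ with h | h <;> simp [h]
  have hodd : Odd p := hp.out.odd_of_ne_two hp2
  -- the sign of a level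
  have hlev : ∀ j, j < S.a → ∃ ε : ℤ, (ε = 1 ∨ ε = -1) ∧ ∀ θ ∈ S.B,
      ∀ w : (ZMod (p ^ S.a))ˣ, S.secPow θ ((p ^ j : ℕ) : ZMod (p ^ S.a)) (w : ZMod (p ^ S.a)).val =
        ε * s θ * zetaN (p ^ S.a) ^ (l θ * p ^ j * (w : ZMod (p ^ S.a)).val) := by
    intro j hj
    set i : ZMod (p ^ S.a) := ((p ^ j : ℕ) : ZMod (p ^ S.a)) with hi
    have hi0 : i ≠ 0 := S.pow_cast_ne_zero hj
    have hAE := S.allEq_of_ne_zero hi0
    -- the congruence at one member
    have hy : ∀ θ ∈ S.B, CycCongr p (p ^ S.a)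
        (fun k => (K j : ℂ) * ((s θ : ℂ) * S.secPow θ i k *
          conj (zetaN (p ^ S.a) ^ (l θ * p ^ j * k)))) (fun _ => ((1 : ℤ) : ℂ)) := by
      intro θ hθ
      have hz : IsCyclo (p ^ S.a) (fun k => conj (zetaN (p ^ S.a) ^ (l θ * p ^ j * k))) :=
        (isCyclo_rootPow (l θ * p ^ j)).conj (NeZero.ne _)
      have h1 : CycCongr p (p ^ S.a) (fun k => S.secPow θ 1 k ^ p ^ j)
          (fun k => (K j : ℂ) * S.secPow θ i k) :=
        (cycCongr_frobenius_pow (S.isCyclo_secPow θ 1) j).trans ((hK j hj) θ).1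
      have h2 := (h1.symm.mul_left hz).mul_left (isCyclo_intCast (p ^ S.a) (s θ))
      refine ((CycCongr.of_eq fun k _ => by ring).trans h2).trans (CycCongr.of_eq fun k hk => ?_)
      have hr := hroot θ hθ (ZMod.unitOfCoprime k hk)
      rw [ZMod.coe_unitOfCoprime, ZMod.val_natCast] at hr
      rw [(S.isCyclo_secPow θ 1).apply_mod (NeZero.ne _)] at hr
      have hζ : zetaN (p ^ S.a) ^ (l θ * (k % p ^ S.a)) = zetaN (p ^ S.a) ^ (l θ * k) := by
        rw [mul_comm, mul_comm (l θ), pow_mul, pow_mul,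
          ← pow_eq_pow_mod k (zetaN_isPrimitiveRoot (NeZero.ne _)).pow_eq_one]
      rw [hζ] at hr
      rw [hr, mul_pow, ← pow_mul, show l θ * k * p ^ j = l θ * p ^ j * k by ring, Int.cast_one]
      have hsp : (s θ : ℂ) ^ p ^ j = s θ := by
        rcases hs θ hθ with h | h
        · simp [h]
        · rw [h]; push_cast; exact hodd.pow.neg_one_pow
      rw [hsp, mul_left_comm (conj _), ← mul_assoc (s θ : ℂ), hss θ hθ, one_mul, mul_comm,
        Complex.mul_conj, map_pow, Complex.normSq_eq_norm_sq,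
        (zetaN_isPrimitiveRoot (NeZero.ne (p ^ S.a))).norm'_eq_one (NeZero.ne _)]
      simp
    obtain ⟨θ0, hθ0⟩ := isPBlock_nonempty S.isPBlock_B
    have hnorm : ∀ θ ∈ S.B, ∀ w : (ZMod (p ^ S.a))ˣ,
        Complex.normSq ((s θ : ℂ) * S.secPow θ i (w : ZMod (p ^ S.a)).val *
          conj (zetaN (p ^ S.a) ^ (l θ * p ^ j * (w : ZMod (p ^ S.a)).val))) = 1 := by
      intro θ hθ w
      rw [map_mul, map_mul, Complex.normSq_conj, map_pow,
        normSq_secPow_eq_one hAE (by rw [(S.natCard_blk hi0).2, (S.rank_card_of_e_eq_one he).2])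
          hθ w, Complex.normSq_eq_norm_sq, Complex.normSq_eq_norm_sq,
        (zetaN_isPrimitiveRoot (NeZero.ne (p ^ S.a))).norm'_eq_one (NeZero.ne _)]
      rcases hs θ hθ with h | h <;> simp [h]
    have hpK : ¬ (p : ℤ) ∣ K j := by
      rintro ⟨L, hL⟩
      have h1 := hy θ0 hθ0
      have h0 : CycCongr p (p ^ S.a) (fun _ => ((0 : ℤ) : ℂ)) (fun _ => ((1 : ℤ) : ℂ)) := by
        refine CycCongr.trans ?_ h1
        refine CycCongr.symm ⟨fun k => ((L : ℤ) : ℂ) * ((s θ0 : ℂ) * S.secPow θ0 i k *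
          conj (zetaN (p ^ S.a) ^ (l θ0 * p ^ j * k))), ?_, fun k _ => ?_⟩
        · exact isCyclo_const_mul L (((isCyclo_intCast _ (s θ0)).mul (S.isCyclo_secPow θ0 i)).mul
            ((isCyclo_rootPow (l θ0 * p ^ j)).conj (NeZero.ne _)))
        · rw [hL]
          push_cast
          ring
      have := int_dvd_of_cycCongr (NeZero.ne _) h0
      rw [zero_sub, dvd_neg] at this
      exact hp.out.not_dvd_one (by exact_mod_cast this)
    obtain ⟨L, hL⟩ : ∃ L : ℤ, (p : ℤ) ∣ L * K j - 1 := by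
      have hpZ : Prime (p : ℤ) := Nat.prime_iff_prime_int.1 hp.out
      obtain ⟨u, v, huv⟩ := (hpZ.coprime_iff_not_dvd).2 hpK
      exact ⟨v, ⟨-u, by linear_combination huv⟩⟩
    have hyL : ∀ θ ∈ S.B, CycCongr p (p ^ S.a)
        (fun k => (s θ : ℂ) * S.secPow θ i k * conj (zetaN (p ^ S.a) ^ (l θ * p ^ j * k)))
        (fun _ => (L : ℂ)) := by
      intro θ hθ
      have h1 := (hy θ hθ).mul_left (isCyclo_intCast (p ^ S.a) L)
      refine CycCongr.trans ?_ (h1.trans (CycCongr.of_eq fun _ _ => by simp))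
      obtain ⟨r, hr⟩ := hL
      refine ⟨fun k => ((-r : ℤ) : ℂ) * ((s θ : ℂ) * S.secPow θ i k *
          conj (zetaN (p ^ S.a) ^ (l θ * p ^ j * k))), ?_, fun k _ => ?_⟩
      · exact isCyclo_const_mul (-r) (((isCyclo_intCast _ (s θ)).mul (S.isCyclo_secPow θ i)).mul
          ((isCyclo_rootPow (l θ * p ^ j)).conj (NeZero.ne _)))
      · have hr' : (L : ℂ) * (K j : ℂ) - 1 = (p : ℂ) * (r : ℂ) := by exact_mod_cast hr
        push_cast
        linear_combination (-((s θ : ℂ) * S.secPow θ i k *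
          conj (zetaN (p ^ S.a) ^ (l θ * p ^ j * k)))) * hr'
    have hsign : ∀ θ ∈ S.B, ∃ ε : ℤ, (ε = 1 ∨ ε = -1) ∧ (∀ w : (ZMod (p ^ S.a))ˣ,
        (s θ : ℂ) * S.secPow θ i (w : ZMod (p ^ S.a)).val *
          conj (zetaN (p ^ S.a) ^ (l θ * p ^ j * (w : ZMod (p ^ S.a)).val)) = ε) ∧
          (p : ℤ) ∣ ε - L := fun θ hθ =>
      exists_sign_of_cycCongr hp2 (((isCyclo_intCast _ (s θ)).mul (S.isCyclo_secPow θ i)).mul
        ((isCyclo_rootPow (l θ * p ^ j)).conj (NeZero.ne _))) (hnorm θ hθ) (hyL θ hθ)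
    obtain ⟨ε, hε, -, hεL⟩ := hsign θ0 hθ0
    refine ⟨ε, hε, fun θ hθ w => ?_⟩
    obtain ⟨ε', hε', hε'w, hε'L⟩ := hsign θ hθ
    have heq : ε' = ε := by
      have hd : (p : ℤ) ∣ ε' - ε := by
        have := dvd_sub hε'L hεL
        rwa [sub_sub_sub_cancel_right] at this
      have hp3 : 3 ≤ p := Nat.succ_le_of_lt (lt_of_le_of_ne hp.out.two_le (Ne.symm hp2))
      by_contra hne
      have h2 : ((p : ℤ)) ≤ |ε' - ε| :=
        Int.le_of_dvd (abs_pos.2 (sub_ne_zero.2 hne)) ((dvd_abs _ _).2 hd)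
      have h3 : |ε' - ε| ≤ 2 := by rcases hε with rfl | rfl <;> rcases hε' with rfl | rfl <;> norm_num
      omega
    have h1 := hε'w w
    rw [heq] at h1
    set Z : ℂ := zetaN (p ^ S.a) ^ (l θ * p ^ j * (w : ZMod (p ^ S.a)).val)
    have hZ : Z * conj Z = 1 := by
      rw [Complex.mul_conj, Complex.normSq_eq_norm_sq, norm_pow,
        (zetaN_isPrimitiveRoot (NeZero.ne (p ^ S.a))).norm'_eq_one (NeZero.ne _)]
      simp
    linear_combination ((s θ : ℂ) * Z) * h1 - (S.secPow θ i (w : ZMod (p ^ S.a)).val * (Z * conj Z)) *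
      hss θ hθ - S.secPow θ i (w : ZMod (p ^ S.a)).val * hZ
  choose! ε hε hεsec using hlev
  obtain ⟨θ0, hθ0⟩ := isPBlock_nonempty S.isPBlock_B
  let lam : IrrCharacter G → ZMod (p ^ S.a) := fun θ => (l θ : ZMod (p ^ S.a))
  let c : ZMod (p ^ S.a) → ℂ := fun i =>
    S.col θ0 i * (s θ0 : ℂ) * conj (zpsi (p ^ S.a) (lam θ0 * i))
  have hcol : ∀ j, j < S.a → ∀ θ ∈ S.B, ∀ w : (ZMod (p ^ S.a))ˣ,
      S.col θ ((w : ZMod (p ^ S.a)) * ((p ^ j : ℕ) : ZMod (p ^ S.a))) =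
        (ε j : ℂ) * S.dg ((p ^ j : ℕ) : ZMod (p ^ S.a)) * s θ *
          zpsi (p ^ S.a) (lam θ * ((w : ZMod (p ^ S.a)) * ((p ^ j : ℕ) : ZMod (p ^ S.a)))) := by
    intro j hj θ hθ w
    rw [col_unit_mul (S.allEq_of_ne_zero (S.pow_cast_ne_zero hj)), hεsec j hj θ hθ w]
    have : lam θ * ((w : ZMod (p ^ S.a)) * ((p ^ j : ℕ) : ZMod (p ^ S.a))) =
        ((l θ * p ^ j * (w : ZMod (p ^ S.a)).val : ℕ) : ZMod (p ^ S.a)) := by
      push_cast
      rw [ZMod.natCast_rightInverse (w : ZMod (p ^ S.a))]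
      ring
    rw [this, zpsi_natCast]
    ring
  have hc : ∀ j, j < S.a → ∀ w : (ZMod (p ^ S.a))ˣ,
      c ((w : ZMod (p ^ S.a)) * ((p ^ j : ℕ) : ZMod (p ^ S.a))) =
        (ε j : ℂ) * S.dg ((p ^ j : ℕ) : ZMod (p ^ S.a)) := by
    intro j hj w
    simp only [c]
    rw [hcol j hj θ0 hθ0 w]
    linear_combination ((ε j : ℂ) * S.dg ((p ^ j : ℕ) : ZMod (p ^ S.a)) *
      (zpsi (p ^ S.a) (lam θ0 * _) * conj (zpsi (p ^ S.a) (lam θ0 * _)))) * hss θ0 hθ0 +
      ((ε j : ℂ) * S.dg ((p ^ j : ℕ) : ZMod (p ^ S.a))) *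
        zpsi_mul_conj (lam θ0 * ((w : ZMod (p ^ S.a)) * ((p ^ j : ℕ) : ZMod (p ^ S.a))))
  refine ⟨s, lam, c, hs, fun θ hθ i hi => ?_, fun i hi w => ?_, fun i hi => ?_⟩
  · obtain ⟨j, w, hj, rfl⟩ := S.exists_unit_mul_pow hi
    rw [hcol j hj θ hθ w, hc j hj w]
  · obtain ⟨j, w0, hj, rfl⟩ := S.exists_unit_mul_pow hi
    rw [← mul_assoc, ← Units.val_mul, hc j hj, hc j hj]
  · obtain ⟨j, w, hj, rfl⟩ := S.exists_unit_mul_pow hi
    rw [hc j hj w, nrm_unit_mul, ← ((hK j hj) θ0).2, map_mul, map_intCast]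
    have h1 : (ε j : ℂ) * ε j = 1 := by rcases hε j hj with h | h <;> simp [h]
    linear_combination (S.dg ((p ^ j : ℕ) : ZMod (p ^ S.a)) *
      conj (S.dg ((p ^ j : ℕ) : ZMod (p ^ S.a))) * ((p ^ S.a : ℕ) : ℂ)) * h1

end CycBlock

end CfsgLib.Block
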