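import Cfsg.Agent.Lib.BlockB.HeightBound
import Cfsg.Agent.Lib.BlockA.SubsectionCount

/-!
# Columns of generalized decomposition numbers, as sums over the group

For a block `b` of the centralizer of a `p`-element `x` with coefficient function
`β = subgroupBlockCoeff _ b`, the function `χ ↦ subFun χ β x` is the column attached to `(x, b)`
evaluated at `1`. These lemmas give the orthogonality of such columns among themselves and against
the ordinary columns of the other sections.
-/

set_option autoImplicit false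
set_option linter.unusedSectionVars false

namespace CfsgLib.Block.SubColumn

open Cfsg CfsgLib.Block CfsgLib.BlockA CfsgLib.BlockB CfsgLib.BlockB.SubSum
  CfsgLib.BlockB.HeightBound
open scoped ComplexConjugate

universe u

variable {G : Type u} [Group G] [Fintype G] {p : ℕ} {M : Ideal AlgInt} [M.IsPrime]

local notation "cs" y => Subgroup.centralizer (Singleton.singleton y : Set G)

theorem subFun_conjFun {χ : G → ℂ} (hχ : IsClassFunction G χ) (a x : G) (β : G → ℂ) :
    subFun χ (conjFun a β) (a * x * a⁻¹) = subFun χ β x := by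
  unfold subFun
  refine Fintype.sum_equiv (MulAut.conj a).toEquiv.symm _ _ fun k => ?_
  show conjFun a β k * χ (k * (a * x * a⁻¹)) = β (a⁻¹ * k * a) * χ (a⁻¹ * k * a * x)
  rw [← hχ (a⁻¹ * k * a * x) a, conjFun]
  group

variable (hM : IsPModular p M)
include hM

theorem exists_block_of_eq {a x y : G} (h : a * x * a⁻¹ = y)
    {b : Set (IrrCharacter (cs x))} (hb : IsPBlock M b) :
    ∃ b' : Set (IrrCharacter (cs y)), IsPBlock M b' ∧
      subgroupBlockCoeff (cs y) b' = conjFun a (subgroupBlockCoeff (cs x) b) := by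
  subst h
  exact ⟨blockMap (cenConj a x) b, isPBlock_blockMap _ hb,
    (conjFun_subgroupBlockCoeff a x b).symm⟩

/-- The coefficients live on the regular elements of the centralizer. -/
theorem beta_support {x : G} {b : Set (IrrCharacter (cs x))} (hb : IsPBlock M b) {k : G}
    (hk : subgroupBlockCoeff (cs x) b k ≠ 0) : Commute x k ∧ ¬ p ∣ orderOf k := by
  rw [subgroupBlockCoeff] at hk
  by_cases hkC : k ∈ (cs x)
  · refine ⟨(show Commute k x from Subgroup.mem_centralizer_singleton_iff.1 hkC).symm, fun h => ?_⟩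
    rw [dif_pos hkC] at hk
    exact hk (blockCoeff_eq_zero_of_singular hM hb (by rwa [Subgroup.orderOf_mk]))
  · rw [dif_neg hkC] at hk
    exact absurd rfl hk

/-- A column only meets the ordinary columns of its own section. -/
theorem sum_subFun_mul_conj_eq_zero [Fintype (IrrCharacter G)] {x : G}
    (hx : ∃ k : ℕ, orderOf x = p ^ k) {b : Set (IrrCharacter (cs x))} (hb : IsPBlock M b)
    {h y : G} (hy : IsPPart p h y) (hne : ¬ IsConj x y) :
    ∑ χ : IrrCharacter G, subFun (χ : G → ℂ) (subgroupBlockCoeff (cs x) b) x *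
      conj ((χ : G → ℂ) h) = 0 := by
  classical
  simp only [subFun, Finset.sum_mul, mul_assoc]
  rw [Finset.sum_comm]
  refine Finset.sum_eq_zero fun k _ => ?_
  rw [← Finset.mul_sum, mul_eq_zero]
  by_cases hk : subgroupBlockCoeff (cs x) b k = 0
  · exact Or.inl hk
  right
  obtain ⟨hc, hreg⟩ := beta_support hM hb hk
  rw [CfsgLib.Char.column_orthogonality, if_neg]
  intro hconj
  obtain ⟨a, ha⟩ := isConj_iff.1 hconj
  have h1 : IsPPart p (k * x) x := by
    rw [← hc.eq]
    exact isPPart_mul hc hx hreg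
  have h2 := isPPart_conj h1 a
  rw [ha] at h2
  exact hne (isConj_iff.2 ⟨a, isPPart_unique hM.1 h2 hy⟩)

/-- A column against a column of a second element of another section. -/
theorem sum_subFun_mul_conj_subFun_eq_zero [Fintype (IrrCharacter G)] {x y : G}
    (hx : ∃ k : ℕ, orderOf x = p ^ k) (hy : ∃ k : ℕ, orderOf y = p ^ k)
    {b : Set (IrrCharacter (cs x))} (hb : IsPBlock M b)
    {b' : Set (IrrCharacter (cs y))} (hb' : IsPBlock M b') (hne : ¬ IsConj x y) :
    ∑ χ : IrrCharacter G, subFun (χ : G → ℂ) (subgroupBlockCoeff (cs x) b) x *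
      conj (subFun (χ : G → ℂ) (subgroupBlockCoeff (cs y) b') y) = 0 := by
  classical
  conv_lhs => arg 2; ext χ; arg 2; rw [subFun, map_sum]
  simp only [Finset.mul_sum, map_mul]
  rw [Finset.sum_comm]
  refine Finset.sum_eq_zero fun k _ => ?_
  simp only [mul_left_comm (subFun _ _ _) (conj (subgroupBlockCoeff (cs y) b' k)), ← Finset.mul_sum]
  by_cases hk : subgroupBlockCoeff (cs y) b' k = 0
  · rw [hk, map_zero, zero_mul]
  obtain ⟨hc, hreg⟩ := beta_support hM hb' hk
  rw [sum_subFun_mul_conj_eq_zero hM hx hb (h := k * y) ?_ hne, mul_zero]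
  rw [← hc.eq]
  exact isPPart_mul hc hy hreg

theorem sum_blockCoeff_mul_irr {H : Type u} [Group H] [Fintype H] (b : Set (IrrCharacter H))
    [DecidablePred (· ∈ b)] (θ : IrrCharacter H) :
    ∑ w : H, blockCoeff b w * (θ : H → ℂ) w = if θ ∈ b then (θ : H → ℂ) 1 else 0 := by
  rw [← blockPart_irr b θ 1, blockPart_eq_sum b (CfsgLib.Char.irr_isClassFunction θ.2) 1]
  simp

theorem subFun_eq_blockPart {x : G} [Fintype (cs x)] (b : Set (IrrCharacter (cs x)))
    (χ : IrrCharacter G) :
    subFun (χ : G → ℂ) (subgroupBlockCoeff (cs x) b) x =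
      blockPart b (fun c : (cs x) => (χ : G → ℂ) (x * (c : G))) 1 := by
  have h := subFun_coeff (x := x) b (CfsgLib.Char.irr_isClassFunction χ.2) (y := x) le_rfl 1
  simpa using h

/-- Two columns at one element. -/
theorem sum_subFun_mul_conj_subFun [Fintype (IrrCharacter G)] {x : G}
    (hx : ∃ k : ℕ, orderOf x = p ^ k)
    {b : Set (IrrCharacter (cs x))} (hb : IsPBlock M b)
    {b' : Set (IrrCharacter (cs x))} (hb' : IsPBlock M b') [Decidable (b = b')] :
    ∑ χ : IrrCharacter G, subFun (χ : G → ℂ) (subgroupBlockCoeff (cs x) b) x *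
      conj (subFun (χ : G → ℂ) (subgroupBlockCoeff (cs x) b') x) =
      if b = b' then ∑ θ ∈ b.toFinite.toFinset, (θ : (cs x) → ℂ) 1 * conj ((θ : (cs x) → ℂ) 1)
      else 0 := by
  classical
  have := Fintype.ofFinite (cs x)
  have hone : ¬ p ∣ orderOf (1 : (cs x)) := by rw [orderOf_one]; exact hM.1.not_dvd_one
  have hcol : ∀ χ : IrrCharacter G, subFun (χ : G → ℂ) (subgroupBlockCoeff (cs x) b) x =
      blockPart b (fun c : (cs x) => (χ : G → ℂ) (x * (c : G))) 1 := fun χ =>
    subFun_eq_blockPart hM b χ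
  have hcol' : ∀ χ : IrrCharacter G, subFun (χ : G → ℂ) (subgroupBlockCoeff (cs x) b') x =
      ∑ w : (cs x), blockCoeff b' w * (χ : G → ℂ) (x * (w : G)) := fun χ => by
    rw [subFun, ← Finset.sum_filter_add_sum_filter_not Finset.univ (fun k : G => k ∈ (cs x)),
      Finset.sum_eq_zero (s := Finset.univ.filter fun k : G => ¬ k ∈ (cs x)) (fun k hk => by
        rw [subgroupBlockCoeff, dif_neg (Finset.mem_filter.1 hk).2, zero_mul]), add_zero,
      @Finset.sum_subtype G ℂ _ (fun k : G => k ∈ (cs x)) this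
        (Finset.univ.filter fun k : G => k ∈ (cs x)) (fun k => by simp)]
    refine Finset.sum_congr rfl fun w _ => ?_
    rw [subgroupBlockCoeff, dif_pos w.2, Subgroup.mem_centralizer_singleton_iff.1 w.2]
  simp only [hcol, hcol', map_sum, Finset.mul_sum, map_mul]
  rw [Finset.sum_comm]
  have hterm : ∀ w : (cs x), (∑ χ : IrrCharacter G,
      blockPart b (fun c : (cs x) => (χ : G → ℂ) (x * (c : G))) 1 *
        (conj (blockCoeff b' w) * conj ((χ : G → ℂ) (x * (w : G))))) =
      conj (blockCoeff b' w) *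
        ∑ θ ∈ b.toFinite.toFinset, (θ : (cs x) → ℂ) 1 * conj ((θ : (cs x) → ℂ) w) := fun w => by
    simp only [mul_left_comm _ (conj (blockCoeff b' w)), ← Finset.mul_sum]
    by_cases hw : p ∣ orderOf w
    · rw [blockCoeff_eq_zero_of_singular hM hb' hw, map_zero, zero_mul, zero_mul]
    · rw [sectionTwist hM hx hb hone hw]
  simp only [hterm, Finset.mul_sum]
  rw [Finset.sum_comm]
  simp only [mul_left_comm (conj (blockCoeff b' _)), ← Finset.mul_sum]
  simp only [← map_mul, ← map_sum, sum_blockCoeff_mul_irr hM]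
  split_ifs with hbb
  · subst hbb
    exact Finset.sum_congr rfl fun θ hθ => by rw [if_pos (by simpa using hθ)]
  · refine Finset.sum_eq_zero fun θ hθ => ?_
    rw [if_neg fun h => hbb (isPBlock_eq_of_mem hb hb' (by simpa using hθ) h), map_zero, mul_zero]

/-- A column of a nontrivial section against a regular element. -/
theorem sum_subFun_mul_regular [Fintype (IrrCharacter G)] {x : G}
    (hx : ∃ k : ℕ, orderOf x = p ^ k) (hx1 : x ≠ 1) {b : Set (IrrCharacter (cs x))}
    (hb : IsPBlock M b) {y : G} (hy : ¬ p ∣ orderOf y) :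
    ∑ χ : IrrCharacter G, subFun (χ : G → ℂ) (subgroupBlockCoeff (cs x) b) x *
      (χ : G → ℂ) y = 0 := by
  have h := sum_subFun_mul_conj_eq_zero hM hx hb (h := y⁻¹)
    (isPPart_one_of_regular (by rwa [orderOf_inv])) (fun hc => hx1 (isConj_one_left.1 hc))
  rw [← h]
  refine Finset.sum_congr rfl fun χ _ => ?_
  congr 1
  rw [CfsgLib.Char.char_inv (CfsgLib.Char.irr_isCharacter χ.2), Complex.conj_conj]

/-- A column vanishes outside the induced block. -/
theorem subFun_eq_zero_of_not_mem {x : G} (hx : ∃ k : ℕ, orderOf x = p ^ k)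
    {b : Set (IrrCharacter (cs x))} {B : Set (IrrCharacter G)}
    (hind : IsInducedBlock M (cs x) b B) {χ : IrrCharacter G} (hχ : χ ∉ B) :
    subFun (χ : G → ℂ) (subgroupBlockCoeff (cs x) b) x = 0 := by
  classical
  have := Fintype.ofFinite (cs x)
  rw [subFun_eq_blockPart hM b χ]
  refine blockPart_centralizer_eq_zero hM hx (isPBlock_blockOf χ) (mem_blockOf_self χ) hind.1
    (fun h => hχ ?_) (by rw [orderOf_one]; exact hM.1.not_dvd_one)
  rw [isInducedBlock_unique _ hind h]
  exact mem_blockOf_self χ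

end CfsgLib.Block.SubColumn
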