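import Cfsg.Agent.Lib.Block.CyclicBlock
import Cfsg.Agent.Lib.Block.SubsectionColumns

/-!
# The columns of a block with cyclic defect group

`S.col χ i` is the generalized decomposition number sum attached to `el i` and the block below the
maximal pair. Two columns are orthogonal unless their numbers are related by the inertial quotient,
and the columns of the nonzero numbers are orthogonal to the regular values.
-/

set_option autoImplicit false
set_option linter.unusedSectionVars false

namespace CfsgLib.Block.CycBlock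

open Cfsg CfsgLib.Block CfsgLib.BlockA CfsgLib.BlockB.SubSum CfsgLib.BlockB.HeightBound
  CfsgLib.Block.SubColumn
open scoped ComplexConjugate

universe u

variable {G : Type u} [Group G] [Fintype G] {p : ℕ} [hp : Fact p.Prime] {M : Ideal AlgInt}
  [M.IsPrime] (S : CycBlock G p M)

/-- The column at `el i`. -/
noncomputable def col (χ : IrrCharacter G) (i : ZMod (p ^ S.a)) : ℂ :=
  subFun (χ : G → ℂ) (S.beta i) (S.el i)

/-- The squared degree of the block below. -/
noncomputable def nrm (i : ZMod (p ^ S.a)) : ℂ :=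
  ∑ θ ∈ (S.blk i).toFinite.toFinset,
    (θ : Subgroup.centralizer ({S.el i} : Set G) → ℂ) 1 *
      conj ((θ : Subgroup.centralizer ({S.el i} : Set G) → ℂ) 1)

theorem nrm_ne_zero (i : ZMod (p ^ S.a)) : S.nrm i ≠ 0 := by
  intro h0
  have h1 : (S.nrm i).re = 0 := by rw [h0, Complex.zero_re]
  rw [nrm, Complex.re_sum] at h1
  simp only [Complex.mul_conj, Complex.ofReal_re] at h1
  obtain ⟨θ, hθ⟩ := isPBlock_nonempty (S.isPBlock_blk i)
  have h2 := (Finset.sum_eq_zero_iff_of_nonneg fun θ _ => Complex.normSq_nonneg _).1 h1 θ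
    (by simpa using hθ)
  exact CfsgLib.Char.irr_apply_one_ne_zero θ.2 (Complex.normSq_eq_zero.1 h2)

theorem col_eq_zero_of_not_mem {χ : IrrCharacter G} (hχ : χ ∉ S.B) (i : ZMod (p ^ S.a)) :
    S.col χ i = 0 := by
  rw [col, ← S.blk_coeff i]
  exact subFun_eq_zero_of_not_mem S.hM (S.isPPower_el i) (S.blk_induced i) hχ

theorem col_act (χ : IrrCharacter G) (t : S.T) (i : ZMod (p ^ S.a)) :
    S.col χ ((S.act t : ZMod (p ^ S.a)) * i) = S.col χ i := by
  rw [col, col, ← S.beta_act t i, ← S.act_spec t i]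
  exact subFun_conjFun (CfsgLib.Char.irr_isClassFunction χ.2) _ _ _

theorem col_E (χ : IrrCharacter G) {w : (ZMod (p ^ S.a))ˣ} (hw : w ∈ S.E) (i : ZMod (p ^ S.a)) :
    S.col χ ((w : ZMod (p ^ S.a)) * i) = S.col χ i := by
  obtain ⟨t, rfl⟩ := hw
  exact S.col_act χ t i

theorem sum_block_eq (f : IrrCharacter G → ℂ) [Fintype (IrrCharacter G)] (i : ZMod (p ^ S.a)) :
    ∑ χ ∈ S.B.toFinite.toFinset, S.col χ i * f χ = ∑ χ : IrrCharacter G, S.col χ i * f χ :=
  Finset.sum_subset (Finset.subset_univ _) fun χ _ h => by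
    rw [S.col_eq_zero_of_not_mem (by simpa using h), zero_mul]

theorem orth_self (i : ZMod (p ^ S.a)) :
    ∑ χ ∈ S.B.toFinite.toFinset, S.col χ i * conj (S.col χ i) = S.nrm i := by
  classical
  have := Fintype.ofFinite (IrrCharacter G)
  rw [S.sum_block_eq (fun χ => conj (S.col χ i)) i]
  simp only [col, ← S.blk_coeff i]
  rw [sum_subFun_mul_conj_subFun S.hM (S.isPPower_el i) (S.isPBlock_blk i) (S.isPBlock_blk i),
    if_pos rfl]
  rfl

theorem orth_zero {i j : ZMod (p ^ S.a)}
    (hij : ∀ w ∈ S.E, j ≠ (w : ZMod (p ^ S.a)) * i) :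
    ∑ χ ∈ S.B.toFinite.toFinset, S.col χ i * conj (S.col χ j) = 0 := by
  classical
  have := Fintype.ofFinite (IrrCharacter G)
  rw [S.sum_block_eq (fun χ => conj (S.col χ j)) i]
  by_cases hc : IsConj (S.el i) (S.el j)
  · obtain ⟨a, ha⟩ := isConj_iff.1 hc
    obtain ⟨b', hb', hβ'⟩ := exists_block_of_eq S.hM ha (S.isPBlock_blk i)
    have hne : b' ≠ S.blk j := by
      intro h
      obtain ⟨w, hw, hj⟩ := S.exists_unit_of_conj ha (by
        rw [← S.blk_coeff i, ← hβ', h, S.blk_coeff j])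
      exact hij w hw hj
    have hcol : ∀ χ : IrrCharacter G, S.col χ i =
        subFun (χ : G → ℂ) (subgroupBlockCoeff _ b') (S.el j) := fun χ => by
      rw [hβ', ← ha, subFun_conjFun (CfsgLib.Char.irr_isClassFunction χ.2), col, S.blk_coeff i]
    simp only [hcol]
    simp only [col, ← S.blk_coeff j]
    rw [sum_subFun_mul_conj_subFun S.hM (S.isPPower_el j) hb' (S.isPBlock_blk j), if_neg hne]
  · simp only [col, ← S.blk_coeff i, ← S.blk_coeff j]
    exact sum_subFun_mul_conj_subFun_eq_zero S.hM (S.isPPower_el i) (S.isPPower_el j)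
      (S.isPBlock_blk i) (S.isPBlock_blk j) hc

/-- The nonzero columns are orthogonal to the regular values. -/
theorem sum_col_mul_regular {i : ZMod (p ^ S.a)} (hi : i ≠ 0) {y : G} (hy : ¬ p ∣ orderOf y) :
    ∑ χ ∈ S.B.toFinite.toFinset, S.col χ i * (χ : G → ℂ) y = 0 := by
  classical
  have := Fintype.ofFinite (IrrCharacter G)
  rw [S.sum_block_eq (fun χ => (χ : G → ℂ) y) i]
  simp only [col, ← S.blk_coeff i]
  exact sum_subFun_mul_regular S.hM (S.isPPower_el i) (fun h => hi (S.el_eq_one_iff.1 h))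
    (S.isPBlock_blk i) hy

theorem exists_reps : ∃ R : Finset (ZMod (p ^ S.a)), (∀ r ∈ R, r ≠ 0) ∧
    (∀ i : ZMod (p ^ S.a), i ≠ 0 → ∃! r, r ∈ R ∧ ∃ w ∈ S.E, i = (w : ZMod (p ^ S.a)) * r) ∧
    R.card * S.e = p ^ S.a - 1 := by
  classical
  have : NeZero (p ^ S.a) := ⟨(pow_pos hp.out.pos _).ne'⟩
  let s : Setoid (ZMod (p ^ S.a)) :=
    { r := fun i j => ∃ w ∈ S.E, j = (w : ZMod (p ^ S.a)) * i
      iseqv := ⟨fun i => ⟨1, one_mem _, by simp⟩,
        fun {i j} ⟨w, hw, h⟩ => ⟨w⁻¹, inv_mem hw, by rw [h, Units.inv_mul_cancel_left]⟩,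
        fun {i j k} ⟨w, hw, h⟩ ⟨w', hw', h'⟩ => ⟨w' * w, mul_mem hw' hw,
          by rw [h', h, Units.val_mul, mul_assoc]⟩⟩ }
  let rep : ZMod (p ^ S.a) → ZMod (p ^ S.a) := fun i => (Quotient.mk s i).out
  have hrep : ∀ i, ∃ w ∈ S.E, i = (w : ZMod (p ^ S.a)) * rep i := fun i =>
    Quotient.mk_out (s := s) i
  have hcongr : ∀ i w, w ∈ S.E → rep ((w : ZMod (p ^ S.a)) * i) = rep i := fun i w hw => by
    simp only [rep]
    rw [Quotient.sound (s := s) (show s.r i ((w : ZMod (p ^ S.a)) * i) from ⟨w, hw, rfl⟩)]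
  have hne : ∀ i, i ≠ 0 → rep i ≠ 0 := fun i hi h => by
    obtain ⟨w, -, hw⟩ := hrep i
    exact hi (by rw [hw, h, mul_zero])
  have hidem : ∀ i, rep (rep i) = rep i := fun i => by simp only [rep, Quotient.out_eq]
  refine ⟨(Finset.univ.erase 0).image rep, ?_, fun i hi => ?_, ?_⟩
  · intro r hr
    obtain ⟨i, hi, rfl⟩ := Finset.mem_image.1 hr
    exact hne i (Finset.ne_of_mem_erase hi)
  · refine ⟨rep i, ⟨Finset.mem_image_of_mem _ (by simpa using hi), hrep i⟩, ?_⟩
    rintro r ⟨hr, w, hw, hwr⟩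
    obtain ⟨j, -, rfl⟩ := Finset.mem_image.1 hr
    rw [hwr, hcongr _ w hw, hidem]
  · have hfib : ∀ r ∈ (Finset.univ.erase 0).image rep,
        ((Finset.univ.erase (0 : ZMod (p ^ S.a))).filter fun i => rep i = r).card = S.e := by
      intro r hr
      obtain ⟨i, hi, rfl⟩ := Finset.mem_image.1 hr
      have hr0 : rep i ≠ 0 := hne i (Finset.ne_of_mem_erase hi)
      rw [← S.natCard_E, Nat.card_eq_fintype_card, ← Finset.card_univ]
      symm
      refine Finset.card_bij (fun (w : S.E) _ => ((w : (ZMod (p ^ S.a))ˣ) : ZMod (p ^ S.a)) * rep i)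
        (fun w _ => ?_) (fun w _ w' _ h => ?_) (fun j hj => ?_)
      · simp only [Finset.mem_filter, Finset.mem_erase, Finset.mem_univ, and_true]
        exact ⟨fun h => hr0 ((Units.mul_right_eq_zero _).1 h),
          by rw [hcongr _ _ w.2, hidem]⟩
      · apply Subtype.ext
        have h' : (((w' : (ZMod (p ^ S.a))ˣ)⁻¹ * w : (ZMod (p ^ S.a))ˣ) : ZMod (p ^ S.a)) * rep i =
            rep i := by
          rw [Units.val_mul, mul_assoc, h, Units.inv_mul_cancel_left]
        exact (inv_mul_eq_one.1 (S.free (mul_mem (inv_mem w'.2) w.2) h' hr0)).symm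
      · simp only [Finset.mem_filter, Finset.mem_erase, Finset.mem_univ, and_true] at hj
        obtain ⟨w, hw, hwj⟩ := hrep j
        exact ⟨⟨w, hw⟩, Finset.mem_univ _, by rw [← hj.2]; exact hwj.symm⟩
    have h := Finset.card_eq_sum_card_image rep (Finset.univ.erase (0 : ZMod (p ^ S.a)))
    rw [Finset.sum_congr rfl hfib, Finset.sum_const, smul_eq_mul, Finset.card_erase_of_mem
      (Finset.mem_univ _), Finset.card_univ, ZMod.card] at h
    exact h.symm

/-- **Rank and orbits are bounded by the number of characters.** -/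
theorem blockRank_add_le {t : ℕ} (ht : t * S.e = p ^ S.a - 1) :
    blockRank p S.B + t ≤ Nat.card S.B := by
  classical
  obtain ⟨R, hR0, hRrep, hRcard⟩ := S.exists_reps
  obtain rfl : R.card = t := Nat.eq_of_mul_eq_mul_right S.e_pos (hRcard.trans ht.symm)
  have := Fintype.ofFinite S.B
  let L := Fintype.linearCombination ℂ
    (fun χ : S.B => pRegularPart p ((χ : IrrCharacter G) : G → ℂ))
  have hrange : LinearMap.range L = Submodule.span ℂ
      ((fun χ : IrrCharacter G => pRegularPart p (χ : G → ℂ)) '' S.B) := by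
    rw [Fintype.range_linearCombination, Set.image_eq_range]
  have hsub : ∀ f : IrrCharacter G → ℂ, ∑ χ : S.B, f χ = ∑ χ ∈ S.B.toFinite.toFinset, f χ :=
    fun f => (Finset.sum_subtype _ (fun χ => by simp) f).symm
  let c : R → LinearMap.ker L := fun r =>
    ⟨fun χ : S.B => S.col χ r.1, by
      rw [LinearMap.mem_ker, Fintype.linearCombination_apply]
      ext g
      simp only [Finset.sum_apply, Pi.smul_apply, smul_eq_mul, pRegularPart, Pi.zero_apply]
      by_cases hg : IsPRegular p g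
      · simp only [if_pos hg]
        exact (hsub fun χ => S.col χ r.1 * (χ : G → ℂ) g).trans
          (S.sum_col_mul_regular (hR0 r.1 r.2) hg)
      · simp [if_neg hg]⟩
  have hli : LinearIndependent ℂ c := by
    rw [Fintype.linearIndependent_iff]
    intro w hw r
    have h1 : ∀ χ : S.B, ∑ s : R, w s * S.col χ s.1 = 0 := fun χ => by
      have h2 := congrFun (congrArg Subtype.val hw) χ
      simpa [c] using h2
    have h3 : ∑ χ : S.B, (∑ s : R, w s * S.col χ s.1) * conj (S.col χ r.1) = 0 :=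
      Finset.sum_eq_zero fun χ _ => by rw [h1, zero_mul]
    simp only [Finset.sum_mul, mul_assoc] at h3
    rw [Finset.sum_comm] at h3
    simp only [← Finset.mul_sum] at h3
    simp only [fun s : R => hsub (fun χ => S.col χ s.1 * conj (S.col χ r.1))] at h3
    rw [Finset.sum_eq_single r] at h3
    · rw [S.orth_self] at h3
      exact (mul_eq_zero.1 h3).resolve_right (S.nrm_ne_zero _)
    · intro s _ hs
      rw [S.orth_zero, mul_zero]
      intro v hv hj
      apply hs
      obtain ⟨r₀, -, huniq⟩ := hRrep r.1 (hR0 r.1 r.2)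
      exact Subtype.ext ((huniq s.1 ⟨s.2, v, hv, hj⟩).trans
        (huniq r.1 ⟨r.2, 1, one_mem _, by simp⟩).symm)
    · intro h; exact absurd (Finset.mem_univ r) h
  have hle := hli.fintype_card_le_finrank
  have hsum := LinearMap.finrank_range_add_finrank_ker L
  rw [Module.finrank_fintype_fun_eq_card, hrange] at hsum
  rw [Fintype.card_coe] at hle
  rw [blockRank, Nat.card_eq_fintype_card]
  omega

end CfsgLib.Block.CycBlock
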