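import Cfsg.Agent.Lib.Block.CyclicCoherence

/-!
# The integral rows of a block with cyclic defect group

For odd `p` the column of the block at `i ≠ 0` is `c i * ∑ l, d χ l * ψ (l * i)` for an integral
row `d χ` invariant under the inertial quotient. The two quadratic identities given by the
orthogonality and the arithmetic inequality for invariant rows bound the number of characters by
`e + (p ^ a - 1) / e`, and determine the rows in the case of equality.
-/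

set_option autoImplicit false
set_option linter.unusedSectionVars false

namespace CfsgLib.Block

open Cfsg CfsgLib.Block CfsgLib.BlockA CfsgLib.BlockB CfsgLib.BlockB.SubSum
  CfsgLib.BlockB.HeightBound
open scoped ComplexConjugate

universe u

/-- The arithmetic inequality on a support whose size is a multiple of `e`. -/
theorem support_sq_ineq {α : Type*} (s : Finset α) (f : α → ℤ) {N e : ℕ} (he : 0 < e)
    (hs : ∀ v ∈ s, f v ≠ 0) (hdvd : e ∣ s.card) (hne : s.Nonempty) (hN : s.card ≤ N) :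
    (e : ℤ) * N ≤ ((N : ℤ) + e) * ∑ v ∈ s, f v ^ 2 - (∑ v ∈ s, f v) ^ 2 ∧
    (((N : ℤ) + e) * ∑ v ∈ s, f v ^ 2 - (∑ v ∈ s, f v) ^ 2 = (e : ℤ) * N →
      (s.card = e ∨ s.card = N) ∧ ∃ c : ℤ, (c = 1 ∨ c = -1) ∧ ∀ v ∈ s, f v = c) := by
  classical
  have hem : (e : ℤ) ≤ s.card := by exact_mod_cast Nat.le_of_dvd (Finset.card_pos.2 hne) hdvd
  have hmT : (s.card : ℤ) ≤ N := by exact_mod_cast hN
  have hcs : (∑ v ∈ s, f v) ^ 2 ≤ (s.card : ℤ) * ∑ v ∈ s, f v ^ 2 := sq_sum_le_card_mul_sum_sq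
  have hone : ∀ v ∈ s, 1 ≤ f v ^ 2 := fun v hv => by
    have := Int.one_le_abs (hs v hv)
    nlinarith [sq_abs (f v)]
  have hm2 : (s.card : ℤ) ≤ ∑ v ∈ s, f v ^ 2 := by
    rw [Finset.card_eq_sum_ones]; push_cast
    exact Finset.sum_le_sum hone
  have hE : (0 : ℤ) < e := by exact_mod_cast he
  set m : ℤ := (s.card : ℤ) with hm
  set Q := ∑ v ∈ s, f v ^ 2 with hQ
  set L := ∑ v ∈ s, f v with hL
  have hcoef : 0 < (N : ℤ) + e - m := by linarith
  have h1 : ((N : ℤ) + e - m) * m ≤ ((N : ℤ) + e - m) * Q :=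
    mul_le_mul_of_nonneg_left hm2 hcoef.le
  have h2 : 0 ≤ (m - e) * ((N : ℤ) - m) := mul_nonneg (by linarith) (by linarith)
  refine ⟨by nlinarith, fun heq => ?_⟩
  have hQm : Q = m := by nlinarith
  have hprod : (m - e) * ((N : ℤ) - m) = 0 := by
    rw [hQm] at heq hcs
    nlinarith
  have hL2 : L ^ 2 = m ^ 2 := by
    rw [hQm] at heq hcs
    nlinarith
  have hsq : ∀ v ∈ s, f v ^ 2 = 1 := fun v hv =>
    ((Finset.sum_eq_sum_iff_of_le hone).1 (by
      rw [← hQ, hQm, hm, Finset.card_eq_sum_ones]; push_cast; rfl) v hv).symm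
  refine ⟨?_, ?_⟩
  · rcases mul_eq_zero.1 hprod with h | h
    · exact Or.inl (by rw [hm] at h; omega)
    · exact Or.inr (by rw [hm] at h; omega)
  · have key : ∀ c : ℤ, (c = 1 ∨ c = -1) → L = c * m → ∀ v ∈ s, f v = c := by
      intro c hc hLc v hv
      have h3 : ∑ w ∈ s, (1 - c * f w) = 0 := by
        rw [Finset.sum_sub_distrib, ← Finset.mul_sum, ← hL, Finset.sum_const, nsmul_eq_mul,
          mul_one, hLc, ← hm]
        rcases hc with rfl | rfl <;> ring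
      have h4 : ∀ w ∈ s, 0 ≤ 1 - c * f w := fun w hw => by
        rcases sq_eq_one_iff.1 (hsq w hw) with h | h <;> rcases hc with rfl | rfl <;> simp [h]
      have h5 := (Finset.sum_eq_zero_iff_of_nonneg h4).1 h3 v hv
      rcases hc with rfl | rfl <;> linarith
    rcases sq_eq_sq_iff_eq_or_eq_neg.1 hL2 with h | h
    · exact ⟨1, Or.inl rfl, key 1 (Or.inl rfl) (by rw [h, one_mul])⟩
    · exact ⟨-1, Or.inr rfl, key (-1) (Or.inr rfl) (by rw [h, neg_one_mul])⟩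

/-- A set of nonzero numbers stable under a freely acting group of units. -/
theorem dvd_card_of_free {n : ℕ} [NeZero n] (E : Subgroup (ZMod n)ˣ) (s : Finset (ZMod n))
    (hst : ∀ w ∈ E, ∀ i ∈ s, (w : ZMod n) * i ∈ s)
    (hfree : ∀ w ∈ E, ∀ i ∈ s, (w : ZMod n) * i = i → w = 1) : Nat.card E ∣ s.card := by
  classical
  let orb : ZMod n → Finset (ZMod n) := fun i =>
    (Finset.univ : Finset E).image fun w : E => ((w : (ZMod n)ˣ) : ZMod n) * i
  have hmem : ∀ i j, j ∈ orb i ↔ ∃ w ∈ E, (w : ZMod n) * i = j := fun i j => by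
    simp only [orb, Finset.mem_image, Finset.mem_univ, true_and]
    exact ⟨fun ⟨w, hw⟩ => ⟨w, w.2, hw⟩, fun ⟨w, hw, h⟩ => ⟨⟨w, hw⟩, h⟩⟩
  have horb : ∀ i j, j ∈ orb i → orb j = orb i := fun i j hj => by
    obtain ⟨w, hw, rfl⟩ := (hmem i j).1 hj
    ext x
    rw [hmem, hmem]
    constructor
    · rintro ⟨v, hv, rfl⟩
      exact ⟨v * w, mul_mem hv hw, by rw [Units.val_mul, mul_assoc]⟩
    · rintro ⟨v, hv, rfl⟩
      exact ⟨v * w⁻¹, mul_mem hv (inv_mem hw), by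
        rw [Units.val_mul, mul_assoc, Units.inv_mul_cancel_left]⟩
  rw [Finset.card_eq_sum_card_image orb s]
  refine Finset.dvd_sum fun o ho => ?_
  obtain ⟨i, hi, rfl⟩ := Finset.mem_image.1 ho
  have heq : s.filter (fun j => orb j = orb i) = orb i := by
    ext j
    rw [Finset.mem_filter]
    refine ⟨fun h => h.2 ▸ (hmem j j).2 ⟨1, one_mem _, by simp⟩, fun h => ⟨?_, horb i j h⟩⟩
    obtain ⟨w, hw, rfl⟩ := (hmem i j).1 h
    exact hst w hw i hi
  rw [heq, Finset.card_image_of_injective, Finset.card_univ, Nat.card_eq_fintype_card]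
  intro w w' h
  apply Subtype.ext
  have h' : (((w' : (ZMod n)ˣ)⁻¹ * w : (ZMod n)ˣ) : ZMod n) * i = i := by
    rw [Units.val_mul, mul_assoc]
    simp only [] at h
    rw [h, Units.inv_mul_cancel_left]
  exact (inv_mul_eq_one.1 (hfree _ (mul_mem (inv_mem w'.2) w.2) i hi h')).symm

theorem sum_zpsi_mul {n : ℕ} [NeZero n] (l : ZMod n) :
    ∑ i : ZMod n, zpsi n (l * i) = if l = 0 then (n : ℂ) else 0 := by
  classical
  simp only [mul_comm l]
  rw [AddChar.sum_mulShift l (zpsi_isPrimitive n), ZMod.card]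
  split <;> simp

namespace CycBlock

variable {G : Type u} [Group G] [Fintype G] {p : ℕ} [hp : Fact p.Prime] {M : Ideal AlgInt}
  [M.IsPrime] (S : CycBlock G p M)

local notation "cs" y => Subgroup.centralizer (Singleton.singleton y : Set G)

attribute [local instance] csFintype

instance neZero_pow : NeZero (p ^ S.a) := ⟨pow_ne_zero _ hp.out.ne_zero⟩

/-- The transform of an integral row. -/
noncomputable def tr (d : ZMod (p ^ S.a) → ℤ) (i : ZMod (p ^ S.a)) : ℂ :=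
  ∑ l, (d l : ℂ) * zpsi (p ^ S.a) (l * i)

theorem tr_zero (d : ZMod (p ^ S.a) → ℤ) : S.tr d 0 = ((∑ l, d l : ℤ) : ℂ) := by
  simp [tr, AddChar.map_zero_eq_one]

theorem sum_tr (d : ZMod (p ^ S.a) → ℤ) :
    ∑ i, S.tr d i = (p ^ S.a : ℕ) * (d 0 : ℂ) := by
  classical
  simp only [tr]
  rw [Finset.sum_comm]
  simp only [← Finset.mul_sum, sum_zpsi_mul, mul_ite, mul_zero, Finset.sum_ite_eq',
    Finset.mem_univ, if_true]
  ring

theorem sum_tr_mul_conj (d : ZMod (p ^ S.a) → ℤ) :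
    ∑ i, S.tr d i * conj (S.tr d i) = (((p ^ S.a : ℕ) * ∑ l, d l ^ 2 : ℤ) : ℂ) := by
  classical
  simp only [tr, map_sum, map_mul, map_intCast, conj_zpsi, Finset.sum_mul, Finset.mul_sum]
  rw [Finset.sum_comm]
  push_cast
  try simp only [Finset.mul_sum]
  refine Finset.sum_congr rfl fun l _ => ?_
  rw [Finset.sum_comm, Finset.sum_eq_single l]
  · have h : ∀ x : ZMod (p ^ S.a), (d l : ℂ) * zpsi (p ^ S.a) (l * x) *
        ((d l : ℂ) * zpsi (p ^ S.a) (-(l * x))) = (d l : ℂ) * d l := fun x => by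
      rw [mul_mul_mul_comm, ← AddChar.map_add_eq_mul, add_neg_cancel, AddChar.map_zero_eq_one,
        mul_one]
    simp only [h, Finset.sum_const, Finset.card_univ, ZMod.card, nsmul_eq_mul]
    push_cast
    ring
  · intro m _ hm
    have h : ∀ x : ZMod (p ^ S.a), (d m : ℂ) * zpsi (p ^ S.a) (m * x) *
        ((d l : ℂ) * zpsi (p ^ S.a) (-(l * x))) =
        (d m : ℂ) * d l * zpsi (p ^ S.a) ((m - l) * x) := fun x => by
      rw [mul_mul_mul_comm, ← AddChar.map_add_eq_mul]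
      congr 2
      ring
    rw [Finset.sum_congr rfl fun x _ => h x, ← Finset.mul_sum, sum_zpsi_mul,
      if_neg (sub_ne_zero.2 hm), mul_zero]
  · intro h; exact absurd (Finset.mem_univ _) h

theorem eq_of_tr_eq {d d' : ZMod (p ^ S.a) → ℤ} (h : ∀ i, S.tr d i = S.tr d' i) : d = d' := by
  classical
  have h2 := S.sum_tr_mul_conj (fun l => d l - d' l)
  have h0 : ∀ i, S.tr (fun l => d l - d' l) i = 0 := fun i => by
    simp only [tr, Int.cast_sub, sub_mul, Finset.sum_sub_distrib]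
    exact sub_eq_zero.2 (h i)
  simp only [h0, zero_mul, Finset.sum_const_zero] at h2
  have h3 : ((p ^ S.a : ℕ) : ℤ) * ∑ l, (d l - d' l) ^ 2 = 0 := by exact_mod_cast h2.symm
  have h4 := (mul_eq_zero.1 h3).resolve_left (Nat.cast_ne_zero.2 (pow_ne_zero _ hp.out.ne_zero))
  funext l
  have h5 := (Finset.sum_eq_zero_iff_of_nonneg fun l _ => sq_nonneg (d l - d' l)).1 h4 l
    (Finset.mem_univ l)
  exact sub_eq_zero.1 (sq_eq_zero_iff.1 h5)

/-- The number of order `p`. -/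
def bot : ZMod (p ^ S.a) := ((p ^ (S.a - 1) : ℕ) : ZMod (p ^ S.a))

theorem bot_ne_zero : S.bot ≠ 0 := S.pow_cast_ne_zero (Nat.sub_lt S.ha one_pos)

theorem cs_le_bot {i : ZMod (p ^ S.a)} (hi : i ≠ 0) : (cs (S.el i)) ≤ (cs (S.el S.bot)) := by
  obtain ⟨j, w, hj, rfl⟩ := S.exists_unit_mul_pow hi
  set x : ZMod (p ^ S.a) := ((w⁻¹ : (ZMod (p ^ S.a))ˣ) : ZMod (p ^ S.a)) *
    ((p ^ (S.a - 1 - j) : ℕ) : ZMod (p ^ S.a)) with hx
  have h : S.bot = x * ((w : ZMod (p ^ S.a)) * ((p ^ j : ℕ) : ZMod (p ^ S.a))) := by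
    rw [hx, mul_mul_mul_comm, Units.inv_mul, one_mul, ← Nat.cast_mul, ← pow_add, bot,
      Nat.sub_add_cancel (by omega)]
  rw [h, S.el_mul_eq x]
  exact centralizer_le_pow S.hM (S.isPPower_el _) _

variable (hp2 : p ≠ 2)
include hp2

/-- **The integral rows.** -/
theorem exists_rows : ∃ (c : ZMod (p ^ S.a) → ℂ) (d : IrrCharacter G → ZMod (p ^ S.a) → ℤ),
    (∀ i, i ≠ 0 → c i * conj (c i) * (p ^ S.a : ℕ) = S.nrm i) ∧
    (∀ i, i ≠ 0 → ∀ w : (ZMod (p ^ S.a))ˣ, c ((w : ZMod (p ^ S.a)) * i) = c i) ∧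
    (∀ χ i, i ≠ 0 → S.col χ i = c i * S.tr (d χ) i) ∧
    (∀ χ, d χ 0 = 0) ∧
    (∀ χ, ∀ w ∈ S.E, ∀ l, d χ ((w : ZMod (p ^ S.a)) * l) = d χ l) := by
  classical
  obtain ⟨S', hB', ha', he', hu', hβ'⟩ := S.exists_cenBlock' S.bot_ne_zero
  have := Fintype.ofFinite (IrrCharacter (cs (S.el S.bot)))
  obtain ⟨s, lam, c', hs, hcol, hc, hnrm⟩ := S'.coherence he' hp2
  let L : IrrCharacter (cs (S.el S.bot)) → ZMod (p ^ S.a) := fun θ =>
    ((lam θ).val : ZMod (p ^ S.a))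
  let r : IrrCharacter G → ZMod (p ^ S.a) → ℤ := fun χ l =>
    ∑ θ ∈ ((Finset.univ.filter fun θ => θ ∈ S'.B ∧ L θ = l) : Finset _),
      (resMult (S.el S.bot) χ θ : ℤ) * s θ
  let c : ZMod (p ^ S.a) → ℂ := fun i => c' (i.val : ZMod (p ^ S'.a))
  have hne : ∀ i : ZMod (p ^ S.a), i ≠ 0 → ((i.val : ℕ) : ZMod (p ^ S'.a)) ≠ 0 := fun i hi h => by
    rw [ZMod.natCast_eq_zero_iff, ha'] at h
    exact hi ((ZMod.val_eq_zero i).1 (Nat.eq_zero_of_dvd_of_lt h (ZMod.val_lt i)))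
  have hle : ∀ i : ZMod (p ^ S.a), i ≠ 0 → (cs (S.u ^ i.val)) ≤ (cs (S.el S.bot)) :=
    fun i hi => S.cs_le_bot hi
  have hnrm' : ∀ i, i ≠ 0 → c i * conj (c i) * (p ^ S.a : ℕ) = S.nrm i := by
    intro i hi
    have h := hnrm _ (hne i hi)
    have hb := hβ' i.val (hle i hi) 1
    rw [ZMod.natCast_rightInverse i, OneMemClass.coe_one] at hb
    rw [nrm_eq_beta, hb,
      natCard_cs_subgroup (x := S'.el (i.val : ZMod (p ^ S'.a))) (by
        rw [S'.el_natCast, SubmonoidClass.coe_pow, hu']; exact hle i hi),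
      S'.el_natCast, SubmonoidClass.coe_pow, hu',
      show ((p ^ S'.a : ℕ) : ℂ) = ((p ^ S.a : ℕ) : ℂ) by rw [ha']] at h
    rw [nrm_eq_beta]
    exact h
  have hcol' : ∀ χ i, i ≠ 0 → S.col χ i = c i * S.tr (r χ) i := by
    intro χ i hi
    have h := S.subFun_eq_sum_restrict χ S' hu' hβ' (n := i.val) (hle i hi)
    rw [ZMod.natCast_rightInverse i] at h
    rw [h, ← Finset.sum_filter_add_sum_filter_not Finset.univ (fun θ => θ ∈ S'.B),
      Finset.sum_eq_zero (s := Finset.univ.filter fun θ => ¬ θ ∈ S'.B) (fun θ hθ => by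
        rw [S'.col_eq_zero_of_not_mem (Finset.mem_filter.1 hθ).2, mul_zero]), add_zero,
      ← Finset.sum_fiberwise _ L, tr, Finset.mul_sum]
    refine Finset.sum_congr rfl fun l _ => ?_
    simp only [r, Int.cast_sum, Int.cast_mul, Int.cast_natCast, Finset.sum_mul, Finset.mul_sum,
      Finset.filter_filter]
    refine Finset.sum_congr rfl fun θ hθ => ?_
    obtain ⟨-, hθB, hθl⟩ := Finset.mem_filter.1 hθ
    rw [hcol θ hθB _ (hne i hi)]
    have hz : zpsi (p ^ S'.a) (lam θ * (i.val : ZMod (p ^ S'.a))) = zpsi (p ^ S.a) (l * i) := by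
      obtain ⟨k, hk⟩ : ∃ k, k = (lam θ).val := ⟨_, rfl⟩
      have e1 : lam θ = (k : ZMod (p ^ S'.a)) := by rw [hk, ZMod.natCast_rightInverse]
      have e2 : l = (k : ZMod (p ^ S.a)) := by rw [hk]; exact hθl.symm
      rw [e1, e2, ← Nat.cast_mul, zpsi_natCast, ha']
      conv_rhs => rw [← ZMod.natCast_rightInverse i, ← Nat.cast_mul, zpsi_natCast]
    rw [hz]
    simp only [c]
    ring
  have hcne : ∀ i, i ≠ 0 → c i ≠ 0 := fun i hi h0 => S.nrm_ne_zero i (by
    rw [← hnrm' i hi, h0, zero_mul, zero_mul])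
  have hcconst : ∀ i, i ≠ 0 → ∀ w : (ZMod (p ^ S.a))ˣ, c ((w : ZMod (p ^ S.a)) * i) = c i := by
    intro i hi w
    have hcop : ((w : ZMod (p ^ S.a)).val).Coprime (p ^ S'.a) := by
      rw [ha']; exact ZMod.val_coe_unit_coprime w
    simp only [c]
    rw [← hc _ (hne i hi) (ZMod.unitOfCoprime _ hcop), ZMod.coe_unitOfCoprime, ← Nat.cast_mul,
      ZMod.val_mul]
    congr 1
    rw [ZMod.natCast_eq_natCast_iff, ha']
    exact Nat.mod_modEq _ _
  have hinv : ∀ χ, ∀ w ∈ S.E, ∀ l, r χ ((w : ZMod (p ^ S.a)) * l) = r χ l := by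
    intro χ w hw
    suffices h : (fun l => r χ ((w : ZMod (p ^ S.a)) * l)) = r χ from fun l => congrFun h l
    refine S.eq_of_tr_eq fun i => ?_
    have h1 : S.tr (fun l => r χ ((w : ZMod (p ^ S.a)) * l)) i =
        S.tr (r χ) (((w⁻¹ : (ZMod (p ^ S.a))ˣ) : ZMod (p ^ S.a)) * i) := by
      unfold tr
      refine Fintype.sum_equiv (Units.mulLeft w) _ _ fun l => ?_
      rw [Units.mulLeft_apply]
      congr 2
      rw [mul_mul_mul_comm, Units.mul_inv, one_mul]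
    rw [h1]
    rcases eq_or_ne i 0 with rfl | hi
    · rw [mul_zero]
    · have hwi : ((w⁻¹ : (ZMod (p ^ S.a))ˣ) : ZMod (p ^ S.a)) * i ≠ 0 := fun h =>
        hi ((Units.mul_right_eq_zero _).1 h)
      refine mul_left_cancel₀ (hcne i hi) ?_
      rw [← hcol' χ i hi]
      conv_lhs => rw [← hcconst i hi w⁻¹]
      rw [← hcol' χ _ hwi, S.col_E χ (inv_mem hw)]
  refine ⟨c, fun χ l => r χ l - r χ 0, hnrm', hcconst, fun χ i hi => ?_, fun χ => sub_self _,
    fun χ w hw l => ?_⟩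
  · rw [hcol' χ i hi]
    congr 1
    simp only [tr, Int.cast_sub, sub_mul, Finset.sum_sub_distrib, ← Finset.mul_sum]
    have h0 : ∑ x : ZMod (p ^ S.a), zpsi (p ^ S.a) (x * i) = 0 := by
      simp only [mul_comm _ i]
      rw [sum_zpsi_mul, if_neg hi]
    rw [h0, mul_zero, sub_zero]
  · show r χ _ - _ = r χ l - _
    rw [hinv χ w hw l]

variable {c : ZMod (p ^ S.a) → ℂ} {d : IrrCharacter G → ZMod (p ^ S.a) → ℤ}
  (hc : ∀ i, i ≠ 0 → c i * conj (c i) * (p ^ S.a : ℕ) = S.nrm i)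
  (hcw : ∀ i, i ≠ 0 → ∀ w : (ZMod (p ^ S.a))ˣ, c ((w : ZMod (p ^ S.a)) * i) = c i)
  (hcol : ∀ χ i, i ≠ 0 → S.col χ i = c i * S.tr (d χ) i)
  (hd0 : ∀ χ, d χ 0 = 0)
  (hdE : ∀ χ, ∀ w ∈ S.E, ∀ l, d χ ((w : ZMod (p ^ S.a)) * l) = d χ l)
include hc hcw hcol hd0 hdE

omit hd0 hdE in
theorem orth_tr {i j : ZMod (p ^ S.a)} (hi : i ≠ 0) (hj : j ≠ 0)
    [Decidable (∃ w ∈ S.E, j = (w : ZMod (p ^ S.a)) * i)] :
    ∑ χ ∈ S.B.toFinite.toFinset, S.tr (d χ) i * conj (S.tr (d χ) j) =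
      if ∃ w ∈ S.E, j = (w : ZMod (p ^ S.a)) * i then ((p ^ S.a : ℕ) : ℂ) else 0 := by
  have hci : c i * conj (c i) ≠ 0 := fun h0 => S.nrm_ne_zero i (by rw [← hc i hi, h0, zero_mul])
  have hcj : c j ≠ 0 := fun h0 => S.nrm_ne_zero j (by rw [← hc j hj, h0, zero_mul, zero_mul])
  have hcci : c i ≠ 0 := fun h0 => hci (by rw [h0, zero_mul])
  split_ifs with h
  · obtain ⟨w, hw, rfl⟩ := h
    refine mul_left_cancel₀ hci ?_
    rw [hc i hi, ← S.orth_self i, Finset.mul_sum]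
    refine Finset.sum_congr rfl fun χ _ => ?_
    have h1 : S.tr (d χ) ((w : ZMod (p ^ S.a)) * i) = S.tr (d χ) i := by
      refine mul_left_cancel₀ hcci ?_
      rw [← hcol χ i hi]
      conv_lhs => rw [← hcw i hi w]
      rw [← hcol χ _ hj, S.col_E χ hw]
    rw [h1, hcol χ i hi, map_mul]
    ring
  · push Not at h
    have h0 := S.orth_zero h
    have hci' : c i * conj (c j) ≠ 0 := mul_ne_zero hcci (by simpa using hcj)
    suffices h' : c i * conj (c j) *
        ∑ χ ∈ S.B.toFinite.toFinset, S.tr (d χ) i * conj (S.tr (d χ) j) = 0 from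
      (mul_eq_zero.1 h').resolve_left hci'
    rw [Finset.mul_sum, ← h0]
    refine Finset.sum_congr rfl fun χ _ => ?_
    rw [hcol χ i hi, hcol χ j hj, map_mul]
    ring

/-- The two quadratic totals. -/
theorem totals :
    ∑ χ ∈ S.B.toFinite.toFinset, ((p ^ S.a : ℕ) * ∑ l, d χ l ^ 2 - (∑ l, d χ l) ^ 2) =
        ((p ^ S.a - 1 : ℕ) : ℤ) * (p ^ S.a : ℕ) ∧
    ∑ χ ∈ S.B.toFinite.toFinset, (∑ l, d χ l) ^ 2 =
        ((p ^ S.a - 1 : ℕ) : ℤ) * S.e * (p ^ S.a : ℕ) := by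
  classical
  set I : Finset (ZMod (p ^ S.a)) := Finset.univ.erase 0 with hI
  have hIcard : I.card = p ^ S.a - 1 := by
    rw [hI, Finset.card_erase_of_mem (Finset.mem_univ _), Finset.card_univ, ZMod.card]
  have hI0 : ∀ i ∈ I, i ≠ 0 := fun i hi => Finset.ne_of_mem_erase hi
  have h1 : ∀ χ, ∑ i ∈ I, S.tr (d χ) i * conj (S.tr (d χ) i) =
      (((p ^ S.a : ℕ) * ∑ l, d χ l ^ 2 - (∑ l, d χ l) ^ 2 : ℤ) : ℂ) := fun χ => by
    rw [hI, Finset.sum_erase_eq_sub (Finset.mem_univ _), sum_tr_mul_conj, tr_zero, map_intCast]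
    push_cast
    ring
  have h2 : ∀ χ, ∑ i ∈ I, S.tr (d χ) i = -((∑ l, d χ l : ℤ) : ℂ) := fun χ => by
    rw [hI, Finset.sum_erase_eq_sub (Finset.mem_univ _), sum_tr, tr_zero, hd0]
    simp
  refine ⟨?_, ?_⟩
  · refine Int.cast_injective (α := ℂ) ?_
    rw [Int.cast_sum, ← Finset.sum_congr rfl fun χ _ => h1 χ, Finset.sum_comm,
      Finset.sum_congr rfl (fun i hi => (orth_tr S hp2 hc hcw hcol (hI0 i hi) (hI0 i hi)).trans
        (if_pos ⟨1, one_mem _, by simp⟩)), Finset.sum_const, hIcard, nsmul_eq_mul]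
    push_cast
    ring
  · refine Int.cast_injective (α := ℂ) ?_
    have h3 : ∀ χ, (((∑ l, d χ l) ^ 2 : ℤ) : ℂ) =
        (∑ i ∈ I, S.tr (d χ) i) * conj (∑ j ∈ I, S.tr (d χ) j) := fun χ => by
      rw [h2, map_neg, map_intCast]
      push_cast
      ring
    rw [Int.cast_sum, Finset.sum_congr rfl fun χ _ => h3 χ]
    simp only [map_sum, Finset.sum_mul, Finset.mul_sum]
    rw [Finset.sum_comm]
    simp only [Finset.sum_comm (s := S.B.toFinite.toFinset) (t := I)]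
    rw [Finset.sum_comm]
    rw [Finset.sum_congr rfl fun i hi => Finset.sum_congr rfl fun j hj =>
      orth_tr S hp2 hc hcw hcol (hI0 i hi) (hI0 j hj)]
    simp only [Finset.sum_ite, Finset.sum_const_zero, add_zero, Finset.sum_const, nsmul_eq_mul]
    have hcnt : ∀ i ∈ I, (I.filter fun j => ∃ w ∈ S.E, j = (w : ZMod (p ^ S.a)) * i).card = S.e := by
      intro i hi
      rw [← S.natCard_E, Nat.card_eq_fintype_card, ← Finset.card_univ]
      symm
      refine Finset.card_bij (fun (w : S.E) _ => ((w : (ZMod (p ^ S.a))ˣ) : ZMod (p ^ S.a)) * i)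
        (fun w _ => ?_) (fun w _ w' _ h => ?_) (fun j hj => ?_)
      · rw [Finset.mem_filter, hI, Finset.mem_erase]
        exact ⟨⟨fun h => hI0 i hi ((Units.mul_right_eq_zero _).1 h), Finset.mem_univ _⟩,
          ⟨_, w.2, rfl⟩⟩
      · apply Subtype.ext
        have h' : (((w' : (ZMod (p ^ S.a))ˣ)⁻¹ * w : (ZMod (p ^ S.a))ˣ) : ZMod (p ^ S.a)) * i =
            i := by rw [Units.val_mul, mul_assoc, h, Units.inv_mul_cancel_left]
        exact (inv_mul_eq_one.1 (S.free (mul_mem (inv_mem w'.2) w.2) h' (hI0 i hi))).symm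
      · obtain ⟨-, w, hw, rfl⟩ := Finset.mem_filter.1 hj
        exact ⟨⟨w, hw⟩, Finset.mem_univ _, rfl⟩
    rw [Finset.sum_congr rfl (fun i hi => by rw [hcnt i hi]), Finset.sum_const, hIcard,
      nsmul_eq_mul]
    push_cast
    ring

omit hd0 hdE in
theorem exists_ne_zero {χ : IrrCharacter G} (hχ : χ ∈ S.B) : ∃ l, d χ l ≠ 0 := by
  by_contra h
  push Not at h
  have hAE := S.allEq_of_ne_zero S.bot_ne_zero
  have h1 := col_unit_mul hAE χ 1
  rw [Units.val_one, one_mul, hcol χ _ S.bot_ne_zero] at h1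
  have h2 : S.tr (d χ) S.bot = 0 := Finset.sum_eq_zero fun l _ => by rw [h l]; simp
  rw [h2, mul_zero] at h1
  have h3 := secPow_ne_zero hAE hχ 1
  rw [Units.val_one] at h3
  exact mul_ne_zero h3 (S.dg_ne_zero _) h1.symm

/-- **`k(B) ≤ e + (p ^ a - 1) / e`**, and the rows in the case of equality. -/
theorem natCard_le_and_shape {t : ℕ} (ht : t * S.e = p ^ S.a - 1) :
    Nat.card S.B ≤ S.e + t ∧ (Nat.card S.B = S.e + t → ∀ χ ∈ S.B, ∃ s : ℤ, (s = 1 ∨ s = -1) ∧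
      ((∀ l, l ≠ 0 → d χ l = s) ∨ ∃ r, r ≠ 0 ∧ ∀ l,
        (d χ l = s ∧ ∃ w ∈ S.E, l = (w : ZMod (p ^ S.a)) * r) ∨
        (d χ l = 0 ∧ ¬ ∃ w ∈ S.E, l = (w : ZMod (p ^ S.a)) * r))) := by
  classical
  obtain ⟨ht1, ht2⟩ := totals S hp2 hc hcw hcol hd0 hdE
  set N := p ^ S.a - 1 with hN
  have hq : ((p ^ S.a : ℕ) : ℤ) = (N : ℤ) + 1 := by
    have := pow_pos hp.out.pos S.a
    omega
  let supp : IrrCharacter G → Finset (ZMod (p ^ S.a)) := fun χ =>
    Finset.univ.filter fun l => d χ l ≠ 0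
  have hsum : ∀ χ, ∑ l, d χ l = ∑ l ∈ supp χ, d χ l := fun χ => (Finset.sum_filter_ne_zero _).symm
  have hsq : ∀ χ, ∑ l, d χ l ^ 2 = ∑ l ∈ supp χ, d χ l ^ 2 := fun χ => by
    rw [Finset.sum_filter]
    exact Finset.sum_congr rfl fun l _ => by split_ifs with h <;> simp_all
  have hsupp : ∀ χ ∈ S.B, supp χ ≠ ∅ ∧ S.e ∣ (supp χ).card ∧ (supp χ).card ≤ N := by
    intro χ hχ
    refine ⟨?_, ?_, ?_⟩
    · obtain ⟨l, hl⟩ := exists_ne_zero S hp2 hc hcw hcol hχ
      exact Finset.nonempty_iff_ne_empty.1 ⟨l, by simp [supp, hl]⟩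
    · rw [← S.natCard_E]
      refine dvd_card_of_free S.E _ (fun w hw i hi => ?_) (fun w hw i hi h => ?_)
      · simp only [supp, Finset.mem_filter, Finset.mem_univ, true_and] at hi ⊢
        rwa [hdE χ w hw i]
      · simp only [supp, Finset.mem_filter, Finset.mem_univ, true_and] at hi
        exact S.free hw h fun h0 => hi (h0 ▸ hd0 χ)
    · have hsub : supp χ ⊆ Finset.univ.erase 0 := fun l hl => by
        simp only [supp, Finset.mem_filter, Finset.mem_univ, true_and] at hl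
        exact Finset.mem_erase.2 ⟨fun h => hl (h ▸ hd0 χ), Finset.mem_univ _⟩
      refine (Finset.card_le_card hsub).trans (le_of_eq ?_)
      rw [Finset.card_erase_of_mem (Finset.mem_univ _), Finset.card_univ, ZMod.card]
  let F : IrrCharacter G → ℤ := fun χ =>
    ((N : ℤ) + S.e) * ∑ l, d χ l ^ 2 - (∑ l, d χ l) ^ 2
  have hineq : ∀ χ ∈ S.B, (S.e : ℤ) * N ≤ F χ ∧ (F χ = (S.e : ℤ) * N →
      ((supp χ).card = S.e ∨ (supp χ).card = N) ∧
        ∃ s : ℤ, (s = 1 ∨ s = -1) ∧ ∀ l ∈ supp χ, d χ l = s) := fun χ hχ => by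
    obtain ⟨h1, h2, h3⟩ := hsupp χ hχ
    simp only [F, hsum, hsq]
    exact support_sq_ineq _ _ S.e_pos (fun l hl => (Finset.mem_filter.1 hl).2) h2
      (Finset.nonempty_iff_ne_empty.2 h1) h3
  have hDsum : ∑ χ ∈ S.B.toFinite.toFinset, ∑ l, d χ l ^ 2 = (N : ℤ) * (1 + S.e) := by
    rw [Finset.sum_sub_distrib, ← Finset.mul_sum, ht2] at ht1
    refine mul_left_cancel₀ (a := ((p ^ S.a : ℕ) : ℤ))
      (Nat.cast_ne_zero.2 (pow_ne_zero _ hp.out.ne_zero)) ?_
    linear_combination ht1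
  have hFsum : ∑ χ ∈ S.B.toFinite.toFinset, F χ = (S.e : ℤ) * N * ((S.e : ℤ) + t) := by
    simp only [F, Finset.sum_sub_distrib, ← Finset.mul_sum, hDsum, ht2, hq]
    have htN : (t : ℤ) * S.e = N := by exact_mod_cast ht
    linear_combination (-(N : ℤ)) * htN
  have hcard : (Nat.card S.B : ℤ) = ∑ _χ ∈ S.B.toFinite.toFinset, (1 : ℤ) := by
    rw [Finset.sum_const, ← Set.ncard_eq_toFinset_card, ← Nat.card_coe_set_eq, nsmul_one]
  have hpos : (0 : ℤ) < (S.e : ℤ) * N := by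
    have h1 : 1 < p ^ S.a := Nat.one_lt_pow (Nat.one_le_iff_ne_zero.1 S.ha) hp.out.one_lt
    exact mul_pos (by exact_mod_cast S.e_pos) (by omega)
  have hmem : ∀ χ ∈ S.B.toFinite.toFinset, χ ∈ S.B := fun χ h => by simpa using h
  have hbound : (S.e : ℤ) * N * Nat.card S.B ≤ (S.e : ℤ) * N * ((S.e : ℤ) + t) := by
    rw [← hFsum, hcard, Finset.mul_sum]
    exact Finset.sum_le_sum fun χ hχ => by rw [mul_one]; exact (hineq χ (hmem χ hχ)).1
  refine ⟨by exact_mod_cast le_of_mul_le_mul_left hbound hpos, fun hk χ hχ => ?_⟩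
  have heq : F χ = (S.e : ℤ) * N := by
    refine ((Finset.sum_eq_sum_iff_of_le (fun χ hχ => (hineq χ (hmem χ hχ)).1)).1 ?_ χ
      (by simpa using hχ)).symm
    rw [hFsum, ← Nat.cast_add, ← hk, hcard, Finset.mul_sum]
    simp
  obtain ⟨hcases, s, hs, hval⟩ := (hineq χ hχ).2 heq
  refine ⟨s, hs, ?_⟩
  obtain ⟨hne, -, -⟩ := hsupp χ hχ
  rcases hcases with hce | hcN
  · right
    obtain ⟨r, hr⟩ := Finset.nonempty_iff_ne_empty.2 hne
    have hr' : d χ r ≠ 0 := (Finset.mem_filter.1 hr).2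
    have hr0 : r ≠ 0 := fun h => hr' (h ▸ hd0 χ)
    refine ⟨r, hr0, fun l => ?_⟩
    have horb : supp χ = (Finset.univ : Finset S.E).image
        (fun w : S.E => ((w : (ZMod (p ^ S.a))ˣ) : ZMod (p ^ S.a)) * r) := by
      symm
      refine Finset.eq_of_subset_of_card_le (fun l hl => ?_) (le_of_eq ?_)
      · obtain ⟨w, -, rfl⟩ := Finset.mem_image.1 hl
        simp only [supp, Finset.mem_filter, Finset.mem_univ, true_and]
        rwa [hdE χ w w.2 r]
      · rw [hce, Finset.card_image_of_injective, Finset.card_univ, ← Nat.card_eq_fintype_card,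
          S.natCard_E]
        intro w w' h
        apply Subtype.ext
        have h' : (((w' : (ZMod (p ^ S.a))ˣ)⁻¹ * w : (ZMod (p ^ S.a))ˣ) : ZMod (p ^ S.a)) * r =
            r := by
          rw [Units.val_mul, mul_assoc]
          simp only [] at h
          rw [h, Units.inv_mul_cancel_left]
        exact (inv_mul_eq_one.1 (S.free (mul_mem (inv_mem w'.2) w.2) h' hr0)).symm
    by_cases hl : d χ l = 0
    · refine Or.inr ⟨hl, ?_⟩
      rintro ⟨w, hw, rfl⟩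
      exact hr' (by rwa [hdE χ w hw r] at hl)
    · have hmem' : l ∈ supp χ := by simp [supp, hl]
      refine Or.inl ⟨hval l hmem', ?_⟩
      rw [horb] at hmem'
      obtain ⟨w, -, rfl⟩ := Finset.mem_image.1 hmem'
      exact ⟨w, w.2, rfl⟩
  · left
    intro l hl
    refine hval l ?_
    have hfull : supp χ = Finset.univ.erase 0 := by
      refine Finset.eq_of_subset_of_card_le (fun l hl => ?_) (le_of_eq ?_)
      · refine Finset.mem_erase.2 ⟨fun h => ?_, Finset.mem_univ _⟩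
        exact (Finset.mem_filter.1 hl).2 (h ▸ hd0 χ)
      · rw [hcN, Finset.card_erase_of_mem (Finset.mem_univ _), Finset.card_univ, ZMod.card]
    rw [hfull]
    exact Finset.mem_erase.2 ⟨hl, Finset.mem_univ _⟩

end CycBlock

end CfsgLib.Block
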