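import Cfsg.Agent.Lib.Block.CyclicLower
import Cfsg.Agent.Lib.Block.CyclicRows
import Cfsg.Agent.Lib.Block.DefectOrder
import Cfsg.Agent.Lib.BlockA.PairNorm
import Cfsg.Agent.Lib.Char.Diag

/-!
# The characters of a block with cyclic defect group

`k(B) = e + (p ^ a - 1) / e` and `l(B) = e`; for odd `p` the signed rows split the block into `e`
characters with full rows and one character for each orbit of the inertial quotient; a combination
of characters killed by all nonzero columns vanishes on the singular elements.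
-/

set_option autoImplicit false
set_option linter.unusedSectionVars false
set_option maxHeartbeats 1000000

namespace CfsgLib.Block.CycBlock

open Cfsg CfsgLib.Block CfsgLib.BlockA CfsgLib.BlockB.SubSum CfsgLib.BlockB.HeightBound
open scoped ComplexConjugate

universe u

variable {G : Type u} [Group G] [Fintype G] {p : ℕ} [hp : Fact p.Prime] {M : Ideal AlgInt}
  [M.IsPrime] (S : CycBlock G p M)

theorem exists_t : ∃ t : ℕ, 1 ≤ t ∧ t * S.e = p ^ S.a - 1 := by
  obtain ⟨R, -, -, h⟩ := S.exists_reps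
  refine ⟨R.card, Nat.one_le_iff_ne_zero.2 fun h0 => ?_, h⟩
  rw [h0, zero_mul] at h
  have := Nat.one_lt_pow (Nat.one_le_iff_ne_zero.1 S.ha) hp.out.one_lt
  omega

theorem eq_two_of_even (h : p = 2) : S.e = 1 := by
  refine Nat.dvd_one.1 ?_
  calc S.e ∣ p - 1 := S.e_dvd
    _ = 1 := by omega

/-- **The counts**: `l(B) = e` and `k(B) = e + t`. -/
theorem counts {t : ℕ} (ht : t * S.e = p ^ S.a - 1) :
    blockRank p S.B = S.e ∧ Nat.card S.B = S.e + t := by
  have h1 := S.e_le_blockRank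
  have h2 := S.blockRank_add_le ht
  by_cases he : S.e = 1
  · obtain ⟨h3, h4⟩ := S.rank_card_of_e_eq_one he
    rw [he, mul_one] at ht
    have := pow_pos hp.out.pos S.a
    omega
  have hp2 : p ≠ 2 := fun h => he (S.eq_two_of_even h)
  obtain ⟨c, d, hc, hcw, hcol, hd0, hdE⟩ := S.exists_rows hp2
  have h3 := (S.natCard_le_and_shape hp2 hc hcw hcol hd0 hdE ht).1
  omega

theorem blockRank_eq : blockRank p S.B = S.e := by
  obtain ⟨t, -, ht⟩ := S.exists_t
  exact (S.counts ht).1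

theorem height_eq_zero {χ : IrrCharacter G} (hχ : χ ∈ S.B) :
    blockHeight p S.B (χ : G → ℂ) = 0 := by
  classical
  have := Fintype.ofFinite S.T
  have hc : Nat.card (Subgroup.center S.D) = p ^ S.a := by
    have h : Subgroup.center S.D = ⊤ := eq_top_iff.2 fun x _ =>
      Subgroup.mem_center_iff.2 fun y => Subtype.ext (S.commute_mem y.2 x.2)
    rw [h, Subgroup.card_top, natCard_D]
  have hlt : S.e < p := by
    have := Nat.le_of_dvd (by have := hp.out.two_le; omega) S.e_dvd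
    have := hp.out.two_le
    omega
  have h := height_le S.hM S.hmax (m := S.e) (fun z hz _ => by
    refine ⟨(Finset.univ : Finset S.T).image fun t : S.T => (t : G) * z * (t : G)⁻¹, ?_, fun t ht =>
      Finset.mem_image.2 ⟨⟨t, ht⟩, Finset.mem_univ _, rfl⟩⟩
    obtain ⟨i, rfl⟩ := S.el_surj hz
    have hsub : ((Finset.univ : Finset S.T).image fun t : S.T => (t : G) * S.el i * (t : G)⁻¹) ⊆
        (Finset.univ : Finset S.E).image fun w : S.E =>
          S.el (((w : (ZMod (p ^ S.a))ˣ) : ZMod (p ^ S.a)) * i) := by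
      intro x hx
      obtain ⟨t, -, rfl⟩ := Finset.mem_image.1 hx
      exact Finset.mem_image.2 ⟨⟨S.act t, ⟨t, rfl⟩⟩, Finset.mem_univ _, (S.act_spec t i).symm⟩
    refine (Finset.card_le_card hsub).trans (Finset.card_image_le.trans ?_)
    rw [Finset.card_univ, ← Nat.card_eq_fintype_card, S.natCard_E]) hχ hc
  rw [blockDefect_B, add_comm, pow_add] at h
  have h4 := Nat.le_of_mul_le_mul_right h (pow_pos hp.out.pos _)
  by_contra hne
  have h5 := (Nat.le_self_pow hne p).trans h4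
  omega

/-- The stabilizer given by the conjugates of all members. -/
theorem T_eq_of_forall {T : Subgroup G}
    (hT : ∀ g : G, g ∈ T ↔ (g ∈ Subgroup.normalizer (S.D : Set G) ∧ ∀ θ ∈ S.eD,
      ∀ θ' : IrrCharacter (Subgroup.centralizer (S.D : Set G)),
        (∀ h h' : Subgroup.centralizer (S.D : Set G), (h' : G) = g * h * g⁻¹ →
          (θ' : Subgroup.centralizer (S.D : Set G) → ℂ) h' =
            (θ : Subgroup.centralizer (S.D : Set G) → ℂ) h) → θ' ∈ S.eD)) :
    T = S.T := by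
  refine eq_pairStab S.hM S.isBrauerPair_eD.2 fun y => ?_
  rw [hT y]
  refine and_congr_right fun hy => ?_
  have hyC := normalizer_le_normalizer_centralizer S.hM S.D hy
  constructor
  · intro h
    refine ⟨hyC, fun χ hχ => ?_⟩
    set χ' := irrMap (conjAut ⟨y, hyC⟩⁻¹) χ with hχ'
    have hcj : IsConjCharOf (Subgroup.centralizer (S.D : Set G)) y
        (χ : Subgroup.centralizer (S.D : Set G) → ℂ) χ' := by
      intro k k' hk
      rw [hχ', irrMap_apply]
      refine congrArg (χ : Subgroup.centralizer (S.D : Set G) → ℂ) (Subtype.ext ?_)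
      simp [hk, mul_assoc]
    exact ⟨χ', h χ hχ χ' hcj, hcj⟩
  · intro h θ hθ θ' hθ'
    obtain ⟨χ', hχ', hcj⟩ := h.2 θ hθ
    suffices e : θ' = χ' by rwa [e]
    refine Subtype.ext (funext fun k' => ?_)
    have hk : y⁻¹ * (k' : G) * y ∈ Subgroup.centralizer (S.D : Set G) :=
      (Subgroup.mem_normalizer_iff''.1 hyC (k' : G)).1 k'.2
    rw [hθ' ⟨_, hk⟩ k' (by simp [mul_assoc]), hcj ⟨_, hk⟩ k' (by simp [mul_assoc])]

/-- A function whose transform vanishes off zero is constant. -/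
theorem const_of_transform {f : ZMod (p ^ S.a) → ℂ}
    (h : ∀ i, i ≠ 0 → ∑ l, f l * zpsi (p ^ S.a) (l * i) = 0) (m : ZMod (p ^ S.a)) :
    f m = f 0 := by
  classical
  have key : ∀ m : ZMod (p ^ S.a), ((p ^ S.a : ℕ) : ℂ) * f m = ∑ l, f l := by
    intro m
    have h1 : ∑ i, (∑ l, f l * zpsi (p ^ S.a) (l * i)) * zpsi (p ^ S.a) (-(m * i)) =
        ((p ^ S.a : ℕ) : ℂ) * f m := by
      simp only [Finset.sum_mul]
      rw [Finset.sum_comm, Finset.sum_eq_single m]
      · simp only [mul_assoc, ← AddChar.map_add_eq_mul, add_neg_cancel, AddChar.map_zero_eq_one,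
          mul_one, Finset.sum_const, Finset.card_univ, ZMod.card, nsmul_eq_mul]
      · intro l _ hl
        simp only [mul_assoc, ← AddChar.map_add_eq_mul]
        rw [← Finset.mul_sum, Finset.sum_congr rfl fun i _ => congrArg (zpsi (p ^ S.a))
          (show l * i + -(m * i) = (l - m) * i by ring), sum_zpsi_mul, if_neg (sub_ne_zero.2 hl),
          mul_zero]
      · intro h'; exact absurd (Finset.mem_univ _) h'
    rw [← h1, Finset.sum_eq_single 0]
    · simp
    · intro i _ hi; rw [h i hi, zero_mul]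
    · intro h'; exact absurd (Finset.mem_univ _) h'
  exact mul_left_cancel₀ (Nat.cast_ne_zero.2 (pow_ne_zero _ hp.out.ne_zero))
    ((key m).trans (key 0).symm)

/-- A combination killed by the nonzero columns vanishes on the singular elements. -/
theorem sum_mul_apply_eq_zero (a : IrrCharacter G → ℂ)
    (ha : ∀ i, i ≠ 0 → ∑ χ ∈ S.B.toFinite.toFinset, a χ * S.col χ i = 0) {g : G}
    (hg : p ∣ orderOf g) :
    ∑ χ ∈ S.B.toFinite.toFinset, a χ * (χ : G → ℂ) g = 0 := by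
  classical
  obtain ⟨R, hR0, hRrep, hRcard⟩ := S.exists_reps
  obtain ⟨hl, hk⟩ := S.counts hRcard
  have := Fintype.ofFinite S.B
  have hsub : ∀ f : IrrCharacter G → ℂ, ∑ χ : S.B, f χ = ∑ χ ∈ S.B.toFinite.toFinset, f χ :=
    fun f => (Finset.sum_subtype _ (fun χ => by simp) f).symm
  let L := Fintype.linearCombination ℂ
    (fun χ : S.B => pRegularPart p ((χ : IrrCharacter G) : G → ℂ))
  have hker : ∀ v : IrrCharacter G → ℂ,
      (∀ y : G, ¬ p ∣ orderOf y → ∑ χ ∈ S.B.toFinite.toFinset, v χ * (χ : G → ℂ) y = 0) →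
      (fun χ : S.B => v χ) ∈ LinearMap.ker L := by
    intro v hv
    rw [LinearMap.mem_ker, Fintype.linearCombination_apply]
    ext y
    simp only [Finset.sum_apply, Pi.smul_apply, smul_eq_mul, pRegularPart, Pi.zero_apply]
    by_cases hy : IsPRegular p y
    · simp only [if_pos hy]
      exact (hsub fun χ => v χ * (χ : G → ℂ) y).trans (hv y hy)
    · simp [if_neg hy]
  let c : R → LinearMap.ker L := fun r => ⟨fun χ : S.B => S.col χ r.1,
    hker (fun χ => S.col χ r.1) fun y hy => S.sum_col_mul_regular (hR0 r.1 r.2) hy⟩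
  have hli : LinearIndependent ℂ c := by
    rw [Fintype.linearIndependent_iff]
    intro w hw r
    have h1 : ∀ χ : S.B, ∑ s : R, w s * S.col χ s.1 = 0 := fun χ => by
      have h2 := congrFun (congrArg Subtype.val hw) χ
      simpa [c] using h2
    have h3 : ∑ χ : S.B, (∑ s : R, w s * S.col χ s.1) * conj (S.col χ r.1) = 0 :=
      Finset.sum_eq_zero fun χ _ => by rw [h1, zero_mul]
    simp only [Finset.sum_mul, mul_assoc] at h3
    rw [Finset.sum_comm] at h3
    simp only [← Finset.mul_sum] at h3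
    simp only [fun s : R => hsub (fun χ => S.col χ s.1 * conj (S.col χ r.1))] at h3
    rw [Finset.sum_eq_single r] at h3
    · rw [S.orth_self] at h3
      exact (mul_eq_zero.1 h3).resolve_right (S.nrm_ne_zero _)
    · intro s _ hs
      rw [S.orth_zero, mul_zero]
      intro v hv hj
      apply hs
      obtain ⟨r₀, -, huniq⟩ := hRrep r.1 (hR0 r.1 r.2)
      exact Subtype.ext ((huniq s.1 ⟨s.2, v, hv, hj⟩).trans
        (huniq r.1 ⟨r.2, 1, one_mem _, by simp⟩).symm)
    · intro h; exact absurd (Finset.mem_univ r) h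
  have hrange : LinearMap.range L = Submodule.span ℂ
      ((fun χ : IrrCharacter G => pRegularPart p (χ : G → ℂ)) '' S.B) := by
    rw [Fintype.range_linearCombination, Set.image_eq_range]
  have hsum := LinearMap.finrank_range_add_finrank_ker L
  rw [Module.finrank_fintype_fun_eq_card, hrange] at hsum
  rw [blockRank] at hl
  rw [hl, ← Nat.card_eq_fintype_card, hk] at hsum
  have hspan := hli.span_eq_top_of_card_eq_finrank' (by rw [Fintype.card_coe]; omega)
  have hmem : (⟨fun χ : S.B => (χ : IrrCharacter G).1 g, hker (fun χ => (χ : G → ℂ) g)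
      fun y hy => by
        have h := sum_block_eq_zero_of_regular_singular S.hM S.isPBlock_B
          (g := y⁻¹) (by rwa [orderOf_inv]) hg
        rw [finsum_mem_eq_finite_toFinset_sum _ S.B.toFinite] at h
        have h' := congrArg conj h
        rw [map_sum, map_zero] at h'
        rw [← h']
        refine Finset.sum_congr rfl fun χ _ => ?_
        rw [map_mul, Complex.conj_conj, irr_conj_eq χ.2, inv_inv, mul_comm]⟩ :
      LinearMap.ker L) ∈ Submodule.span ℂ (Set.range c) := by rw [hspan]; trivial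
  obtain ⟨w, hw⟩ := (Submodule.mem_span_range_iff_exists_fun ℂ).1 hmem
  have hval : ∀ χ : S.B, (χ : IrrCharacter G).1 g = ∑ r : R, w r * S.col χ r.1 := fun χ => by
    have h2 := congrFun (congrArg Subtype.val hw) χ
    simpa [c] using h2.symm
  rw [← hsub fun χ => a χ * (χ : G → ℂ) g]
  calc ∑ χ : S.B, a χ * (χ : IrrCharacter G).1 g
      = ∑ r : R, w r * ∑ χ : S.B, a χ * S.col χ r.1 := by
        simp only [hval, Finset.mul_sum]
        rw [Finset.sum_comm]
        exact Finset.sum_congr rfl fun r _ => Finset.sum_congr rfl fun χ _ => by ring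
    _ = 0 := Finset.sum_eq_zero fun r _ => by
        rw [hsub fun χ => a χ * S.col χ r.1, ha _ (hR0 r.1 r.2), mul_zero]

/-- An integral combination killed by the nonzero columns has degree divisible by `p ^ a`. -/
theorem dvd_sum_degree (a : IrrCharacter G → ℤ)
    (ha : ∀ i, i ≠ 0 → ∑ χ ∈ S.B.toFinite.toFinset, (a χ : ℂ) * S.col χ i = 0) :
    ((p : ℤ) ^ S.a) ∣ ∑ χ ∈ S.B.toFinite.toFinset, a χ * (charDegree (χ : G → ℂ) : ℤ) := by
  classical
  have hn : ∀ χ : IrrCharacter G, ∃ m : ℤ,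
      ∑ i ∈ Finset.range (p ^ S.a), (χ : G → ℂ) (S.u ^ i) = ((p ^ S.a : ℕ) : ℂ) * m := by
    intro χ
    obtain ⟨n, ρ, hρ⟩ := CfsgLib.Char.irr_isCharacter χ.2
    obtain ⟨ι, hι, b, μ, -, hμ, hval, -⟩ := CfsgLib.Char.exists_char_eigen ρ S.u
    refine ⟨((Finset.univ.filter fun i => μ i = 1).card : ℤ), ?_⟩
    rw [← hρ]
    simp only [hval]
    rw [Finset.sum_comm, Int.cast_natCast, Finset.card_filter, Nat.cast_sum, Finset.mul_sum]
    refine Finset.sum_congr rfl fun i _ => ?_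
    split_ifs with h
    · simp [h]
    · rw [geom_sum_eq h, ← S.hord, hμ, sub_self, zero_div]
      simp
  choose m hm using hn
  refine ⟨∑ χ ∈ S.B.toFinite.toFinset, a χ * m χ, Int.cast_injective (α := ℂ) ?_⟩
  have h1 : ∑ i ∈ Finset.range (p ^ S.a), ∑ χ ∈ S.B.toFinite.toFinset,
      (a χ : ℂ) * (χ : G → ℂ) (S.u ^ i) =
      ∑ χ ∈ S.B.toFinite.toFinset, (a χ : ℂ) * (χ : G → ℂ) 1 := by
    rw [Finset.sum_eq_single 0]
    · simp
    · intro i hi hi0
      refine S.sum_mul_apply_eq_zero _ ha ?_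
      have h2 : orderOf (S.u ^ i) ∣ p ^ S.a := S.hord ▸ orderOf_pow_dvd i
      obtain ⟨j, -, hj⟩ := (Nat.dvd_prime_pow hp.out).1 h2
      rw [hj]
      refine dvd_pow_self p fun h0 => ?_
      rw [h0, pow_zero, orderOf_eq_one_iff] at hj
      have h3 := orderOf_dvd_of_pow_eq_one hj
      rw [S.hord] at h3
      exact hi0 (Nat.eq_zero_of_dvd_of_lt h3 (Finset.mem_range.1 hi))
    · intro h; exact absurd (Finset.mem_range.2 (pow_pos hp.out.pos _)) h
  rw [Finset.sum_comm] at h1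
  simp only [← Finset.mul_sum, hm] at h1
  push_cast at h1 ⊢
  simp only [← CfsgLib.Block.charDegree_cast (CfsgLib.Char.irr_isCharacter (Subtype.prop _))] at h1
  rw [Finset.mul_sum, ← h1]
  exact Finset.sum_congr rfl fun χ _ => by ring

/-- The signed rows. -/
structure SignedRows where
  c : ZMod (p ^ S.a) → ℂ
  d : IrrCharacter G → ZMod (p ^ S.a) → ℤ
  X : Finset (IrrCharacter G)
  δ : IrrCharacter G → ℤ
  δ₀ : ℤ
  hc : ∀ i, i ≠ 0 → c i * conj (c i) * (p ^ S.a : ℕ) = S.nrm i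
  hcw : ∀ i, i ≠ 0 → ∀ w : (ZMod (p ^ S.a))ˣ, c ((w : ZMod (p ^ S.a)) * i) = c i
  hcol : ∀ χ i, i ≠ 0 → S.col χ i = c i * S.tr (d χ) i
  hd0 : ∀ χ, d χ 0 = 0
  hdE : ∀ χ, ∀ w ∈ S.E, ∀ l, d χ ((w : ZMod (p ^ S.a)) * l) = d χ l
  hXB : ∀ χ ∈ X, χ ∈ S.B
  hXcard : X.card = S.e
  hδ : ∀ χ, δ χ = 1 ∨ δ χ = -1
  hδ₀ : δ₀ = 1 ∨ δ₀ = -1
  hfull : ∀ χ ∈ X, ∀ l, l ≠ 0 → d χ l = δ χ
  horb : ∀ ψ ∈ S.B, ψ ∉ X → ∃ r, r ≠ 0 ∧ ∀ l,
    (d ψ l = δ₀ ∧ ∃ w ∈ S.E, l = (w : ZMod (p ^ S.a)) * r) ∨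
    (d ψ l = 0 ∧ ¬ ∃ w ∈ S.E, l = (w : ZMod (p ^ S.a)) * r)
  hone : ∀ r, r ≠ 0 → ∃! ψ, ψ ∈ S.B ∧ ψ ∉ X ∧ d ψ r ≠ 0
  hrel : ∀ y, ¬ p ∣ orderOf y → ∀ ψ ∈ S.B, ψ ∉ X →
    (δ₀ : ℂ) * (ψ : G → ℂ) y + ∑ χ ∈ X, (δ χ : ℂ) * (χ : G → ℂ) y = 0

theorem nonempty_signedRows (hp2 : p ≠ 2) : Nonempty S.SignedRows := by
  classical
  obtain ⟨t, ht1, ht⟩ := S.exists_t
  obtain ⟨-, hk⟩ := S.counts ht
  obtain ⟨c, d, hc, hcw, hcol, hd0, hdE⟩ := S.exists_rows hp2
  obtain ⟨-, htot⟩ := S.totals hp2 hc hcw hcol hd0 hdE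
  have hshape := (S.natCard_le_and_shape hp2 hc hcw hcol hd0 hdE ht).2 hk
  set B' := S.B.toFinite.toFinset with hB'
  have hB : ∀ χ, χ ∈ B' ↔ χ ∈ S.B := fun χ => by simp [hB']
  have hq1 : 1 ≤ (p ^ S.a) := pow_pos hp.out.pos _
  have hkB : B'.card = S.e + t := by
    rw [← hk, ← Nat.card_eq_finsetCard]
    exact Nat.card_congr (Equiv.subtypeEquivRight hB)
  have htN : (t : ℤ) * S.e = (((p ^ S.a) - 1 : ℕ) : ℤ) := by exact_mod_cast ht
  have hqN : ((p ^ S.a : ℕ) : ℤ) = (((p ^ S.a) - 1 : ℕ) : ℤ) + 1 := by omega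
  -- orbits
  let orb : ZMod (p ^ S.a) → Finset (ZMod (p ^ S.a)) := fun r =>
    (Finset.univ : Finset S.E).image fun w : S.E => ((w : (ZMod (p ^ S.a))ˣ) : ZMod (p ^ S.a)) * r
  have hmemorb : ∀ r l, l ∈ orb r ↔ ∃ w ∈ S.E, l = (w : ZMod (p ^ S.a)) * r := fun r l => by
    simp only [orb, Finset.mem_image, Finset.mem_univ, true_and]
    exact ⟨fun ⟨w, h⟩ => ⟨w.1, w.2, h.symm⟩, fun ⟨w, hw, h⟩ => ⟨⟨w, hw⟩, h.symm⟩⟩
  have horbcard : ∀ r, r ≠ 0 → (orb r).card = S.e := by
    intro r hr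
    rw [Finset.card_image_of_injective, Finset.card_univ, ← Nat.card_eq_fintype_card, S.natCard_E]
    intro w w' h
    apply Subtype.ext
    have h' : (((w' : (ZMod (p ^ S.a))ˣ)⁻¹ * w : (ZMod (p ^ S.a))ˣ) : ZMod (p ^ S.a)) * r = r := by
      rw [Units.val_mul, mul_assoc]
      simp only [] at h
      rw [h, Units.inv_mul_cancel_left]
    exact (inv_mul_eq_one.1 (S.free (mul_mem (inv_mem w'.2) w.2) h' hr)).symm
  have hNsum : ∀ (f : ZMod (p ^ S.a) → ℤ) (s : ℤ), f 0 = 0 → (∀ l, l ≠ 0 → f l = s) →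
      ∑ l, f l = (((p ^ S.a) - 1 : ℕ) : ℤ) * s := by
    intro f s h0 hs
    rw [← Finset.add_sum_erase _ _ (Finset.mem_univ (0 : ZMod (p ^ S.a))), h0, zero_add,
      Finset.sum_congr rfl (fun l hl => hs l (Finset.ne_of_mem_erase hl)), Finset.sum_const,
      Finset.card_erase_of_mem (Finset.mem_univ _), Finset.card_univ, ZMod.card, nsmul_eq_mul]
  have horbsum : ∀ (f : ZMod (p ^ S.a) → ℤ) (s : ℤ) (r : ZMod (p ^ S.a)), r ≠ 0 →
      (∀ l, (f l = s ∧ ∃ w ∈ S.E, l = (w : ZMod (p ^ S.a)) * r) ∨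
        (f l = 0 ∧ ¬ ∃ w ∈ S.E, l = (w : ZMod (p ^ S.a)) * r)) → ∑ l, f l = (S.e : ℤ) * s := by
    intro f s r hr h
    rw [← Finset.sum_subset (Finset.subset_univ (orb r)) (fun l _ hl => by
        rcases h l with h' | h'
        · exact absurd ((hmemorb r l).2 h'.2) hl
        · exact h'.1),
      Finset.sum_congr rfl (fun l hl => by
        rcases h l with h' | h'
        · exact h'.1
        · exact absurd ((hmemorb r l).1 hl) h'.2),
      Finset.sum_const, horbcard r hr, nsmul_eq_mul]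
  choose! s hs hsh using hshape
  -- the characters with full rows
  obtain ⟨X, hXB, hXcard, hXfull, hXorb⟩ : ∃ X : Finset (IrrCharacter G),
      X ⊆ B' ∧ X.card = S.e ∧ (∀ χ ∈ X, ∀ l, l ≠ 0 → d χ l = s χ) ∧
      ∀ ψ ∈ S.B, ψ ∉ X → ∃ r, r ≠ 0 ∧ ∀ l,
        (d ψ l = s ψ ∧ ∃ w ∈ S.E, l = (w : ZMod (p ^ S.a)) * r) ∨
        (d ψ l = 0 ∧ ¬ ∃ w ∈ S.E, l = (w : ZMod (p ^ S.a)) * r) := by
    rcases eq_or_ne t 1 with rfl | ht2
    · obtain ⟨X, hXB, hXcard⟩ := Finset.exists_subset_card_eq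
        (show S.e ≤ B'.card by rw [hkB]; omega)
      rw [one_mul] at ht
      have hall : ∀ r : ZMod (p ^ S.a), r ≠ 0 → ∀ l : ZMod (p ^ S.a), l ≠ 0 → ∃ w ∈ S.E, l = (w : ZMod (p ^ S.a)) * r := by
        intro r hr l hl
        rw [← hmemorb]
        have : orb r = Finset.univ.erase 0 := by
          refine Finset.eq_of_subset_of_card_le (fun x hx => ?_) (le_of_eq ?_)
          · obtain ⟨w, -, rfl⟩ := (hmemorb r x).1 hx
            exact Finset.mem_erase.2 ⟨fun h => hr ((Units.mul_right_eq_zero _).1 h),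
              Finset.mem_univ _⟩
          · rw [horbcard r hr, Finset.card_erase_of_mem (Finset.mem_univ _), Finset.card_univ,
              ZMod.card, ht]
        rw [this]
        exact Finset.mem_erase.2 ⟨hl, Finset.mem_univ _⟩
      have hfull : ∀ χ ∈ S.B, ∀ l, l ≠ 0 → d χ l = s χ := by
        intro χ hχ l hl
        rcases hsh χ hχ with h | ⟨r, hr, h⟩
        · exact h l hl
        · rcases h l with h' | h'
          · exact h'.1
          · exact absurd (hall r hr l hl) h'.2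
      refine ⟨X, hXB, hXcard, fun χ hχ => hfull χ ((hB χ).1 (hXB hχ)), fun ψ hψ _ =>
        ⟨1, fun h => ?_, fun l => ?_⟩⟩
      · have : Nontrivial (ZMod (p ^ S.a)) := by
          refine Fintype.one_lt_card_iff_nontrivial.1 ?_
          rw [ZMod.card]
          exact Nat.one_lt_pow (Nat.one_le_iff_ne_zero.1 S.ha) hp.out.one_lt
        exact one_ne_zero h
      · rcases eq_or_ne l 0 with rfl | hl
        · refine Or.inr ⟨hd0 ψ, fun ⟨w, _, h⟩ => ?_⟩
          have : Nontrivial (ZMod (p ^ S.a)) := by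
            refine Fintype.one_lt_card_iff_nontrivial.1 ?_
            rw [ZMod.card]
            exact Nat.one_lt_pow (Nat.one_le_iff_ne_zero.1 S.ha) hp.out.one_lt
          rw [mul_one] at h
          exact Units.ne_zero w h.symm
        · exact Or.inl ⟨hfull ψ hψ l hl, hall 1 (fun h => hl (by
            rw [← mul_one l, h, mul_zero])) l hl⟩
    · refine ⟨B'.filter fun χ => ∀ l, l ≠ 0 → d χ l = s χ, Finset.filter_subset _ _, ?_,
        fun χ hχ => (Finset.mem_filter.1 hχ).2, fun ψ hψ hψX => ?_⟩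
      swap
      · rcases hsh ψ hψ with h | h
        · exact absurd (Finset.mem_filter.2 ⟨(hB ψ).2 hψ, h⟩) hψX
        · exact h
      set X := B'.filter fun χ => ∀ l, l ≠ 0 → d χ l = s χ with hX
      have hL : ∀ χ ∈ B', (∑ l, d χ l) ^ 2 = (S.e : ℤ) ^ 2 +
          (if ∀ l, l ≠ 0 → d χ l = s χ then ((t : ℤ) * S.e) ^ 2 - (S.e : ℤ) ^ 2 else 0) := by
        intro χ hχ
        have hs2 : s χ ^ 2 = 1 := by
          rcases hs χ ((hB χ).1 hχ) with h | h <;> rw [h] <;> norm_num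
        split_ifs with h
        · rw [hNsum _ _ (hd0 χ) h, mul_pow, hs2, mul_one, htN, add_sub_cancel]
        · rcases hsh χ ((hB χ).1 hχ) with h' | ⟨r, hr, h'⟩
          · exact absurd h' h
          · rw [horbsum _ _ r hr h', mul_pow, hs2, mul_one, add_zero]
      rw [Finset.sum_congr rfl hL, Finset.sum_add_distrib, Finset.sum_const, ← Finset.sum_filter,
        Finset.sum_const, hkB, nsmul_eq_mul, nsmul_eq_mul, ← hX] at htot
      rw [hqN, ← htN] at htot
      push_cast at htot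
      have h2 : ((X.card : ℤ) - S.e) * (((t : ℤ) * S.e) ^ 2 - (S.e : ℤ) ^ 2) = 0 := by
        linear_combination htot
      have h3 : ((t : ℤ) * S.e) ^ 2 - (S.e : ℤ) ^ 2 ≠ 0 := by
        have ht3 : (2 : ℤ) ≤ t := by omega
        have he0 : (0 : ℤ) < S.e := by exact_mod_cast S.e_pos
        rw [show ((t : ℤ) * S.e) ^ 2 - (S.e : ℤ) ^ 2 = ((t : ℤ) ^ 2 - 1) * (S.e : ℤ) ^ 2 by ring]
        refine mul_ne_zero ?_ (pow_ne_zero _ he0.ne')
        nlinarith
      exact_mod_cast sub_eq_zero.1 ((mul_eq_zero.1 h2).resolve_right h3)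
  have hXB' : ∀ χ ∈ X, χ ∈ S.B := fun χ h => (hB χ).1 (hXB h)
  -- every orbit carries exactly one further character
  have hcount : ∀ m : ZMod (p ^ S.a), m ≠ 0 →
      (B'.filter fun ψ => ψ ∉ X ∧ d ψ m ≠ 0).card = 1 := by
    intro m hm
    set A : ZMod (p ^ S.a) → ℤ := fun l => ∑ χ ∈ B', d χ l * ∑ l', d χ l' with hA
    have hAm : A m = (S.e : ℤ) * ((p ^ S.a : ℕ) : ℤ) := by
      have horth : ∀ i : ZMod (p ^ S.a), i ≠ 0 →
          ∑ χ ∈ B', S.tr (d χ) i * ((∑ l, d χ l : ℤ) : ℂ) = -((S.e : ℂ) * ((p ^ S.a : ℕ) : ℂ)) := by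
        intro i hi
        have h2 : ∀ χ, ((∑ l, d χ l : ℤ) : ℂ) =
            -∑ j ∈ Finset.univ.erase (0 : ZMod (p ^ S.a)), conj (S.tr (d χ) j) := fun χ => by
          rw [← map_sum, Finset.sum_erase_eq_sub (Finset.mem_univ _), sum_tr, tr_zero, hd0]
          simp
        simp only [h2, mul_neg, Finset.mul_sum, Finset.sum_neg_distrib]
        rw [Finset.sum_comm, Finset.sum_congr rfl fun j hj =>
          S.orth_tr hp2 hc hcw hcol hi (Finset.ne_of_mem_erase hj)]
        rw [Finset.sum_ite, Finset.sum_const_zero, add_zero, Finset.sum_const, nsmul_eq_mul]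
        have hfil : (Finset.univ.erase (0 : ZMod (p ^ S.a))).filter
            (fun j => ∃ w ∈ S.E, j = (w : ZMod (p ^ S.a)) * i) = orb i := by
          ext j
          rw [Finset.mem_filter, hmemorb, Finset.mem_erase]
          refine ⟨fun h => h.2, fun h => ⟨⟨?_, Finset.mem_univ _⟩, h⟩⟩
          obtain ⟨w, -, rfl⟩ := h
          exact fun h => hi ((Units.mul_right_eq_zero _).1 h)
        rw [hfil, horbcard i hi]
      set f : ZMod (p ^ S.a) → ℂ := fun l => (A l : ℂ) + if l = 0 then ((S.e : ℂ) * ((p ^ S.a : ℕ) : ℂ)) else 0 with hf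
      have hconst := S.const_of_transform (f := f) (fun i hi => by
        simp only [hf, add_mul, Finset.sum_add_distrib, ite_mul, zero_mul, Finset.sum_ite_eq',
          Finset.mem_univ, if_true, AddChar.map_zero_eq_one, mul_one]
        have h3 : ∑ l, (A l : ℂ) * zpsi (p ^ S.a) (l * i) =
            ∑ χ ∈ B', S.tr (d χ) i * ((∑ l, d χ l : ℤ) : ℂ) := by
          simp only [hA, Int.cast_sum, Int.cast_mul, Finset.sum_mul, tr]
          rw [Finset.sum_comm]
          refine Finset.sum_congr rfl fun χ _ => Finset.sum_congr rfl fun l _ => ?_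
          rw [Finset.mul_sum, Finset.mul_sum, Finset.sum_mul]
          exact Finset.sum_congr rfl fun l' _ => by ring
        rw [h3, horth i hi, neg_add_cancel]) m
      have h0 : A 0 = 0 := Finset.sum_eq_zero fun χ _ => by rw [hd0, zero_mul]
      simp only [hf, if_neg hm, add_zero, if_true, h0, Int.cast_zero, zero_add] at hconst
      exact_mod_cast hconst
    have hterm : ∀ χ ∈ B', d χ m * ∑ l, d χ l =
        if χ ∈ X then (((p ^ S.a) - 1 : ℕ) : ℤ) else if d χ m ≠ 0 then (S.e : ℤ) else 0 := by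
      intro χ hχ
      have hs2 : s χ * s χ = 1 := by
        rcases hs χ ((hB χ).1 hχ) with h | h <;> rw [h] <;> norm_num
      by_cases hX' : χ ∈ X
      · rw [if_pos hX', hXfull χ hX' m hm, hNsum _ _ (hd0 χ) (hXfull χ hX'), mul_left_comm, hs2,
          mul_one]
      · rw [if_neg hX']
        obtain ⟨r, hr, h⟩ := hXorb χ ((hB χ).1 hχ) hX'
        rw [horbsum _ _ r hr h]
        rcases h m with h' | h'
        · rw [h'.1, if_pos fun h0 => by rw [h0, zero_mul] at hs2; exact zero_ne_one hs2,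
            mul_left_comm, hs2, mul_one]
        · rw [h'.1, if_neg (not_not_intro rfl), zero_mul]
    simp only [hA] at hAm
    rw [Finset.sum_congr rfl hterm, Finset.sum_ite, Finset.filter_mem_eq_inter,
      Finset.inter_eq_right.2 hXB, Finset.sum_const, hXcard, nsmul_eq_mul, ← Finset.sum_filter,
      Finset.filter_filter, Finset.sum_const, nsmul_eq_mul, hqN] at hAm
    have he0 : (S.e : ℤ) ≠ 0 := by exact_mod_cast S.e_pos.ne'
    have h4 : (((B'.filter fun ψ => ψ ∉ X ∧ d ψ m ≠ 0).card : ℕ) : ℤ) = 1 := by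
      refine mul_right_cancel₀ he0 ?_
      linear_combination hAm
    exact_mod_cast h4
  have hone : ∀ r, r ≠ 0 → ∃! ψ, ψ ∈ S.B ∧ ψ ∉ X ∧ d ψ r ≠ 0 := by
    intro r hr
    obtain ⟨ψ, hψ⟩ := Finset.card_eq_one.1 (hcount r hr)
    have hmem : ∀ φ, φ ∈ S.B ∧ φ ∉ X ∧ d φ r ≠ 0 ↔ φ = ψ := fun φ => by
      rw [← Finset.mem_singleton, ← hψ, Finset.mem_filter, hB]
    exact ⟨ψ, (hmem ψ).2 rfl, fun φ hφ => (hmem φ).1 hφ⟩
  -- the relations at regular elements
  have hrel : ∀ y, ¬ p ∣ orderOf y → ∀ ψ ∈ S.B, ψ ∉ X →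
      (s ψ : ℂ) * (ψ : G → ℂ) y + ∑ χ ∈ X, (s χ : ℂ) * (χ : G → ℂ) y = 0 := by
    intro y hy ψ hψ hψX
    obtain ⟨r, hr, hrow⟩ := hXorb ψ hψ hψX
    have hrψ : d ψ r = s ψ := by
      rcases hrow r with h | h
      · exact h.1
      · exact absurd ⟨1, one_mem _, by simp⟩ h.2
    set f : ZMod (p ^ S.a) → ℂ := fun l => ∑ χ ∈ B', (d χ l : ℂ) * (χ : G → ℂ) y with hf
    have hconst := S.const_of_transform (f := f) (fun i hi => by
      have hci : c i ≠ 0 := fun h0 => S.nrm_ne_zero i (by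
        rw [← hc i hi, h0, zero_mul, zero_mul])
      refine mul_left_cancel₀ hci ?_
      rw [mul_zero, ← S.sum_col_mul_regular hi hy, Finset.mul_sum]
      simp only [hf, Finset.sum_mul, Finset.mul_sum]
      rw [Finset.sum_comm]
      refine Finset.sum_congr rfl fun χ _ => ?_
      rw [hcol χ i hi, tr, Finset.mul_sum, Finset.sum_mul]
      exact Finset.sum_congr rfl fun l _ => by ring) r
    have h0 : f 0 = 0 := Finset.sum_eq_zero fun χ _ => by rw [hd0, Int.cast_zero, zero_mul]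
    rw [h0] at hconst
    simp only [hf] at hconst
    rw [← Finset.sum_sdiff hXB] at hconst
    rw [← hconst]
    congr 1
    · rw [Finset.sum_eq_single ψ]
      · rw [hrψ]
      · intro φ hφ hne
        obtain ⟨hφB, hφX⟩ := Finset.mem_sdiff.1 hφ
        by_contra h
        have hdφ : d φ r ≠ 0 := fun h' => h (by rw [h', Int.cast_zero, zero_mul])
        have hdψ : d ψ r ≠ 0 := by
          rw [hrψ]; rcases hs ψ hψ with h' | h' <;> rw [h'] <;> norm_num
        exact hne ((hone r hr).unique ⟨(hB φ).1 hφB, hφX, hdφ⟩ ⟨hψ, hψX, hdψ⟩)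
      · intro h; exact absurd (Finset.mem_sdiff.2 ⟨(hB ψ).2 hψ, hψX⟩) h
    · exact Finset.sum_congr rfl fun χ hχ => by
        rw [hXfull χ hχ r hr]
  -- the sign of the orbit characters
  obtain ⟨ψ₀, ⟨hψ₀, hψ₀X, -⟩, -⟩ := hone 1 (by
    intro h
    have h' : ((1 : ℕ) : ZMod (p ^ S.a)) = 0 := by exact_mod_cast h
    rw [ZMod.natCast_eq_zero_iff] at h'
    have := Nat.one_lt_pow (Nat.one_le_iff_ne_zero.1 S.ha) hp.out.one_lt
    have := Nat.le_of_dvd one_pos h'
    omega)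
  have hone' : ¬ p ∣ orderOf (1 : G) := by rw [orderOf_one]; exact hp.out.not_dvd_one
  have hsame : ∀ ψ ∈ S.B, ψ ∉ X → s ψ = s ψ₀ := by
    intro ψ hψ hψX
    have h1 := hrel 1 hone' ψ hψ hψX
    have h2 := hrel 1 hone' ψ₀ hψ₀ hψ₀X
    rw [← charDegree_cast (CfsgLib.Char.irr_isCharacter ψ.2)] at h1
    rw [← charDegree_cast (CfsgLib.Char.irr_isCharacter ψ₀.2)] at h2
    have h3 : (s ψ : ℂ) * (charDegree (ψ : G → ℂ) : ℂ) =
        (s ψ₀ : ℂ) * (charDegree (ψ₀ : G → ℂ) : ℂ) := by linear_combination h1 - h2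
    have h4 : s ψ * (charDegree (ψ : G → ℂ) : ℤ) = s ψ₀ * (charDegree (ψ₀ : G → ℂ) : ℤ) := by
      exact_mod_cast h3
    have h5 := charDegree_ne_zero ψ.2
    have h6 := charDegree_ne_zero ψ₀.2
    rcases hs ψ hψ with h | h <;> rcases hs ψ₀ hψ₀ with h' | h' <;> rw [h, h'] at h4 <;>
      rw [h, h'] <;> omega
  refine ⟨⟨c, d, X, fun χ => if χ ∈ S.B then s χ else 1, s ψ₀, hc, hcw, hcol, hd0, hdE, hXB',
    hXcard, fun χ => ?_, hs ψ₀ hψ₀, fun χ hχ l hl => ?_, fun ψ hψ hψX => ?_, hone,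
    fun y hy ψ hψ hψX => ?_⟩⟩
  · split_ifs with h
    · exact hs χ h
    · exact Or.inl rfl
  · rw [if_pos (hXB' χ hχ), hXfull χ hχ l hl]
  · obtain ⟨r, hr, h⟩ := hXorb ψ hψ hψX
    rw [hsame ψ hψ hψX] at h
    exact ⟨r, hr, h⟩
  · rw [← hsame ψ hψ hψX, ← hrel y hy ψ hψ hψX]
    congr 1
    exact Finset.sum_congr rfl fun χ hχ => by rw [if_pos (hXB' χ hχ)]

end CfsgLib.Block.CycBlock
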