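import Cfsg.Agent.Lib.BlockB.RegRank

/-!
# Blocks of regular rank one with the full number of characters

A block of rank one, positive defect `d`, all heights zero and `p ^ d` members has all its members
equal on the regular elements.
-/

set_option autoImplicit false
set_option linter.unusedSectionVars false

namespace CfsgLib.Block

open Cfsg CfsgLib.Block CfsgLib.BlockA CfsgLib.BlockB
open scoped ComplexConjugate

universe u

theorem regular_eq_of_rank_one {G : Type u} [Group G] [Fintype G] {p : ℕ} [hp : Fact p.Prime]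
    {M : Ideal AlgInt} [M.IsPrime] (hM : IsPModular p M) {B : Set (IrrCharacter G)}
    (hB : IsPBlock M B) (hr : blockRank p B = 1) (hk : Nat.card B = p ^ blockDefect p B)
    (hd : 1 ≤ blockDefect p B) (hh : ∀ χ ∈ B, blockHeight p B (χ : G → ℂ) = 0)
    {φ ψ : IrrCharacter G} (hφ : φ ∈ B) (hψ : ψ ∈ B) {y : G} (hy : ¬ p ∣ orderOf y) :
    (φ : G → ℂ) y = (ψ : G → ℂ) y := by
  classical
  set n := (Nat.card G).factorization p with hn
  set s := sInf ((fun χ : IrrCharacter G => (charDegree (χ : G → ℂ)).factorization p) '' B) with hs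
  have hfac : ∀ χ ∈ B, (charDegree (χ : G → ℂ)).factorization p = s := fun χ hχ => by
    have h1 : s ≤ (charDegree (χ : G → ℂ)).factorization p := Nat.sInf_le ⟨χ, hχ, rfl⟩
    have h2 := hh χ hχ
    rw [blockHeight] at h2
    change (charDegree (χ : G → ℂ)).factorization p - s = 0 at h2
    omega
  have hds : blockDefect p B = n - s := rfl
  have hsn : n = blockDefect p B + s := by omega
  -- every diagonal entry is at least `p ^ s`
  have hdiag : ∀ χ ∈ B, ((p ^ s : ℕ) : ℤ) ≤ regEntry p χ χ := by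
    intro χ hχ
    have hsq := sum_regEntry_sq hM hB hχ
    rw [finsum_mem_eq_finite_toFinset_sum _ B.toFinite] at hsq
    have h1 : ∀ ξ ∈ B.toFinite.toFinset,
        ((p ^ s : ℕ) : ℤ) * ((p ^ s : ℕ) : ℤ) ≤ regEntry p χ ξ * regEntry p χ ξ := by
      intro ξ hξ
      have hξ' : ξ ∈ B := by simpa using hξ
      have hne := regEntry_ne_zero hM hB hχ hξ' (hh χ hχ)
      have hdvd := pow_dvd_regEntry hM χ ξ
      rw [hfac ξ hξ'] at hdvd
      have habs : ((p ^ s : ℕ) : ℤ) ≤ |regEntry p χ ξ| :=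
        Int.le_of_dvd (abs_pos.2 hne) ((dvd_abs _ _).2 hdvd)
      calc ((p ^ s : ℕ) : ℤ) * ((p ^ s : ℕ) : ℤ) ≤ |regEntry p χ ξ| * |regEntry p χ ξ| :=
            mul_self_le_mul_self (by positivity) habs
        _ = _ := abs_mul_abs_self _
    have h2 := Finset.sum_le_sum h1
    rw [Finset.sum_const, ← Set.ncard_eq_toFinset_card, ← Nat.card_coe_set_eq, hk, hsq,
      nsmul_eq_mul, ← mul_assoc] at h2
    have hpn : ((p ^ n : ℕ) : ℤ) = ((p ^ blockDefect p B : ℕ) : ℤ) * ((p ^ s : ℕ) : ℤ) := by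
      rw [← Nat.cast_mul, ← pow_add, ← hsn]
    rw [← hpn] at h2
    exact le_of_mul_le_mul_left h2 (by exact_mod_cast pow_pos hp.out.pos _)
  -- the trace forces equality
  have htr := blockRank_mul_pow hM hB
  rw [hr, Nat.cast_one, mul_one] at htr
  have heq : ∀ χ ∈ B, regEntry p χ χ = ((p ^ s : ℕ) : ℤ) := by
    intro χ hχ
    refine ((Finset.sum_eq_sum_iff_of_le (s := B.toFinite.toFinset)
      (f := fun _ => ((p ^ s : ℕ) : ℤ)) (g := fun χ => regEntry p χ χ)
      (fun χ hχ => hdiag χ (by simpa using hχ))).1 ?_ χ (by simpa using hχ)).symm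
    rw [← htr, Finset.sum_const, ← Set.ncard_eq_toFinset_card, ← Nat.card_coe_set_eq, hk,
      nsmul_eq_mul, ← Nat.cast_mul, ← pow_add, ← hsn]
  -- all regular parts are multiples of one
  have h1ne : pRegularPart p (φ : G → ℂ) ≠ 0 := by
    intro h
    have h1 := congrFun h 1
    simp only [pRegularPart, Pi.zero_apply] at h1
    rw [if_pos (show IsPRegular p (1 : G) from not_dvd_orderOf_one hp.out)] at h1
    exact CfsgLib.Char.irr_apply_one_ne_zero φ.2 h1
  set W := Submodule.span ℂ ((fun χ : IrrCharacter G => pRegularPart p (χ : G → ℂ)) '' B) with hW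
  have hprop : ∀ χ ∈ B, ∃ c : ℂ, ∀ g, ¬ p ∣ orderOf g → (χ : G → ℂ) g = c * (φ : G → ℂ) g := by
    intro χ hχ
    obtain ⟨c, hc⟩ := (finrank_eq_one_iff_of_nonzero'
      (⟨_, Submodule.subset_span ⟨φ, hφ, rfl⟩⟩ : W)
      (fun h => h1ne (congrArg Subtype.val h))).1 hr ⟨_, Submodule.subset_span ⟨χ, hχ, rfl⟩⟩
    refine ⟨c, fun g hg => ?_⟩
    have h2 := congrFun (congrArg Subtype.val hc) g
    simp only [SetLike.val_smul, Pi.smul_apply, smul_eq_mul, pRegularPart,
      if_pos (show IsPRegular p g from hg)] at h2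
    exact h2.symm
  obtain ⟨c, hc⟩ := hprop ψ hψ
  have hone : ¬ p ∣ orderOf (1 : G) := not_dvd_orderOf_one hp.out
  have hsmul : classInner (fun x => regInd p x * (ψ : G → ℂ) x) (ψ : G → ℂ) =
      c * conj c * classInner (fun x => regInd p x * (φ : G → ℂ) x) (φ : G → ℂ) := by
    rw [CfsgLib.Char.classInner_def, CfsgLib.Char.classInner_def, mul_left_comm (c * conj c)]
    congr 1
    rw [Finset.mul_sum]
    refine Finset.sum_congr rfl fun g _ => ?_
    by_cases hg : p ∣ orderOf g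
    · simp [regInd, hg]
    · rw [hc g hg, map_mul]
      ring
  rw [classInner_regInd_eq_regEntry, classInner_regInd_eq_regEntry, heq φ hφ, heq ψ hψ] at hsmul
  have hne : (((p ^ s : ℕ) : ℤ) : ℂ) / ((p ^ n : ℕ) : ℂ) ≠ 0 :=
    div_ne_zero (Int.cast_ne_zero.2 (by exact_mod_cast pow_ne_zero _ hp.out.ne_zero))
      (Nat.cast_ne_zero.2 (pow_ne_zero _ hp.out.ne_zero))
  have hcc : c * conj c = 1 := mul_right_cancel₀ hne (by rw [one_mul]; exact hsmul.symm)
  obtain ⟨d, hd0, hdeq⟩ := CfsgLib.Char.irr_apply_one_pos φ.2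
  obtain ⟨d', hd0', hdeq'⟩ := CfsgLib.Char.irr_apply_one_pos ψ.2
  have hc1 := hc 1 hone
  rw [hdeq, hdeq'] at hc1
  have hcd : c = (((d' : ℝ) / d : ℝ) : ℂ) := by
    push_cast
    rw [eq_div_iff (Nat.cast_ne_zero.2 hd0.ne'), hc1]
  rw [hcd, Complex.conj_ofReal, ← Complex.ofReal_mul, Complex.ofReal_eq_one, ← sq,
    pow_eq_one_iff_of_nonneg (by positivity) two_ne_zero] at hcc
  rw [hc y hy, hcd, hcc, Complex.ofReal_one, one_mul]

end CfsgLib.Block
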