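import Cfsg.Agent.Lib.Block.CyclicSection
import Cfsg.Agent.Lib.Block.RankOneRegular
import Cfsg.Agent.Lib.BlockA.PairSub

/-!
# The local blocks of a block with cyclic defect group

For `i ≠ 0` the block of `C(el i)` below the maximal pair again has cyclic defect group `D`, and
its inertial quotient is trivial; so it has regular rank one, is nilpotent, has `p ^ a` members and
these agree on the regular elements.
-/

set_option autoImplicit false
set_option linter.unusedSectionVars false

namespace CfsgLib.Block.CycBlock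

open Cfsg CfsgLib.Block CfsgLib.BlockA CfsgLib.BlockB CfsgLib.BlockB.HeightBound MonoidAlgebra

universe u

variable {G : Type u} [Group G] [Fintype G] {p : ℕ} [hp : Fact p.Prime] {M : Ideal AlgInt}
  [M.IsPrime] (S : CycBlock G p M)

local notation "cen" Q => Subgroup.centralizer ((Q : Subgroup G) : Set G)
local notation "cs" y => Subgroup.centralizer (Singleton.singleton y : Set G)

/-- The centralizers of elements as finite types. -/
@[instance_reducible]
noncomputable def csFintype (x : G) : Fintype (cs x) := Fintype.ofFinite _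

attribute [local instance] csFintype

theorem D_le_cs (i : ZMod (p ^ S.a)) : S.D ≤ (cs (S.el i)) := fun _ hx =>
  Subgroup.mem_centralizer_singleton_iff.2 (S.commute_el hx i).eq

/-- The block at `el i`, as a cyclic defect block of the centralizer. -/
theorem exists_cenBlock {i : ZMod (p ^ S.a)} (hi : i ≠ 0) :
    ∃ S' : CycBlock (cs (S.el i)) p M, S'.B = S.blk i ∧ S'.a = S.a ∧ S'.e = 1 := by
  classical
  set H : Subgroup G := (cs (S.el i)) with hH
  have hDH : S.D ≤ H := S.D_le_cs i
  have hQD := S.zpowers_le_D i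
  have hCQ : (cen (Subgroup.zpowers (S.el i))) = H := cen_zpowers (S.el i)
  have hCH : (cen S.D) ≤ H := hCQ ▸ centralizer_le_centralizer hQD
  -- the pairs read in `H`
  obtain ⟨h₁, h₂, hle⟩ := subpairLE_subBlock S.hM (S.below_le i) hDH hCQ.le
  have hD' : IsBrauerPair p M (S.D.subgroupOf H) (subBlock h₂ S.eD) :=
    isBrauerPair_subBlock h₂ S.isBrauerPair_eD
  have hQpair : IsBrauerPair p M ((Subgroup.zpowers (S.el i)).subgroupOf H)
      (subBlock h₁ (S.below i)) := isBrauerPair_of_subpairLE hD' hle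
  have hBQ : IsBrauerPairOf p M (S.blk i) ((Subgroup.zpowers (S.el i)).subgroupOf H)
      (subBlock h₁ (S.below i)) := by
    obtain ⟨ξ, hξ⟩ := isPBlock_nonempty (S.isPBlock_below i)
    rw [isBrauerPairOf_iff S.hM hQpair (S.isPBlock_blk i)
      (show irrMap (cenIso h₁) ξ ∈ subBlock h₁ (S.below i) from ⟨ξ, hξ, rfl⟩)]
    have hcoef : ∀ t : H, (t : G) ∈ (cen (Subgroup.zpowers (S.el i))) →
        (blkIdem M (S.blk i) : MonoidAlgebra (kres M) H).coeff t =
          (sIdem M (cen (Subgroup.zpowers (S.el i))) (S.below i)).coeff (t : G) := by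
      intro t ht
      have h := congrFun (S.blk_coeff i) (t : G)
      rw [beta, subgroupBlockCoeff, subgroupBlockCoeff, dif_pos t.2, dif_pos ht] at h
      rw [sIdem, show (t : G) = ((⟨t, ht⟩ : (cen (Subgroup.zpowers (S.el i)))) : G) from rfl,
        coeff_inclSub_of_mem, coeff_blkIdem, coeff_blkIdem]
      exact congrArg _ h
    rw [(pairVal_subBlock h₁ ξ (isCInv_sIdem S.hM le_rfl (S.below i)) hcoef).2,
      pairVal_sIdem S.hM (S.isPBlock_below i), if_pos hξ]
  have hBD : IsBrauerPairOf p M (S.blk i) (S.D.subgroupOf H) (subBlock h₂ S.eD) :=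
    (isBrauerPairOf_iff_of_le S.hM hD' hle (S.isPBlock_blk i)).2 hBQ
  obtain ⟨D'', hD''⟩ := exists_isDefectGroup S.hM (S.isPBlock_blk i)
  have hmax : IsMaximalBrauerPair p M (S.blk i) (S.D.subgroupOf H) (subBlock h₂ S.eD) := by
    refine isMaximal_of_card S.hM hBD hD'' ?_
    rw [natCard_defectGroup S.hM (S.isPBlock_blk i) hD'', S.blk_defect, S.blockDefect_B,
      Nat.card_congr (Subgroup.subgroupOfEquivOfLe hDH).toEquiv, natCard_D]
  have hu : S.u ∈ S.D := Subgroup.zpowers_le.1 (le_of_eq S.hu)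
  have hgen : Subgroup.zpowers (⟨S.u, hDH hu⟩ : H) = S.D.subgroupOf H := by
    apply Subgroup.map_injective H.subtype_injective
    rw [MonoidHom.map_zpowers, Subgroup.map_subgroupOf_eq_of_le hDH]
    exact S.hu
  have hord : orderOf (⟨S.u, hDH hu⟩ : H) = p ^ S.a := by rw [Subgroup.orderOf_mk, S.hord]
  refine ⟨⟨S.hM, S.blk i, S.D.subgroupOf H, subBlock h₂ S.eD, hmax, ⟨S.u, hDH hu⟩, hgen, S.a,
    S.ha, hord⟩, rfl, rfl, ?_⟩
  refine Subgroup.relIndex_eq_one.2 fun t ht => ?_
  have htN : (t : G) ∈ Subgroup.normalizer (S.D : Set G) :=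
    (mem_normalizer_subgroupOf hDH t).1 ht.1
  have hst : StabilizesBlock (cen S.D) S.eD (t : G) :=
    (stabilizesBlock_subBlock S.hM hDH h₂ S.isBrauerPair_eD.2 t htN).1
      (stabilizesBlock_of_mem S.hM hD'.2 ht)
  have htT : (t : G) ∈ S.T :=
    ⟨htN, (stabilizesBlock_iff_coeff S.hM S.isBrauerPair_eD.2 htN).1 hst⟩
  have hfix : (t : G) * S.el i * (t : G)⁻¹ = S.el i := by
    rw [Subgroup.mem_centralizer_singleton_iff.1 t.2, mul_inv_cancel_right]
  have htC := S.mem_cen_of_fix htT (S.el_mem i) (fun h => hi (S.el_eq_one_iff.1 h)) hfix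
  exact (((cenEq_iff _ S.D).1 h₂).2 t).2 htC

theorem natCard_blk {i : ZMod (p ^ S.a)} (hi : i ≠ 0) :
    blockRank p (S.blk i) = 1 ∧ Nat.card (S.blk i) = p ^ S.a := by
  obtain ⟨S', hB, ha, he⟩ := S.exists_cenBlock hi
  have h := S'.rank_card_of_e_eq_one he
  rw [hB, ha] at h
  exact h

/-- With trivial inertial quotient all heights are zero. -/
theorem height_eq_zero_of_e_eq_one (he : S.e = 1) {χ : IrrCharacter G} (hχ : χ ∈ S.B) :
    blockHeight p S.B (χ : G → ℂ) = 0 := by
  have hTC : S.T ≤ (cen S.D) := Subgroup.relIndex_eq_one.1 he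
  have hc : Nat.card (Subgroup.center S.D) = p ^ S.a := by
    have h : Subgroup.center S.D = ⊤ := eq_top_iff.2 fun x _ =>
      Subgroup.mem_center_iff.2 fun y => Subtype.ext (S.commute_mem y.2 x.2)
    rw [h, Subgroup.card_top, natCard_D]
  have h := height_le S.hM S.hmax (m := 1) (fun z hz _ => ⟨{z}, le_rfl, fun t ht => by
    rw [Finset.mem_singleton]
    rw [← Subgroup.mem_centralizer_iff.1 (hTC ht) z hz, mul_inv_cancel_right]⟩) hχ hc
  rw [one_mul, blockDefect_B] at h
  have := (Nat.pow_le_pow_iff_right hp.out.one_lt).1 h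
  omega

theorem regular_eq_of_e_eq_one (he : S.e = 1) {φ ψ : IrrCharacter G} (hφ : φ ∈ S.B)
    (hψ : ψ ∈ S.B) {y : G} (hy : ¬ p ∣ orderOf y) : (φ : G → ℂ) y = (ψ : G → ℂ) y :=
  regular_eq_of_rank_one S.hM S.isPBlock_B (S.rank_card_of_e_eq_one he).1
    (by rw [(S.rank_card_of_e_eq_one he).2, blockDefect_B]) (S.blockDefect_B ▸ S.ha)
    (fun _ h => S.height_eq_zero_of_e_eq_one he h) hφ hψ hy

/-- **Away from the identity the members of the local blocks agree on regular elements.** -/
theorem allEq_of_ne_zero {i : ZMod (p ^ S.a)} (hi : i ≠ 0) : S.AllEq i := by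
  obtain ⟨S', hB, -, he⟩ := S.exists_cenBlock hi
  intro θ hθ θ' hθ' v hv
  exact S'.regular_eq_of_e_eq_one he (hB.symm ▸ hθ) (hB.symm ▸ hθ') hv

/-- **The local blocks are nilpotent.** -/
theorem nilpotent_blk {i : ZMod (p ^ S.a)} (hi : i ≠ 0) : IsNilpotentBlock p M (S.blk i) := by
  obtain ⟨S', hB, -, he⟩ := S.exists_cenBlock hi
  rw [← hB, nilpotent_iff_abelian S'.hM S'.hmax fun x hx y hy => S'.commute_mem hx hy]
  exact Subgroup.relIndex_eq_one.1 he

/-- The block is nilpotent exactly when the inertial index is one. -/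
theorem nilpotent_iff : IsNilpotentBlock p M S.B ↔ S.e = 1 := by
  rw [nilpotent_iff_abelian S.hM S.hmax fun x hx y hy => S.commute_mem hx hy]
  exact Subgroup.relIndex_eq_one.symm

end CfsgLib.Block.CycBlock
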