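import Cfsg.Agent.Lib.Block.FrobeniusModel
import Mathlib.GroupTheory.SemidirectProduct
import Mathlib.Algebra.Group.TypeTags.Finite

/-!
# The affine model of a cyclic defect block
-/

set_option autoImplicit false
set_option linter.unusedSectionVars false

namespace CfsgLib.Block

open Cfsg CfsgLib.Block CfsgLib.BlockA

namespace CycBlock

/-- Multiplication by units, as automorphisms of the multiplicative copy of `ZMod n`. -/
def affineAct {n : ℕ} (E : Subgroup (ZMod n)ˣ) : E →* MulAut (Multiplicative (ZMod n)) where
  toFun w :=
    { toFun := fun z => Multiplicative.ofAdd (((w : (ZMod n)ˣ) : ZMod n) * z.toAdd)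
      invFun := fun z => Multiplicative.ofAdd ((((w : (ZMod n)ˣ)⁻¹ : (ZMod n)ˣ) : ZMod n) * z.toAdd)
      left_inv := fun z => by simp
      right_inv := fun z => by simp
      map_mul' := fun a b => by simp [mul_add] }
  map_one' := by ext z; simp
  map_mul' v w := by ext z; simp [mul_assoc]

/-- The affine group of a subgroup of units. -/
abbrev Affine {n : ℕ} (E : Subgroup (ZMod n)ˣ) : Type :=
  SemidirectProduct (Multiplicative (ZMod n)) E (affineAct E)

universe u

variable {G : Type u} [Group G] [Fintype G] {p : ℕ} [hp : Fact p.Prime] {M : Ideal AlgInt}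
  [M.IsPrime] (S : CycBlock G p M)

/-- The model exists. -/
theorem exists_affine_model : Finite (Affine S.E) ∧ Nonempty (S.Model (Affine S.E)) := by
  classical
  have : NeZero (p ^ S.a) := ⟨pow_ne_zero _ hp.out.ne_zero⟩
  have hfin : Finite (Affine S.E) := Finite.of_equiv _ SemidirectProduct.equivProd.symm
  refine ⟨hfin, ?_⟩
  set ι : Multiplicative (ZMod (p ^ S.a)) →* Affine S.E := SemidirectProduct.inl with hι
  have hinj : Function.Injective ι := SemidirectProduct.inl_injective
  refine S.nonempty_model ι.range ?_ ?_ ?_ ?_
  · exact isCyclic_of_surjective ι.rangeRestrict ι.rangeRestrict_surjective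
  · rw [← Nat.card_congr (MonoidHom.ofInjective hinj).toEquiv,
      Nat.card_congr Multiplicative.toAdd, Nat.card_zmod]
  · rw [Nat.card_congr SemidirectProduct.equivProd, Nat.card_prod,
      Nat.card_congr Multiplicative.toAdd, Nat.card_zmod, S.natCard_E]
  · refine le_antisymm (fun g hg => ?_) ?_
    · have h := Subgroup.mem_centralizer_iff.1 hg (ι (Multiplicative.ofAdd 1)) ⟨_, rfl⟩
      have h1 := congrArg SemidirectProduct.left h
      simp only [hι, SemidirectProduct.mul_left, SemidirectProduct.left_inl,
        SemidirectProduct.right_inl, map_one, MulAut.one_apply] at h1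
      have h2 : affineAct S.E g.right (Multiplicative.ofAdd 1) = Multiplicative.ofAdd 1 := by
        rw [mul_comm] at h1
        exact (mul_left_cancel h1).symm
      have h3 : g.right = 1 := by
        apply Subtype.ext
        apply Units.ext
        have h4 := congrArg Multiplicative.toAdd h2
        simpa [affineAct] using h4
      refine ⟨g.left, ?_⟩
      refine SemidirectProduct.ext ?_ ?_
      · simp [hι]
      · simp [hι, h3]
    · rintro _ ⟨a, rfl⟩
      rw [Subgroup.mem_centralizer_iff]
      rintro _ ⟨b, rfl⟩
      rw [← map_mul, ← map_mul, mul_comm]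

end CycBlock

end CfsgLib.Block
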