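import Cfsg.Agent.Lib.Block.CycloRigid
import Mathlib.RingTheory.Polynomial.Cyclotomic.Roots
import Mathlib.FieldTheory.IntermediateField.Adjoin.Basic

/-!
# Cyclotomic numbers of absolute value one at level `2 ^ a`
-/

set_option autoImplicit false
set_option linter.unusedSectionVars false

namespace CfsgLib.Block

open CfsgLib.BlockB
open scoped ComplexConjugate
open Polynomial

/-- A root of unity of order `2 * n` is not a polynomial in one of order `n = 2 ^ a`. -/
theorem aeval_ne_primitive {a : ℕ} (ha : 1 ≤ a) {ω : ℂ} (hω : IsPrimitiveRoot ω (2 * 2 ^ a))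
    (P : ℤ[X]) : aeval (zetaN (2 ^ a)) P ≠ ω := by
  intro hP
  set ζ : ℂ := zetaN (2 ^ a) with hζ
  have hn0 : 0 < 2 ^ a := pow_pos two_pos a
  have hprim : IsPrimitiveRoot ζ (2 ^ a) := zetaN_isPrimitiveRoot hn0.ne'
  have hint : IsIntegral ℚ ζ := (hprim.isIntegral hn0).tower_top
  set K := IntermediateField.adjoin ℚ ({ζ} : Set ℂ) with hK
  have : FiniteDimensional ℚ K := IntermediateField.adjoin.finiteDimensional hint
  have hωK : ω ∈ K := by
    rw [← hP, aeval_eq_sum_range]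
    refine sum_mem fun i _ => zsmul_mem (pow_mem ?_ _) _
    exact IntermediateField.mem_adjoin_simple_self ℚ ζ
  have h1 := minpoly.natDegree_le (A := ℚ) (⟨ω, hωK⟩ : K)
  have h2 : minpoly ℚ (⟨ω, hωK⟩ : K) = minpoly ℚ ω :=
    (minpoly.algHom_eq K.val Subtype.val_injective _).symm
  have h3 : Module.finrank ℚ K = (2 ^ a).totient := by
    rw [hK, IntermediateField.adjoin.finrank hint, ← cyclotomic_eq_minpoly_rat hprim hn0,
      natDegree_cyclotomic]
  have h2n : 0 < 2 * 2 ^ a := by omega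
  rw [h2, ← cyclotomic_eq_minpoly_rat hω h2n, natDegree_cyclotomic, h3, ← pow_succ',
    Nat.totient_prime_pow Nat.prime_two (Nat.succ_pos a), Nat.totient_prime_pow Nat.prime_two ha] at h1
  simp only [Nat.succ_sub_one, mul_one, Nat.add_sub_cancel] at h1
  exact absurd h1 (not_le.2 (Nat.pow_lt_pow_right one_lt_two (by omega)))

/-- **For `p = 2` a cyclotomic number of absolute value one is a root of unity of the level.** -/
theorem exists_root_two {p n : ℕ} [hp : Fact p.Prime] [NeZero n] (hp2 : p = 2) {a : ℕ}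
    (ha : 1 ≤ a) (hna : n = p ^ a) {f : ℕ → ℂ} (hf : IsCyclo n f)
    (habs : ∀ u : (ZMod n)ˣ, Complex.normSq (f (u : ZMod n).val) = 1) {c : ℤ} (hc : f 0 = c) :
    ∃ j : ℕ, ∀ u : (ZMod n)ˣ, f (u : ZMod n).val = zetaN n ^ (j * (u : ZMod n).val) := by
  subst hp2 hna
  have hn : 2 ^ a ≠ 0 := NeZero.ne _
  have hcong : CycCongr 2 (2 ^ a) (fun k => f k ^ 2 ^ a) (fun _ => (c : ℂ)) :=
    (cycCongr_frobenius_pow hf a).trans (CycCongr.of_eq fun k _ => by
      rw [← hf.apply_mod hn (k * 2 ^ a), Nat.mul_mod_left, hc])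
  have hnorm : ∀ u : (ZMod (2 ^ a))ˣ, ‖f (u : ZMod (2 ^ a)).val ^ 2 ^ a‖ = 1 := fun u => by
    rw [norm_pow, Complex.norm_def, habs u, Real.sqrt_one, one_pow]
  obtain ⟨m, hm⟩ : Odd c := by
    rw [← Int.not_even_iff_odd]
    rintro ⟨d, hd⟩
    have h0 : CycCongr 2 (2 ^ a) (fun k => f k ^ 2 ^ a) (fun _ => 0) := by
      obtain ⟨w, hw, e⟩ := hcong
      refine ⟨fun k => w k + ((d : ℤ) : ℂ), isCyclo_add hw (isCyclo_intCast _ d), fun k hk => ?_⟩
      have h := e k hk
      rw [hd] at h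
      push_cast at h ⊢
      linear_combination h
    have h1 := eq_zero_of_cycCongr_zero h0 (fun v => by
      rw [hnorm v]; exact_mod_cast one_lt_two) 1
    have h2 := hnorm 1
    rw [h1, norm_zero] at h2
    exact zero_ne_one h2
  have hsq : ∀ u : (ZMod (2 ^ a))ˣ, (f (u : ZMod (2 ^ a)).val ^ 2 ^ a) ^ 2 = 1 := by
    intro u
    obtain ⟨w, hw, e⟩ := hcong
    have h0 : CycCongr 2 (2 ^ a) (fun k => ((f k ^ 2 ^ a) ^ 2 - 1) / 2) (fun _ => 0) := by
      refine ⟨fun k => ((m * m + m : ℤ) : ℂ) + (c : ℂ) * w k + w k * w k,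
        isCyclo_add (isCyclo_add (isCyclo_intCast _ _) (isCyclo_const_mul c hw)) (hw.mul hw),
        fun k hk => ?_⟩
      have h := e k hk
      have hc2 : (c : ℂ) = 2 * (m : ℂ) + 1 := by exact_mod_cast hm
      have hk' : f k ^ 2 ^ a = (c : ℂ) + 2 * w k := by push_cast at h; linear_combination h
      simp only [hk', hc2]
      push_cast
      ring
    have h1 := eq_zero_of_cycCongr_zero h0 (fun v => by
      rw [norm_div, Complex.norm_ofNat]
      have h2 := norm_sub_le ((f (v : ZMod (2 ^ a)).val ^ 2 ^ a) ^ 2) 1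
      rw [norm_pow, hnorm v, one_pow, norm_one] at h2
      rw [div_lt_iff₀ two_pos]
      push_cast
      linarith) u
    linear_combination 2 * h1
  obtain ⟨P, hP⟩ := hf
  have hω : f 1 ^ (2 * 2 ^ a) = 1 := by
    rw [mul_comm, pow_mul, ← apply_val_one ⟨P, hP⟩]
    exact hsq 1
  have hωn : f 1 ^ 2 ^ a = 1 := by
    by_contra hne
    have hord : orderOf (f 1) = 2 ^ (a + 1) :=
      orderOf_eq_prime_pow hne (by rw [pow_succ']; exact hω)
    refine aeval_ne_primitive ha (ω := f 1) ?_ P (by rw [hP, pow_one])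
    rw [← pow_succ']
    exact IsPrimitiveRoot.iff_orderOf.2 hord
  obtain ⟨j, -, hj⟩ := (zetaN_isPrimitiveRoot hn).eq_pow_of_pow_eq_one hωn
  refine ⟨j, fun u => ?_⟩
  have hg := isCyclo_sub (⟨P, hP⟩ : IsCyclo (2 ^ a) f) (isCyclo_rootPow (n := 2 ^ a) j)
  have h0 := hg.eq_int_of_coprime hn (m := 0) (by rw [mul_one, hj, sub_self, Int.cast_zero])
    (ZMod.val_coe_unit_coprime u)
  rw [Int.cast_zero, sub_eq_zero] at h0
  exact h0

end CfsgLib.Block
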