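import Cfsg.Agent.Lib.Block.FirstMain

/-!
The exact `p`-part of the coefficient of a block idempotent at the identity, and Green's
Sylow intersections.
-/

set_option autoImplicit false
set_option linter.unusedSectionVars false

namespace CfsgLib.Block

open Cfsg MonoidAlgebra
open scoped ComplexConjugate

universe u

variable {G : Type u} [Group G] [Finite G] {p : ℕ} {M : Ideal AlgInt} [M.IsPrime]

/-- The coefficient at the identity is a unit times the least `p`-power of a degree. -/
theorem exists_unit_blockCoeff_one (hM : IsPModular p M) {B : Set (IrrCharacter G)}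
    (hB : IsPBlock M B) :
    ∃ A : ℂ, MemLocalRing M A ∧ ¬ MemLocalIdeal M A ∧ blockCoeff B 1 =
      ((p ^ sInf ((fun ψ : IrrCharacter G => (charDegree (ψ : G → ℂ)).factorization p) '' B) : ℕ) :
        ℂ) * A := by
  obtain ⟨χ₀, hχ₀, h0⟩ := exists_height_zero hM hB
  obtain ⟨φ, hφ⟩ := isPBlock_nonempty hB
  classical
  have := Fintype.ofFinite (IrrCharacter G)
  have : Finite (ConjClasses G) := Finite.of_surjective ConjClasses.mk ConjClasses.mk_surjective
  have := Fintype.ofFinite (ConjClasses G)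
  obtain ⟨c, hc, hexp⟩ := exists_blockCoeff_expansion hM hB
  set h := sInf ((fun ψ : IrrCharacter G => (charDegree (ψ : G → ℂ)).factorization p) '' B)
  have hph : (p : ℕ) ^ h ≠ 0 := pow_ne_zero _ hM.1.ne_zero
  have hfac : (p ^ h).factorization p = h := by simp [hM.1.factorization]
  let D : IrrCharacter G → ℂ := fun ψ => (charDegree (ψ : G → ℂ) : ℂ) / ((p ^ h : ℕ) : ℂ)
  have hD : ∀ ψ ∈ B, MemLocalRing M (D ψ) := fun ψ hψ =>
    memLocalRing_natCast_div hM hph (Or.inr (by rw [hfac]; exact Nat.sInf_le ⟨ψ, hψ, rfl⟩))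
  set A := ∑ ψ : IrrCharacter G, if ψ ∈ B then c ψ * D ψ else 0 with hA
  have hterm : ∀ ψ : IrrCharacter G, MemLocalRing M (if ψ ∈ B then c ψ * D ψ else 0) := by
    intro ψ
    split
    · next hψ => exact memLocalRing_mul (hc ψ) (hD ψ hψ)
    · exact (lring M).zero_mem
  have hAR : MemLocalRing M A := memLocalRing_sum _ _ fun ψ _ => hterm ψ
  have key : ∀ χ ∈ B, redC M A * lam M φ (regZ M p ((χ : IrrCharacter G) : G → ℂ)
      (CfsgLib.Char.irr_isCharacter χ.2)) = redC M (D χ) := by
    intro χ hχ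
    conv_rhs => rw [← mul_one (redC M (D χ)), ← (algHom_blkIdem_eq_one_iff hM hB φ).2 hφ]
    rw [algHom_eq_sum_classes (lam M φ), algHom_eq_sum_classes (lam M φ), Finset.mul_sum,
      Finset.mul_sum]
    refine Finset.sum_congr rfl fun C _ => ?_
    rw [coeff_blkIdem]
    simp only [regZ, redA, coeff_mkGA, coeff_regSum]
    set g := C.out
    by_cases hg : p ∣ orderOf g
    · rw [if_pos hg, blockCoeff_eq_zero_of_singular hM hB hg, redC_zero]
      ring
    rw [if_neg hg]
    by_cases hl : lam M φ (classSumZ (kres M) g) = 0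
    · rw [hl]; ring
    rw [← mul_assoc, ← mul_assoc]
    congr 1
    have hidx : (Subgroup.centralizer ({g} : Set G)).index.factorization p ≤ h := by
      refine le_csInf ⟨_, χ, hχ, rfl⟩ ?_
      rintro _ ⟨ψ, hψ, rfl⟩
      refine index_le_degree hM hB hψ fun hz => hl ?_
      rw [lam_eq_of_sameBlock (sameBlock_of_mem hB hφ hψ), lam_classSumZ,
        redC_eq_zero_iff (memLocalRing_centralChar ψ.2 g)]
      exact hz
    set q : ℂ := ((p ^ h : ℕ) : ℂ) / ((Subgroup.centralizer ({g} : Set G)).index : ℂ)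
    have hq : MemLocalRing M q :=
      memLocalRing_natCast_div hM Subgroup.index_ne_zero_of_finite (Or.inr (by rw [hfac]; exact hidx))
    have hval : ∀ ψ ∈ B, (ψ : G → ℂ) g⁻¹ = D ψ * q * centralChar (ψ : G → ℂ) g⁻¹ := by
      intro ψ hψ
      rw [centralChar_eq_div]
      have hi : Subgroup.centralizer ({g⁻¹} : Set G) = Subgroup.centralizer ({g} : Set G) := by
        ext x
        rw [Subgroup.mem_centralizer_singleton_iff, Subgroup.mem_centralizer_singleton_iff]
        exact Commute.inv_right_iff (a := x) (b := g)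
      rw [hi]
      have a1 : (charDegree (ψ : G → ℂ) : ℂ) ≠ 0 := by exact_mod_cast charDegree_ne_zero ψ.2
      have a2 : ((Subgroup.centralizer ({g} : Set G)).index : ℂ) ≠ 0 := by
        exact_mod_cast Subgroup.index_ne_zero_of_finite
      have a3 : ((p ^ h : ℕ) : ℂ) ≠ 0 := by exact_mod_cast hph
      simp only [D, q]
      field_simp
    have hred : ∀ ψ ∈ B, redC M ((ψ : G → ℂ) g⁻¹) =
        redC M (D ψ) * redC M q * redC M (centralChar (φ : G → ℂ) g⁻¹) := by
      intro ψ hψ
      rw [hval ψ hψ, redC_mul (memLocalRing_mul (hD ψ hψ) hq) (memLocalRing_centralChar ψ.2 _),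
        redC_mul (hD ψ hψ) hq, (redC_eq_iff (memLocalRing_centralChar ψ.2 _)
          (memLocalRing_centralChar φ.2 _)).2 (sameBlock_of_mem hB hψ hφ g⁻¹)]
    have hterm' : ∀ ψ : IrrCharacter G,
        MemLocalRing M (B.indicator (fun ψ => c ψ * (ψ : G → ℂ) g⁻¹) ψ) := by
      intro ψ
      rw [Set.indicator_apply]
      split
      · exact memLocalRing_mul (hc ψ) (memLocalRing_irr_apply ψ _)
      · exact (lring M).zero_mem
    rw [hexp g hg, finsum_mem_def, finsum_eq_sum_of_fintype, redC_sum _ _ (fun ψ _ => hterm' ψ),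
      hA, redC_sum _ _ (fun ψ _ => hterm ψ), Finset.sum_mul, Finset.mul_sum, hred χ hχ]
    refine Finset.sum_congr rfl fun ψ _ => ?_
    rw [Set.indicator_apply]
    split
    · next hψ =>
      rw [redC_mul (hc ψ) (hD ψ hψ), redC_mul (hc ψ) (memLocalRing_irr_apply ψ _), hred ψ hψ]
      ring
    · rw [redC_zero]; ring
  have a3 : ((p ^ h : ℕ) : ℂ) ≠ 0 := by exact_mod_cast hph
  refine ⟨A, hAR, fun hA0 => ?_, ?_⟩
  · have hk := key χ₀ hχ₀
    rw [(redC_eq_zero_iff hAR).2 hA0, zero_mul] at hk
    have hmem : MemLocalIdeal M (D χ₀) := (redC_eq_zero_iff (hD χ₀ hχ₀)).1 hk.symm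
    have he := (blockHeight_eq_zero_iff hM hB hχ₀).1 h0
    have hinv : MemLocalRing M (((p ^ h : ℕ) : ℂ) / (charDegree (χ₀ : G → ℂ) : ℂ)) :=
      memLocalRing_natCast_div hM (charDegree_ne_zero χ₀.2) (Or.inr (by rw [hfac]; omega))
    apply not_memLocalIdeal_one (M := M)
    have hprod : D χ₀ * (((p ^ h : ℕ) : ℂ) / (charDegree (χ₀ : G → ℂ) : ℂ)) = 1 := by
      have a1 : (charDegree (χ₀ : G → ℂ) : ℂ) ≠ 0 := by exact_mod_cast charDegree_ne_zero χ₀.2
      simp only [D]
      field_simp
    rw [← hprod]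
    exact memLocalIdeal_mul_right hinv hmem
  · rw [hexp 1 (by rw [orderOf_one]; exact hM.1.not_dvd_one), finsum_mem_def,
      finsum_eq_sum_of_fintype, hA, Finset.mul_sum]
    refine Finset.sum_congr rfl fun ψ _ => ?_
    rw [Set.indicator_apply]
    split
    · simp only [D, inv_one, charDegree_cast (CfsgLib.Char.irr_isCharacter ψ.2)]
      field_simp
    · simp

/-- Sums of invariant functions, by orbits. -/
theorem sum_eq_sum_orbits {H α : Type*} [Group H] [Finite H] [MulAction H α] [Fintype α]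
    [Fintype (Quotient (MulAction.orbitRel H α))] {N : Type*} [AddCommMonoid N] (f : α → N)
    (hf : ∀ (u : H) (x : α), f (u • x) = f x) :
    ∑ x, f x = ∑ q : Quotient (MulAction.orbitRel H α),
      (MulAction.stabilizer H q.out).index • f q.out := by
  classical
  rw [← Finset.sum_fiberwise Finset.univ (Quotient.mk (MulAction.orbitRel H α))]
  refine Finset.sum_congr rfl fun q _ => ?_
  have hval : ∀ x, Quotient.mk (MulAction.orbitRel H α) x = q → f x = f q.out := by
    intro x hx
    obtain ⟨u, rfl⟩ := Quotient.exact (hx.trans q.out_eq.symm)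
    exact hf u _
  rw [Finset.sum_congr rfl (g := fun _ => f q.out)
    (fun x hx => hval x (Finset.mem_filter.1 hx).2), Finset.sum_const]
  congr 1
  rw [MulAction.index_stabilizer, ← Set.ncard_coe_finset]
  congr 1
  ext x
  simp only [Finset.coe_filter, Finset.mem_univ, true_and, Set.mem_ofPred_eq]
  conv_lhs => rw [← q.out_eq]
  exact Quotient.eq

/-- Block coefficients are divisible by the excess of the centralizer over the defect. -/
theorem memLocalRing_blockCoeff_div (hM : IsPModular p M) {B : Set (IrrCharacter G)}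
    (hB : IsPBlock M B) {z : G} {k : ℕ}
    (hk : k + blockDefect p B ≤ (Nat.card (Subgroup.centralizer ({z} : Set G))).factorization p ∨
      k = 0) :
    MemLocalRing M (blockCoeff B z / ((p ^ k : ℕ) : ℂ)) := by
  classical
  have := Fintype.ofFinite (IrrCharacter G)
  rcases hk with hk | rfl
  swap
  · simpa using blockCoeff_memLocalRing hM hB z
  by_cases hz : p ∣ orderOf z
  · rw [blockCoeff_eq_zero_of_singular hM hB hz, zero_div]
    exact (lring M).zero_mem
  obtain ⟨c, hc, hexp⟩ := exists_blockCoeff_expansion hM hB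
  rw [hexp z hz, finsum_mem_def, finsum_eq_sum_of_fintype, Finset.sum_div]
  refine memLocalRing_sum _ _ fun ψ _ => ?_
  rw [Set.indicator_apply]
  split
  swap
  · rw [zero_div]; exact (lring M).zero_mem
  next hψ =>
  have hi : Subgroup.centralizer ({z⁻¹} : Set G) = Subgroup.centralizer ({z} : Set G) := by
    ext x
    rw [Subgroup.mem_centralizer_singleton_iff, Subgroup.mem_centralizer_singleton_iff]
    exact Commute.inv_right_iff (a := x) (b := z)
  set i := (Subgroup.centralizer ({z} : Set G)).index with hidef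
  have hi0 : i ≠ 0 := Subgroup.index_ne_zero_of_finite
  have e : c ψ * (ψ : G → ℂ) z⁻¹ / ((p ^ k : ℕ) : ℂ) = c ψ *
      (((charDegree (ψ : G → ℂ) : ℕ) : ℂ) / ((i * p ^ k : ℕ) : ℂ) *
        centralChar (ψ : G → ℂ) z⁻¹) := by
    rw [centralChar_eq_div, hi, ← hidef]
    have a1 : (charDegree (ψ : G → ℂ) : ℂ) ≠ 0 := by exact_mod_cast charDegree_ne_zero ψ.2
    have a2 : (i : ℂ) ≠ 0 := by exact_mod_cast hi0
    have a3 : ((p ^ k : ℕ) : ℂ) ≠ 0 := by exact_mod_cast pow_ne_zero k hM.1.ne_zero
    push_cast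
    field_simp
  rw [e]
  refine memLocalRing_mul (hc ψ) (memLocalRing_mul (memLocalRing_natCast_div hM
    (mul_ne_zero hi0 (pow_ne_zero _ hM.1.ne_zero)) (Or.inr ?_)) (memLocalRing_centralChar ψ.2 _))
  rw [Nat.factorization_mul hi0 (pow_ne_zero _ hM.1.ne_zero), Finsupp.add_apply,
    hM.1.factorization_pow, Finsupp.single_eq_same]
  have h1 : sInf ((fun φ : IrrCharacter G => (charDegree (φ : G → ℂ)).factorization p) '' B) ≤
      (charDegree (ψ : G → ℂ)).factorization p := Nat.sInf_le ⟨ψ, hψ, rfl⟩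
  have h2 := sInf_degree_add_blockDefect hM hB
  have h3 : i.factorization p + (Nat.card (Subgroup.centralizer ({z} : Set G))).factorization p =
      (Nat.card G).factorization p := factorization_index_add (p := p) z
  omega

/-- A Sylow intersection of the order of a defect group, centralizing an element of the support of
the block idempotent. -/
theorem exists_sylow_inter (hM : IsPModular p M) {B : Set (IrrCharacter G)} (hB : IsPBlock M B)
    {D : Subgroup G} (hD : IsDefectGroup p M B D) (P : Sylow p G) :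
    ∃ z : G, ∃ Q : Subgroup G, ¬ p ∣ orderOf z ∧ z ∈ Subgroup.centralizer (Q : Set G) ∧
      (P : Subgroup G) ⊓ (P : Subgroup G).map (MulAut.conj z).toMonoidHom = Q ∧
      Nat.card Q = Nat.card D ∧ (∃ x : G, Q ≤ D.map (MulAut.conj x).toMonoidHom) ∧
      ∀ R : Subgroup G, IsPGroup p R → R ≤ Subgroup.centralizer ({z} : Set G) →
        Nat.card R ≤ Nat.card D := by
  classical
  have := Fact.mk hM.1
  have := charP_kres hM
  have := Fintype.ofFinite G
  have := Fintype.ofFinite (P : Subgroup G)
  set a := (Nat.card G).factorization p with ha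
  set d := blockDefect p B with hd
  have hDd : Nat.card D = p ^ d := natCard_defectGroup hM hB hD
  obtain ⟨A, hA, hA0, hA1⟩ := exists_unit_blockCoeff_one hM hB
  set h := sInf ((fun ψ : IrrCharacter G => (charDegree (ψ : G → ℂ)).factorization p) '' B)
  have hhd : h + d = a := sInf_degree_add_blockDefect hM hB
  have hPc : Nat.card (P : Subgroup G) = p ^ a := Sylow.card_eq_multiplicity P
  have hfR : ∀ g, MemLocalRing M (blockCoeff B g) := fun g => blockCoeff_memLocalRing hM hB g
  have hfc : ∀ g u : G, blockCoeff B (u * g * u⁻¹) = blockCoeff B g := fun g u => by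
    simpa [blockSum] using blockSum_isClassCoeff B g u
  let F : G → ℂ := fun y => ∑ u : (P : Subgroup G), blockCoeff B ((u : G) * y)
  have hFR : ∀ y, MemLocalRing M (F y) := fun y => memLocalRing_sum _ _ fun u _ => hfR _
  have hFl : ∀ (w : (P : Subgroup G)) (y : G), F ((w : G) * y) = F y := fun w y =>
    Fintype.sum_equiv (Equiv.mulRight w) _ _ fun u => by simp [mul_assoc]
  have hFr : ∀ (w : (P : Subgroup G)) (y : G), F (y * (w : G)) = F y := fun w y => by
    refine Fintype.sum_equiv (Equiv.mulLeft w) _ _ fun u => ?_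
    rw [← hfc ((u : G) * (y * (w : G))) (w : G)]
    simp [mul_assoc]
  -- the basic identity
  have hid : (Nat.card (P : Subgroup G) : ℂ) * blockCoeff B 1 = ∑ y : G, F y * F y⁻¹ := by
    have h1 : blockCoeff B 1 = ∑ y : G, F y * blockCoeff B y⁻¹ := by
      have h2 : ∀ u : (P : Subgroup G), ∑ y : G, blockCoeff B ((u : G) * y) * blockCoeff B y⁻¹ =
          blockCoeff B (u : G) := by
        intro u
        have h3 := congrArg (fun b => b.coeff (u : G))
          (show blockSum B * blockSum B = blockSum B by rw [blockSum_mul, Set.inter_self])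
        simp only [coeff_mul_eq, blockSum, coeff_mkGA] at h3
        rw [← h3]
        refine Fintype.sum_equiv (Equiv.mulLeft (u : G)) _ _ fun y => ?_
        simp
      simp only [F, Finset.sum_mul]
      rw [Finset.sum_comm, Finset.sum_congr rfl (fun u _ => h2 u), Finset.sum_eq_single 1]
      · rfl
      · intro u _ hu
        refine blockCoeff_eq_zero_of_singular hM hB ?_
        obtain ⟨j, hj⟩ := IsPGroup.iff_orderOf.1 P.2 u
        rw [Subgroup.orderOf_coe, hj]
        refine dvd_pow_self p fun h => hu ?_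
        rwa [h, pow_zero, orderOf_eq_one_iff] at hj
      · simp
    rw [h1, Nat.card_eq_fintype_card, ← Finset.card_univ, ← nsmul_eq_mul, ← Finset.sum_const]
    have h4 : ∀ y, F y * F y⁻¹ = ∑ u : (P : Subgroup G), F y * blockCoeff B ((u : G) * y⁻¹) :=
      fun y => Finset.mul_sum _ _ _
    simp only [h4]
    conv_rhs => rw [Finset.sum_comm]
    refine Finset.sum_congr rfl fun u _ => ?_
    refine Fintype.sum_equiv (Equiv.mulRight (u : G)) _ _ fun y => ?_
    simp only [Equiv.coe_mulRight, hFr, mul_inv_rev, mul_inv_cancel_left]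
  -- double cosets as orbits
  let _ : MulAction (↥(P : Subgroup G) × ↥(P : Subgroup G)) G :=
    { smul := fun uv y => (uv.1 : G) * y * (uv.2 : G)⁻¹
      one_smul := fun y => by
        change ((1 : (P : Subgroup G)) : G) * y * ((1 : (P : Subgroup G)) : G)⁻¹ = y
        simp
      mul_smul := fun a b y => by
        change ((a.1 * b.1 : (P : Subgroup G)) : G) * y * ((a.2 * b.2 : (P : Subgroup G)) : G)⁻¹ =
          (a.1 : G) * ((b.1 : G) * y * (b.2 : G)⁻¹) * (a.2 : G)⁻¹
        push_cast
        group }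
  -- stabilizers of double cosets, acting on `P`
  have hstab_eq : ∀ (y : G) (w : MulAction.stabilizer (↥(P : Subgroup G) × ↥(P : Subgroup G)) y),
      (w.1.1 : G) * y * (w.1.2 : G)⁻¹ = y := fun y w => MulAction.mem_stabilizer_iff.1 w.2
  have hstab_inv : ∀ y : G,
      Nat.card (MulAction.stabilizer (↥(P : Subgroup G) × ↥(P : Subgroup G)) y⁻¹) =
        Nat.card (MulAction.stabilizer (↥(P : Subgroup G) × ↥(P : Subgroup G)) y) := by
    intro y
    refine Nat.card_congr
      { toFun := fun w => ⟨(w.1.2, w.1.1), ?_⟩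
        invFun := fun w => ⟨(w.1.2, w.1.1), ?_⟩
        left_inv := fun w => rfl
        right_inv := fun w => rfl }
    · rw [MulAction.mem_stabilizer_iff]
      change (w.1.2 : G) * y * (w.1.1 : G)⁻¹ = y
      have h := congrArg (·⁻¹) (hstab_eq _ w)
      simpa [mul_assoc] using h
    · rw [MulAction.mem_stabilizer_iff]
      change (w.1.2 : G) * y⁻¹ * (w.1.1 : G)⁻¹ = y⁻¹
      have h := congrArg (·⁻¹) (hstab_eq _ w)
      simpa [mul_assoc] using h
  have hPP : IsPGroup p (↥(P : Subgroup G) × ↥(P : Subgroup G)) :=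
    IsPGroup.of_card (n := a + a) (by rw [Nat.card_prod, hPc, pow_add])
  let act : ∀ y : G, MulAction (MulAction.stabilizer (↥(P : Subgroup G) × ↥(P : Subgroup G)) y)
      (P : Subgroup G) := fun y =>
    { smul := fun w t => w.1.2 * t * w.1.1⁻¹
      one_smul := fun t => by change (1 : (P : Subgroup G)) * t * 1⁻¹ = t; simp
      mul_smul := fun w w' t => by
        change w.1.2 * w'.1.2 * t * (w.1.1 * w'.1.1)⁻¹ = w.1.2 * (w'.1.2 * t * w'.1.1⁻¹) * w.1.1⁻¹
        group }
  have hconj : ∀ (y : G) (w : MulAction.stabilizer (↥(P : Subgroup G) × ↥(P : Subgroup G)) y)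
      (t : (P : Subgroup G)), ((w.1.2 * t * w.1.1⁻¹ : (P : Subgroup G)) : G) * y =
        (w.1.2 : G) * ((t : G) * y) * (w.1.2 : G)⁻¹ := by
    intro y w t
    have h2 : (w.1.1 : G)⁻¹ * y = y * (w.1.2 : G)⁻¹ := by
      rw [inv_mul_eq_iff_eq_mul, ← mul_assoc]
      exact (hstab_eq y w).symm
    push_cast
    rw [mul_assoc ((w.1.2 : G) * (t : G)), h2]
    group
  have hcent : ∀ (y : G) (w : MulAction.stabilizer (↥(P : Subgroup G) × ↥(P : Subgroup G)) y)
      (t : (P : Subgroup G)), w.1.2 * t * w.1.1⁻¹ = t →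
        (w.1.2 : G) * ((t : G) * y) = ((t : G) * y) * (w.1.2 : G) := fun y w t ht =>
    mul_inv_eq_iff_eq_mul.1 ((hconj y w t).symm.trans (by rw [ht]))
  have hinj : ∀ (y : G), Function.Injective
      (fun w : MulAction.stabilizer (↥(P : Subgroup G) × ↥(P : Subgroup G)) y => w.1.2) := by
    intro y w w' hv
    have h6 := (hstab_eq y w).trans (hstab_eq y w').symm
    rw [show w.1.2 = w'.1.2 from hv] at h6
    exact Subtype.ext (Prod.ext (Subtype.ext (mul_right_cancel (mul_right_cancel h6))) hv)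
  have hFdiv : ∀ (y : G) (e : ℕ),
      Nat.card (MulAction.stabilizer (↥(P : Subgroup G) × ↥(P : Subgroup G)) y) = p ^ e →
        MemLocalRing M (F y / ((p ^ (e - d) : ℕ) : ℂ)) := by
    intro y e he
    let _ := act y
    have := Fintype.ofFinite (Quotient (MulAction.orbitRel
      (MulAction.stabilizer (↥(P : Subgroup G) × ↥(P : Subgroup G)) y) (P : Subgroup G)))
    simp only [F]
    rw [sum_eq_sum_orbits (H := MulAction.stabilizer (↥(P : Subgroup G) × ↥(P : Subgroup G)) y)
      (fun u : (P : Subgroup G) => blockCoeff B ((u : G) * y)) (fun w t => by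
        change blockCoeff B (((w.1.2 * t * w.1.1⁻¹ : (P : Subgroup G)) : G) * y) = _
        rw [hconj, hfc]), Finset.sum_div]
    refine memLocalRing_sum _ _ fun q _ => ?_
    set St2 := MulAction.stabilizer
      (MulAction.stabilizer (↥(P : Subgroup G) × ↥(P : Subgroup G)) y) q.out with hSt2
    set z := ((q.out : (P : Subgroup G)) : G) * y with hz
    have hmul := St2.index_mul_card
    rw [he] at hmul
    obtain ⟨i, -, hi⟩ := (Nat.dvd_prime_pow hM.1).1 (Dvd.intro _ hmul)
    obtain ⟨l, -, hl⟩ := (Nat.dvd_prime_pow hM.1).1 (Dvd.intro_left _ hmul)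
    have hil : i + l = e := by
      rw [hi, hl, ← pow_add] at hmul
      exact Nat.pow_right_injective hM.1.two_le hmul
    -- the stabilizer of `q` embeds in the centralizer of `z`
    let φ : St2 →* Subgroup.centralizer ({z} : Set G) :=
      { toFun := fun w => ⟨(w.1.1.2 : G), Subgroup.mem_centralizer_singleton_iff.2
          (hcent y w.1 q.out (MulAction.mem_stabilizer_iff.1 w.2))⟩
        map_one' := rfl
        map_mul' := fun _ _ => rfl }
    have hφ : Function.Injective φ := fun w w' hww => by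
      have h := congrArg Subtype.val hww
      exact Subtype.ext (hinj y (Subtype.ext h))
    have hlc : l ≤ (Nat.card (Subgroup.centralizer ({z} : Set G))).factorization p := by
      refine (hM.1.pow_dvd_iff_le_factorization Nat.card_pos.ne').1 ?_
      rw [← hl, Nat.card_congr (MonoidHom.ofInjective hφ).toEquiv]
      exact Subgroup.card_subgroup_dvd_card _
    rw [hi, nsmul_eq_mul]
    change MemLocalRing M (((p ^ i : ℕ) : ℂ) * blockCoeff B z / _)
    have hne : ∀ m : ℕ, ((p ^ m : ℕ) : ℂ) ≠ 0 := fun m =>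
      Nat.cast_ne_zero.2 (pow_ne_zero _ hM.1.ne_zero)
    have hkey : ((p ^ i : ℕ) : ℂ) * blockCoeff B z / ((p ^ (e - d) : ℕ) : ℂ) =
        (((p ^ (i + (e - d - i) - (e - d)) : ℕ) : ℂ)) *
          (blockCoeff B z / ((p ^ (e - d - i) : ℕ) : ℂ)) := by
      have hjk : ((p ^ i : ℕ) : ℂ) * ((p ^ (e - d - i) : ℕ) : ℂ) =
          ((p ^ (i + (e - d - i) - (e - d)) : ℕ) : ℂ) * ((p ^ (e - d) : ℕ) : ℂ) := by
        rw [← Nat.cast_mul, ← Nat.cast_mul, ← pow_add, ← pow_add]
        exact congrArg (fun m : ℕ => ((p ^ m : ℕ) : ℂ)) (by omega)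
      rw [mul_div_assoc', div_eq_div_iff (hne _) (hne _)]
      linear_combination blockCoeff B z * hjk
    rw [hkey]
    exact memLocalRing_mul (memLocalRing_natCast _) (memLocalRing_blockCoeff_div hM hB (by omega))
  obtain ⟨y, hy, hstab⟩ : ∃ y : G, ¬ MemLocalIdeal M (F y) ∧
      p ^ d ≤ Nat.card (MulAction.stabilizer (↥(P : Subgroup G) × ↥(P : Subgroup G)) y) := by
    by_contra hcon
    push Not at hcon
    apply hA0
    have := Fintype.ofFinite
      (Quotient (MulAction.orbitRel (↥(P : Subgroup G) × ↥(P : Subgroup G)) G))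
    have hsum := sum_eq_sum_orbits (H := ↥(P : Subgroup G) × ↥(P : Subgroup G))
      (fun w : G => F w * F w⁻¹) (fun uv w => by
        change F ((uv.1 : G) * w * (uv.2 : G)⁻¹) * F ((uv.1 : G) * w * (uv.2 : G)⁻¹)⁻¹ = _
        rw [mul_inv_rev, mul_inv_rev, inv_inv, mul_assoc (uv.1 : G), hFl, ← Subgroup.coe_inv, hFr,
          hFl, ← Subgroup.coe_inv, hFr])
    have hne : ∀ m : ℕ, ((p ^ m : ℕ) : ℂ) ≠ 0 := fun m =>
      Nat.cast_ne_zero.2 (pow_ne_zero _ hM.1.ne_zero)
    have hAeq : A = ∑ q : Quotient (MulAction.orbitRel (↥(P : Subgroup G) × ↥(P : Subgroup G)) G),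
        ((MulAction.stabilizer (↥(P : Subgroup G) × ↥(P : Subgroup G)) q.out).index : ℂ) *
          (F q.out * F q.out⁻¹) / ((p ^ (a + h) : ℕ) : ℂ) := by
      have h5 := hid
      rw [hsum, hA1, hPc, ← mul_assoc, ← Nat.cast_mul, ← pow_add] at h5
      simp only [nsmul_eq_mul] at h5
      rw [← Finset.sum_div, ← h5, mul_div_cancel_left₀ _ (hne _)]
    rw [hAeq]
    refine memLocalIdeal_sum _ _ fun q _ => ?_
    have hmul := (MulAction.stabilizer (↥(P : Subgroup G) × ↥(P : Subgroup G)) q.out).index_mul_card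
    rw [Nat.card_prod, hPc, ← pow_add] at hmul
    obtain ⟨i, -, hi⟩ := (Nat.dvd_prime_pow hM.1).1 (Dvd.intro _ hmul)
    obtain ⟨e, -, he⟩ := (Nat.dvd_prime_pow hM.1).1 (Dvd.intro_left _ hmul)
    have hie : i + e = a + a := by
      rw [hi, he, ← pow_add] at hmul
      exact Nat.pow_right_injective hM.1.two_le hmul
    have hfp : ∀ m : ℕ, (p ^ m).factorization p = m := fun m => by simp [hM.1.factorization]
    have hnz : p ^ (a + h) ≠ 0 := pow_ne_zero _ hM.1.ne_zero
    rw [hi]
    rcases lt_trichotomy e d with hed | hed | hed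
    · rw [mul_div_right_comm]
      exact memLocalIdeal_mul_right (memLocalRing_mul (hFR _) (hFR _))
        (memLocalIdeal_natCast_div hM hnz (Or.inr (by rw [hfp, hfp]; omega)))
    · have hF : MemLocalIdeal M (F q.out) := by
        by_contra hF
        have := hcon q.out hF
        rw [he, hed] at this
        exact lt_irrefl _ this
      rw [mul_div_right_comm]
      exact memLocalIdeal_mul_left (memLocalRing_natCast_div hM hnz
        (Or.inr (by rw [hfp, hfp]; omega))) (memLocalIdeal_mul_right (hFR _) hF)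
    · have h1 := hFdiv q.out e he
      have h2 := hFdiv q.out⁻¹ e (by rw [hstab_inv, he])
      have heq : ((p ^ i : ℕ) : ℂ) * (F q.out * F q.out⁻¹) / ((p ^ (a + h) : ℕ) : ℂ) =
          (((p ^ (i + (e - d) + (e - d)) : ℕ) : ℂ) / ((p ^ (a + h) : ℕ) : ℂ)) *
            ((F q.out / ((p ^ (e - d) : ℕ) : ℂ)) * (F q.out⁻¹ / ((p ^ (e - d) : ℕ) : ℂ))) := by
        have := hne (e - d)
        have := hne (a + h)
        rw [pow_add p (i + (e - d)), pow_add p i]
        push_cast at *
        field_simp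
      rw [heq]
      exact memLocalIdeal_mul_right (memLocalRing_mul h1 h2)
        (memLocalIdeal_natCast_div hM hnz (Or.inr (by rw [hfp, hfp]; omega)))
  -- a fixed point in the coset of `y`
  let _ := act y
  let St := MulAction.stabilizer (↥(P : Subgroup G) × ↥(P : Subgroup G)) y
  have hSp : IsPGroup p St := hPP.to_subgroup St
  set e := (blkIdem M B : MonoidAlgebra (kres M) G) with he
  have hne : ∑ t : (P : Subgroup G), e.coeff ((t : G) * y) ≠ 0 := by
    intro h0
    apply hy
    rw [← redC_eq_zero_iff (hFR y)]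
    simp only [F]
    rw [redC_sum _ _ fun (t : (P : Subgroup G)) _ => hfR ((t : G) * y), ← h0]
    exact Finset.sum_congr rfl fun t _ => by rw [he, coeff_blkIdem]
  rw [sum_eq_sum_fixed hSp (p := p) (fun v => by simp [nsmul_eq_mul])
    (fun t : (P : Subgroup G) => e.coeff ((t : G) * y)) (fun w t => by
      change e.coeff (((w.1.2 * t * w.1.1⁻¹ : (P : Subgroup G)) : G) * y) = _
      rw [hconj, isClassCoeff_center (blkIdem M B)])] at hne
  obtain ⟨t, ht, hte⟩ := Finset.exists_ne_zero_of_sum_ne_zero hne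
  have htfix : ∀ w : St, w.1.2 * t * w.1.1⁻¹ = t := fun w => (Finset.mem_filter.1 ht).2 w
  set z := (t : G) * y with hz
  let ψ : St →* G :=
    (P : Subgroup G).subtype.comp ((MonoidHom.snd _ _).comp St.subtype)
  have hψ : Function.Injective ψ := fun w w' hw => hinj y (Subtype.ext hw)
  have hQcard : Nat.card ψ.range = Nat.card St :=
    Nat.card_congr (MonoidHom.ofInjective hψ).symm.toEquiv
  have hQp : IsPGroup p ψ.range := hSp.of_equiv (MonoidHom.ofInjective hψ)
  have hQz : z ∈ Subgroup.centralizer (ψ.range : Set G) := by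
    rw [Subgroup.mem_centralizer_iff]
    rintro _ ⟨w, rfl⟩
    exact hcent y w t (htfix w)
  have hzr : ¬ p ∣ orderOf z := fun hd => hte (blkIdem_coeff_eq_zero_of_singular hM hB hd)
  have hmax : ∀ R : Subgroup G, IsPGroup p R → R ≤ Subgroup.centralizer ({z} : Set G) →
      ∃ x : G, R ≤ D.map (MulAut.conj x).toMonoidHom := fun R hR hRz =>
    (exists_le_conj_iff_coeff hM hB hD hR).1 ⟨z, by
      rw [Subgroup.mem_centralizer_iff]
      exact fun v hv => Subgroup.mem_centralizer_singleton_iff.1 (hRz hv), hte⟩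
  have hQC : ψ.range ≤ Subgroup.centralizer ({z} : Set G) := fun v hv =>
    Subgroup.mem_centralizer_singleton_iff.2 (Subgroup.mem_centralizer_iff.1 hQz v hv)
  obtain ⟨x, hx⟩ := hmax _ hQp hQC
  have hle : Nat.card ψ.range ≤ Nat.card D :=
    (Subgroup.card_le_of_le hx).trans_eq (natCard_map_conj D x)
  refine ⟨z, ψ.range, hzr, hQz, ?_,
    le_antisymm hle (by rw [hDd, hQcard]; exact hstab), ⟨x, hx⟩, fun R hR hRz => ?_⟩
  swap
  · obtain ⟨x', hx'⟩ := hmax R hR hRz
    exact (Subgroup.card_le_of_le hx').trans_eq (natCard_map_conj D x')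
  symm
  refine Subgroup.eq_of_le_of_card_ge ?_ ?_
  · rintro _ ⟨w, rfl⟩
    refine Subgroup.mem_inf.2 ⟨(w.1.2).2, mem_map_conj_iff.2 ?_⟩
    have h : (w.1.2 : G) * z = z * (w.1.2 : G) := hcent y w t (htfix w)
    change z⁻¹ * (w.1.2 : G) * z ∈ (P : Subgroup G)
    rw [mul_assoc, h, inv_mul_cancel_left]
    exact (w.1.2).2
  · rw [hQcard]
    let T := (P : Subgroup G) ⊓ (P : Subgroup G).map (MulAut.conj z).toMonoidHom
    let g : T → St := fun v => ⟨(t⁻¹ * ⟨v.1, (Subgroup.mem_inf.1 v.2).1⟩ * t,
      ⟨z⁻¹ * v.1 * z, mem_map_conj_iff.1 (Subgroup.mem_inf.1 v.2).2⟩), by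
        rw [MulAction.mem_stabilizer_iff]
        change ((t⁻¹ * ⟨v.1, _⟩ * t : (P : Subgroup G)) : G) * y * (z⁻¹ * v.1 * z)⁻¹ = y
        push_cast
        rw [hz]
        group⟩
    refine Nat.card_le_card_of_injective g fun v v' hv => ?_
    have h1 := congrArg (fun w : St => (w.1.2 : G)) hv
    exact Subtype.ext (mul_left_cancel (mul_right_cancel h1))

end CfsgLib.Block
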