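import Cfsg.Agent.Lib.Block.CyclicPerfect

/-!
# A criterion for a perfect isometry onto a cyclic defect block

The source group has a cyclic subgroup `zpowers x` of order `p ^ a` carrying all its elements of
order divisible by `p`. A signed bijection is perfect as soon as the source columns at regular
elements are orthogonal to the columns of the block, and the source columns at singular elements are
local combinations of the normalised conjugate columns of the block.
-/

set_option autoImplicit false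
set_option linter.unusedSectionVars false

namespace CfsgLib.Block

open Cfsg CfsgLib.Block CfsgLib.BlockA CfsgLib.BlockB CfsgLib.BlockB.SubSum
  CfsgLib.BlockB.HeightBound
open scoped ComplexConjugate

universe u v

namespace CycBlock

variable {G : Type u} [Group G] [Fintype G] {p : ℕ} [hp : Fact p.Prime] {M : Ideal AlgInt}
  [M.IsPrime] (S : CycBlock G p M) {F : Type v} [Group F] [Finite F]

/-- **The criterion.** -/
theorem isPerfectIsometry_of (x : F) (hx : orderOf x = p ^ S.a) {e' : ℕ} (he' : ¬ p ∣ e')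
    (hcard : Nat.card F = p ^ S.a * e')
    (hsing : ∀ y : F, p ∣ orderOf y → y ∈ Subgroup.zpowers x)
    (hC : ∀ n ∈ Subgroup.zpowers x, n ≠ 1 →
      Subgroup.centralizer ({n} : Set F) = Subgroup.zpowers x)
    (J : IrrCharacter F → IrrCharacter G) (ε : IrrCharacter F → ℤ)
    (hJ : Set.BijOn J Set.univ S.B) (hε : ∀ η, ε η = 1 ∨ ε η = -1)
    (h1 : ∀ y : F, ¬ p ∣ orderOf y → ∀ j, j ≠ 0 →
      ∑ᶠ η : IrrCharacter F, (ε η : ℂ) * (η : F → ℂ) y * S.col (J η) j = 0)
    (h2 : ∀ i : ZMod (p ^ S.a), i ≠ 0 → ∃ b : ZMod (p ^ S.a) → ℂ,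
      (∀ j, MemLocalRing M (b j)) ∧ ∀ η : IrrCharacter F, (ε η : ℂ) * (η : F → ℂ) (x ^ i.val) =
        ∑ j ∈ Finset.univ.erase 0, b j * (conj (S.col (J η) j) / conj (S.dg j))) :
    IsPerfectIsometry p M (Set.univ : Set (IrrCharacter F)) S.B J ε := by
  classical
  have := Fintype.ofFinite F
  have := Fintype.ofFinite (IrrCharacter F)
  have : Nonempty (IrrCharacter F) := ⟨⟨_, CfsgLib.Char.isIrrCharacter_one⟩⟩
  set Q : Subgroup F := Subgroup.zpowers x with hQ
  have := Fintype.ofFinite Q
  have hQcard : Nat.card Q = p ^ S.a := by rw [hQ, Nat.card_zpowers, hx]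
  have hq0 : ((p ^ S.a : ℕ) : ℂ) ≠ 0 := Nat.cast_ne_zero.2 (pow_ne_zero _ hp.out.ne_zero)
  refine ⟨hJ, fun η _ => hε η, ?_⟩
  intro g y
  -- the kernel as a sum over the block
  let K : IrrCharacter G → IrrCharacter F := fun χ =>
    if h : χ ∈ S.B then (hJ.surjOn h).choose else (Classical.arbitrary _)
  have hKJ : ∀ η, K (J η) = η := fun η => by
    have h := hJ.mapsTo (Set.mem_univ η)
    simp only [K, dif_pos h]
    exact hJ.injOn (Set.mem_univ _) (Set.mem_univ _) (hJ.surjOn h).choose_spec.2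
  have hJK : ∀ χ ∈ S.B, J (K χ) = χ := fun χ h => by
    simp only [K, dif_pos h]
    exact (hJ.surjOn h).choose_spec.2
  have hreix : ∀ f : IrrCharacter F → IrrCharacter G → ℂ,
      ∑ η : IrrCharacter F, f η (J η) = ∑ χ ∈ S.B.toFinite.toFinset, f (K χ) χ := fun f => by
    refine Finset.sum_bij' (fun η _ => J η) (fun χ _ => K χ)
      (fun η _ => by simpa using hJ.mapsTo (Set.mem_univ η)) (fun _ _ => Finset.mem_univ _)
      (fun η _ => hKJ η) (fun χ h => hJK χ (by simpa using h)) (fun η _ => by rw [hKJ])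
  let μ : G → F → ℂ := fun g y => ∑ η : IrrCharacter F,
    (ε η : ℂ) * (J η : G → ℂ) g * (η : F → ℂ) y
  have hμ : ∀ g y, signedBijectionKernel (Set.univ : Set (IrrCharacter F)) J ε g y = μ g y :=
    fun g y => by rw [signedBijectionKernel, finsum_mem_univ, finsum_eq_sum_of_fintype]
  have hone : ∀ z : G, IsPPart p z 1 ↔ ¬ p ∣ orderOf z := fun z =>
    ⟨fun ⟨v, hv, _, _, hreg⟩ => by rw [one_mul] at hv; rwa [← hv], isPPart_one_of_regular⟩
  -- singular arguments in the source
  have hS : ∀ y ∈ Q, y ≠ 1 → (∀ g, ¬ p ∣ orderOf g → μ g y = 0) ∧ ∀ g,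
      MemLocalRing M (μ g y / ((p ^ S.a : ℕ) : ℂ)) ∧
      MemLocalRing M (μ g y / (Nat.card (Subgroup.centralizer ({g} : Set G)) : ℂ)) := by
    intro y hy hy1
    obtain ⟨k, rfl⟩ := (Subgroup.mem_zpowers_iff.1 hy)
    obtain ⟨n, hn⟩ : ∃ n : ℕ, x ^ k = x ^ n := by
      have h : x ^ k ∈ Submonoid.powers x :=
        (mem_powers_iff_mem_zpowers).2 (Subgroup.mem_zpowers_iff.2 ⟨k, rfl⟩)
      obtain ⟨n, hn⟩ := h
      exact ⟨n, hn.symm⟩
    set i : ZMod (p ^ S.a) := (n : ZMod (p ^ S.a)) with hi
    have hxi : x ^ k = x ^ i.val := by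
      rw [hn, hi, ZMod.val_natCast, ← hx, pow_mod_orderOf]
    have hi0 : i ≠ 0 := fun h => hy1 (by rw [hxi, h, ZMod.val_zero, pow_zero])
    obtain ⟨b, hb, hbη⟩ := h2 i hi0
    have hμi : ∀ g, μ g (x ^ k) = ∑ j ∈ Finset.univ.erase 0, b j * S.colFun j g := by
      intro g
      simp only [μ, hxi, mul_right_comm _ ((J _ : G → ℂ) g), hbη, Finset.sum_mul]
      rw [Finset.sum_comm]
      refine Finset.sum_congr rfl fun j _ => ?_
      rw [hreix fun _ χ => b j * (conj (S.col χ j) / conj (S.dg j)) * (χ : G → ℂ) g, colFun,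
        Finset.sum_div, Finset.mul_sum]
      exact Finset.sum_congr rfl fun χ _ => by ring
    refine ⟨fun g hg => ?_, fun g => ?_⟩
    · rw [hμi]
      refine Finset.sum_eq_zero fun j hj => ?_
      rw [S.colFun_eq_zero ((hone g).2 hg) (fun h => Finset.ne_of_mem_erase hj
        (S.el_eq_one_iff.1 (isConj_one_left.1 h))), mul_zero]
    · rw [hμi, Finset.sum_div, Finset.sum_div]
      constructor <;> refine memLocalRing_sum _ _ fun j hj => ?_ <;> rw [mul_div_assoc]
      · exact memLocalRing_mul (hb j) (S.memLocalRing_colFun (Finset.ne_of_mem_erase hj) g).1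
      · exact memLocalRing_mul (hb j) (S.memLocalRing_colFun (Finset.ne_of_mem_erase hj) g).2
  -- regular arguments in the source
  have hR : ∀ y : F, ¬ p ∣ orderOf y → (∀ g, p ∣ orderOf g → μ g y = 0) ∧ ∀ g,
      MemLocalRing M (μ g y / (Nat.card (Subgroup.centralizer ({g} : Set G)) : ℂ)) := by
    intro y hy
    let a : IrrCharacter G → ℂ := fun χ => (ε (K χ) : ℂ) * (K χ : F → ℂ) y
    have hμa : ∀ g, μ g y = ∑ χ ∈ S.B.toFinite.toFinset, a χ * (χ : G → ℂ) g := fun g => by
      refine (hreix fun η χ => (ε η : ℂ) * (χ : G → ℂ) g * (η : F → ℂ) y).trans ?_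
      exact Finset.sum_congr rfl fun χ _ => by simp only [a]; ring
    have hvan : ∀ g, p ∣ orderOf g → ∑ χ ∈ S.B.toFinite.toFinset, a χ * (χ : G → ℂ) g = 0 := by
      intro g hg
      refine S.sum_mul_apply_eq_zero a (fun j hj => ?_) hg
      have h := h1 y hy j hj
      rwa [finsum_eq_sum_of_fintype,
        hreix fun η χ => (ε η : ℂ) * (η : F → ℂ) y * S.col χ j] at h
    refine ⟨fun g hg => by rw [hμa, hvan g hg], fun g => ?_⟩
    rw [hμa]
    exact memLocalRing_div_centralizer_of_vanish S.hM _ a (fun χ _ =>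
      (isIntegral_algebraMap (x := ε (K χ))).mul
        (irr_apply_isIntegral (CfsgLib.Char.irr_isCharacter (K χ).2) y)) hvan g
  have hint : ∀ g y, MemLocalRing M (μ g y) := fun g y =>
    memLocalRing_of_isIntegral (IsIntegral.sum _ fun η _ =>
      ((isIntegral_algebraMap (x := ε η)).mul
        (irr_apply_isIntegral (CfsgLib.Char.irr_isCharacter (J η).2) g)).mul
        (irr_apply_isIntegral (CfsgLib.Char.irr_isCharacter η.2) y))
  rw [hμ]
  by_cases hy : p ∣ orderOf y
  · have hy1 : y ≠ 1 := fun h => hp.out.not_dvd_one (by rwa [h, orderOf_one] at hy)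
    obtain ⟨hzero, hloc⟩ := hS y (hsing y hy) hy1
    refine ⟨(hloc g).2, ?_, ?_⟩
    · rw [hC y (hsing y hy) hy1, hQcard]
      exact (hloc g).1
    · by_cases hg : p ∣ orderOf g
      · exact Or.inl (iff_of_false (fun h => h hg) (fun h => h hy))
      · exact Or.inr (hzero g hg)
  obtain ⟨hzero, hloc⟩ := hR y hy
  refine ⟨hloc g, ?_, ?_⟩
  · rcases eq_or_ne y 1 with rfl | hy1
    · have hsplit : ∀ η : IrrCharacter F, (η : F → ℂ) 1 =
          ∑ u : Q, (η : F → ℂ) (1 * (u : F)) - ∑ u ∈ (Finset.univ : Finset Q).erase 1,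
            (η : F → ℂ) u := fun η => by
        simp only [one_mul]
        rw [← Finset.add_sum_erase _ _ (Finset.mem_univ (1 : Q)), OneMemClass.coe_one,
          add_sub_cancel_right]
      have hq : MemLocalRing M (μ g 1 / ((p ^ S.a : ℕ) : ℂ)) := by
        have e : μ g 1 = (∑ η : IrrCharacter F, (ε η : ℂ) * (J η : G → ℂ) g *
            ((∑ u : Q, (η : F → ℂ) (1 * (u : F))) / (Nat.card Q : ℂ))) *
              ((p ^ S.a : ℕ) : ℂ) - ∑ u ∈ (Finset.univ : Finset Q).erase 1, μ g u := by
          rw [Finset.sum_mul]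
          simp only [μ]
          rw [Finset.sum_comm, ← Finset.sum_sub_distrib]
          refine Finset.sum_congr rfl fun η _ => ?_
          rw [hsplit, hQcard, ← Finset.mul_sum]
          field_simp
        rw [e, sub_div, mul_div_assoc, div_self hq0, mul_one, Finset.sum_div]
        refine (lring M).sub_mem (memLocalRing_of_isIntegral (IsIntegral.sum _ fun η _ =>
          ((isIntegral_algebraMap (x := ε η)).mul
            (irr_apply_isIntegral (CfsgLib.Char.irr_isCharacter (J η).2) g)).mul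
            (isIntegral_cosetSum_div (CfsgLib.Char.irr_isCharacter η.2) Q
              fun u _ => Commute.one_left u))) ?_
        refine memLocalRing_sum _ _ fun u hu => ((hS u u.2 fun h => ?_).2 g).1
        exact Finset.ne_of_mem_erase hu (Subtype.ext h)
      rw [show Nat.card (Subgroup.centralizer ({(1 : F)} : Set F)) = p ^ S.a * e' by
        rw [← hcard, show Subgroup.centralizer ({(1 : F)} : Set F) = ⊤ from eq_top_iff.2
          fun z _ => Subgroup.mem_centralizer_singleton_iff.2 (by rw [one_mul, mul_one]),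
          Subgroup.card_top], Nat.cast_mul, ← div_div, div_eq_mul_inv (_ / _)]
      exact memLocalRing_mul hq (memLocalRing_inv_natCast S.hM he')
    · rw [div_eq_mul_inv]
      refine memLocalRing_mul (hint g y) (memLocalRing_inv_natCast S.hM fun h => ?_)
      obtain ⟨z, hz⟩ := exists_prime_orderOf_dvd_card' p h
      have hzQ : (z : F) ∈ Q := hsing _ (by rw [Subgroup.orderOf_coe, hz])
      have hz1 : (z : F) ≠ 1 := fun h1 => hp.out.ne_one (by
        rw [← hz, ← Subgroup.orderOf_coe, h1, orderOf_one])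
      have hyQ : y ∈ Q := by
        rw [← hC _ hzQ hz1, Subgroup.mem_centralizer_singleton_iff]
        exact (Subgroup.mem_centralizer_singleton_iff.1 z.2).symm
      have hdiv : orderOf y ∣ p ^ S.a := by
        rw [← hQcard]
        exact Subgroup.orderOf_dvd_natCard _ hyQ
      obtain ⟨m, -, hm⟩ := (Nat.dvd_prime_pow hp.out).1 hdiv
      rcases m with _ | m
      · rw [pow_zero, orderOf_eq_one_iff] at hm
        exact hy1 hm
      · exact hy (hm ▸ dvd_pow_self p (Nat.succ_ne_zero m))
  · by_cases hg : p ∣ orderOf g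
    · exact Or.inr (hzero g hg)
    · exact Or.inl (iff_of_true hg hy)

end CycBlock

end CfsgLib.Block
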