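import Cfsg.Agent.Lib.Block.FrobeniusModelChars
import Cfsg.Agent.Lib.Block.PerfectCriterion
import Cfsg.Agent.Lib.Block.CycloRootTwo
import Cfsg.Agent.Lib.BlockB.ClassMul
import Cfsg.Agent.Lib.Block.Green

/-!
# The perfect isometry for a nilpotent cyclic defect block

With trivial inertial quotient the values at the generator give the exponent of each member; the
vectors of roots of unity they define are images of central elements with local coefficients, hence
local combinations of the columns.
-/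

set_option autoImplicit false
set_option linter.unusedSectionVars false

namespace CfsgLib.Block

open Cfsg CfsgLib.Block CfsgLib.BlockA CfsgLib.BlockB CfsgLib.BlockB.SubSum
  CfsgLib.BlockB.HeightBound
open scoped ComplexConjugate

universe u v

namespace CycBlock

variable {G : Type u} [Group G] [Fintype G] {p : ℕ} [hp : Fact p.Prime] {M : Ideal AlgInt}
  [M.IsPrime] (S : CycBlock G p M)

local notation "cs" y => Subgroup.centralizer (Singleton.singleton y : Set G)

attribute [local instance] csFintype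

/-- The degree of a member of height zero. -/
theorem factorization_degree {χ : IrrCharacter G} (hχ : χ ∈ S.B)
    (h : blockHeight p S.B (χ : G → ℂ) = 0) :
    (charDegree (χ : G → ℂ)).factorization p + S.a = (Nat.card G).factorization p := by
  have h1 := S.blockDefect_B
  unfold blockDefect at h1
  unfold blockHeight at h
  have h2 : sInf ((fun ψ : IrrCharacter G => (charDegree (ψ : G → ℂ)).factorization p) '' S.B) ≤
      (charDegree (χ : G → ℂ)).factorization p := Nat.sInf_le ⟨χ, hχ, rfl⟩
  have := S.ha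
  omega

theorem one_zmod_ne_zero : (1 : ZMod (p ^ S.a)) ≠ 0 := by
  have : Fact (1 < p ^ S.a) := ⟨Nat.one_lt_pow (Nat.one_le_iff_ne_zero.1 S.ha) hp.out.one_lt⟩
  exact one_ne_zero

/-- A central element with local coefficients, whose central characters are proportional to the
values at the generator with a factor invertible in the local ring. -/
theorem exists_generator_element (he : S.e = 1) {χ₀ : IrrCharacter G} (hχ₀ : χ₀ ∈ S.B) :
    ∃ (z : MonoidAlgebra ℂ G) (A : ℂ), IsLocalCentral M z ∧ MemLocalRing M A⁻¹ ∧ A ≠ 0 ∧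
      ∀ χ ∈ S.B, omegaC (χ : G → ℂ) z = A * S.secPow χ 1 1 := by
  classical
  have hone : ¬ p ∣ orderOf (1 : G) := by rw [orderOf_one]; exact hp.out.not_dvd_one
  set C : Subgroup G := (cs (S.el 1)) with hC
  letI : Fintype C := csFintype (S.el 1)
  have := Fintype.ofFinite (G ⧸ C)
  let h : G → G → ℂ := fun g a => S.beta 1 (a⁻¹ * g * a * (S.el 1)⁻¹)
  have hloc : ∀ k : G, MemLocalRing M (S.beta 1 k) := by
    intro k
    rw [← S.blk_coeff 1, subgroupBlockCoeff]
    split_ifs with hk
    · simpa using memLocalRing_blockCoeff_div S.hM (S.isPBlock_blk 1) (z := (⟨k, hk⟩ : C))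
        (k := 0) (Or.inr rfl)
    · exact (lring M).zero_mem
  have hinv : ∀ (g a : G) (c : C), h g (a * (c : G)) = h g a := by
    intro g a c
    have hc : Commute (c : G) (S.el 1) := Subgroup.mem_centralizer_singleton_iff.1 c.2
    have e : (a * (c : G))⁻¹ * g * (a * (c : G)) * (S.el 1)⁻¹ =
        (c : G)⁻¹ * (a⁻¹ * g * a * (S.el 1)⁻¹) * (c : G) := by
      rw [mul_inv_rev]
      simp only [mul_assoc]
      rw [hc.inv_right.eq]
    have hb : ∀ k : G, S.beta 1 ((c : G)⁻¹ * k * (c : G)) = S.beta 1 k := by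
      intro k
      rw [← S.blk_coeff 1, subgroupBlockCoeff, subgroupBlockCoeff]
      by_cases hk : k ∈ C
      · rw [dif_pos (C.mul_mem (C.mul_mem (C.inv_mem c.2) hk) c.2), dif_pos hk]
        simp only [blockCoeff]
        congr 1
        refine finsum_mem_congr rfl fun θ _ => ?_
        congr 2
        have := CfsgLib.Char.irr_isClassFunction θ.2 ⟨k, hk⟩ c⁻¹
        rw [← this]
        exact congrArg (θ : C → ℂ) (Subtype.ext (by simp))
      · rw [dif_neg (fun h' => hk (by
            have := C.mul_mem (C.mul_mem c.2 h') (C.inv_mem c.2)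
            simpa [mul_assoc] using this)), dif_neg hk]
    show S.beta 1 _ = S.beta 1 _
    rw [e, hb]
  let Z : G → ℂ := fun g => ∑ x : G ⧸ C, h g x.out
  have hZ : ∀ g, (Nat.card C : ℂ) * Z g = ∑ a : G, h g a := by
    intro g
    rw [Finset.mul_sum, ← Finset.sum_fiberwise Finset.univ (fun a : G => (a : G ⧸ C))]
    refine Finset.sum_congr rfl fun x _ => ?_
    have hfib : ∀ a ∈ Finset.univ.filter (fun a : G => (a : G ⧸ C) = x), h g a = h g x.out := by
      intro a ha
      have hm : (x.out)⁻¹ * a ∈ C := QuotientGroup.eq.1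
        ((QuotientGroup.out_eq' x).trans (Finset.mem_filter.1 ha).2.symm)
      have := hinv g x.out ⟨_, hm⟩
      simpa using this
    rw [Finset.sum_eq_card_nsmul hfib, nsmul_eq_mul]
    congr 2
    rw [Nat.card_eq_fintype_card, ← Finset.card_univ]
    refine Finset.card_bij' (fun c _ => x.out * (c : G)) (fun a ha => ⟨(x.out)⁻¹ * a,
      QuotientGroup.eq.1 ((QuotientGroup.out_eq' x).trans (Finset.mem_filter.1 ha).2.symm)⟩)
      (fun c _ => Finset.mem_filter.2 ⟨Finset.mem_univ _, ?_⟩) (fun _ _ => Finset.mem_univ _)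
      (fun c _ => Subtype.ext (by simp)) (fun a _ => by simp)
    conv_rhs => rw [← QuotientGroup.out_eq' x]
    rw [QuotientGroup.eq]
    simp
  have hC0 : (Nat.card C : ℂ) ≠ 0 := Nat.cast_ne_zero.2 Nat.card_pos.ne'
  have hcls : IsClassCoeff (mkGA Z) := by
    intro g b
    rw [coeff_mkGA, coeff_mkGA]
    refine mul_left_cancel₀ hC0 ?_
    rw [hZ, hZ]
    refine Fintype.sum_equiv (Equiv.mulLeft b⁻¹) _ _ fun a => ?_
    show S.beta 1 _ = S.beta 1 _
    simp only [Equiv.coe_mulLeft]
    congr 1
    group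
  obtain ⟨d, hd0, hd⟩ := S.dg_eq_nat 1
  have hC' : (C.index : ℂ) * Nat.card C = Nat.card G := by exact_mod_cast C.index_mul_card
  have hdeg : ∀ χ ∈ S.B, (χ : G → ℂ) 1 = (χ₀ : G → ℂ) 1 := fun χ hχ =>
    S.regular_eq_of_e_eq_one he hχ hχ₀ hone
  set D0 : ℕ := charDegree (χ₀ : G → ℂ) with hD0
  have hD0' : (χ₀ : G → ℂ) 1 = (D0 : ℂ) :=
    (charDegree_cast (CfsgLib.Char.irr_isCharacter χ₀.2)).symm
  refine ⟨mkGA Z, ((C.index * d : ℕ) : ℂ) / (D0 : ℂ), ⟨hcls, fun g => ?_⟩, ?_, ?_, ?_⟩
  · rw [coeff_mkGA]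
    exact memLocalRing_sum _ _ fun x _ => hloc _
  · rw [inv_div]
    refine memLocalRing_natCast_div S.hM (Nat.mul_ne_zero Subgroup.index_ne_zero_of_finite hd0.ne')
      (Or.inr ?_)
    have h1 := S.factorization_degree hχ₀ (S.height_eq_zero_of_e_eq_one he hχ₀)
    obtain ⟨S', hB', ha', he'⟩ := S.exists_cenBlock S.one_zmod_ne_zero
    have hm : S.member 1 ∈ S'.B := hB'.symm ▸ S.member_mem 1
    have h2 := S'.factorization_degree hm (S'.height_eq_zero_of_e_eq_one he' hm)
    have h3 : charDegree (S.member 1 : (cs (S.el 1)) → ℂ) = d := by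
      have h := charDegree_cast (CfsgLib.Char.irr_isCharacter (S.member 1).2)
      rw [show (S.member 1 : (cs (S.el 1)) → ℂ) 1 = (d : ℂ) from hd] at h
      exact_mod_cast h
    rw [h3, ha'] at h2
    have h4 : (Nat.card G).factorization p = C.index.factorization p + (Nat.card C).factorization p := by
      rw [← C.index_mul_card, Nat.factorization_mul Subgroup.index_ne_zero_of_finite Nat.card_pos.ne']
      rfl
    rw [Nat.factorization_mul Subgroup.index_ne_zero_of_finite hd0.ne', Finsupp.add_apply]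
    have h1' : D0.factorization p + S.a = (Nat.card G).factorization p := h1
    have h2' : d.factorization p + S.a = (Nat.card C).factorization p := h2
    omega
  · refine div_ne_zero (Nat.cast_ne_zero.2
      (Nat.mul_ne_zero Subgroup.index_ne_zero_of_finite hd0.ne')) ?_
    exact Nat.cast_ne_zero.2 (charDegree_ne_zero χ₀.2)
  · intro χ hχ
    have hsum : (Nat.card C : ℂ) * ∑ g : G, Z g * (χ : G → ℂ) g =
        (Nat.card G : ℂ) * S.col χ 1 := by
      simp only [Finset.mul_sum, ← mul_assoc, hZ, Finset.sum_mul]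
      rw [Finset.sum_comm, Finset.sum_eq_card_nsmul (b := S.col χ 1), Finset.card_univ,
        nsmul_eq_mul, ← Nat.card_eq_fintype_card]
      intro a _
      unfold col subFun
      refine Fintype.sum_equiv ((MulAut.conj a⁻¹).toEquiv.trans (Equiv.mulRight (S.el 1)⁻¹)) _ _
        fun g => ?_
      simp only [Equiv.trans_apply, MulEquiv.toEquiv_eq_coe, MulEquiv.coe_toEquiv,
        MulAut.conj_apply, inv_inv, Equiv.coe_mulRight, h, inv_mul_cancel_right]
      congr 1
      exact (CfsgLib.Char.irr_isClassFunction χ.2 g a⁻¹).symm.trans (by rw [inv_inv])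
    rw [omegaC_eq, show (∑ g, (mkGA Z).coeff g * (χ : G → ℂ) g) = (C.index : ℂ) * S.col χ 1 from
      mul_left_cancel₀ hC0 (by
        simp only [coeff_mkGA]
        rw [hsum, ← hC']
        ring), col_eq_secPow S.allEq_one, hd, hdeg χ hχ, hD0']
    push_cast
    ring

/-- **The isometry with trivial inertial quotient**, given the roots of unity at the generator. -/
theorem exists_perfectIsometry_of_roots (he : S.e = 1)
    (hroot : ∀ χ ∈ S.B, ∃ l : ZMod (p ^ S.a), ∀ w : (ZMod (p ^ S.a))ˣ,
      S.secPow χ 1 (w : ZMod (p ^ S.a)).val = zpsi (p ^ S.a) (l * (w : ZMod (p ^ S.a))))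
    {F : Type v} [Group F] [Finite F] (m : S.Model F) :
    ∃ (J : IrrCharacter F → IrrCharacter G) (ε : IrrCharacter F → ℤ),
      IsPerfectIsometry p M (Set.univ : Set (IrrCharacter F)) S.B J ε ∧ ∀ η, ε η = 1 := by
  classical
  have : NeZero (p ^ S.a) := ⟨pow_ne_zero _ hp.out.ne_zero⟩
  have := Fintype.ofFinite F
  have := Fintype.ofFinite (IrrCharacter F)
  have hone : ¬ p ∣ orderOf (1 : G) := by rw [orderOf_one]; exact hp.out.not_dvd_one
  have hq0 : ((p ^ S.a : ℕ) : ℂ) ≠ 0 := Nat.cast_ne_zero.2 (pow_ne_zero _ hp.out.ne_zero)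
  choose! lam hlam using hroot
  obtain ⟨χ₀, hχ₀⟩ := isPBlock_nonempty S.isPBlock_B
  set B' := S.B.toFinite.toFinset with hB'
  have hB : ∀ χ, χ ∈ B' ↔ χ ∈ S.B := fun χ => by simp [hB']
  have hdeg : ∀ χ ∈ S.B, (χ : G → ℂ) 1 = (χ₀ : G → ℂ) 1 := fun χ hχ =>
    S.regular_eq_of_e_eq_one he hχ hχ₀ hone
  have hdeg0 : (χ₀ : G → ℂ) 1 ≠ 0 := CfsgLib.Char.irr_apply_one_ne_zero χ₀.2
  have hE : ∀ w ∈ S.E, w = 1 := fun w hw => by
    have : Subsingleton S.E := Finite.card_le_one_iff_subsingleton.1 (by rw [S.natCard_E, he])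
    exact congrArg Subtype.val (Subsingleton.elim (⟨w, hw⟩ : S.E) 1)
  have hcol0 : ∀ i, i ≠ 0 → ∑ χ ∈ B', S.col χ i = 0 := by
    intro i hi
    have h := S.sum_col_mul_regular hi hone
    rw [Finset.sum_congr rfl (fun χ hχ => by rw [hdeg χ ((hB χ).1 hχ)]), ← Finset.sum_mul] at h
    exact (mul_eq_zero.1 h).resolve_right hdeg0
  -- the columns at units
  have hunit : ∀ χ ∈ S.B, ∀ w : (ZMod (p ^ S.a))ˣ,
      S.col χ (w : ZMod (p ^ S.a)) = zpsi (p ^ S.a) (lam χ * (w : ZMod (p ^ S.a))) * S.dg 1 :=
    fun χ hχ w => by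
      have h := col_unit_mul S.allEq_one χ w
      rw [mul_one] at h
      rw [h, hlam χ hχ w]
  have hcolZero : ∀ i, i ≠ 0 → ∑ χ ∈ B', zpsi (p ^ S.a) (lam χ * i) = 0 := by
    intro i hi
    by_cases hu : IsUnit i
    · obtain ⟨w, rfl⟩ := hu
      have h := hcol0 _ hi
      rw [Finset.sum_congr rfl (fun χ hχ => hunit χ ((hB χ).1 hχ) w), ← Finset.sum_mul] at h
      exact (mul_eq_zero.1 h).resolve_right (S.dg_ne_zero 1)
    · have hu' : IsUnit (1 - i) := by
        have hv : p ∣ i.val := by
          by_contra hv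
          refine hu ?_
          rw [← ZMod.natCast_rightInverse i]
          exact (ZMod.isUnit_iff_coprime _ _).2
            (Nat.Coprime.pow_right _ ((hp.out.coprime_iff_not_dvd.2 hv).symm))
        have hnil : IsNilpotent i := by
          obtain ⟨k, hk⟩ := hv
          refine ⟨S.a, ?_⟩
          rw [← ZMod.natCast_rightInverse i, hk, Nat.cast_mul, mul_pow, ← Nat.cast_pow,
            ZMod.natCast_self, zero_mul]
        exact IsNilpotent.isUnit_one_sub hnil
      obtain ⟨w, hw⟩ := hu'
      have h := S.orth_zero (i := 1) (j := 1 - i) fun v hv => by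
        rw [hE v hv, Units.val_one, one_mul]
        simpa using hi
      have hterm : ∀ χ ∈ B', S.col χ 1 * conj (S.col χ (1 - i)) =
          zpsi (p ^ S.a) (lam χ * i) * (S.dg 1 * conj (S.dg 1)) := by
        intro χ hχ
        have h1 := hunit χ ((hB χ).1 hχ) 1
        rw [Units.val_one, mul_one] at h1
        rw [h1, ← hw, hunit χ ((hB χ).1 hχ) w, map_mul (starRingEnd ℂ), conj_zpsi, hw,
          mul_mul_mul_comm,
          ← AddChar.map_add_eq_mul]
        congr 2
        ring
      rw [← hB', Finset.sum_congr rfl hterm, ← Finset.sum_mul] at h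
      exact (mul_eq_zero.1 h).resolve_right (mul_ne_zero (S.dg_ne_zero 1) (by simpa using S.dg_ne_zero 1))
  have hBcard : B'.card = p ^ S.a := by
    rw [hB', ← Set.ncard_eq_toFinset_card, ← Nat.card_coe_set_eq]
    exact (S.rank_card_of_e_eq_one he).2
  -- every exponent occurs once
  have hcnt : ∀ l : ZMod (p ^ S.a), (B'.filter fun χ => lam χ = l).card = 1 := by
    set N : ZMod (p ^ S.a) → ℕ := fun l => (B'.filter fun χ => lam χ = l).card with hN
    have hconst := S.const_of_transform (f := fun l => (N l : ℂ)) fun i hi => by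
      rw [← hcolZero i hi, ← Finset.sum_fiberwise B' lam]
      refine Finset.sum_congr rfl fun l _ => ?_
      rw [Finset.sum_congr rfl (g := fun _ => zpsi (p ^ S.a) (l * i))
        (fun χ hχ => by rw [(Finset.mem_filter.1 hχ).2]), Finset.sum_const, nsmul_eq_mul]
    have htot : ∑ l, N l = p ^ S.a :=
      (Finset.card_eq_sum_card_fiberwise (fun χ _ => Finset.mem_univ (lam χ))).symm.trans hBcard
    intro l
    have h0 : ∀ k, N k = N 0 := fun k => by exact_mod_cast hconst k
    simp only [h0, Finset.sum_const, Finset.card_univ, ZMod.card, smul_eq_mul] at htot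
    show N l = 1
    rw [h0]
    exact Nat.eq_of_mul_eq_mul_left (pow_pos hp.out.pos _) (htot.trans (mul_one _).symm)
  have hex : ∀ l : ZMod (p ^ S.a), ∃ χ ∈ S.B, lam χ = l := fun l => by
    obtain ⟨χ, hχ⟩ := Finset.card_eq_one.1 (hcnt l)
    have h := Finset.mem_filter.1 (show χ ∈ B'.filter fun χ => lam χ = l by rw [hχ]; simp)
    exact ⟨χ, (hB χ).1 h.1, h.2⟩
  choose σ hσB hσ using hex
  have hinj : ∀ χ ∈ S.B, σ (lam χ) = χ := fun χ hχ => by
    obtain ⟨χ', hχ'⟩ := Finset.card_eq_one.1 (hcnt (lam χ))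
    have h1 : χ ∈ B'.filter fun ψ => lam ψ = lam χ := Finset.mem_filter.2 ⟨(hB χ).2 hχ, rfl⟩
    have h2 : σ (lam χ) ∈ B'.filter fun ψ => lam ψ = lam χ :=
      Finset.mem_filter.2 ⟨(hB _).2 (hσB _), hσ _⟩
    rw [hχ', Finset.mem_singleton] at h1 h2
    exact h2.trans h1.symm
  have hsumσ : ∀ f : IrrCharacter G → ℂ, ∑ χ ∈ B', f χ = ∑ l, f (σ l) := fun f =>
    Finset.sum_bij' (fun χ _ => lam χ) (fun l _ => σ l) (fun _ _ => Finset.mem_univ _)
      (fun l _ => (hB _).2 (hσB l)) (fun χ hχ => hinj χ ((hB χ).1 hχ)) (fun l _ => hσ l)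
      (fun χ hχ => by rw [hinj χ ((hB χ).1 hχ)])
  -- the matrix of columns
  let U : Matrix (ZMod (p ^ S.a)) (ZMod (p ^ S.a)) ℂ := fun j l =>
    if j = 0 then 1 else S.col (σ l) j / S.dg j
  have hU : U * U.conjTranspose = ((p ^ S.a : ℕ) : ℂ) • 1 := by
    ext j k
    rw [Matrix.mul_apply, Matrix.smul_apply, Matrix.one_apply, smul_eq_mul]
    have hUs : ∀ l k, U.conjTranspose l k = conj (U k l) := fun _ _ => rfl
    simp only [hUs]
    simp only [U]
    by_cases hj : j = 0
    · subst hj
      simp only [if_pos, one_mul]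
      by_cases hk : k = 0
      · subst hk
        simp [ZMod.card]
      · simp only [if_neg hk, map_div₀, ← Finset.sum_div, ← map_sum, ← hsumσ fun χ => S.col χ k,
          hcol0 k hk, map_zero, zero_div, if_neg (Ne.symm hk), mul_zero]
    · by_cases hk : k = 0
      · subst hk
        simp only [if_neg hj, if_pos, map_one, mul_one, ← Finset.sum_div, ← hsumσ fun χ => S.col χ j,
          hcol0 j hj, zero_div, mul_zero]
      · simp only [if_neg hj, if_neg hk, map_div₀, div_mul_div_comm, ← Finset.sum_div,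
          ← hsumσ fun χ => S.col χ j * conj (S.col χ k)]
        by_cases hjk : j = k
        · subst hjk
          rw [if_pos rfl, hB', S.orth_self, nrm_eq (S.allEq_of_ne_zero hj), (S.natCard_blk hj).2,
            mul_one, mul_div_assoc, div_self (mul_ne_zero (S.dg_ne_zero j)
              (by simpa using S.dg_ne_zero j)), mul_one]
        · rw [if_neg hjk, hB', S.orth_zero (fun w hw => by
            rw [hE w hw, Units.val_one, one_mul]; exact Ne.symm hjk), zero_div, mul_zero]
  have hU' : (((p ^ S.a : ℕ) : ℂ)⁻¹ • U.conjTranspose) * U = 1 := by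
    refine mul_eq_one_comm.1 ?_
    rw [Matrix.mul_smul, hU, smul_smul, inv_mul_cancel₀ hq0, one_smul]
  obtain ⟨z, A, hz, hA, hA0, hzω⟩ := S.exists_generator_element he hχ₀
  -- central elements against the columns
  have hcentral : ∀ (a : MonoidAlgebra ℂ G), IsLocalCentral M a → ∀ j, j ≠ 0 →
      MemLocalRing M ((∑ χ ∈ B', omegaC (χ : G → ℂ) a * S.col χ j) /
        (((p ^ S.a : ℕ) : ℂ) * S.dg j)) := by
    intro a ha j hj
    have := Fintype.ofFinite (ConjClasses G)
    simp only [omegaC_eq_sum_classes (CfsgLib.Char.irr_isClassFunction (Subtype.prop _)) ha.1,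
      Finset.sum_mul]
    rw [Finset.sum_comm, Finset.sum_div]
    refine memLocalRing_sum _ _ fun c _ => ?_
    set g := c.out
    obtain ⟨D0, hD00, hD0⟩ := CfsgLib.Char.irr_apply_one_pos χ₀.2
    have hD0' : charDegree (χ₀ : G → ℂ) = D0 := by
      have h := charDegree_cast (CfsgLib.Char.irr_isCharacter χ₀.2)
      rw [hD0] at h
      exact_mod_cast h
    have hk : MemLocalRing M ((Nat.card G : ℂ) / ((D0 * p ^ S.a : ℕ) : ℂ)) := by
      refine memLocalRing_natCast_div S.hM (Nat.mul_ne_zero hD00.ne' (pow_ne_zero _ hp.out.ne_zero))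
        (Or.inr ?_)
      have h1 := S.factorization_degree hχ₀ (S.height_eq_zero_of_e_eq_one he hχ₀)
      rw [hD0'] at h1
      rw [Nat.factorization_mul hD00.ne' (pow_ne_zero _ hp.out.ne_zero), Finsupp.add_apply,
        hp.out.factorization_pow, Finsupp.single_eq_same, h1]
    have hT := S.memLocalRing_sum_col_mul hj g
    set K := (Subgroup.centralizer ({g} : Set G)) with hK
    have hKc : (K.index : ℂ) * Nat.card K = Nat.card G := by exact_mod_cast K.index_mul_card
    have hK0 : (Nat.card K : ℂ) ≠ 0 := Nat.cast_ne_zero.2 Nat.card_pos.ne'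
    have heq : (∑ χ ∈ B', a.coeff g * centralChar (χ : G → ℂ) g * S.col χ j) /
        (((p ^ S.a : ℕ) : ℂ) * S.dg j) = a.coeff g * ((Nat.card G : ℂ) / ((D0 * p ^ S.a : ℕ) : ℂ)) *
        ((∑ χ ∈ B', S.col χ j * (χ : G → ℂ) g) / S.dg j / (Nat.card K : ℂ)) := by
      have h1 : ∑ χ ∈ B', a.coeff g * centralChar (χ : G → ℂ) g * S.col χ j =
          a.coeff g * ((K.index : ℂ) / (D0 : ℂ)) * ∑ χ ∈ B', S.col χ j * (χ : G → ℂ) g := by
        rw [Finset.mul_sum]
        refine Finset.sum_congr rfl fun χ hχ => ?_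
        rw [centralChar, hdeg χ ((hB χ).1 hχ), hD0]
        ring
      rw [h1, ← hKc, Nat.cast_mul]
      field_simp
    rw [heq]
    exact memLocalRing_mul (memLocalRing_mul (ha.2 g) hk) hT
  -- the exponents of the characters of the model
  have hxtop : Subgroup.zpowers m.x = ⊤ := by
    refine Subgroup.eq_top_of_card_eq _ ?_
    rw [Nat.card_zpowers, m.hx, m.hcard, he, mul_one]
  have hpow : ∀ y : F, ∃ n : ℕ, m.x ^ n = y := fun y =>
    mem_powers_iff_mem_zpowers.2 (hxtop ▸ Subgroup.mem_top y)
  have hlin : ∀ η : IrrCharacter F, ∃ r : ZMod (p ^ S.a), ∀ n : ℕ,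
      (η : F → ℂ) (m.x ^ n) = zpsi (p ^ S.a) (r * (n : ZMod (p ^ S.a))) := by
    intro η
    rcases m.irr_cases η with ⟨h1, h⟩ | ⟨-, r, hr, h⟩
    · exact ⟨0, fun n => by rw [h _ (pow_mem (Subgroup.mem_zpowers m.x) n), zero_mul,
        AddChar.map_zero_eq_one]⟩
    · refine ⟨r, fun n => ?_⟩
      have := Fintype.ofFinite S.E
      rw [h n, S.tr_orbInd hr, Fintype.sum_eq_single (1 : S.E)]
      · simp
      · intro w hw; exact absurd (Subtype.ext (hE w.1 w.2)) hw
  choose r hr using hlin
  let J : IrrCharacter F → IrrCharacter G := fun η => σ (r η)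
  have hJ : Set.BijOn J Set.univ S.B := by
    refine ⟨fun η _ => hσB _, fun η _ η' _ h => ?_, fun χ hχ => ?_⟩
    · refine Subtype.ext (funext fun y => ?_)
      obtain ⟨n, rfl⟩ := hpow y
      rw [hr, hr, ← hσ (r η), ← hσ (r η'), show σ (r η) = σ (r η') from h]
    · by_cases hl : lam χ = 0
      · refine ⟨⟨fun _ => 1, CfsgLib.Char.isIrrCharacter_one⟩, Set.mem_univ _, ?_⟩
        set η : IrrCharacter F := ⟨fun _ => 1, CfsgLib.Char.isIrrCharacter_one⟩
        have h0 : r η = 0 := by
          by_contra h0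
          have hs := sum_zpsi_mul (n := p ^ S.a) (r η)
          rw [if_neg h0] at hs
          have h1 : ∀ i : ZMod (p ^ S.a), zpsi (p ^ S.a) (r η * i) = 1 := fun i => by
            conv_lhs => rw [← ZMod.natCast_rightInverse i, ← hr η]
          rw [Finset.sum_congr rfl fun i _ => h1 i, Finset.sum_const, Finset.card_univ, ZMod.card,
            nsmul_one] at hs
          exact hq0 hs
        simp only [J, h0, ← hl, hinj χ hχ]
      · obtain ⟨η, -, hη⟩ := m.exists_irr hl
        refine ⟨η, Set.mem_univ _, ?_⟩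
        have := Fintype.ofFinite S.E
        have heq : S.orbInd (lam χ) = S.orbInd (r η) := by
          refine S.eq_of_tr_eq fun i => ?_
          rw [← ZMod.natCast_rightInverse i, ← hη, hr η]
          by_cases h0 : r η = 0
          · exfalso
            have h1 := hη 1
            rw [hr η, h0, zero_mul, AddChar.map_zero_eq_one, S.tr_orbInd hl,
              Fintype.sum_eq_single (1 : S.E) (fun w hw => absurd (Subtype.ext (hE w.1 w.2)) hw)] at h1
            simp only [OneMemClass.coe_one, Units.val_one, one_mul, Nat.cast_one, mul_one] at h1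
            exact hl ((zpsi_isPrimitive (p ^ S.a)).zmod_char_eq_one_iff _ _ |>.1 h1.symm)
          · rw [S.tr_orbInd h0, Fintype.sum_eq_single (1 : S.E)
              (fun w hw => absurd (Subtype.ext (hE w.1 w.2)) hw)]
            simp
        have h2 : lam χ = r η := by
          have h3 := congrFun heq (lam χ)
          rw [orbInd, if_pos ⟨1, one_mem _, by simp⟩, orbInd] at h3
          split_ifs at h3 with hc
          · obtain ⟨w, hw, hw'⟩ := hc
            rw [hw', hE w hw, Units.val_one, one_mul]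
          · exact absurd h3 one_ne_zero
        simp only [J, ← h2, hinj χ hχ]
  refine ⟨J, fun _ => 1, S.isPerfectIsometry_of m.x m.hx S.not_dvd_e m.hcard m.hsing m.hC J _
    hJ (fun _ => Or.inl rfl) (fun y hy j hj => ?_) (fun i hi => ?_), fun _ => rfl⟩
  · have hy1 : y = 1 := by
      by_contra hne
      obtain ⟨n, rfl⟩ := hpow y
      have hd : orderOf (m.x ^ n) ∣ p ^ S.a := (orderOf_pow_dvd n).trans (dvd_of_eq m.hx)
      obtain ⟨k, -, hk⟩ := (Nat.dvd_prime_pow hp.out).1 hd
      rcases k with _ | k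
      · rw [pow_zero, orderOf_eq_one_iff] at hk
        exact hne hk
      · exact hy (hk ▸ dvd_pow_self p (Nat.succ_ne_zero k))
    subst hy1
    rw [finsum_eq_sum_of_fintype]
    have hη1 : ∀ η : IrrCharacter F, (η : F → ℂ) 1 = 1 := fun η => by
      have h := hr η 0
      rwa [pow_zero, Nat.cast_zero, mul_zero, AddChar.map_zero_eq_one] at h
    simp only [hη1, Int.cast_one, one_mul]
    rw [← hcol0 j hj]
    exact Finset.sum_bij (fun η _ => J η) (fun η _ => (hB _).2 (hσB _))
      (fun η _ η' _ h => hJ.injOn (Set.mem_univ _) (Set.mem_univ _) h)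
      (fun χ hχ => (hJ.surjOn ((hB χ).1 hχ)).imp fun η h => ⟨Finset.mem_univ _, h.2⟩)
      (fun _ _ => rfl)
  · set w : ZMod (p ^ S.a) → ℂ := fun l => zpsi (p ^ S.a) (l * i) with hw
    refine ⟨fun j => if j = 0 then 0 else
      ((p ^ S.a : ℕ) : ℂ)⁻¹ * ∑ l, U j l * w l, fun j => ?_, fun η => ?_⟩
    · dsimp only
      by_cases hj : j = 0
      · rw [if_pos hj]; exact (lring M).zero_mem
      rw [if_neg hj]
      have heq : ((p ^ S.a : ℕ) : ℂ)⁻¹ * ∑ l, U j l * w l = A⁻¹ ^ i.val *
          ((∑ χ ∈ B', omegaC (χ : G → ℂ) (z ^ i.val) * S.col χ j) /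
            (((p ^ S.a : ℕ) : ℂ) * S.dg j)) := by
        rw [hsumσ fun χ => omegaC (χ : G → ℂ) (z ^ i.val) * S.col χ j, Finset.sum_div,
          Finset.mul_sum, Finset.mul_sum]
        refine Finset.sum_congr rfl fun l _ => ?_
        have hpw : ∀ n : ℕ, omegaC (σ l : G → ℂ) (z ^ n) = (A * zpsi (p ^ S.a) l) ^ n := by
          intro n
          induction n with
          | zero => rw [pow_zero, pow_zero, omegaC_one (CfsgLib.Char.irr_apply_one_ne_zero (σ l).2)]
          | succ n ih =>
            rw [pow_succ, omegaC_mul (σ l).2 (isLocalCentral_pow hz n).1, ih, hzω _ (hσB l),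
              pow_succ]
            congr 2
            have h1 := hlam (σ l) (hσB l) 1
            rw [Units.val_one, hσ l, mul_one, ZMod.val_one_eq_one_mod,
              (S.isCyclo_secPow (σ l) 1).apply_mod (NeZero.ne _)] at h1
            exact h1
        rw [hpw, mul_pow, ← AddChar.map_nsmul_eq_pow, nsmul_eq_mul,
          ZMod.natCast_rightInverse i]
        simp only [U, if_neg hj, hw, mul_comm i l]
        have hAn : A⁻¹ ^ i.val * A ^ i.val = 1 := by
          rw [← mul_pow, inv_mul_cancel₀ hA0, one_pow]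
        linear_combination (-(S.col (σ l) j * zpsi (p ^ S.a) (l * i) /
          (((p ^ S.a : ℕ) : ℂ) * S.dg j))) * hAn
      rw [heq]
      refine memLocalRing_mul ((lring M).pow_mem hA _) (hcentral _ (isLocalCentral_pow hz _) j hj)
    · rw [Int.cast_one, one_mul, hr η, ZMod.natCast_rightInverse i]
      have h0 : ∑ l, U 0 l * w l = 0 := by
        simp only [U, if_pos, one_mul, hw]
        simp only [mul_comm _ i]
        rw [sum_zpsi_mul, if_neg hi]
      have h := congrFun (congrArg (fun X => X.mulVec w) hU') (r η)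
      simp only [Matrix.one_mulVec, ← Matrix.mulVec_mulVec] at h
      simp only [Matrix.mulVec, dotProduct, Matrix.smul_apply, Matrix.conjTranspose_apply,
        smul_eq_mul] at h
      rw [← Finset.add_sum_erase _ _ (Finset.mem_univ (0 : ZMod (p ^ S.a))), h0, mul_zero,
        zero_add] at h
      rw [show zpsi (p ^ S.a) (r η * i) = w (r η) from rfl, ← h]
      refine Finset.sum_congr rfl fun j hj => ?_
      dsimp only
      rw [if_neg (Finset.ne_of_mem_erase hj)]
      simp only [U, if_neg (Finset.ne_of_mem_erase hj), J]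
      rw [← starRingEnd_apply, map_div₀]
      ring

end CycBlock

end CfsgLib.Block
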