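import Cfsg.Agent.Lib.Block.FrobeniusIsometry
import Cfsg.Agent.Lib.Block.NilpotentIsometry
import Cfsg.Agent.Lib.Block.FrobeniusGroup

/-!
# Perfect isometries onto a cyclic defect block, all primes
-/

set_option autoImplicit false
set_option linter.unusedSectionVars false

namespace CfsgLib.Block

open Cfsg CfsgLib.Block CfsgLib.BlockA

universe u v

namespace CycBlock

variable {G : Type u} [Group G] [Fintype G] {p : ℕ} [hp : Fact p.Prime] {M : Ideal AlgInt}
  [M.IsPrime] (S : CycBlock G p M)

/-- Any model is perfectly isometric to the block. -/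
theorem exists_perfectIsometry {F : Type v} [Group F] [Finite F] (m : S.Model F) :
    ∃ (J : IrrCharacter F → IrrCharacter G) (ε : IrrCharacter F → ℤ),
      IsPerfectIsometry p M (Set.univ : Set (IrrCharacter F)) S.B J ε := by
  classical
  by_cases hp2 : p = 2
  · obtain ⟨J, ε, h, -⟩ := S.exists_perfectIsometry_of_roots (S.eq_two_of_even hp2) (fun χ hχ => by
      have : NeZero (p ^ S.a) := ⟨pow_ne_zero _ hp.out.ne_zero⟩
      obtain ⟨K, hK⟩ := S.secPow_zero χ 1
      obtain ⟨j, hj⟩ := exists_root_two hp2 S.ha rfl (S.isCyclo_secPow χ 1)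
        (normSq_secPow_eq_one S.allEq_one
          (by rw [S.natCard_blk_one, (S.rank_card_of_e_eq_one (S.eq_two_of_even hp2)).2]) hχ) hK
      refine ⟨(j : ZMod (p ^ S.a)), fun w => ?_⟩
      rw [hj w, ← zpsi_natCast, Nat.cast_mul, ZMod.natCast_rightInverse]) m
    exact ⟨J, ε, h⟩
  obtain ⟨R⟩ := S.nonempty_signedRows hp2
  obtain ⟨J, ε, h, -⟩ := R.exists_perfectIsometry m
  exact ⟨J, ε, h⟩

end CycBlock

end CfsgLib.Block
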