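import Cfsg.Agent.Lib.Block.CyclicDescent

/-!
# The subgroups below a cyclic defect group

Stabilisers of the pairs below the maximal pair of a block with cyclic defect group, and the block
of `C(Q)` induced from the block of `C(D)`.
-/

set_option autoImplicit false
set_option linter.unusedSectionVars false

namespace CfsgLib.Block.CycBlock

open Cfsg CfsgLib.Block CfsgLib.BlockA CfsgLib.BlockB CfsgLib.BlockB.HeightBound MonoidAlgebra

universe u

variable {G : Type u} [Group G] [Fintype G] {p : ℕ} [hp : Fact p.Prime] {M : Ideal AlgInt}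
  [M.IsPrime] (S : CycBlock G p M)

local notation "cen" Q => Subgroup.centralizer ((Q : Subgroup G) : Set G)
local notation "cs" y => Subgroup.centralizer (Singleton.singleton y : Set G)

/-- The block of `C(Q)` induced inside `C(Q)` from the maximal pair is the one below it. -/
theorem subpairLE_of_inducedIn {Q : Subgroup G} (hQ : Q ≤ S.D)
    {f : Set (IrrCharacter (cen Q))} (hf : IsInducedBlockIn M (cen Q) (cen S.D) S.eD f) :
    SubpairLE p M Q f S.D S.eD := by
  classical
  obtain ⟨g, hg, hgle⟩ := S.exists_below hQ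
  suffices h : f = g by rw [h]; exact hgle
  have := Fintype.ofFinite (cen Q)
  have hDH : S.D ≤ (cen Q) := fun x hx =>
    Subgroup.mem_centralizer_iff.2 fun y hy => S.commute_mem (hQ hy) hx
  obtain ⟨h₁, h₂, hle⟩ := subpairLE_subBlock S.hM hgle hDH le_rfl
  have hD' : IsBrauerPair p M (S.D.subgroupOf (cen Q)) (subBlock h₂ S.eD) :=
    isBrauerPair_subBlock h₂ S.isBrauerPair_eD
  have hQpair : IsBrauerPair p M (Q.subgroupOf (cen Q)) (subBlock h₁ g) :=
    isBrauerPair_of_subpairLE hD' hle
  have hBQ : IsBrauerPairOf p M g (Q.subgroupOf (cen Q)) (subBlock h₁ g) := by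
    obtain ⟨ξ, hξ⟩ := isPBlock_nonempty hg
    rw [isBrauerPairOf_iff S.hM hQpair hg
      (show irrMap (cenIso h₁) ξ ∈ subBlock h₁ g from ⟨ξ, hξ, rfl⟩)]
    have hcoef : ∀ t : (cen Q), (t : G) ∈ (cen Q) →
        (blkIdem M g : MonoidAlgebra (kres M) (cen Q)).coeff t =
          (sIdem M (cen Q) g).coeff (t : G) := by
      intro t _
      rw [sIdem, coeff_inclSub_of_mem]
    rw [(pairVal_subBlock h₁ ξ (isCInv_sIdem S.hM le_rfl g) hcoef).2,
      pairVal_sIdem S.hM hg, if_pos hξ]
  have hBD := (isBrauerPairOf_iff_of_le S.hM hD' hle hg).2 hBQ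
  have hind' : IsInducedBlock M (Subgroup.centralizer
      ((S.D.subgroupOf (cen Q) : Subgroup (cen Q)) : Set (cen Q))) (subBlock h₂ S.eD) f := by
    refine ⟨hD'.2, hf.2.1, ?_⟩
    rintro _ ⟨ξ, hξ, rfl⟩ χ hχ n
    refine Eq.subst (motive := fun v => MemLocalIdeal M (v - _)) ?_ (hf.2.2 ξ hξ χ hχ n)
    rw [inducedCentralChar, inducedCentralCharIn]
    refine (finsum_mem_eq_of_bijOn (cenIso h₂) ⟨?_, (cenIso h₂).injective.injOn, ?_⟩
      fun k _ => ?_).symm
    · intro k hk
      obtain ⟨c, hc⟩ := isConj_iff.1 hk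
      refine ⟨c⁻¹, ?_⟩
      rw [coe_cenIso, ← hc]
      push_cast
      group
    · rintro l ⟨x, hx⟩
      refine ⟨(cenIso h₂).symm l, isConj_iff.2 ⟨x⁻¹, Subtype.ext ?_⟩,
        (cenIso h₂).apply_symm_apply l⟩
      have hl := coe_cenIso h₂ ((cenIso h₂).symm l)
      rw [MulEquiv.apply_symm_apply] at hl
      push_cast
      rw [← hl, ← hx]
      group
    · rw [irrMap_apply, irrMap_apply, map_one]
  exact isInducedBlock_unique _ hind' (isInducedBlock_of_isBrauerPairOf S.hM hBD)

theorem exists_el_generator {Q : Subgroup G} (hQ : Q ≤ S.D) :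
    ∃ i : ZMod (p ^ S.a), Q = Subgroup.zpowers (S.el i) := by
  have : IsCyclic S.D := S.hu ▸ Subgroup.isCyclic_zpowers S.u
  have : IsCyclic Q := isCyclic_of_injective (Subgroup.inclusion hQ) (Subgroup.inclusion_injective hQ)
  obtain ⟨g, hg⟩ := IsCyclic.exists_generator (α := Q)
  obtain ⟨i, hi⟩ := S.el_surj (hQ g.2)
  refine ⟨i, le_antisymm (fun x hx => ?_) (Subgroup.zpowers_le.2 (hi ▸ g.2))⟩
  obtain ⟨k, hk⟩ := Subgroup.mem_zpowers_iff.1 (hg ⟨x, hx⟩)
  exact Subgroup.mem_zpowers_iff.2 ⟨k, by rw [hi, ← Subgroup.coe_zpow, hk]⟩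

/-- The stabiliser of a pair below is `T C(Q)`. -/
theorem pairStab_below (i : ZMod (p ^ S.a)) :
    pairStab M (Subgroup.zpowers (S.el i)) (S.below i) =
      S.T ⊔ (cen (Subgroup.zpowers (S.el i))) := by
  refine le_antisymm (fun g hg => ?_) (sup_le (fun t ht => ?_) (centralizer_le_pairStab _ _))
  · obtain ⟨c, hc, hcg⟩ := exists_mem_stab_of_abelian S.hM S.hmax
      (fun x hx y hy => S.commute_mem hx hy)
      (isFus_of_mem_pairStab S.hM S.isBrauerPair_eD (S.below_le i) hg)
    rw [map_conj_of_mem_normalizer hg.1] at hc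
    rw [show g = c⁻¹ * (c * g) by group]
    exact mul_mem (Subgroup.mem_sup_right (inv_mem hc)) (Subgroup.mem_sup_left hcg)
  · have hconj := S.act_spec ⟨t, ht⟩ i
    have hN : t ∈ Subgroup.normalizer ((Subgroup.zpowers (S.el i) : Subgroup G) : Set G) := by
      refine mem_normalizer_of_map_le ?_
      rw [MonoidHom.map_zpowers]
      show Subgroup.zpowers (t * S.el i * t⁻¹) ≤ _
      rw [show t * S.el i * t⁻¹ = _ from hconj, S.zpowers_el_unit_mul]
    refine mem_pairStab_of_fus S.hM S.isBrauerPair_eD (S.below_le i) ?_ hN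
    have h := subpairLE_conj S.hM (S.below_le i) t
    have e1 := conjIdx_eq_of_mem S.hM S.isBrauerPair_eD.2 ht
    have h' : SubpairLE p M ((Subgroup.zpowers (S.el i)).map (MulAut.conj t).toMonoidHom)
        (conjBlock _ t (S.below i)) S.D S.eD := by
      unfold SubpairLE at h ⊢
      rwa [e1] at h
    exact ⟨subpairLE_le h', S.below i, S.below_le i, h'⟩

/-- The index of `C(Q)` in the stabiliser is the inertial index. -/
theorem relIndex_below {i : ZMod (p ^ S.a)} (hi : i ≠ 0) :
    (cen (Subgroup.zpowers (S.el i))).relIndex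
      (pairStab M (Subgroup.zpowers (S.el i)) (S.below i)) = S.e := by
  rw [pairStab_below]
  set T' := S.T ⊔ (cen (Subgroup.zpowers (S.el i))) with hT'
  have hn : ((cen (Subgroup.zpowers (S.el i))).subgroupOf T').Normal := by
    refine Subgroup.normal_subgroupOf_of_le_normalizer ?_
    rw [hT', ← pairStab_below]
    exact (pairStab_le _ _).trans (normalizer_le_normalizer_centralizer S.hM _)
  have h := Subgroup.relIndex_sup_right (H := S.T.subgroupOf T')
    (K := (cen (Subgroup.zpowers (S.el i))).subgroupOf T')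
  rw [Subgroup.subgroupOf_sup le_sup_left le_sup_right |>.symm, Subgroup.subgroupOf_self,
    Subgroup.relIndex_top_right, Subgroup.relIndex_subgroupOf le_sup_left] at h
  change ((cen (Subgroup.zpowers (S.el i))).subgroupOf T').index = S.e
  rw [h, ← Subgroup.inf_relIndex_right]
  have hinf : (cen (Subgroup.zpowers (S.el i))) ⊓ S.T = (cen S.D) := by
    refine le_antisymm (fun t ht => ?_)
      (le_inf (centralizer_le_centralizer (S.zpowers_le_D i)) S.cen_le_T)
    refine S.mem_cen_of_fix ht.2 (S.el_mem i) (fun h => hi (S.el_eq_one_iff.1 h)) ?_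
    rw [← Subgroup.mem_centralizer_iff.1 ht.1 _ (Subgroup.mem_zpowers _), mul_inv_cancel_right]
  rw [hinf]
  rfl

/-- The local block: regular rank one and nilpotent. -/
theorem rank_nilpotent_below {i : ZMod (p ^ S.a)} (hi : i ≠ 0) :
    blockRank p (S.below i) = 1 ∧ IsNilpotentBlock p M (S.below i) := by
  have key : ∀ H H' : Subgroup G, H = H' → ∀ (b : Set (IrrCharacter H))
      (b' : Set (IrrCharacter H')), IsPBlock M b → IsPBlock M b' →
      subgroupBlockCoeff H b = subgroupBlockCoeff H' b' →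
      (blockRank p b = 1 ∧ IsNilpotentBlock p M b) →
      (blockRank p b' = 1 ∧ IsNilpotentBlock p M b') := by
    rintro H _ rfl b b' hb hb' he h
    rwa [← subgroupBlockCoeff_injective S.hM hb hb' he]
  exact key _ _ (cen_zpowers (S.el i)).symm _ _ (S.isPBlock_blk i) (S.isPBlock_below i)
    (S.blk_coeff i) ⟨(S.natCard_blk hi).1, S.nilpotent_blk hi⟩

end CfsgLib.Block.CycBlock
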