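import Cfsg.Agent.Lib.Block.StableBlockSimple

/-!
Separated trace functionals of the simple modules attached to the weights of a uniserial block.
-/

set_option autoImplicit false
set_option linter.unusedSectionVars false

namespace CfsgLib.Block

open MonoidAlgebra

universe u v w

namespace StableData

variable {G : Type u} [Group G] [Finite G] {k : Type v} [Field k] {p : ℕ} [hp : Fact p.Prime]
  [CharP k p] [IsAlgClosed k]
variable (S : StableData G k p)

/-- The annihilators of simple modules with live vectors of orthogonal weights are incomparable. -/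
theorem exists_smul_ne {V W : Type w} [AddCommGroup V] [Module (MonoidAlgebra k G) V]
    [Module k V] [IsScalarTower k (MonoidAlgebra k G) V] [IsSimpleModule (MonoidAlgebra k G) V]
    [FiniteDimensional k V] [AddCommGroup W] [Module (MonoidAlgebra k G) W]
    [Module k W] [IsScalarTower k (MonoidAlgebra k G) W] [IsSimpleModule (MonoidAlgebra k G) W]
    [FiniteDimensional k W] {η₁ η₂ : MonoidAlgebra k G} (h₁ : S.Weight η₁) (h₂ : S.Weight η₂)
    (horth : ∀ a, SuppIn S.T a → S.InI (η₁ * a * η₂)) {v : V} (hv : S.IsLive η₁ v) {v' : W}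
    (hv' : S.IsLive η₂ v') :
    ∃ a : MonoidAlgebra k G, (∀ m : V, a • m = 0) ∧ ∃ m : W, a • m ≠ 0 := by
  classical
  by_contra hall
  push Not at hall
  -- the annihilators agree
  have hback : ∀ a : MonoidAlgebra k G, (∀ m : W, a • m = 0) → ∀ m : V, a • m = 0 := by
    intro a ha m
    by_contra hm
    obtain ⟨b, hb1, hb0⟩ := TIData.exists_ideal_one (G := G) hm
    have hb := hb0 (W := W) ha
    have hv0 : v' = 0 := by
      have h := hall (1 - b) (fun z => by rw [sub_smul, one_smul, hb1, sub_self]) v'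
      rwa [sub_smul, one_smul, hb, sub_zero] at h
    exact hv'.2.2 0 (by rw [smul_zero, hv0])
  -- an element acting as a projection onto `v`
  have hv0 : v ≠ 0 := fun h => hv.2.2 0 (by rw [smul_zero, h])
  obtain ⟨φ₀, hφ₀, -⟩ := Submodule.exists_le_ker_of_notMem (p := (⊥ : Submodule k V))
    (v := v) (by simpa using hv0)
  obtain ⟨a, ha⟩ := TIData.exists_smul_eq_end (G := G) (((φ₀ v)⁻¹ • φ₀).smulRight v)
  have hav : a • v = v := by rw [ha]; simp [hφ₀]
  have hX : ∀ m : W, S.X • a • m = 0 := fun m => by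
    rw [smul_smul]
    refine hall _ (fun z => ?_) m
    rw [mul_smul, ha, LinearMap.smulRight_apply, smul_comm, hv.1, smul_zero]
  have hη : ∀ m : W, η₁ • a • m = a • m := fun m => by
    rw [← sub_eq_zero, smul_smul, ← sub_smul]
    refine hall _ (fun z => ?_) m
    rw [sub_smul, mul_smul, ha, LinearMap.smulRight_apply, smul_comm η₁, hv.2.1, sub_self]
  by_cases hlive : ∃ m : W, ∀ z : W, S.X ^ (S.q - 1) • z ≠ a • m
  · obtain ⟨m, hm⟩ := hlive
    exact S.live_unique h₁ h₂ horth ⟨hX m, hη m, hm⟩ hv'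
  · push Not at hlive
    choose g hg using hlive
    let e := Module.finBasis k W
    obtain ⟨c, hc⟩ := TIData.exists_smul_eq_end (G := G) (e.constr k fun i => g (e i))
    have hker : ∀ m : W, (a - S.X ^ (S.q - 1) * c) • m = 0 := by
      intro m
      have h : Algebra.lsmul k k W (a - S.X ^ (S.q - 1) * c) = 0 := e.ext fun i => by
        rw [Algebra.lsmul_coe, LinearMap.zero_apply]
        change (a - S.X ^ (S.q - 1) * c) • e i = 0
        rw [sub_smul, mul_smul, hc, Module.Basis.constr_basis, hg, sub_self]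
      exact LinearMap.congr_fun h m
    have h := hback _ hker v
    rw [sub_smul, hav, mul_smul, sub_eq_zero] at h
    exact hv.2.2 _ h.symm

/-- A simple section of the regular module on which `E` acts trivially, with a live vector. -/
theorem exists_simple_live {η E : MonoidAlgebra k G} (hη : S.Weight η)
    (hE : ∀ a, E * a = a * E) (hEE : E * E = E) (hEη : ¬ S.InI (projT S.T E * η)) :
    ∃ (J : Submodule (MonoidAlgebra k G) (MonoidAlgebra k G))
      (U : Submodule (MonoidAlgebra k G) (MonoidAlgebra k G ⧸ J))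
      (U' : Submodule (MonoidAlgebra k G) U),
      IsSimpleModule (MonoidAlgebra k G) (U ⧸ U') ∧ (∀ m : U ⧸ U', E • m = m) ∧
      ∃ v : U ⧸ U', S.IsLive η v := by
  obtain ⟨J, v₀, hv₀, hv₀E⟩ := S.exists_live_regular hη hE hEη
  have : IsArtinian (MonoidAlgebra k G) (MonoidAlgebra k G) :=
    isArtinian_of_tower k inferInstance
  have : IsNoetherian (MonoidAlgebra k G) (MonoidAlgebra k G) :=
    isNoetherian_of_tower k inferInstance
  set M₀ := Submodule.span (MonoidAlgebra k G) {v₀} with hM₀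
  have hv₀' : S.IsLive η (⟨v₀, Submodule.mem_span_singleton_self v₀⟩ : M₀) :=
    ⟨Subtype.ext hv₀.1, Subtype.ext hv₀.2.1, fun z hz => hv₀.2.2 z (congrArg Subtype.val hz)⟩
  obtain ⟨U, ⟨hUM, v, hv⟩, hmin⟩ := IsArtinian.set_has_minimal
    {U : Submodule (MonoidAlgebra k G) (MonoidAlgebra k G ⧸ J) | U ≤ M₀ ∧ ∃ v : U, S.IsLive η v}
    ⟨M₀, le_rfl, _, hv₀'⟩
  have : Nontrivial U := nontrivial_of_ne v 0 fun h => hv.2.2 0 (by rw [smul_zero, h])
  obtain ⟨U', hU'⟩ := IsCoatomic.exists_coatom (α := Submodule (MonoidAlgebra k G) U)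
  refine ⟨J, U, U', isSimpleModule_iff_isCoatom.2 hU', fun m => ?_, ?_⟩
  · obtain ⟨⟨y, hy⟩, rfl⟩ := Submodule.Quotient.mk_surjective _ m
    rw [← Submodule.Quotient.mk_smul]
    congr 1
    obtain ⟨a, rfl⟩ := Submodule.mem_span_singleton.1 (hUM hy)
    refine Subtype.ext ?_
    change E • a • v₀ = a • v₀
    rw [smul_smul, hE a, mul_smul, hv₀E, ← Submodule.Quotient.mk_smul, smul_eq_mul, hEE]
  refine (S.exists_live_sub_or_quot hη U' hv).resolve_left ?_
  rintro ⟨⟨⟨w, hw0⟩, hw⟩, hwl⟩
  have hmem : w ∈ U'.map U.subtype := ⟨⟨w, hw0⟩, hw, rfl⟩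
  refine hmin (U'.map U.subtype) ⟨(Submodule.map_subtype_le U U').trans hUM, ⟨w, hmem⟩, ?_, ?_,
    fun z hz => ?_⟩ ?_
  · exact Subtype.ext (congrArg (fun t : U' => ((t : U) : MonoidAlgebra k G ⧸ J)) hwl.1 :)
  · exact Subtype.ext (congrArg (fun t : U' => ((t : U) : MonoidAlgebra k G ⧸ J)) hwl.2.1 :)
  · obtain ⟨_, ⟨z, hz', rfl⟩⟩ := z
    exact hwl.2.2 ⟨z, hz'⟩ (Subtype.ext (Subtype.ext (congrArg Subtype.val hz :)))
  · refine lt_of_le_of_ne (Submodule.map_subtype_le U U') fun h => hU'.1 (eq_top_iff.2 ?_)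
    rintro ⟨z, hz⟩ -
    rw [← h] at hz
    obtain ⟨z', hz', hzz⟩ := hz
    rwa [show (⟨z, _⟩ : U) = z' from Subtype.ext hzz.symm]

/-- Separated trace functionals attached to pairwise orthogonal weights, trivial on `1 - E`. -/
theorem exists_trace_functionals {ι : Type*} [Finite ι] (η : ι → MonoidAlgebra k G)
    (hη : ∀ i, S.Weight (η i))
    (horth : ∀ i j, i ≠ j → ∀ a, SuppIn S.T a → S.InI (η i * a * η j))
    {E : MonoidAlgebra k G} (hE : ∀ a, E * a = a * E) (hEE : E * E = E)
    (hEη : ∀ i, ¬ S.InI (projT S.T E * η i)) :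
    ∃ (τ : ι → (MonoidAlgebra k G →ₗ[k] k)) (b : ι → MonoidAlgebra k G),
      (∀ i, τ i (b i) = 1) ∧ (∀ i j, i ≠ j → τ i (b j) = 0) ∧
      (∀ i (a : MonoidAlgebra k G), τ i (E * a) = τ i a) ∧
      (∀ i (y z : G), Commute y z → (∃ m : ℕ, y ^ p ^ m = 1) →
        τ i (of k G (y * z)) = τ i (of k G z)) ∧
      (∀ i (a c : MonoidAlgebra k G), τ i (a * c) = τ i (c * a)) := by
  classical
  have := Fintype.ofFinite ι
  choose J U U' hsimple hEact v hv using fun i => S.exists_simple_live (hη i) hE hEE (hEη i)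
  have hfin : ∀ i, FiniteDimensional k (U i ⧸ U' i) := fun i => by
    have : Module.Finite k (MonoidAlgebra k G ⧸ J i) :=
      Module.Finite.of_surjective (M := MonoidAlgebra k G) (R := k)
        ((J i).mkQ.restrictScalars k) (fun y => (J i).mkQ_surjective y)
    have : Module.Finite k (U i) := Module.Finite.of_injective ((U i).subtype.restrictScalars k)
      Subtype.val_injective
    exact Module.Finite.of_surjective (M := U i) (R := k) (((U' i).mkQ).restrictScalars k)
      (fun y => (U' i).mkQ_surjective y)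
  have hsep : ∀ (j : ι) (s : Finset ι), j ∉ s → ∃ b : MonoidAlgebra k G,
      (∀ m : U j ⧸ U' j, b • m = m) ∧ ∀ i ∈ s, ∀ m : U i ⧸ U' i, b • m = 0 := by
    intro j s
    induction s using Finset.induction with
    | empty => exact fun _ => ⟨1, one_smul _, by simp⟩
    | insert i s hi ih =>
      intro hj
      simp only [Finset.mem_insert, not_or] at hj
      obtain ⟨b, hb1, hb0⟩ := ih hj.2
      obtain ⟨a, ha0, m, hm⟩ := S.exists_smul_ne (hη i) (hη j) (horth i j (Ne.symm hj.1)) (hv i) (hv j)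
      obtain ⟨c, hc1, hc0⟩ := TIData.exists_ideal_one (G := G) hm
      have hc := hc0 (W := U i ⧸ U' i) ha0
      refine ⟨b * c, fun m => by rw [mul_smul, hc1, hb1], fun l hl m => ?_⟩
      rcases Finset.mem_insert.1 hl with rfl | hl
      · rw [mul_smul, hc, smul_zero]
      · rw [mul_smul, hb0 l hl]
  let τ : ι → (MonoidAlgebra k G →ₗ[k] k) := fun i =>
    (LinearMap.trace k (U i ⧸ U' i)) ∘ₗ (Algebra.lsmul k k (U i ⧸ U' i)).toLinearMap
  have hτ : ∀ i a, τ i a = LinearMap.trace k (U i ⧸ U' i) (Algebra.lsmul k k (U i ⧸ U' i) a) :=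
    fun i a => rfl
  have hb : ∀ j, ∃ b : MonoidAlgebra k G, τ j b = 1 ∧ ∀ i, i ≠ j → τ i b = 0 := by
    intro j
    obtain ⟨b, hb1, hb0⟩ := hsep j (Finset.univ.erase j) (Finset.notMem_erase j _)
    obtain ⟨φ₀, hφ₀, -⟩ := Submodule.exists_le_ker_of_notMem
      (p := (⊥ : Submodule k (U j ⧸ U' j))) (v := v j)
      (by simpa using fun h => (hv j).2.2 0 (by rw [smul_zero, h]))
    obtain ⟨c, hc⟩ := TIData.exists_smul_eq_end (G := G) (((φ₀ (v j))⁻¹ • φ₀).smulRight (v j))
    refine ⟨c * b, ?_, fun i hi => ?_⟩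
    · rw [hτ, show Algebra.lsmul k k (U j ⧸ U' j) (c * b) = ((φ₀ (v j))⁻¹ • φ₀).smulRight (v j) from
        LinearMap.ext fun m => by
          rw [← hc]; change (c * b) • m = c • m; rw [mul_smul, hb1],
        LinearMap.trace_smulRight]
      simp [hφ₀]
    · rw [hτ, show Algebra.lsmul k k (U i ⧸ U' i) (c * b) = 0 from LinearMap.ext fun m => by
        change (c * b) • m = 0
        rw [mul_smul, hb0 i (Finset.mem_erase.2 ⟨hi, Finset.mem_univ i⟩), smul_zero], map_zero]
  choose b hb1 hb0 using hb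
  refine ⟨τ, b, hb1, fun i j h => hb0 j i h, fun i a => ?_, fun i y z hc hy => ?_, ?_⟩
  · rw [hτ, hτ]
    congr 1
    refine LinearMap.ext fun m => ?_
    change (E * a) • m = a • m
    rw [mul_smul, hEact i]
  · obtain ⟨n, hn⟩ := hy
    rw [hτ, hτ, ← sub_eq_zero, ← map_sub, ← map_sub]
    refine IsNilpotent.eq_zero (LinearMap.isNilpotent_trace_of_isNilpotent
      (IsNilpotent.map ?_ (Algebra.lsmul k k (U i ⧸ U' i))))
    have hpoly : (Polynomial.X - 1 : Polynomial k) ^ p ^ n = Polynomial.X ^ p ^ n - 1 := by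
      rw [sub_pow_char_pow, one_pow]
    have h := congrArg (Polynomial.aeval (of k G y)) hpoly
    simp only [map_pow, map_sub, Polynomial.aeval_X, map_one] at h
    rw [← map_pow, hn, map_one, sub_self] at h
    rw [map_mul, ← sub_one_mul]
    exact (Commute.sub_left (hc.map (of k G)) (Commute.one_left _)).isNilpotent_mul_right ⟨_, h⟩
  · intro i a c
    rw [hτ, hτ, map_mul (Algebra.lsmul k k (U i ⧸ U' i)),
      map_mul (Algebra.lsmul k k (U i ⧸ U' i)), LinearMap.trace_mul_comm]

end StableData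

end CfsgLib.Block
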