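import Cfsg.Agent.Lib.Block.StableBlock
import Mathlib.RingTheory.RootsOfUnity.AlgebraicallyClosed
import Mathlib.RingTheory.IntegralDomain
import Mathlib.Algebra.CharP.Lemmas

/-!
The weights of stable data with cyclic quotient: the corner at `eps` of the algebra of the
stabilizer is, modulo `X`, the group algebra of the cyclic quotient.
-/

set_option autoImplicit false
set_option linter.unusedSectionVars false
set_option maxHeartbeats 1000000

namespace CfsgLib.Block.StableData

open MonoidAlgebra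

universe u v

variable {G : Type u} [Group G] [Finite G] {k : Type v} [Field k] {p : ℕ} [hp : Fact p.Prime]
variable (S : StableData G k p)

theorem inI_zero' : S.InI 0 := ⟨0, suppIn_zero _, (mul_zero _).symm⟩

theorem inI_smul' (r : k) {a : MonoidAlgebra k G} (ha : S.InI a) : S.InI (r • a) := by
  obtain ⟨a', ha', rfl⟩ := ha
  exact ⟨r • a', suppIn_smul _ ha', (mul_smul_comm _ _ _).symm⟩

theorem inI_sub' {a c : MonoidAlgebra k G} (ha : S.InI a) (hc : S.InI c) : S.InI (a - c) := by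
  obtain ⟨a', ha', rfl⟩ := ha
  obtain ⟨c', hc', rfl⟩ := hc
  exact ⟨a' - c', suppIn_sub ha' hc', (mul_sub _ _ _).symm⟩

theorem inI_sum' {ι : Type*} (s : Finset ι) (f : ι → MonoidAlgebra k G)
    (h : ∀ i ∈ s, S.InI (f i)) : S.InI (∑ i ∈ s, f i) :=
  Finset.sum_induction _ S.InI (fun _ _ => S.inI_add) S.inI_zero' h

theorem X_pow_b_zero_of_inI {a : MonoidAlgebra k G} (hC : SuppIn S.C a) (ha : S.InI a) :
    S.X ^ (S.q - 1) * a = 0 := by
  classical
  obtain ⟨c, -, hac⟩ := ha
  have h : a = S.X * projT S.C c := by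
    rw [← projT_mul_left S.hXC, ← hac]
    ext g
    rw [coeff_projT]
    split_ifs with hg
    · rfl
    · exact hC g hg
  rw [h, ← mul_assoc, ← pow_succ, Nat.sub_add_cancel (le_trans one_le_two S.hq), S.hXq, zero_mul]

theorem suppIn_conj' {t : G} (ht : t ∈ S.T) {a : MonoidAlgebra k G} (ha : SuppIn S.C a) :
    SuppIn S.C (of k G t * a * of k G t⁻¹) := by
  classical
  have := Fintype.ofFinite G
  rw [eq_sum_of_suppIn ha, Finset.mul_sum, Finset.sum_mul]
  refine Finset.sum_induction _ (SuppIn S.C) (fun _ _ => suppIn_add) (suppIn_zero _) fun g hg => ?_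
  rw [mul_smul_comm, smul_mul_assoc, ← map_mul, ← map_mul]
  exact suppIn_smul _ (suppIn_of (S.hnorm t ht g (Finset.mem_filter.1 hg).2))

/-- An element supported on the coset of `t`. -/
def Pre (t : G) (x : MonoidAlgebra k G) : Prop := ∃ a, SuppIn S.C a ∧ x = of k G t * a

theorem pre_supp {t : G} (ht : t ∈ S.T) {x : MonoidAlgebra k G} (hx : S.Pre t x) :
    SuppIn S.T x := by
  obtain ⟨a, ha, rfl⟩ := hx
  exact suppIn_mul (suppIn_of ht) (suppIn_mono S.hCT ha)

theorem pre_of_suppIn {x : MonoidAlgebra k G} (hx : SuppIn S.C x) : S.Pre 1 x :=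
  ⟨x, hx, by rw [map_one, one_mul]⟩

theorem pre_mul {s t : G} (ht : t ∈ S.T) {x y : MonoidAlgebra k G} (hx : S.Pre s x)
    (hy : S.Pre t y) : S.Pre (s * t) (x * y) := by
  obtain ⟨a, ha, rfl⟩ := hx
  obtain ⟨c, hc, rfl⟩ := hy
  refine ⟨of k G t⁻¹ * a * of k G t⁻¹⁻¹ * c,
    suppIn_mul (S.suppIn_conj' (inv_mem ht) ha) hc, ?_⟩
  rw [inv_inv, map_mul]
  simp only [mul_assoc]
  rw [← mul_assoc (of k G t) (of k G t⁻¹), ← map_mul, mul_inv_cancel, map_one, one_mul]

theorem pre_smul {t : G} (r : k) {x : MonoidAlgebra k G} (hx : S.Pre t x) : S.Pre t (r • x) := by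
  obtain ⟨a, ha, rfl⟩ := hx
  exact ⟨r • a, suppIn_smul _ ha, (mul_smul_comm _ _ _).symm⟩

theorem suppIn_of_pre {t : G} (ht : t ∈ S.C) {x : MonoidAlgebra k G} (hx : S.Pre t x) :
    SuppIn S.C x := by
  obtain ⟨a, ha, rfl⟩ := hx
  exact suppIn_mul (suppIn_of ht) ha

theorem b_ne_inI (hXq1 : S.b * S.X ^ (S.q - 1) ≠ 0) : ¬ S.InI S.b := fun h =>
  hXq1 (by rw [S.hbT' (suppIn_X_pow S _) |>.symm, S.X_pow_b_zero_of_inI S.hbC h])

theorem X_pow_eps_ne_zero (hXq1 : S.b * S.X ^ (S.q - 1) ≠ 0) : S.X ^ (S.q - 1) * S.eps ≠ 0 := by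
  intro h
  apply hXq1
  obtain ⟨n, a, c, ha, hc, hbd⟩ := S.hfull
  rw [hbd, Finset.sum_mul]
  refine Finset.sum_eq_zero fun i _ => ?_
  have hcomm : ∀ {y : MonoidAlgebra k G}, SuppIn S.C y →
      Commute y (S.X ^ (S.q - 1)) := fun hy => (show Commute _ S.X from S.X_comm hy).pow_right _
  rw [mul_assoc, (hcomm (hc i)).eq, ← mul_assoc, mul_assoc (a i), (hcomm S.hepsC).eq, h, mul_zero,
    zero_mul]

theorem smul_eps_not_inI (hXq1 : S.b * S.X ^ (S.q - 1) ≠ 0) {r : k} (h : S.InI (r • S.eps)) :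
    r = 0 := by
  have h1 := S.X_pow_b_zero_of_inI (suppIn_smul r S.hepsC) h
  rw [mul_smul_comm, smul_eq_zero] at h1
  exact h1.resolve_right (S.X_pow_eps_ne_zero hXq1)

theorem exists_corner_scalar {x : MonoidAlgebra k G} (hx : SuppIn S.C x)
    (hcor : S.eps * x * S.eps = x) :
    ∃ f : ℕ → k, x = ∑ i ∈ Finset.range S.q, f i • (S.X ^ i * S.eps) ∧
      S.InI (x - f 0 • S.eps) := by
  obtain ⟨f, hf⟩ := S.heps x hx
  rw [hcor] at hf
  refine ⟨f, hf, ?_⟩
  have hq0 : 0 ∈ Finset.range S.q := Finset.mem_range.2 (lt_of_lt_of_le two_pos S.hq)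
  rw [hf, ← Finset.add_sum_erase _ _ hq0, pow_zero, one_mul, add_sub_cancel_left]
  refine S.inI_sum' _ _ fun i hi => S.inI_smul' _ ?_
  obtain ⟨n, hn⟩ := Nat.exists_eq_succ_of_ne_zero (Finset.mem_erase.1 hi).1
  exact ⟨S.X ^ n * S.eps, suppIn_mul (S.suppIn_X_pow n) (suppIn_mono S.hCT S.hepsC), by
    rw [hn, pow_succ', mul_assoc]⟩

variable [CharP k p] [IsAlgClosed k]

/-- **The weights**, one for each character of the cyclic quotient. -/
theorem exists_cyclic_weights (hXq1 : S.b * S.X ^ (S.q - 1) ≠ 0) {γ : G} (hγ : γ ∈ S.T)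
    (hγC : ∀ l : ℕ, γ ^ l ∈ S.C ↔ S.C.relIndex S.T ∣ l)
    (hdec : ∀ t ∈ S.T, ∃ l : ℕ, (γ ^ l)⁻¹ * t ∈ S.C) :
    ∃ η : Fin (S.C.relIndex S.T) → MonoidAlgebra k G, (∀ j, S.Weight (η j)) ∧
      (∀ i j, i ≠ j → ∀ a, SuppIn S.T a → S.InI (η i * a * η j)) ∧
      ∀ Z, SuppIn S.T Z → S.InI (Z * S.b - S.b) → ∀ j, ¬ S.InI (Z * η j) := by
  classical
  have := Fintype.ofFinite G
  set m := S.C.relIndex S.T with hm
  have hm0 : 0 < m := Nat.pos_of_ne_zero (Subgroup.index_ne_zero_of_finite)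
  have hmk : (m : k) ≠ 0 := fun h => S.hidx ((CharP.cast_eq_zero_iff k p _).1 h)
  set ε := S.eps with hε
  have hεT : SuppIn S.T ε := suppIn_mono S.hCT S.hepsC
  obtain ⟨nf, af, cf, haf, hcf, hbd⟩ := S.hfull
  have hεb : ε * S.b = ε := S.hepsb
  have hbε : S.b * ε = ε := by rw [← S.hbT' hεT, hεb]
  have hεpre : S.Pre 1 ε := S.pre_of_suppIn S.hepsC
  have hε0 : ¬ S.InI ε := fun h =>
    one_ne_zero (S.smul_eps_not_inI hXq1 (r := (1 : k)) (by rwa [one_smul]))
  -- an element of degree `γ` outside `X k[T]`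
  obtain ⟨u0, hu0p, hu0e, hu0e', hu0⟩ : ∃ u0, S.Pre γ u0 ∧ ε * u0 = u0 ∧ u0 * ε = u0 ∧
      ¬ S.InI u0 := by
    by_contra h
    push Not at h
    apply S.b_ne_inI hXq1
    have h1 : S.InI (of k G γ * S.b) := by
      have e : of k G γ * S.b = ∑ i, ∑ j,
          af i * (ε * cf i * of k G γ * af j * ε) * cf j := by
        calc of k G γ * S.b = S.b * of k G γ * S.b := by
              rw [← S.hbT γ hγ, mul_assoc, S.hbb]
          _ = _ := by
              rw [hbd, Finset.sum_mul, Finset.sum_mul]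
              refine Finset.sum_congr rfl fun i _ => ?_
              rw [Finset.mul_sum]
              exact Finset.sum_congr rfl fun j _ => by simp only [mul_assoc, ← hε]
      rw [e]
      refine S.inI_sum' _ _ fun i _ => S.inI_sum' _ _ fun j _ => ?_
      refine S.inI_mul_right (S.inI_mul_left ?_ (suppIn_mono S.hCT (haf i)))
        (suppIn_mono S.hCT (hcf j))
      refine h _ ?_ ?_ ?_
      · have h1 := S.pre_mul (one_mem _) (S.pre_mul (one_mem _) (S.pre_mul hγ
          (S.pre_of_suppIn (suppIn_mul S.hepsC (hcf i))) ⟨1, suppIn_one _, (mul_one _).symm⟩)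
          (S.pre_of_suppIn (haf j))) hεpre
        simpa using h1
      · simp only [← mul_assoc]; rw [hε, S.hee]
      · simp only [mul_assoc]; rw [hε, S.hee]
    have h2 := S.inI_mul_left h1 (suppIn_of (k := k) (inv_mem hγ))
    rwa [← mul_assoc, ← map_mul, inv_mul_cancel, map_one, one_mul] at h2
  have hu0T : SuppIn S.T u0 := S.pre_supp hγ hu0p
  -- a right inverse modulo `X`
  obtain ⟨v, lam', hvT, hlam, hlam0⟩ : ∃ (v : MonoidAlgebra k G) (r : k), SuppIn S.T v ∧
      S.InI (u0 * v - r • ε) ∧ r ≠ 0 := by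
    by_contra h
    push Not at h
    apply hu0
    have e : u0 = ∑ i, u0 * (ε * of k G γ⁻¹ * af i * ε) * (cf i * of k G γ * ε) := by
      calc u0 = u0 * ε * (of k G γ⁻¹ * S.b * of k G γ) * ε := by
            rw [← S.hbT' (suppIn_of (inv_mem hγ)) |>.symm, mul_assoc S.b, ← map_mul, inv_mul_cancel,
              map_one, mul_one, mul_assoc u0, hεb, hu0e', hu0e']
        _ = _ := by
            rw [hbd, Finset.mul_sum, Finset.sum_mul, Finset.mul_sum, Finset.sum_mul]
            refine Finset.sum_congr rfl fun i _ => ?_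
            simp only [mul_assoc, ← hε]
    rw [e]
    refine S.inI_sum' _ _ fun i _ => S.inI_mul_right ?_
      (suppIn_mul (suppIn_mul (suppIn_mono S.hCT (hcf i)) (suppIn_of hγ)) hεT)
    set w := ε * of k G γ⁻¹ * af i * ε with hw
    have hwp : S.Pre γ⁻¹ w := by
      have h1 := S.pre_mul (one_mem _) (S.pre_mul (one_mem _) (S.pre_mul (inv_mem hγ) hεpre
        ⟨1, suppIn_one _, (mul_one _).symm⟩) (S.pre_of_suppIn (haf i))) hεpre
      simp only [one_mul, mul_one] at h1
      exact h1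
    have hwC : SuppIn S.C (u0 * w) := by
      refine S.suppIn_of_pre (one_mem _) ?_
      have h1 := S.pre_mul (inv_mem hγ) hu0p hwp
      rwa [mul_inv_cancel] at h1
    obtain ⟨f, -, hf⟩ := S.exists_corner_scalar hwC (by
      rw [← hε, ← mul_assoc ε, hu0e, mul_assoc, show w * ε = w by rw [hw, mul_assoc, S.hee]])
    have hf0 : f 0 = 0 := h w (f 0) (S.pre_supp (inv_mem hγ) hwp) hf
    rwa [hf0, zero_smul, sub_zero] at hf
  -- the power `u0 ^ m` is a unit modulo `X`
  have hu0pow : ∀ l : ℕ, S.Pre (γ ^ l) (ε * u0 ^ l) ∧ ε * u0 ^ l * ε = ε * u0 ^ l := by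
    intro l
    induction l with
    | zero => exact ⟨by rw [pow_zero, pow_zero, mul_one]; exact hεpre, by
        rw [pow_zero, mul_one, hε, S.hee]⟩
    | succ l ih =>
      refine ⟨?_, ?_⟩
      · rw [pow_succ, pow_succ, ← mul_assoc]
        exact S.pre_mul hγ ih.1 hu0p
      · rw [pow_succ, ← mul_assoc, mul_assoc, hu0e']
  obtain ⟨f, hfeq, hfI⟩ := S.exists_corner_scalar
    (S.suppIn_of_pre ((hγC m).2 dvd_rfl) (hu0pow m).1) (by
      rw [← hε, ← mul_assoc ε ε, hε, S.hee, ← hε, (hu0pow m).2])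
  have hf0 : f 0 ≠ 0 := by
    intro h0
    rw [h0, zero_smul, sub_zero] at hfI
    have hdown : ∀ l, S.InI (ε * u0 ^ (l + 1)) → S.InI (ε * u0 ^ l) := by
      intro l hl
      have h1 : S.InI (lam' • (ε * u0 ^ l)) := by
        have e : lam' • (ε * u0 ^ l) =
            ε * u0 ^ (l + 1) * v - (ε * u0 ^ l) * (u0 * v - lam' • ε) := by
          rw [mul_sub, mul_smul_comm, (hu0pow l).2, ← mul_assoc, mul_assoc (ε) (u0 ^ l) u0,
            ← pow_succ, sub_sub_cancel]
        rw [e]
        exact S.inI_sub' (S.inI_mul_right hl hvT)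
          (S.inI_mul_left hlam (suppIn_mul hεT (suppIn_pow hu0T l)))
      have h2 := S.inI_smul' lam'⁻¹ h1
      rwa [smul_smul, inv_mul_cancel₀ hlam0, one_smul] at h2
    have hall : ∀ j, j ≤ m → S.InI (ε * u0 ^ (m - j)) := by
      intro j
      induction j with
      | zero => exact fun _ => by rwa [Nat.sub_zero]
      | succ j ih =>
        intro hj
        refine hdown _ ?_
        rw [show m - (j + 1) + 1 = m - j by omega]
        exact ih (by omega)
    have h := hall m le_rfl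
    rw [Nat.sub_self, pow_zero, mul_one] at h
    exact hε0 h
  -- normalize
  set N := (f 0)⁻¹ • ∑ i ∈ (Finset.range S.q).erase 0, f i • (S.X ^ i * ε) with hN
  have hq0 : 0 ∈ Finset.range S.q := Finset.mem_range.2 (lt_of_lt_of_le two_pos S.hq)
  have hu0m : ε * u0 ^ m = f 0 • (ε + N) := by
    rw [smul_add, hN, smul_smul, mul_inv_cancel₀ hf0, one_smul, hfeq,
      ← Finset.add_sum_erase _ _ hq0, pow_zero, one_mul, hε]
  obtain ⟨M, hM⟩ : ∃ M, S.q ≤ p ^ M := ⟨S.q, (Nat.lt_pow_self hp.out.one_lt).le⟩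
  have hNq : N ^ (p ^ M) = 0 := by
    obtain ⟨n, hn⟩ : ∃ n, SuppIn S.C n ∧ N = S.X * n := by
      refine ⟨(f 0)⁻¹ • ∑ i ∈ (Finset.range S.q).erase 0, f i • (S.X ^ (i - 1) * ε),
        suppIn_smul _ (Finset.sum_induction _ (SuppIn S.C) (fun _ _ => suppIn_add) (suppIn_zero _)
          fun i _ => suppIn_smul _ (suppIn_mul (suppIn_pow S.hXC _) S.hepsC)), ?_⟩
      rw [hN, mul_smul_comm, Finset.mul_sum]
      congr 1
      refine Finset.sum_congr rfl fun i hi => ?_
      obtain ⟨j, rfl⟩ := Nat.exists_eq_succ_of_ne_zero (Finset.mem_erase.1 hi).1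
      rw [mul_smul_comm, ← mul_assoc, ← pow_succ', Nat.succ_sub_one]
    rw [hn.2, (show Commute S.X n from (S.X_comm hn.1).symm).mul_pow,
      show p ^ M = S.q + (p ^ M - S.q) by omega, pow_add, S.hXq, zero_mul, zero_mul]
  have hεN : Commute ε N := by
    show ε * N = N * ε
    simp only [hN, mul_smul_comm, smul_mul_assoc, Finset.mul_sum, Finset.sum_mul]
    congr 1
    refine Finset.sum_congr rfl fun i _ => ?_
    congr 1
    rw [← mul_assoc, (S.commute_eps.pow_right i).eq]
  have hεu0 : Commute ε u0 := hu0e.trans hu0e'.symm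
  have hεεpow : ∀ n : ℕ, n ≠ 0 → ε ^ n = ε := fun n hn => by
    obtain ⟨n', rfl⟩ := Nat.exists_eq_succ_of_ne_zero hn
    exact IsIdempotentElem.pow_succ_eq n' (by rw [hε]; exact S.hee)
  have := MonoidAlgebra.of k G
  have hpow : (ε + N) ^ (p ^ M) = ε := by
    have : CharP (MonoidAlgebra k G) p := charP_of_injective_algebraMap
      (algebraMap k (MonoidAlgebra k G)).injective p
    rw [add_pow_char_pow_of_commute _ _ hεN, hNq, add_zero,
      hεεpow _ (pow_ne_zero _ hp.out.ne_zero)]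
  obtain ⟨r, hr⟩ := IsAlgClosed.exists_pow_nat_eq ((f 0) ^ (p ^ M))⁻¹ hm0
  set u := r • (ε * u0 ^ (p ^ M)) with hu
  let g : ℕ → MonoidAlgebra k G := fun l => ε * u ^ l
  have hεu : Commute ε u := (((Commute.refl ε).mul_right (hεu0.pow_right _))).smul_right r
  have hgp : ∀ l, S.Pre (γ ^ (p ^ M * l)) (g l) := by
    intro l
    induction l with
    | zero => simpa [g] using hεpre
    | succ l ih =>
      simp only [g] at ih ⊢
      rw [pow_succ, ← mul_assoc, Nat.mul_succ, pow_add]
      exact S.pre_mul (pow_mem hγ _) ih (S.pre_smul r (hu0pow _).1)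
  have hgT : ∀ l, SuppIn S.T (g l) := fun l => S.pre_supp (pow_mem hγ _) (hgp l)
  have hgmul : ∀ i j, g i * g j = g (i + j) := fun i j => by
    simp only [g]
    rw [pow_add, mul_assoc, ← mul_assoc (u ^ i), ← (hεu.pow_right i).eq, ← mul_assoc,
      ← mul_assoc, ← mul_assoc, show ε * ε = ε by rw [hε]; exact S.hee]
  have hgεl : ∀ l, ε * g l = g l := fun l => by
    simp only [g, ← mul_assoc]; rw [show ε * ε = ε by rw [hε]; exact S.hee]
  have hgεr : ∀ l, g l * ε = g l := fun l => by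
    simp only [g]; rw [mul_assoc, ← (hεu.pow_right l).eq, ← mul_assoc,
      show ε * ε = ε by rw [hε]; exact S.hee]
  have hg0 : g 0 = ε := by simp [g]
  have hgm : g m = ε := by
    have e1 : u ^ m = r ^ m • (ε * u0 ^ m) ^ (p ^ M) := by
      rw [hu, smul_pow, (hεu0.pow_right (p ^ M)).mul_pow,
        (hεu0.pow_right m).mul_pow, hεεpow _ hm0.ne', hεεpow _ (pow_ne_zero _ hp.out.ne_zero),
        ← pow_mul, ← pow_mul, mul_comm m]
    simp only [g]
    rw [e1, hu0m, smul_pow, smul_smul, hpow, hr, inv_mul_cancel₀ (pow_ne_zero _ hf0), one_smul,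
      hε, S.hee]
  have hgper : ∀ i, g (i % m) = g i := fun i => by
    have h : ∀ j, g (i % m + m * j) = g (i % m) := by
      intro j
      induction j with
      | zero => simp
      | succ j ih => rw [Nat.mul_succ, ← add_assoc, ← hgmul, hgm, ih, hgεr]
    rw [← h (i / m), Nat.mod_add_div]
  -- modulo `X` the corner is spanned by the powers of `u`
  have hcop : Nat.Coprime (p ^ M) m := Nat.Coprime.pow_left _
    ((Nat.Prime.coprime_iff_not_dvd hp.out).2 S.hidx)
  have hspan : ∀ a, SuppIn S.T a → ∃ s : Fin m → k,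
      S.InI (ε * a * ε - ∑ l, s l • g l) := by
    have hone : ∀ t ∈ S.T, ∃ s : Fin m → k, S.InI (ε * of k G t * ε - ∑ l, s l • g l) := by
      intro t ht
      obtain ⟨l, hl⟩ := hdec t ht
      obtain ⟨j, hj⟩ : ∃ j, m ∣ l + p ^ M * j := by
        have : NeZero m := ⟨hm0.ne'⟩
        refine ⟨(((ZMod.unitOfCoprime _ hcop)⁻¹ : (ZMod m)ˣ) * (-(l : ZMod m))).val, ?_⟩
        rw [← ZMod.natCast_eq_zero_iff, Nat.cast_add, Nat.cast_mul, ZMod.natCast_rightInverse,
          ← ZMod.coe_unitOfCoprime _ hcop, ← mul_assoc, Units.mul_inv, one_mul, add_neg_cancel]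
      set x := ε * of k G t * ε with hx
      have hxp : S.Pre (γ ^ l) x := by
        have h1 : S.Pre (γ ^ l) (of k G t) := ⟨_, suppIn_of hl, by
          rw [← map_mul, mul_inv_cancel_left]⟩
        have h2 := S.pre_mul (one_mem _) (S.pre_mul (pow_mem hγ l) hεpre h1) hεpre
        simp only [one_mul, mul_one] at h2
        exact h2
      have hxC : SuppIn S.C (x * g j) := S.suppIn_of_pre
        (by rw [← pow_add]; exact (hγC _).2 hj) (S.pre_mul (pow_mem hγ _) hxp (hgp j))
      obtain ⟨s, -, hs⟩ := S.exists_corner_scalar hxC (by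
        rw [← hε, mul_assoc (ε), mul_assoc x, hgεr, hx, ← mul_assoc, ← mul_assoc ε, ← mul_assoc ε,
          show ε * ε = ε by rw [hε]; exact S.hee])
      set j' := (m - j % m) % m with hj'
      have hjj : (j + j') % m = 0 := by
        rw [hj', Nat.add_mod_mod]
        have h1 := Nat.mod_add_div j m
        have h2 := Nat.mod_lt j hm0
        rw [show j + (m - j % m) = m * (j / m + 1) by rw [Nat.mul_add, mul_one]; omega,
          Nat.mul_mod_right]
      refine ⟨fun i => if i = (⟨j', Nat.mod_lt _ hm0⟩ : Fin m) then s 0 else 0, ?_⟩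
      simp only [ite_smul, zero_smul, Finset.sum_ite_eq', Finset.mem_univ, if_true]
      have e : x - s 0 • g j' = (x * g j - s 0 • ε) * g j' := by
        rw [sub_mul, smul_mul_assoc, mul_assoc, hgmul, hgεl, ← hgper (j + j'), hjj, hg0, hx,
          mul_assoc (ε * of k G t), show ε * ε = ε by rw [hε]; exact S.hee]
      rw [e]
      exact S.inI_mul_right hs (hgT _)
    intro a ha
    choose! s hs using hone
    refine ⟨fun l => ∑ t ∈ Finset.univ.filter (· ∈ S.T), a.coeff t * s t l, ?_⟩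
    have e : ε * a * ε - ∑ l, (∑ t ∈ Finset.univ.filter (· ∈ S.T), a.coeff t * s t l) • g l =
        ∑ t ∈ Finset.univ.filter (· ∈ S.T),
          a.coeff t • (ε * of k G t * ε - ∑ l, s t l • g l) := by
      conv_lhs => arg 1; rw [eq_sum_of_suppIn ha]
      simp only [Finset.mul_sum, Finset.sum_mul, mul_smul_comm, smul_mul_assoc, smul_sub,
        Finset.sum_sub_distrib, Finset.smul_sum, Finset.sum_smul, smul_smul]
      congr 1
      exact Finset.sum_comm
    rw [e]
    exact S.inI_sum' _ _ fun t ht => S.inI_smul' _ (hs t (Finset.mem_filter.1 ht).2)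
  -- the idempotents
  have : NeZero (m : k) := ⟨hmk⟩
  have : NeZero m := ⟨hm0.ne'⟩
  obtain ⟨ζ, hζ⟩ := HasEnoughRootsOfUnity.exists_primitiveRoot k m
  let ω : Fin m → k := fun j => (ζ ^ (j : ℕ))⁻¹
  have hωm : ∀ j, ω j ^ m = 1 := fun j => by
    simp only [ω, inv_pow]
    rw [← pow_mul, mul_comm, pow_mul, hζ.pow_eq_one, one_pow, inv_one]
  have hω0 : ∀ j, ω j ≠ 0 := fun j h => by simpa [h, zero_pow hm0.ne'] using hωm j
  let π : Fin m → MonoidAlgebra k G := fun j =>
    (m : k)⁻¹ • ∑ l ∈ Finset.range m, ω j ^ l • g l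
  have hgπ : ∀ j l, g l * π j = (ω j)⁻¹ ^ l • π j := by
    intro j l
    simp only [π, mul_smul_comm, Finset.mul_sum, Finset.smul_sum, smul_smul, hgmul]
    refine Finset.sum_bij (fun i _ => (l + i) % m) (fun i _ => Finset.mem_range.2 (Nat.mod_lt _ hm0))
      ?_ ?_ fun i _ => ?_
    · intro i hi i' hi' h
      rw [Finset.mem_range] at hi hi'
      have := Nat.ModEq.add_left_cancel' l (show l + i ≡ l + i' [MOD m] from h)
      rwa [Nat.ModEq, Nat.mod_eq_of_lt hi, Nat.mod_eq_of_lt hi'] at this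
    · intro i hi
      rw [Finset.mem_range] at hi
      refine ⟨(i + (m - l % m)) % m, Finset.mem_range.2 (Nat.mod_lt _ hm0), ?_⟩
      rw [Nat.add_mod_mod]
      have h1 : l + (i + (m - l % m)) = i + m * (l / m + 1) := by
        have := Nat.mod_add_div l m
        have := Nat.mod_lt l hm0
        rw [Nat.mul_add, mul_one]; omega
      rw [h1, Nat.add_mul_mod_self_left, Nat.mod_eq_of_lt hi]
    · rw [hgper, ← pow_eq_pow_mod _ (hωm j), pow_add]
      congr 1
      rw [inv_pow (ω j) l, mul_left_comm, inv_mul_cancel_left₀ (pow_ne_zero _ (hω0 j))]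
  have hππ : ∀ i j, π i * π j = if i = j then π j else 0 := by
    intro i j
    conv_lhs => rw [show π i = (m : k)⁻¹ • ∑ l ∈ Finset.range m, ω i ^ l • g l from rfl]
    rw [smul_mul_assoc, Finset.sum_mul]
    simp only [smul_mul_assoc, hgπ, smul_smul, ← mul_pow]
    rw [← Finset.sum_smul, smul_smul]
    split_ifs with h
    · subst h
      rw [mul_inv_cancel₀ (hω0 _)]
      simp [inv_mul_cancel₀ hmk]
    · have hne : ω i * (ω j)⁻¹ ≠ 1 := by
        intro h1
        rw [mul_inv_eq_one₀ (hω0 j)] at h1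
        simp only [ω, inv_inj] at h1
        exact h (Fin.ext (hζ.pow_inj i.2 j.2 h1))
      rw [geom_sum_eq hne, mul_pow, hωm, inv_pow (ω j), hωm, inv_one, mul_one, sub_self, zero_div,
        mul_zero, zero_smul]
  have hπT : ∀ j, SuppIn S.T (π j) := fun j => suppIn_smul _ (Finset.sum_induction _ (SuppIn S.T)
    (fun _ _ => suppIn_add) (suppIn_zero _) fun l _ => suppIn_smul _ (hgT l))
  have hεπ : ∀ j, ε * π j = π j := fun j => by
    simp only [π, mul_smul_comm, Finset.mul_sum, hgεl]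
  have hπε : ∀ j, π j * ε = π j := fun j => by
    simp only [π, smul_mul_assoc, Finset.sum_mul, hgεr]
  have hbπ : ∀ j, S.b * π j = π j := fun j => by rw [← hεπ j, ← mul_assoc, hbε]
  have hπI : ∀ j, ¬ S.InI (π j) := by
    intro j hj
    have hproj : projT S.C (π j) = (m : k)⁻¹ • ε := by
      simp only [π, map_smul, map_sum]
      congr 1
      rw [Finset.sum_eq_single_of_mem 0 (Finset.mem_range.2 hm0)]
      · rw [pow_zero, one_smul, hg0]
        ext x
        rw [coeff_projT]
        split_ifs with hx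
        · rfl
        · exact (S.hepsC x hx).symm
      · intro l hl hl0
        have hz : projT S.C (g l) = 0 := by
          obtain ⟨a, ha, hga⟩ := hgp l
          ext x
          rw [coeff_projT]
          split_ifs with hx
          · rw [hga, of_apply, coeff_single_mul_apply, one_mul, ha _ fun h => ?_]
            · simp
            have h1 : γ ^ (p ^ M * l) ∈ S.C := by
              simpa using mul_mem hx (inv_mem h)
            exact hl0 (Nat.eq_zero_of_dvd_of_lt (hcop.symm.dvd_of_dvd_mul_left ((hγC _).1 h1))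
              (Finset.mem_range.1 hl))
          · simp
        rw [hz, smul_zero]
    obtain ⟨c, -, hc⟩ := hj
    have hI' : S.InI ((m : k)⁻¹ • ε) :=
      ⟨projT S.C c, suppIn_mono S.hCT (suppIn_projT _ _), by
        rw [← hproj, hc, projT_mul_left S.hXC]⟩
    exact inv_ne_zero hmk (S.smul_eps_not_inI hXq1 hI')
  have hmid : ∀ a, SuppIn S.T a → ∀ i j, ∃ s : k,
      S.InI (π i * a * π j - s • π j) ∧ (i ≠ j → s = 0) := by
    intro a ha i j
    obtain ⟨s, hs⟩ := hspan a ha
    refine ⟨if i = j then ∑ l : Fin m, s l * (ω j)⁻¹ ^ (l : ℕ) else 0, ?_, fun h => if_neg h⟩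
    have e : π i * a * π j - (if i = j then ∑ l : Fin m, s l * (ω j)⁻¹ ^ (l : ℕ) else 0) • π j =
        π i * (ε * a * ε - ∑ l, s l • g l) * π j := by
      rw [mul_sub, sub_mul]
      congr 1
      · rw [← mul_assoc, ← mul_assoc, hπε, mul_assoc (π i * a), hεπ]
      · simp only [Finset.mul_sum, Finset.sum_mul, mul_smul_comm, smul_mul_assoc]
        simp only [mul_assoc (π i), hgπ, mul_smul_comm, hππ, smul_smul]
        rw [← Finset.sum_smul]
        split_ifs <;> simp
    rw [e]
    exact S.inI_mul_right (S.inI_mul_left hs (hπT i)) (hπT j)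
  refine ⟨π, fun j => ⟨hπT j, by rw [hππ, if_pos rfl], hbπ j, hπI j, fun a ha => ?_, ?_⟩,
    fun i j hij a ha => ?_, fun Z hZ hZb j hI => hπI j ?_⟩
  · obtain ⟨s, hs, -⟩ := hmid a ha j j
    exact ⟨s, hs⟩
  · intro a ha haI
    obtain ⟨i, hi⟩ : ∃ i, ¬ S.InI (ε * cf i * a * π j) := by
      by_contra h
      push Not at h
      apply haI
      have e : a * π j = ∑ i, af i * (ε * cf i * a * π j) := by
        calc a * π j = S.b * a * π j := by rw [← S.hbT' ha, mul_assoc, hbπ]
          _ = _ := by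
            rw [hbd, Finset.sum_mul, Finset.sum_mul]
            exact Finset.sum_congr rfl fun i _ => by simp only [mul_assoc, ← hε]
      rw [e]
      exact S.inI_sum' _ _ fun i _ => S.inI_mul_left (h i) (suppIn_mono S.hCT (haf i))
    refine ⟨cf i, suppIn_mono S.hCT (hcf i), fun hI => hi ?_⟩
    obtain ⟨s, hs⟩ := hspan (cf i * a) (suppIn_mul (suppIn_mono S.hCT (hcf i)) ha)
    set s' := ∑ l : Fin m, s l * (ω j)⁻¹ ^ (l : ℕ) with hs'
    have e1 : ε * cf i * a * π j - s' • π j =
        (ε * (cf i * a) * ε - ∑ l, s l • g l) * π j := by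
      rw [sub_mul]
      congr 1
      · rw [mul_assoc (ε * (cf i * a)), hεπ]
        simp only [mul_assoc]
      · simp only [Finset.sum_mul, smul_mul_assoc, hgπ, smul_smul]
        rw [← Finset.sum_smul]
    have h1 : S.InI (ε * cf i * a * π j - s' • π j) := by
      rw [e1]; exact S.inI_mul_right hs (hπT j)
    have h2 : S.InI (π j * cf i * a * π j - s' • π j) := by
      have h := S.inI_mul_left h1 (hπT j)
      rw [mul_sub, mul_smul_comm s' (π j) (π j), hππ, if_pos rfl] at h
      simp only [← mul_assoc, hπε] at h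
      exact h
    have h3 := S.inI_sub' hI h2
    rw [sub_sub_cancel] at h3
    have h4 := S.inI_add h1 h3
    rwa [sub_add_cancel] at h4
  · obtain ⟨s, hs, h0⟩ := hmid a ha i j
    rwa [h0 hij, zero_smul, sub_zero] at hs
  · have e : π j = Z * π j - (Z * S.b - S.b) * π j := by
      rw [sub_mul, mul_assoc Z, hbπ, sub_sub_cancel]
    rw [e]
    exact S.inI_sub' hI (S.inI_mul_right hZb (hπT j))

end CfsgLib.Block.StableData
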