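import Cfsg.Prelude.Def_BlockRank
import Cfsg.Agent.Lib.Block.ResidueSpan
import Cfsg.Agent.Lib.Block.Orthogonality

/-!
Separated class functionals on the residue group algebra bound the rank of a block from below.
-/

set_option autoImplicit false
set_option linter.unusedSectionVars false

namespace CfsgLib.Block

open Cfsg MonoidAlgebra
open scoped ComplexConjugate

universe u

variable {G : Type u} [Group G] [Finite G] {p : ℕ} [hp : Fact p.Prime] {M : Ideal AlgInt}
  [M.IsPrime]

/-- Separated trace functionals fixed by the block idempotent bound the `p`-regular rank. -/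
theorem natCard_le_blockRank (hM : IsPModular p M) {B : Set (IrrCharacter G)}
    (hB : IsPBlock M B) {ι : Type*} [Finite ι]
    (τ : ι → (MonoidAlgebra (kres M) G →ₗ[kres M] kres M)) (b : ι → MonoidAlgebra (kres M) G)
    (hb1 : ∀ i, τ i (b i) = 1) (hb0 : ∀ i j, i ≠ j → τ i (b j) = 0)
    (hfix : ∀ i a, τ i ((blkIdem M B : MonoidAlgebra (kres M) G) * a) = τ i a)
    (hpel : ∀ i (y z : G), Commute y z → (∃ m : ℕ, y ^ p ^ m = 1) →
      τ i (of (kres M) G (y * z)) = τ i (of (kres M) G z))
    (hcomm : ∀ i (a c : MonoidAlgebra (kres M) G), τ i (a * c) = τ i (c * a)) :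
    Nat.card ι ≤ blockRank p B := by
  classical
  have := Fintype.ofFinite G
  have := Fintype.ofFinite ι
  have := Fintype.ofFinite (IrrCharacter G)
  have := Fintype.ofFinite B
  have : Finite (ConjClasses G) := Finite.of_surjective ConjClasses.mk ConjClasses.mk_surjective
  have := Fintype.ofFinite (ConjClasses G)
  choose part hpart using fun g : G => exists_isPPart (p := p) hp.out g
  choose reg hregeq hregc hregp hregr using hpart
  have hτreg : ∀ j g, τ j (of (kres M) G g) = τ j (of (kres M) G (reg g)) := fun j g => by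
    obtain ⟨m, hm⟩ := hregp g
    conv_lhs => rw [← hregeq g]
    exact hpel j _ _ (hregc g) ⟨m, by rw [← hm, pow_orderOf_eq_one]⟩
  have hredreg : ∀ (χ : IrrCharacter G) g,
      redC M ((χ : G → ℂ) g) = redC M ((χ : G → ℂ) (reg g)) := fun χ g => by
    conv_lhs => rw [← hregeq g]
    exact redC_char_mul_pelement hM (CfsgLib.Char.irr_isCharacter χ.2) (hregc g) (hregp g)
  choose cd hcd using fun y : G => exists_delta_reduced (p := p) hM y
  let c : ι → IrrCharacter G → kres M := fun j χ =>
    ∑ C : ConjClasses G, if p ∣ orderOf C.out then 0 else τ j (of (kres M) G C.out) * cd C.out χ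
  have hout : ∀ z : G, IsConj (ConjClasses.mk z).out z := fun z =>
    ConjClasses.mk_eq_mk_iff_isConj.1 (Quotient.out_eq _)
  have hexp0 : ∀ j z, ¬ p ∣ orderOf z →
      τ j (of (kres M) G z) = ∑ χ, c j χ * redC M ((χ : G → ℂ) z) := by
    intro j z hz
    obtain ⟨a, ha⟩ := isConj_iff.1 (hout z)
    have hor : ¬ p ∣ orderOf (ConjClasses.mk z).out := by
      rw [← ha] at hz
      rwa [show orderOf (a * (ConjClasses.mk z).out * a⁻¹) = orderOf (ConjClasses.mk z).out from
        orderOf_injective (MulAut.conj a).toMonoidHom (MulAut.conj a).injective _] at hz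
    simp only [c, Finset.sum_mul]
    rw [Finset.sum_comm, Finset.sum_eq_single (ConjClasses.mk z)]
    · simp only [if_neg hor, mul_assoc, ← Finset.mul_sum]
      rw [hcd _ z hz hor, if_pos (hout z), mul_one]
      conv_lhs => rw [← ha, map_mul, hcomm, ← map_mul, ← mul_assoc, inv_mul_cancel, one_mul]
    · intro C _ hC
      by_cases hC' : p ∣ orderOf C.out
      · simp [hC']
      · simp only [if_neg hC', mul_assoc, ← Finset.mul_sum]
        rw [hcd _ z hz hC', if_neg, mul_zero]
        intro h
        apply hC
        rw [← ConjClasses.mk_eq_mk_iff_isConj.2 h]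
        exact (Quotient.out_eq C).symm
    · intro h; exact absurd (Finset.mem_univ _) h
  have hexp : ∀ j g, τ j (of (kres M) G g) = ∑ χ, c j χ * redC M ((χ : G → ℂ) g) := fun j g => by
    rw [hτreg, hexp0 j _ (hregr g)]
    exact Finset.sum_congr rfl fun χ _ => by rw [← hredreg]
  -- restrict to the block
  set E : Subalgebra.center (kres M) (MonoidAlgebra (kres M) G) := blkIdem M B with hEdef
  have hblock : ∀ j g, τ j (of (kres M) G g) =
      ∑ χ : B, c j χ * redC M (((χ : IrrCharacter G) : G → ℂ) g) := by
    intro j g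
    rw [← hfix j (of (kres M) G g)]
    conv_lhs => rw [← MonoidAlgebra.sum_coeff_single (E : MonoidAlgebra (kres M) G),
      Finsupp.sum_fintype _ _ (fun _ => by simp), Finset.sum_mul, map_sum]
    have h2 : ∀ a : G, τ j (single a ((E : MonoidAlgebra (kres M) G).coeff a) * of (kres M) G g) =
        ∑ χ : IrrCharacter G, c j χ *
          ((E : MonoidAlgebra (kres M) G).coeff a * redC M ((χ : G → ℂ) (a * g))) := by
      intro a
      rw [show single a ((E : MonoidAlgebra (kres M) G).coeff a) * of (kres M) G g =
          (E : MonoidAlgebra (kres M) G).coeff a • of (kres M) G (a * g) by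
        rw [of_apply, of_apply, single_mul_single, mul_one, smul_single, smul_eq_mul, mul_one],
        map_smul, smul_eq_mul, hexp, Finset.mul_sum]
      exact Finset.sum_congr rfl fun χ _ => mul_left_comm _ _ _
    rw [Finset.sum_congr rfl fun a _ => h2 a, Finset.sum_comm,
      ← Finset.sum_subtype (Finset.univ.filter (· ∈ B)) (p := (· ∈ B)) (by simp)
        (fun χ : IrrCharacter G => c j χ * redC M ((χ : G → ℂ) g)), Finset.sum_filter]
    refine Finset.sum_congr rfl fun χ _ => ?_
    rw [← Finset.mul_sum]
    have h3 : ∑ a, (E : MonoidAlgebra (kres M) G).coeff a * redC M ((χ : G → ℂ) (a * g)) =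
        redC M (chiExt (χ : G → ℂ) (blockSum B) g) := by
      rw [chiExt_eq, redC_sum _ _ (fun a _ => memLocalRing_mul
        ((isLocalCentral_blockSum hM hB).2 a) (memLocalRing_irr_apply χ _))]
      refine Finset.sum_congr rfl fun a _ => ?_
      rw [redC_mul ((isLocalCentral_blockSum hM hB).2 a) (memLocalRing_irr_apply χ _), hEdef,
        coeff_blkIdem]
      simp [blockSum]
    rw [h3, ← one_mul (blockSum B), chiExt_mul_central χ.2 1 (blockSum_isClassCoeff B), chiExt_one,
      omegaC_blockSum]
    split_ifs <;> simp [redC_zero]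
  -- lifts
  let L : (G → ℂ) →ₗ[ℂ] (ι → ℂ) :=
    LinearMap.pi fun j => ∑ g, sec M ((b j).coeff g) • LinearMap.proj (R := ℂ) (reg g)
  let Φ : ι → (B → ℂ) := fun j χ => L (pRegularPart p ((χ : IrrCharacter G) : G → ℂ)) j
  have hΦ : ∀ j χ, Φ j χ = ∑ g, sec M ((b j).coeff g) * ((χ : IrrCharacter G) : G → ℂ) (reg g) := by
    intro j χ
    simp only [Φ, L, LinearMap.pi_apply, LinearMap.sum_apply, LinearMap.smul_apply,
      LinearMap.proj_apply, smul_eq_mul]
    refine Finset.sum_congr rfl fun g _ => ?_
    rw [pRegularPart, if_pos (show IsPRegular p (reg g) from hregr g)]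
  have hΦR : ∀ j χ, MemLocalRing M (Φ j χ) := fun j χ => by
    rw [hΦ]
    exact memLocalRing_sum _ _ fun g _ =>
      memLocalRing_mul (memLocalRing_sec _) (memLocalRing_irr_apply _ _)
  let Mm : Matrix ι ι (lring M) := fun i j =>
    ∑ χ : B, (⟨sec M (c i χ), memLocalRing_sec _⟩ : lring M) * ⟨Φ j χ, hΦR j χ⟩
  have hMm : (red M).mapMatrix Mm = 1 := by
    ext i j
    rw [RingHom.mapMatrix_apply, Matrix.map_apply]
    simp only [Mm, map_sum, map_mul]
    have hval : τ i (b j) = ∑ χ : B, c i χ * redC M (Φ j χ) := by
      conv_lhs => rw [← MonoidAlgebra.sum_coeff_single (b j),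
        Finsupp.sum_fintype _ _ (fun _ => by simp), map_sum]
      have hterm : ∀ g : G, τ i (single g ((b j).coeff g)) =
          ∑ χ : B, c i χ * ((b j).coeff g * redC M (((χ : IrrCharacter G) : G → ℂ) g)) := fun g => by
        rw [show single g ((b j).coeff g) = (b j).coeff g • of (kres M) G g by
          rw [of_apply, smul_single, smul_eq_mul, mul_one], map_smul, smul_eq_mul, hblock,
          Finset.mul_sum]
        exact Finset.sum_congr rfl fun χ _ => mul_left_comm _ _ _
      rw [Finset.sum_congr rfl fun g _ => hterm g, Finset.sum_comm]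
      refine Finset.sum_congr rfl fun χ _ => ?_
      rw [← Finset.mul_sum, hΦ, redC_sum _ _ (fun g _ => memLocalRing_mul (memLocalRing_sec _)
        (memLocalRing_irr_apply _ _))]
      congr 1
      refine Finset.sum_congr rfl fun g _ => ?_
      rw [redC_mul (memLocalRing_sec _) (memLocalRing_irr_apply _ _), redC_sec, hredreg]
    rw [Matrix.one_apply, show (∑ χ : B, red M ⟨sec M (c i χ), memLocalRing_sec _⟩ *
        red M ⟨Φ j χ, hΦR j χ⟩) = τ i (b j) from by
      rw [hval]
      refine Finset.sum_congr rfl fun χ _ => ?_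
      rw [← redC_eq, ← redC_eq, redC_sec]]
    rcases eq_or_ne i j with rfl | h
    · rw [if_pos rfl, hb1]
    · rw [if_neg h, hb0 i j h]
  have hdet : (Mm.map (lring M).subtype).det ≠ 0 := by
    intro h
    rw [← RingHom.mapMatrix_apply, ← RingHom.map_det] at h
    have h0 : Mm.det = 0 := Subtype.ext h
    have h1 := congrArg Matrix.det hMm
    rw [← RingHom.map_det, Matrix.det_one, h0, map_zero] at h1
    exact zero_ne_one h1
  -- the image of the span is everything
  let W := Submodule.span ℂ ((fun χ : IrrCharacter G => pRegularPart p (χ : G → ℂ)) '' B)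
  have htop : W.map L = ⊤ := by
    by_contra hne
    obtain ⟨f, hf, hle⟩ := Submodule.exists_le_ker_of_lt_top _ (lt_top_iff_ne_top.2 hne)
    let l : ι → ℂ := fun j => f (Pi.single j 1)
    have hfl : ∀ x : ι → ℂ, f x = ∑ j, l j * x j := fun x => by
      conv_lhs => rw [pi_eq_sum_univ' x]
      rw [map_sum]
      exact Finset.sum_congr rfl fun j _ => by rw [map_smul, smul_eq_mul, mul_comm]
    have hl2 : ∀ χ : B, ∑ j, l j * Φ j χ = 0 := fun χ => by
      rw [← hfl fun j => Φ j χ]
      exact hle (Submodule.mem_map_of_mem (Submodule.subset_span ⟨χ, χ.2, rfl⟩))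
    have hl0 : l = 0 := by
      refine Matrix.eq_zero_of_mulVec_eq_zero hdet ?_
      funext i
      simp only [Matrix.mulVec, dotProduct, Mm, Pi.zero_apply]
      calc ∑ j, (lring M).subtype (∑ χ : B, (⟨sec M (c i χ), memLocalRing_sec _⟩ : lring M) *
              ⟨Φ j χ, hΦR j χ⟩) * l j
          = ∑ j, ∑ χ : B, sec M (c i χ) * (l j * Φ j χ) := by
            refine Finset.sum_congr rfl fun j _ => ?_
            rw [map_sum, Finset.sum_mul]
            refine Finset.sum_congr rfl fun χ _ => ?_
            simp only [map_mul, Subring.coe_subtype]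
            ring
        _ = 0 := by
            rw [Finset.sum_comm]
            simp only [← Finset.mul_sum, hl2, mul_zero, Finset.sum_const_zero]
    exact hf (LinearMap.ext fun x => by simp [hfl, hl0])
  have h : Module.finrank ℂ (W.map L) ≤ Module.finrank ℂ W := Submodule.finrank_map_le L W
  rw [htop, finrank_top, Module.finrank_fintype_fun_eq_card, ← Nat.card_eq_fintype_card] at h
  exact h

end CfsgLib.Block
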