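import Cfsg.Agent.Lib.Block.CyclicRestrict
import Cfsg.Agent.Lib.Block.CyclicLocal
import Cfsg.Agent.Lib.Block.CyclicRows
import Cfsg.Agent.Lib.Block.CyclicCenter
import Cfsg.Agent.Lib.Block.StableWeights
import Cfsg.Agent.Lib.Block.StableBlockTrace
import Cfsg.Agent.Lib.Block.TraceRank
import Cfsg.Agent.Lib.Block.BrauerInd

/-!
# The regular rank of a block with cyclic defect group is at least its inertial index

The block of the centralizer of the subgroup of order `p` below the maximal pair has uniserial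
block algebra, hence the group algebra carries stable data; its weights separate `e` simple
modules of the block.
-/

set_option autoImplicit false
set_option linter.unusedSectionVars false
set_option maxHeartbeats 1000000

namespace CfsgLib.Block.CycBlock

open Cfsg CfsgLib.Block CfsgLib.BlockA CfsgLib.BlockB.HeightBound MonoidAlgebra

universe u

variable {G : Type u} [Group G] [Fintype G] {p : ℕ} [hp : Fact p.Prime] {M : Ideal AlgInt}
  [M.IsPrime] (S : CycBlock G p M)

local notation "cen" Q => Subgroup.centralizer ((Q : Subgroup G) : Set G)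
local notation "cs" y => Subgroup.centralizer (Singleton.singleton y : Set G)

attribute [local instance] csFintype

theorem inclSub_smul' {k : Type*} [CommRing k] (H : Subgroup G) (c : k) (a : MonoidAlgebra k H) :
    inclSub H (c • a) = c • inclSub H a := by
  ext g
  by_cases hg : g ∈ H
  · rw [show g = ((⟨g, hg⟩ : H) : G) from rfl, coeff_inclSub_of_mem]
    simp only [coeff_smul, Finsupp.smul_apply]
    exact congrArg (c • ·) (coeff_inclSub_of_mem H a ⟨g, hg⟩).symm
  · simp [coeff_inclSub_of_not_mem _ _ hg]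

theorem inclSub_of' {k : Type*} [CommRing k] (H : Subgroup G) (h : H) :
    inclSub H (of k H h) = of k G (h : G) := by
  simp [inclSub, MonoidAlgebra.mapDomainRingHom]

theorem suppIn_inclSub' {k : Type*} [Field k] (H : Subgroup G) (a : MonoidAlgebra k H) :
    SuppIn H (inclSub H a) :=
  fun _ hg => coeff_inclSub_of_not_mem _ _ hg

theorem inclSub_resSub' {k : Type*} [Field k] (H : Subgroup G) {a : MonoidAlgebra k G}
    (ha : SuppIn H a) : inclSub H (resSub H a) = a := by
  ext g
  by_cases hg : g ∈ H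
  · rw [show g = ((⟨g, hg⟩ : H) : G) from rfl, coeff_inclSub_of_mem, coeff_resSub]
  · rw [coeff_inclSub_of_not_mem _ _ hg, ha g hg]

theorem conjGA_eq {k : Type*} [CommRing k] (g : G) (a : MonoidAlgebra k G) :
    conjGA g a = of k G g * a * of k G g⁻¹ := by
  ext x
  rw [coeff_conjGA, of_apply, of_apply, coeff_mul_single_apply, coeff_single_mul_apply, inv_inv,
    mul_one, one_mul, ← mul_assoc]

theorem orderOf_el_bot : orderOf (S.el S.bot) = p := by
  rw [bot, el_natCast, orderOf_pow, S.hord, Nat.gcd_eq_right (pow_dvd_pow _ (Nat.sub_le _ _)),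
    Nat.pow_div (Nat.sub_le _ _) hp.out.pos,
    show S.a - (S.a - 1) = 1 by have := S.ha; omega, pow_one]

/-- An element of order `p` of the defect group lies in the subgroup of order `p`. -/
theorem mem_zpowers_bot {y : G} (hy : y ∈ S.D) (hyp : y ^ p = 1) :
    y ∈ Subgroup.zpowers (S.el S.bot) := by
  obtain ⟨i, rfl⟩ := S.el_surj hy
  have h := orderOf_dvd_of_pow_eq_one
    (show S.u ^ (i.val * p) = 1 by rw [pow_mul]; exact hyp)
  rw [S.hord] at h
  obtain ⟨n, hn⟩ : p ^ (S.a - 1) ∣ i.val := by
    refine Nat.dvd_of_mul_dvd_mul_right hp.out.pos ?_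
    rwa [← pow_succ, Nat.sub_add_cancel S.ha]
  refine ⟨(n : ℤ), ?_⟩
  show S.el S.bot ^ (n : ℤ) = S.el i
  rw [zpow_natCast, bot, el_natCast, ← pow_mul, ← hn]
  rfl

theorem pow_p_conj {y g : G} (hy : y ^ p = 1) : (g⁻¹ * y * g) ^ p = 1 := by
  have h := conj_pow (a := g⁻¹) (b := y) (i := p)
  rw [inv_inv] at h
  rw [h, hy, mul_one, inv_mul_cancel]

/-- **The regular rank is at least the inertial index.** -/
theorem e_le_blockRank : S.e ≤ blockRank p S.B := by
  classical
  have := charP_kres S.hM
  have := isAlgClosed_kres (M := M)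
  set z := S.el S.bot with hz
  have hzp : orderOf z = p := S.orderOf_el_bot
  have hzD : z ∈ S.D := S.el_mem _
  set C : Subgroup G := (cs (S.el S.bot)) with hC
  set Zg : Subgroup G := Subgroup.zpowers z with hZg
  have hcenZ : (cen Zg) = C := cen_zpowers z
  set T : Subgroup G := pairStab M (Subgroup.zpowers (S.el S.bot)) (S.below S.bot) with hT
  have hCT : C ≤ T := hcenZ ▸ centralizer_le_pairStab _ _
  have hTN : T ≤ Subgroup.normalizer (Zg : Set G) := pairStab_le _ _
  have hNC : Subgroup.normalizer (Zg : Set G) ≤ Subgroup.normalizer (C : Set G) :=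
    hcenZ ▸ normalizer_le_normalizer_centralizer S.hM Zg
  have hDC : S.D ≤ C := S.D_le_cs _
  have hzC : z ∈ C := hDC hzD
  have hidx : C.relIndex T = S.e := by rw [← hcenZ]; exact S.relIndex_below S.bot_ne_zero
  obtain ⟨S', hB', ha', he', hu', -⟩ := S.exists_cenBlock' S.bot_ne_zero
  obtain ⟨X', ε', hXc', hXE', hXq', hXq1', hexp', hee', hεE', ⟨nf, af, cf, hfull'⟩, heps', hann'⟩ :=
    S'.exists_uniserial he'
  obtain ⟨β', hβD', hβ'⟩ := S'.exists_trace_idem he'
  have hXq1'' : X' ^ (p ^ S'.a - 1) * S'.EB ≠ 0 := by rwa [← S'.EB_comm]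
  set ι : MonoidAlgebra (kres M) C →+* MonoidAlgebra (kres M) G := inclSub C with hι
  have hιinj : Function.Injective ι := Function.LeftInverse.injective (resSub_inclSub C)
  have hιres : ∀ {a : MonoidAlgebra (kres M) G}, SuppIn C a → ι (resSub C a) = a :=
    fun ha => inclSub_resSub' C ha
  have hιsupp : ∀ a : MonoidAlgebra (kres M) C, SuppIn C (ι a) := fun a => suppIn_inclSub' C a
  set b := ι S'.EB with hb
  set X := ι X' with hX
  have hbsIdem : b = sIdem M (cen (Subgroup.zpowers (S.el S.bot))) (S.below S.bot) := by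
    have h1 : b = sIdem M C (S.blk S.bot) := by rw [hb, EB, hB']; rfl
    rw [h1, ← mkGA_subgroupBlockCoeff S.hM, S.blk_coeff, ← mkGA_subgroupBlockCoeff S.hM]
    rfl
  have hbC : SuppIn C b := hιsupp _
  have hbb : b * b = b := by rw [hb, ← map_mul, S'.EB_idem]
  have hXb : X * b = X := by rw [hX, hb, ← map_mul, hXE']
  have hbX : b * X = X := by rw [hX, hb, ← map_mul, S'.EB_comm, hXE']
  have hXCcomm : ∀ {a : MonoidAlgebra (kres M) G}, SuppIn C a → X * a = a * X := fun ha => by
    rw [← hιres ha, hX, ← map_mul, ← map_mul, hXc']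
  have hbT : ∀ t ∈ T, of (kres M) G t * b = b * of (kres M) G t := by
    intro t ht
    have hconj : conjGA t b = b := by
      ext x
      rw [coeff_conjGA, hbsIdem]
      exact ht.2 x
    calc of (kres M) G t * b = conjGA t b * of (kres M) G t := by
          rw [conjGA_eq, mul_assoc (of (kres M) G t * b), ← map_mul, inv_mul_cancel, map_one, mul_one]
      _ = _ := by rw [hconj]
  -- central nilpotent elements of the block algebra are multiples of `X`
  have hcenX : ∀ c : MonoidAlgebra (kres M) G, SuppIn C c → (∀ a, SuppIn C a → c * a = a * c) →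
      c * b = c → IsNilpotent c → ∃ w, SuppIn C w ∧ c = X * w := by
    intro c hcC hccomm hcb ⟨n, hn⟩
    set c' := resSub C c with hc'
    have hc'c : ∀ a, c' * a = a * c' := fun a => hιinj (by
      rw [map_mul, map_mul, hc', hιres hcC, hccomm _ (hιsupp a)])
    have hc'b : c' * S'.EB = c' := hιinj (by rw [map_mul, hc', hιres hcC, ← hb, hcb])
    obtain ⟨f, hf⟩ := hexp' c' hc'c
    rw [hc'b] at hf
    set q := p ^ S'.a with hq
    have hq0 : 0 ∈ Finset.range q := Finset.mem_range.2 (pow_pos hp.out.pos _)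
    rw [← Finset.add_sum_erase _ _ hq0, pow_zero, one_mul] at hf
    set w' := ∑ i ∈ (Finset.range q).erase 0, f i • (X' ^ (i - 1) * S'.EB) with hw'
    have hrest : ∑ i ∈ (Finset.range q).erase 0, f i • (X' ^ i * S'.EB) = X' * w' := by
      rw [hw', Finset.mul_sum]
      refine Finset.sum_congr rfl fun i hi => ?_
      obtain ⟨j, rfl⟩ := Nat.exists_eq_succ_of_ne_zero (Finset.mem_erase.1 hi).1
      rw [mul_smul_comm, ← mul_assoc, ← pow_succ', Nat.succ_sub_one]
    rw [hrest] at hf
    have htop : ∀ j : ℕ, X' ^ (q - 1) * S'.EB * c' ^ j = f 0 ^ j • (X' ^ (q - 1) * S'.EB) := by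
      intro j
      induction j with
      | zero => simp
      | succ j ih =>
        rw [pow_succ, ← mul_assoc, ih, smul_mul_assoc, hf, mul_add, mul_smul_comm,
          mul_assoc (X' ^ (q - 1)) S'.EB S'.EB, S'.EB_idem,
          show X' ^ (q - 1) * S'.EB * (X' * w') = X' ^ (q - 1) * (S'.EB * X') * w' by
            simp only [mul_assoc],
          S'.EB_comm X', hXE', ← pow_succ, Nat.sub_add_cancel (pow_pos hp.out.pos _), hXq',
          zero_mul, add_zero, smul_smul, ← pow_succ]
    have hc'n : c' ^ n = 0 := hιinj (by rw [map_pow, map_zero, hc', hιres hcC, hn])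
    have h := htop n
    rw [hc'n, mul_zero] at h
    have hf0 : f 0 = 0 :=
      eq_zero_of_pow_eq_zero ((smul_eq_zero.1 h.symm).resolve_right hXq1'')
    refine ⟨ι w', hιsupp _, ?_⟩
    rw [← hιres hcC, ← hc', hf, hf0, zero_smul, zero_add, map_mul]
  -- conjugates of `X`
  have hconjC : ∀ t ∈ T, ∀ a : MonoidAlgebra (kres M) G, SuppIn C a → SuppIn C (conjGA t a) := fun t ht a ha x hx => by
    rw [coeff_conjGA]
    exact ha _ fun h => hx ((Subgroup.mem_normalizer_iff''.1 (hNC (hTN ht)) x).2 h)
  have hXconj : ∀ t ∈ T, ∃ w : MonoidAlgebra (kres M) G, SuppIn C w ∧ conjGA t X = X * w := by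
    intro t ht
    refine hcenX _ (hconjC t ht _ (hιsupp _)) (fun a ha => ?_) ?_ ⟨p ^ S'.a, ?_⟩
    · have h := hXCcomm (hconjC t⁻¹ (inv_mem ht) a ha)
      have h' := congrArg (conjGA t) h
      rwa [conjGA_mul, conjGA_mul, conjGA_conjGA, mul_inv_cancel, conjGA_one] at h'
    · rw [conjGA_eq, mul_assoc, hbT _ (inv_mem ht) |>.symm.symm]
      rw [mul_assoc (of (kres M) G t), mul_assoc (of (kres M) G t), ← mul_assoc X (b) , hXb]
    · have hpow : ∀ j : ℕ, conjGA t X ^ j = conjGA t (X ^ j) := fun j => by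
        induction j with
        | zero => rw [pow_zero, pow_zero, conjGA_eq, mul_one, ← map_mul, mul_inv_cancel, map_one]
        | succ j ih => rw [pow_succ, ih, ← conjGA_mul, ← pow_succ]
      rw [hpow, hX, ← map_pow, hXq', map_zero, conjGA_zero]
  -- the stable data
  have hq2 : 2 ≤ p ^ S'.a :=
    le_trans hp.out.two_le (Nat.le_self_pow (by have := S.ha; omega) p)
  have hDsub : ∀ c : C, c ∈ S'.D ↔ (c : G) ∈ S.D := by
    intro c
    rw [← S'.hu, ← S.hu]
    constructor
    · rintro ⟨n, rfl⟩
      exact ⟨n, by simp [hu']⟩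
    · rintro ⟨n, hn⟩
      exact ⟨n, Subtype.ext (by simp only [SubgroupClass.coe_zpow, hu']; exact hn)⟩
  let SD : StableData G (kres M) p :=
    { T := T
      C := C
      D := S.D
      hCT := hCT
      hDC := hDC
      hnorm := fun t ht c hc => (Subgroup.mem_normalizer_iff.1 (hNC (hTN ht)) c).1 hc
      hidx := by rw [hidx]; exact S.not_dvd_e
      b := b
      hbC := hbC
      hbb := hbb
      hbT := hbT
      X := X
      hXC := hιsupp _
      hXb := hXb
      hXcomm := fun c hc => by
        rw [mul_assoc, ← hXCcomm (suppIn_of hc), ← mul_assoc, hbX]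
      hXT := fun t ht => by
        obtain ⟨w, hw, h⟩ := hXconj t ht
        refine ⟨w * of (kres M) G t, suppIn_mul (suppIn_mono hCT hw) (suppIn_of ht), ?_⟩
        rw [← mul_assoc, ← h, conjGA_eq, mul_assoc (of (kres M) G t * X), ← map_mul, inv_mul_cancel,
          map_one, mul_one]
      hXT' := fun t ht => by
        obtain ⟨w, hw, h⟩ := hXconj t⁻¹ (inv_mem ht)
        refine ⟨of (kres M) G t * w, suppIn_mul (suppIn_of ht) (suppIn_mono hCT hw), ?_⟩
        rw [mul_assoc, ← hXCcomm hw, ← h, conjGA_eq, inv_inv, ← mul_assoc, ← mul_assoc, ← map_mul,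
          mul_inv_cancel, map_one, one_mul]
      q := p ^ S'.a
      hq := hq2
      hXq := by rw [hX, ← map_pow, hXq', map_zero]
      hann := fun a ha hba hXa => by
        obtain ⟨u, hu⟩ := hann' (resSub C a)
          (hιinj (by rw [map_mul, hιres ha, ← hb, hba]))
          (hιinj (by rw [map_mul, hιres ha, ← hX, hXa, map_zero]))
        exact ⟨ι u, hιsupp _, by rw [← hιres ha, hu, map_mul, map_pow]⟩
      eps := ι ε'
      hepsC := hιsupp _
      hee := by rw [← map_mul, hee']
      hepsb := by rw [hb, ← map_mul, hεE']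
      heps := fun a ha => by
        obtain ⟨f, hf⟩ := heps' (resSub C a)
        refine ⟨f, ?_⟩
        have h := congrArg ι hf
        rw [map_mul, map_mul, hιres ha] at h
        rw [h, map_sum]
        exact Finset.sum_congr rfl fun i _ => by
          rw [hι, inclSub_smul', map_mul, map_pow]
      hfull := ⟨nf, fun i => ι (af i), fun i => ι (cf i), fun i => hιsupp _, fun i => hιsupp _, by
        rw [hb, hfull', map_sum]
        simp only [map_mul]⟩
      β := ι β'
      hβC := hιsupp _
      hβD := fun y hy => by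
        have h := congrArg ι (hβD' ⟨y, hDC hy⟩ ((hDsub _).2 hy))
        rw [map_mul, map_mul, hι, inclSub_of'] at h
        exact h
      hβ := fun V hV hVC => by
        have hV' : ∀ c : C, ∃! d, d ∈ V.subtype (· ∈ C) ∧ d⁻¹ * c ∈ S'.D := by
          intro c
          obtain ⟨d, ⟨hd, hd'⟩, huniq⟩ := hV (c : G) c.2
          refine ⟨⟨d, hVC d hd⟩, ⟨Finset.mem_subtype.2 hd, (hDsub _).2 hd'⟩, ?_⟩
          rintro d' ⟨hd1, hd2⟩
          exact Subtype.ext (huniq _ ⟨Finset.mem_subtype.1 hd1, (hDsub _).1 hd2⟩)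
        have h := congrArg ι (hβ' _ hV')
        rw [map_sum] at h
        rw [hb, ← h]
        symm
        refine Finset.sum_bij (fun d _ => (d : G)) (fun d hd => Finset.mem_subtype.1 hd)
          (fun d _ d' _ h => Subtype.ext h)
          (fun d hd => ⟨⟨d, hVC d hd⟩, Finset.mem_subtype.2 hd, rfl⟩) fun d _ => ?_
        rw [map_mul, map_mul, hι, inclSub_of', inclSub_of']
        rfl
      hTI := fun g hg => by
        by_cases hy : ∀ y ∈ S.D, g⁻¹ * y * g ∈ S.D → y = 1
        · exact Or.inr hy
        refine Or.inl ?_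
        push Not at hy
        obtain ⟨y, hyD, hyg, hy1⟩ := hy
        -- some power of `y` generates the subgroup of order `p`
        obtain ⟨i, rfl⟩ := S.el_surj hyD
        obtain ⟨j, w, hj, rfl⟩ := S.exists_unit_mul_pow (i := i) fun h => hy1 (by rw [h, el_zero])
        have hzpow : z ∈ Subgroup.zpowers (S.el ((w : ZMod (p ^ S.a)) *
            ((p ^ j : ℕ) : ZMod (p ^ S.a)))) := by
          rw [S.zpowers_el_unit_mul]
          refine ⟨((p ^ (S.a - 1 - j) : ℕ) : ℤ), ?_⟩
          show S.el _ ^ ((p ^ (S.a - 1 - j) : ℕ) : ℤ) = S.el S.bot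
          rw [zpow_natCast, el_natCast, bot, el_natCast, ← pow_mul, ← pow_add,
            show j + (S.a - 1 - j) = S.a - 1 by omega]
        obtain ⟨n, hn⟩ := hzpow
        have hgz : g⁻¹ * z * g ∈ S.D := by
          rw [← show S.el _ ^ n = z from hn]
          have h := S.D.zpow_mem hyg n
          have e : (g⁻¹ * S.el ((w : ZMod (p ^ S.a)) * ((p ^ j : ℕ) : ZMod (p ^ S.a))) * g) ^ n =
              g⁻¹ * S.el ((w : ZMod (p ^ S.a)) * ((p ^ j : ℕ) : ZMod (p ^ S.a))) ^ n * g := by
            have := conj_zpow (b := S.el ((w : ZMod (p ^ S.a)) * ((p ^ j : ℕ) : ZMod (p ^ S.a))))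
              (a := g⁻¹) (i := n)
            rw [inv_inv] at this
            exact this
          rwa [e] at h
        have hgN' : g⁻¹ * z * g ∈ Zg := S.mem_zpowers_bot hgz
          (pow_p_conj (by rw [← hzp, pow_orderOf_eq_one]))
        have hgN : g ∈ Subgroup.normalizer (Zg : Set G) := by
          refine inv_mem_iff.1 ?_
          have hmap : Zg.map (MulAut.conj g⁻¹).toMonoidHom = Zg := by
            refine Subgroup.eq_of_le_of_card_ge ?_ (by rw [natCard_map_conj])
            rw [hZg, MonoidHom.map_zpowers, Subgroup.zpowers_le]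
            simpa [hZg, MulAut.conj_apply] using hgN'
          exact Subgroup.mem_normalizer_iff_map_conj_eq.2 hmap
        have hgN'' := hNC hgN
        rw [← conjGA_eq]
        have hsup : ∀ m ∈ Subgroup.normalizer (C : Set G), SuppIn C (conjGA m b) := fun m hm x hx => by
          rw [coeff_conjGA]
          exact hbC _ fun h => hx ((Subgroup.mem_normalizer_iff''.1 hm x).2 h)
        have hinv : ∀ m ∈ Subgroup.normalizer (C : Set G), IsPInv C (conjGA m b) := by
          intro m hm c hc x
          rw [coeff_conjGA, coeff_conjGA]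
          have h := inclSub_conj_invariant C (isClassCoeff_center (blkIdem M S'.B))
            ((Subgroup.mem_normalizer_iff''.1 hm c).1 hc) (m⁻¹ * x * m)
          rw [hb, hι, ← h]
          congr 1
          group
        have hbs : b = sIdem M C S'.B := rfl
        rcases mul_sIdem_eq S.hM S'.isPBlock_B (hsup g hgN'') (by rw [← conjGA_mul, hbb])
          (hinv g hgN'') with h | h
        · exfalso
          apply hg
          rw [← hbs] at h
          have h1 : b * conjGA g⁻¹ b = conjGA g⁻¹ b := by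
            have := congrArg (conjGA g⁻¹) h
            rwa [conjGA_mul, conjGA_conjGA, inv_mul_cancel, conjGA_one] at this
          have h2 : conjGA g⁻¹ b * b = conjGA g⁻¹ b := by
            have hc := sIdem_mul_comm (M := M) S'.B (hsup _ (inv_mem hgN''))
            rw [← hbs] at hc
            rw [← hc, h1]
          rcases mul_sIdem_eq S.hM S'.isPBlock_B (hsup _ (inv_mem hgN''))
            (by rw [← conjGA_mul, hbb]) (hinv _ (inv_mem hgN'')) with h3 | h3
          · rw [← hbs, h2] at h3
            refine ⟨hgN, fun x => ?_⟩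
            rw [← hbsIdem]
            conv_lhs => rw [← h3]
            rw [coeff_conjGA, inv_inv]
            congr 1
            group
          · rw [← hbs, h2] at h3
            have h4 := congrArg (conjGA g) h3
            rw [conjGA_conjGA, mul_inv_cancel, conjGA_one, conjGA_zero] at h4
            exact absurd h4 (sIdem_ne_zero S.hM S'.isPBlock_B)
        · exact h }
  -- the generator of the quotient
  have hcyc : IsCyclic S.E := isCyclic_of_injective _ S.modp_injective
  obtain ⟨⟨w, hwE⟩, hw⟩ := IsCyclic.exists_ofOrder_eq_natCard (α := S.E)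
  obtain ⟨γ₀, hγ₀⟩ := hwE
  rw [S.natCard_E] at hw
  have hγT : (γ₀ : G) ∈ T := by
    rw [hT, S.pairStab_below]
    exact Subgroup.mem_sup_left γ₀.2
  have hzne : z ≠ 1 := fun h => S.bot_ne_zero (S.el_eq_one_iff.1 h)
  have hγC : ∀ l : ℕ, (γ₀ : G) ^ l ∈ C ↔ S.e ∣ l := by
    intro l
    have h1 : (γ₀ : G) ^ l ∈ C ↔ (γ₀ : G) ^ l ∈ (cen S.D) := by
      refine ⟨fun h => S.mem_cen_of_fix (pow_mem γ₀.2 l) hzD hzne ?_, fun h => ?_⟩
      · rw [(Subgroup.mem_centralizer_singleton_iff.1 h), mul_inv_cancel_right]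
      · exact Subgroup.mem_centralizer_singleton_iff.2
          (Subgroup.mem_centralizer_iff.1 h z hzD).symm
    rw [h1, ← hw, orderOf_dvd_iff_pow_eq_one]
    constructor
    · intro h
      apply Subtype.ext
      have : γ₀ ^ l ∈ S.act.ker := by rw [S.act_ker]; exact h
      rw [MonoidHom.mem_ker, map_pow, hγ₀] at this
      simpa using this
    · intro h
      have h' := congrArg Subtype.val h
      simp only [SubmonoidClass.coe_pow, OneMemClass.coe_one] at h'
      rw [← hγ₀, ← map_pow, ← MonoidHom.mem_ker, S.act_ker] at h'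
      exact h'
  have hdec : ∀ t ∈ T, ∃ l : ℕ, ((γ₀ : G) ^ l)⁻¹ * t ∈ C := by
    have := Fintype.ofFinite (T ⧸ C.subgroupOf T)
    have hinj : Function.Injective
        (fun l : Fin S.e => ((⟨(γ₀ : G) ^ (l : ℕ), pow_mem hγT _⟩ : T) : T ⧸ C.subgroupOf T)) := by
      intro i j h
      dsimp only at h
      have h2 := QuotientGroup.eq.1 h
      have h' : ((γ₀ : G) ^ (i : ℕ))⁻¹ * (γ₀ : G) ^ (j : ℕ) ∈ C := h2
      have key : ∀ a b : ℕ, b < S.e → a ≤ b → ((γ₀ : G) ^ a)⁻¹ * (γ₀ : G) ^ b ∈ C → a = b := by
        intro a b hb hab hmem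
        rw [show (γ₀ : G) ^ b = (γ₀ : G) ^ a * (γ₀ : G) ^ (b - a) by
          rw [← pow_add, Nat.add_sub_cancel' hab], inv_mul_cancel_left] at hmem
        have := Nat.eq_zero_of_dvd_of_lt ((hγC _).1 hmem) (by omega)
        omega
      rcases le_total (i : ℕ) (j : ℕ) with hij | hij
      · exact Fin.ext (key _ _ j.2 hij h')
      · have h'' := C.inv_mem h'
        rw [mul_inv_rev, inv_inv] at h''
        exact Fin.ext (key _ _ i.2 hij h'').symm
    intro t ht
    obtain ⟨l, hl⟩ := (Fintype.bijective_iff_injective_and_card _).2 ⟨hinj, by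
      rw [Fintype.card_fin, ← Nat.card_eq_fintype_card, ← hidx]; rfl⟩ |>.2
        ((⟨t, ht⟩ : T) : T ⧸ C.subgroupOf T)
    dsimp only at hl
    have h2 := QuotientGroup.eq.1 hl
    exact ⟨l, h2⟩
  have hXq1 : SD.b * SD.X ^ (SD.q - 1) ≠ 0 := by
    show b * X ^ (p ^ S'.a - 1) ≠ 0
    rw [hb, hX, ← map_pow, ← map_mul]
    exact fun h => hXq1' (hιinj (h.trans (map_zero ι).symm))
  obtain ⟨η, hη, horth, hmain⟩ := SD.exists_cyclic_weights hXq1 (γ := (γ₀ : G)) hγT
    (fun l => (hγC l).trans (by rw [show SD.C.relIndex SD.T = S.e from hidx])) hdec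
  set EB := S.EB with hEB
  have hZp : IsPGroup p Zg := IsPGroup.of_card (n := 1) (by rw [Nat.card_zpowers, hzp, pow_one])
  have hZC : Zg ≤ C := Subgroup.zpowers_le.2 hzC
  have hCH : (cen Zg) ≤ C := hcenZ.le
  have hHN : C ≤ Subgroup.normalizer (Zg : Set G) := hcenZ ▸ Subgroup.centralizer_le_normalizer _
  -- the Brauer image
  have hbr : projT C EB * b = b := by
    set bz := brHom (k := (kres M)) hZp hCH hHN (blkIdem M S.B) with hbz
    have hblk : IsPBlock M (S.blk S.bot) := S.isPBlock_blk _
    obtain ⟨θ, hθ⟩ := isPBlock_nonempty hblk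
    obtain ⟨χ, hχ⟩ := isPBlock_nonempty S.isPBlock_B
    have h1 := (isInducedBlock_iff C hblk S.isPBlock_B hθ hχ).1 (S.blk_induced _) (blkIdem M S.B)
    rw [lam_resZ_eq_brHom S.hM hZp hZC hCH hHN,
      (algHom_blkIdem_eq_one_iff S.hM S.isPBlock_B χ).2 hχ, ← hbz] at h1
    obtain ⟨n, hn⟩ := isNilpotent_sub_lam_mul_blkIdem S.hM hblk hθ bz
    rw [h1, map_one] at hn
    have hbzi : bz * bz = bz := by rw [hbz, ← map_mul, blkIdem_idem S.hM S.isPBlock_B]
    set zc : MonoidAlgebra (kres M) C := (bz : MonoidAlgebra (kres M) C) with hzc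
    set ec : MonoidAlgebra (kres M) C :=
      (blkIdem M (S.blk S.bot) : MonoidAlgebra (kres M) C) with hec
    have hcomm : zc * ec = ec * zc :=
      (Subalgebra.mem_center_iff.1 (blkIdem M (S.blk S.bot)).2) zc
    have hcc : ec * ec = ec := congrArg Subtype.val (blkIdem_idem S.hM hblk)
    have hzz : zc * zc = zc := congrArg Subtype.val hbzi
    have hm' : IsNilpotent ((zc - 1) * ec) := ⟨n, by
      have h := congrArg Subtype.val hn
      simpa using h⟩
    have ha1 : ec * (zc * ec) = zc * ec := by rw [← mul_assoc, ← hcomm, mul_assoc, hcc]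
    have ha2 : zc * ec * ec = zc * ec := by rw [mul_assoc, hcc]
    have ha3 : zc * ec * (zc * ec) = zc * ec := by rw [mul_assoc, ha1, ← mul_assoc, hzz]
    have hidem : IsIdempotentElem (ec - zc * ec) := by
      change (ec - zc * ec) * (ec - zc * ec) = ec - zc * ec
      rw [sub_mul, mul_sub, mul_sub, hcc, ha1, ha2, ha3, sub_self, sub_zero]
    obtain ⟨n', hn'⟩ : IsNilpotent (ec - zc * ec) := by
      rw [show ec - zc * ec = -((zc - 1) * ec) by rw [sub_mul, one_mul, neg_sub]]
      exact hm'.neg
    have h3 : zc * ec = ec := by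
      have h4 : ec - zc * ec = 0 := by rw [← hidem.pow_succ_eq n', pow_succ, hn', zero_mul]
      exact (sub_eq_zero.1 h4).symm
    have hproj : projT C EB = ι (bz : MonoidAlgebra (kres M) C) := by
      ext g
      rw [coeff_projT]
      split_ifs with hg
      · rw [show g = ((⟨g, hg⟩ : C) : G) from rfl, hι, coeff_inclSub_of_mem, hbz, coe_brHom,
          coeff_brRes_of_mem _ (hcenZ.ge hg)]
      · rw [hι, coeff_inclSub_of_not_mem _ _ hg]
    rw [hproj, hb, ← map_mul]
    refine congrArg ι ?_
    show zc * (blkIdem M S'.B : MonoidAlgebra (kres M) C) =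
      (blkIdem M S'.B : MonoidAlgebra (kres M) C)
    rw [hB']
    exact h3
  have hoff : SD.InI ((projT T EB - projT C EB) * b) := by
    set w := projT T EB - projT C EB with hw'
    have hwcoeff : ∀ g, w.coeff g = if g ∈ T ∧ g ∉ C then EB.coeff g else 0 := fun g => by
      rw [hw', coeff_sub, Finsupp.sub_apply, coeff_projT, coeff_projT]
      by_cases hgC : g ∈ C
      · simp [hgC, hCT hgC]
      · by_cases hgT : g ∈ T <;> simp [hgC, hgT]
    have hrest : ∀ g, g ∈ T → g ∉ C → ∀ i : ℕ, EB.coeff (g * z ^ i) = EB.coeff g := by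
      intro g hgT hg i
      obtain ⟨j, hj⟩ := mem_powers_iff_mem_zpowers.2
        ((Subgroup.mem_normalizer_iff''.1 (hTN hgT) z).1 (Subgroup.mem_zpowers z))
      have hj : z ^ j = g⁻¹ * z * g := hj
      have hj1 : (j : ZMod p) ≠ 1 := by
        intro h
        apply hg
        have h' : z ^ j = z ^ 1 := by
          rw [pow_eq_pow_iff_modEq, hzp, ← ZMod.natCast_eq_natCast_iff, h, Nat.cast_one]
        rw [pow_one, hj, mul_assoc, inv_mul_eq_iff_eq_mul] at h'
        exact Subgroup.mem_centralizer_singleton_iff.2 h'.symm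
      set l : ℕ := ((i : ZMod p) * ((j : ZMod p) - 1)⁻¹).val with hl
      have hl' : z ^ l * g * (z ^ l)⁻¹ = g * z ^ i := by
        have h1 : z ^ l * g = g * z ^ (j * l) := by
          rw [pow_mul, hj]
          have := conj_pow (a := g⁻¹) (b := z) (i := l)
          rw [inv_inv] at this
          rw [this]
          group
        rw [h1, mul_assoc]
        congr 1
        rw [mul_inv_eq_iff_eq_mul, ← pow_add, pow_eq_pow_iff_modEq, hzp,
          ← ZMod.natCast_eq_natCast_iff]
        push_cast [hl, ZMod.natCast_zmod_val]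
        field_simp [sub_ne_zero.2 hj1]
        ring
      rw [← hl']
      exact isClassCoeff_center (blkIdem M S.B) g (z ^ l)
    set w' : MonoidAlgebra (kres M) G :=
      mkGA fun g => if (g : G ⧸ Zg).out = g then w.coeff g else 0 with hw''
    have hw'T : SuppIn T w' := fun g hg => by
      rw [hw'', coeff_mkGA, hwcoeff]
      simp [hg]
    have hzsum : w = w' * ∑ i ∈ Finset.range p, of (kres M) G (z ^ i) := by
      ext g
      simp only [Finset.mul_sum, coeff_sum, Finsupp.finsetSum_apply, of_apply,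
        coeff_mul_single_apply, mul_one, hw'', coeff_mkGA]
      obtain ⟨i, hi, hgi⟩ : ∃ i < p, (g : G ⧸ Zg).out = g * (z ^ i)⁻¹ := by
        have h : ((g : G ⧸ Zg).out : G ⧸ Zg) = (g : G ⧸ Zg) := QuotientGroup.out_eq' _
        have h' : (g : G ⧸ Zg).out⁻¹ * g ∈ Zg := QuotientGroup.eq.1 h
        obtain ⟨i, hi⟩ := mem_powers_iff_mem_zpowers.2 h'
        refine ⟨i % p, Nat.mod_lt _ hp.out.pos, ?_⟩
        rw [← hzp, pow_mod_orderOf, show z ^ i = (g : G ⧸ Zg).out⁻¹ * g from hi]
        group
      rw [Finset.sum_eq_single_of_mem i (Finset.mem_range.2 hi)]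
      · have hcoset : ((g * (z ^ i)⁻¹ : G) : G ⧸ Zg) = (g : G ⧸ Zg) := by
          rw [QuotientGroup.eq]
          rw [mul_inv_rev, inv_inv, inv_mul_cancel_right]
          exact pow_mem (Subgroup.mem_zpowers z) i
        rw [hcoset, if_pos hgi, hwcoeff, hwcoeff]
        have hzi : (z ^ i)⁻¹ ∈ C := inv_mem (pow_mem hzC i)
        simp only [Subgroup.mul_mem_cancel_right _ hzi,
          Subgroup.mul_mem_cancel_right _ (hCT hzi)]
        split_ifs with h
        · obtain ⟨i', hi'⟩ := mem_powers_iff_mem_zpowers.2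
            (inv_mem (pow_mem (Subgroup.mem_zpowers z) i) : (z ^ i)⁻¹ ∈ Zg)
          rw [← show z ^ i' = (z ^ i)⁻¹ from hi', hrest g h.1 h.2 i']
        · rfl
      · intro j hj hji
        rw [if_neg]
        intro h
        apply hji
        have hcoset : ((g * (z ^ j)⁻¹ : G) : G ⧸ Zg) = (g : G ⧸ Zg) := by
          rw [QuotientGroup.eq]
          rw [mul_inv_rev, inv_inv, inv_mul_cancel_right]
          exact pow_mem (Subgroup.mem_zpowers z) j
        rw [hcoset, hgi] at h
        have h2 := inv_injective (mul_left_cancel h)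
        exact (pow_injOn_Iio_orderOf (by rw [hzp]; exact Finset.mem_range.1 hj)
          (by rw [hzp]; exact hi) h2.symm)
    set v := (of (kres M) G z - 1) * b with hv
    have hvc : ∀ a, SuppIn C a → v * a = a * v := by
      intro a ha
      have h1 : b * a = a * b := by rw [← hιres ha, hb, ← map_mul, ← map_mul, S'.EB_comm]
      have h2 : of (kres M) G z * a = a * of (kres M) G z := by
        rw [eq_sum_of_suppIn ha, Finset.mul_sum, Finset.sum_mul]
        refine Finset.sum_congr rfl fun g hg => ?_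
        rw [mul_smul_comm, smul_mul_assoc, ← map_mul, ← map_mul,
          Subgroup.mem_centralizer_singleton_iff.1 (Finset.mem_filter.1 hg).2]
      rw [hv, mul_assoc, h1, ← mul_assoc, sub_mul, h2, one_mul]
      simp only [mul_sub, sub_mul, mul_one, one_mul, mul_assoc]
    have hzb : Commute (of (kres M) G z - 1) b := by
      show _ * _ = _ * _
      rw [sub_mul, mul_sub, hbT z (hCT hzC), one_mul, mul_one]
    have hz1 : (of (kres M) G z - 1) ^ p = 0 := by
      have : CharP (MonoidAlgebra (kres M) G) p := charP_of_injective_algebraMap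
        (algebraMap (kres M) (MonoidAlgebra (kres M) G)).injective p
      rw [sub_pow_char_of_commute p (Commute.one_right _), one_pow, ← map_pow, ← hzp,
        pow_orderOf_eq_one, map_one, sub_self]
    obtain ⟨x, hx, hvx⟩ := hcenX v
      (suppIn_mul (suppIn_sub (suppIn_of hzC) (suppIn_one _)) hbC) hvc
      (by rw [hv, mul_assoc, hbb]) ⟨p, by rw [hv, hzb.mul_pow, hz1, zero_mul]⟩
    have hgeom : (∑ i ∈ Finset.range p, of (kres M) G (z ^ i)) = (of (kres M) G z - 1) ^ (p - 1) := by
      have hpoly : ∑ i ∈ Finset.range p, (Polynomial.X : Polynomial (kres M)) ^ i =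
          (Polynomial.X - 1) ^ (p - 1) := by
        refine mul_right_cancel₀ (Polynomial.X_sub_C_ne_zero 1) ?_
        rw [map_one, geom_sum_mul, ← pow_succ, Nat.sub_add_cancel hp.out.one_le, sub_pow_char,
          one_pow]
      have h := congrArg (Polynomial.aeval (of (kres M) G z)) hpoly
      simp only [map_sum, map_pow, map_sub, Polynomial.aeval_X, map_one] at h
      rw [← h]
      simp [map_pow]
    obtain ⟨r, hr⟩ : ∃ r, p - 1 = r + 1 := ⟨p - 2, by have := hp.out.two_le; omega⟩
    have e : w * b = w' * ((of (kres M) G z - 1) ^ r * (X * x)) := by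
      rw [hzsum, mul_assoc, hgeom, hr, pow_succ, mul_assoc, ← hv, hvx]
    rw [e]
    refine SD.inI_mul_left (SD.inI_mul_left ⟨x, suppIn_mono hCT hx, rfl⟩ ?_) hw'T
    exact suppIn_pow (suppIn_sub (suppIn_of (hCT hzC)) (suppIn_one _)) r
  obtain ⟨τ, bb, hb1, hb0, hfix, hpel, hcommτ⟩ := SD.exists_trace_functionals η hη horth
    (E := EB) S.EB_comm S.EB_idem
    (fun i => hmain _ (suppIn_projT _ _) (by
      have e : projT SD.T EB * SD.b - SD.b = (projT T EB - projT C EB) * b := by
        rw [sub_mul, hbr]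
      rw [e]
      exact hoff) i)
  have h := natCard_le_blockRank S.hM S.isPBlock_B τ bb hb1 hb0 hfix hpel hcommτ
  rw [Nat.card_fin] at h
  exact hidx ▸ h

end CfsgLib.Block.CycBlock
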