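import Mathlib.Algebra.MonoidAlgebra.MapDomain
import Mathlib.Algebra.Algebra.Subalgebra.Basic
import Mathlib.Algebra.CharP.Algebra
import Mathlib.Algebra.Field.ZMod
import Mathlib.GroupTheory.PGroup
import Mathlib.RingTheory.Nilpotent.Basic
import Mathlib.GroupTheory.Subgroup.Centralizer
import Mathlib.Tactic

/-!
Group algebras of finite groups: class-function coefficients, class sums, the Brauer map and the
nilpotency of central elements vanishing on the centralizer of a normal `p`-subgroup.
-/

set_option autoImplicit false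
set_option linter.unusedSectionVars false

namespace CfsgLib.Block

open MonoidAlgebra

universe u v

section FixedSum

/-- A sum of a function invariant under a `p`-group, in a `p`-torsion monoid, is the sum over the
fixed points. -/
theorem sum_eq_sum_fixed {p : ℕ} [Fact p.Prime] {P : Type*} [Group P] (hP : IsPGroup p P)
    {α : Type*} [MulAction P α] [Fintype α] {N : Type*} [AddCommMonoid N]
    (hN : ∀ v : N, p • v = 0) (f : α → N) (hf : ∀ (u : P) (x : α), f (u • x) = f x)
    [DecidablePred (· ∈ MulAction.fixedPoints P α)] :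
    ∑ x, f x = ∑ x with x ∈ MulAction.fixedPoints P α, f x := by
  classical
  rw [← Finset.sum_filter_add_sum_filter_not Finset.univ (· ∈ MulAction.fixedPoints P α)]
  conv_rhs => rw [← add_zero (∑ x with x ∈ MulAction.fixedPoints P α, f x)]
  congr 1
  rw [← Finset.sum_fiberwise_of_maps_to
    (fun x hx => Finset.mem_image_of_mem f hx) f]
  refine Finset.sum_eq_zero fun v _ => ?_
  rw [Finset.sum_congr rfl (g := fun _ => v) (fun x hx => (Finset.mem_filter.1 hx).2),
    Finset.sum_const]
  let S : SubMulAction P α :=
    { carrier := {x | x ∉ MulAction.fixedPoints P α ∧ f x = v}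
      smul_mem' := by
        rintro u x ⟨hx, hv⟩
        refine ⟨fun h => hx fun w => ?_, by rw [hf, hv]⟩
        have h1 : u • x = x := by
          have := h u⁻¹
          rw [inv_smul_smul] at this
          exact this.symm
        rw [← h1]
        exact h w }
  have hfix : IsEmpty (MulAction.fixedPoints P S) := ⟨fun ⟨⟨x, hx⟩, hfx⟩ => hx.1 fun w =>
    congrArg Subtype.val (hfx w)⟩
  have hmod := hP.card_modEq_card_fixedPoints S
  rw [Nat.card_of_isEmpty (α := MulAction.fixedPoints P S), Nat.modEq_zero_iff_dvd] at hmod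
  obtain ⟨c, hc⟩ := hmod
  have hcard : (Finset.filter (fun a => f a = v)
      (Finset.filter (fun a => a ∉ MulAction.fixedPoints P α) Finset.univ)).card = Nat.card S := by
    rw [Nat.card_eq_fintype_card]
    exact (Fintype.card_of_subtype _ (fun x => by
      simp only [Finset.mem_filter, Finset.mem_univ, true_and]
      exact Iff.rfl)).symm
  rw [hcard, hc, mul_nsmul, hN, smul_zero]

end FixedSum

section Basic

variable {k : Type v} [CommRing k] {G : Type u} [Group G]

/-- The coefficients of `a` form a class function. -/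
def IsClassCoeff (a : MonoidAlgebra k G) : Prop :=
  ∀ g h : G, a.coeff (h * g * h⁻¹) = a.coeff g

/-- The element of the group algebra with given coefficients. -/
noncomputable def mkGA [Finite G] (f : G → k) : MonoidAlgebra k G :=
  MonoidAlgebra.ofCoeff (Finsupp.equivFunOnFinite.symm f)

@[simp]
theorem coeff_mkGA [Finite G] (f : G → k) (g : G) : (mkGA f).coeff g = f g := by
  simp [mkGA]

theorem mkGA_coeff [Finite G] (a : MonoidAlgebra k G) : mkGA (fun g => a.coeff g) = a := by
  ext g; simp

theorem coeff_mul_eq [Fintype G] (a b : MonoidAlgebra k G) (g : G) :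
    (a * b).coeff g = ∑ x, a.coeff x * b.coeff (x⁻¹ * g) := by
  rw [coeff_mul_apply_left, Finsupp.sum_fintype]
  intro i
  simp

theorem isClassCoeff_iff_mem_center {a : MonoidAlgebra k G} :
    IsClassCoeff a ↔ a ∈ Subalgebra.center k (MonoidAlgebra k G) := by
  constructor
  · intro ha
    rw [Subalgebra.mem_center_iff]
    intro b
    induction b using MonoidAlgebra.induction_linear with
    | zero => simp
    | add x y hx hy => rw [add_mul, mul_add, hx, hy]
    | single g r =>
      ext x
      rw [coeff_single_mul_apply, coeff_mul_single_apply, mul_comm r]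
      congr 1
      rw [← ha (g⁻¹ * x) g]
      group
  · intro ha g h
    rw [Subalgebra.mem_center_iff] at ha
    have := congrArg (fun z => z.coeff (h * g)) (ha (single h 1))
    simp only [coeff_single_mul_apply, coeff_mul_single_apply, one_mul, mul_one] at this
    rw [← this]
    group

theorem isClassCoeff_center (a : Subalgebra.center k (MonoidAlgebra k G)) :
    IsClassCoeff (a : MonoidAlgebra k G) :=
  isClassCoeff_iff_mem_center.2 a.2

theorem coeff_eq_of_isConj {a : MonoidAlgebra k G} (ha : IsClassCoeff a) {g h : G}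
    (hgh : IsConj g h) : a.coeff g = a.coeff h := by
  obtain ⟨c, hc⟩ := isConj_iff.1 hgh
  rw [← hc, ha]

theorem char_nsmul_eq_zero {p : ℕ} [CharP k p] (v : MonoidAlgebra k G) : p • v = 0 := by
  ext x
  rw [coeff_smul, Finsupp.smul_apply, nsmul_eq_mul, CharP.cast_eq_zero, zero_mul]
  simp

/-- The class sum of `g`. -/
noncomputable def classSum [Finite G] (k : Type v) [CommRing k] (g : G) : MonoidAlgebra k G :=
  open Classical in mkGA fun x => if IsConj g x then 1 else 0

theorem coeff_classSum [Finite G] (g x : G) [Decidable (IsConj g x)] :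
    (classSum k g).coeff x = if IsConj g x then 1 else 0 := by
  simp only [classSum, coeff_mkGA]
  congr

theorem classSum_isClassCoeff [Finite G] (g : G) : IsClassCoeff (classSum k g) := by
  classical
  intro x h
  rw [coeff_classSum, coeff_classSum]
  have : IsConj g (h * x * h⁻¹) ↔ IsConj g x :=
    ⟨fun hh => hh.trans (isConj_iff.2 ⟨h⁻¹, by group⟩),
      fun hh => hh.trans (isConj_iff.2 ⟨h, rfl⟩)⟩
  simp only [this]

theorem classSum_mem_center [Finite G] (g : G) :
    classSum k g ∈ Subalgebra.center k (MonoidAlgebra k G) :=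
  isClassCoeff_iff_mem_center.1 (classSum_isClassCoeff g)

/-- The class sum of `g` as a central element. -/
noncomputable def classSumZ [Finite G] (k : Type v) [CommRing k] (g : G) :
    Subalgebra.center k (MonoidAlgebra k G) := ⟨classSum k g, classSum_mem_center g⟩

theorem classSum_eq_of_isConj [Finite G] {g h : G} (hgh : IsConj g h) :
    classSum k g = classSum k h := by
  classical
  ext x
  rw [coeff_classSum, coeff_classSum]
  have : IsConj g x ↔ IsConj h x := ⟨fun hh => hgh.symm.trans hh, fun hh => hgh.trans hh⟩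
  simp only [this]

theorem eq_sum_classSum [Finite G] [Fintype (ConjClasses G)] {a : MonoidAlgebra k G}
    (ha : IsClassCoeff a) :
    a = ∑ C : ConjClasses G, a.coeff C.out • classSum k C.out := by
  classical
  ext x
  rw [coeff_sum, Finset.sum_apply']
  simp only [coeff_smul, Finsupp.smul_apply, coeff_classSum, smul_eq_mul]
  rw [Finset.sum_eq_single (ConjClasses.mk x)]
  · have hc : IsConj (ConjClasses.mk x).out x :=
      ConjClasses.mk_eq_mk_iff_isConj.1 (Quotient.out_eq _)
    rw [if_pos hc, mul_one, coeff_eq_of_isConj ha hc]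
  · intro C _ hC
    rw [if_neg, mul_zero]
    intro hc
    apply hC
    rw [← ConjClasses.mk_eq_mk_iff_isConj.2 hc]
    exact (Quotient.out_eq C).symm
  · simp

theorem mapRingHom_classSum [Finite G] {k' : Type*} [CommRing k'] (f : k →+* k') (g : G) :
    mapRingHom G f (classSum k g) = classSum k' g := by
  classical
  ext x
  simp only [coeff_mapRingHom, coeff_classSum]
  split <;> simp

theorem mapRingHom_isClassCoeff {k' : Type*} [CommRing k'] (f : k →+* k')
    {a : MonoidAlgebra k G} (ha : IsClassCoeff a) : IsClassCoeff (mapRingHom G f a) := by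
  intro g h
  simp only [coeff_mapRingHom, ha g h]

end Basic

section Brauer

variable {k : Type v} [CommRing k] {G : Type u} [Group G]

/-- Coefficients invariant under conjugation by `P`. -/
def IsPInv (P : Subgroup G) (a : MonoidAlgebra k G) : Prop :=
  ∀ u ∈ P, ∀ x : G, a.coeff (u * x * u⁻¹) = a.coeff x

theorem isPInv_of_isClassCoeff {a : MonoidAlgebra k G} (ha : IsClassCoeff a) (P : Subgroup G) :
    IsPInv P a := fun u _ x => ha x u

variable [Finite G]

/-- The Brauer map: keep the coefficients on `H ∩ C(P)`, read in the group algebra of `H`. -/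
noncomputable def brRes (P H : Subgroup G) (a : MonoidAlgebra k G) : MonoidAlgebra k H :=
  open Classical in
  mkGA fun h : H => if (h : G) ∈ Subgroup.centralizer (P : Set G) then a.coeff (h : G) else 0

theorem coeff_brRes_of_mem {P H : Subgroup G} (a : MonoidAlgebra k G) {h : H}
    (hh : (h : G) ∈ Subgroup.centralizer (P : Set G)) :
    (brRes P H a).coeff h = a.coeff (h : G) := by
  simp [brRes, hh]

theorem coeff_brRes_of_not_mem {P H : Subgroup G} (a : MonoidAlgebra k G) {h : H}
    (hh : (h : G) ∉ Subgroup.centralizer (P : Set G)) :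
    (brRes P H a).coeff h = 0 := by
  simp [brRes, hh]

theorem brRes_add (P H : Subgroup G) (a b : MonoidAlgebra k G) :
    brRes P H (a + b) = brRes P H a + brRes P H b := by
  ext h
  by_cases hh : (h : G) ∈ Subgroup.centralizer (P : Set G) <;>
    simp [coeff_brRes_of_mem, coeff_brRes_of_not_mem, hh]

theorem brRes_zero (P H : Subgroup G) : brRes P H (0 : MonoidAlgebra k G) = 0 := by
  ext h
  by_cases hh : (h : G) ∈ Subgroup.centralizer (P : Set G) <;>
    simp [coeff_brRes_of_mem, coeff_brRes_of_not_mem, hh]

theorem brRes_smul (P H : Subgroup G) (c : k) (a : MonoidAlgebra k G) :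
    brRes P H (c • a) = c • brRes P H a := by
  ext h
  by_cases hh : (h : G) ∈ Subgroup.centralizer (P : Set G) <;>
    simp [coeff_brRes_of_mem, coeff_brRes_of_not_mem, hh]

theorem brRes_one (P H : Subgroup G) : brRes P H (1 : MonoidAlgebra k G) = 1 := by
  classical
  ext h
  by_cases hh : (h : G) ∈ Subgroup.centralizer (P : Set G)
  · rw [coeff_brRes_of_mem _ hh]
    rcases eq_or_ne h 1 with rfl | h1
    · simp [one_def]
    · have h2 : (h : G) ≠ 1 := fun hh => h1 (Subtype.ext hh)
      simp [one_def, h1, h2]
  · rw [coeff_brRes_of_not_mem _ hh]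
    have : h ≠ 1 := by rintro rfl; exact hh (Subgroup.one_mem _)
    simp [one_def, Finsupp.single_apply, Ne.symm this]

/-- The congruence behind the Brauer homomorphism. -/
theorem coeff_mul_of_mem_centralizer [Fintype G] {p : ℕ} [Fact p.Prime] [CharP k p]
    {P : Subgroup G} (hP : IsPGroup p P) {a b : MonoidAlgebra k G} (ha : IsPInv P a)
    (hb : IsPInv P b) {c : G} (hc : c ∈ Subgroup.centralizer (P : Set G))
    [DecidablePred (· ∈ Subgroup.centralizer (P : Set G))] :
    (a * b).coeff c =
      ∑ x with x ∈ Subgroup.centralizer (P : Set G), a.coeff x * b.coeff (x⁻¹ * c) := by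
  classical
  let _ : MulAction P G :=
    { smul := fun u x => (u : G) * x * (u : G)⁻¹
      one_smul := fun x => by change (1 : G) * x * (1 : G)⁻¹ = x; simp
      mul_smul := fun u v x => by
        change ((u * v : P) : G) * x * ((u * v : P) : G)⁻¹
          = (u : G) * ((v : G) * x * (v : G)⁻¹) * (u : G)⁻¹
        push_cast
        group }
  rw [coeff_mul_eq, sum_eq_sum_fixed hP (p := p) (fun v => by simp [nsmul_eq_mul])]
  · refine Finset.sum_congr (Finset.filter_congr fun x _ => ?_) fun _ _ => rfl
    rw [Subgroup.mem_centralizer_iff]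
    constructor
    · intro h u hu
      have h1 : u * x * u⁻¹ = x := h ⟨u, hu⟩
      exact mul_inv_eq_iff_eq_mul.1 h1
    · intro h u
      change (u : G) * x * (u : G)⁻¹ = x
      rw [h u u.2]; group
  · intro u x
    change a.coeff ((u : G) * x * (u : G)⁻¹) *
      b.coeff (((u : G) * x * (u : G)⁻¹)⁻¹ * c) = _
    rw [ha u u.2 x]
    congr 1
    have hcu : (u : G) * c = c * (u : G) := Subgroup.mem_centralizer_iff.1 hc u u.2
    have : ((u : G) * x * (u : G)⁻¹)⁻¹ * c = (u : G) * (x⁻¹ * c) * (u : G)⁻¹ := by
      have h2 : (u : G)⁻¹ * c = c * (u : G)⁻¹ := by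
        rw [inv_mul_eq_iff_eq_mul, ← mul_assoc, hcu]; group
      calc ((u : G) * x * (u : G)⁻¹)⁻¹ * c = (u : G) * x⁻¹ * ((u : G)⁻¹ * c) := by group
        _ = (u : G) * x⁻¹ * (c * (u : G)⁻¹) := by rw [h2]
        _ = _ := by group
    rw [this, hb u u.2]

theorem brRes_mul {p : ℕ} [Fact p.Prime] [CharP k p] {P H : Subgroup G} (hP : IsPGroup p P)
    (hCH : Subgroup.centralizer (P : Set G) ≤ H) {a b : MonoidAlgebra k G} (ha : IsPInv P a)
    (hb : IsPInv P b) : brRes P H (a * b) = brRes P H a * brRes P H b := by
  classical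
  have := Fintype.ofFinite G
  ext c
  rw [coeff_mul_eq (brRes P H a)]
  by_cases hc : (c : G) ∈ Subgroup.centralizer (P : Set G)
  · rw [coeff_brRes_of_mem _ hc, coeff_mul_of_mem_centralizer hP ha hb hc]
    rw [← Finset.sum_filter_of_ne (s := (Finset.univ : Finset H))
      (p := fun y : H => (y : G) ∈ Subgroup.centralizer (P : Set G))]
    · refine (Finset.sum_nbij' (i := fun y : H => (y : G))
        (j := fun x : G => if hx : x ∈ H then (⟨x, hx⟩ : H) else 1) ?_ ?_ ?_ ?_ ?_).symm
      · intro y hy; simpa using hy
      · intro x hx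
        have hx' : x ∈ Subgroup.centralizer (P : Set G) := by simpa using hx
        simp [hCH hx', hx']
      · intro y _; simp
      · intro x hx
        have hx' : x ∈ Subgroup.centralizer (P : Set G) := by simpa using hx
        simp [hCH hx']
      · intro y hy
        have hy' : (y : G) ∈ Subgroup.centralizer (P : Set G) := by simpa using hy
        have hyc : ((y⁻¹ * c : H) : G) ∈ Subgroup.centralizer (P : Set G) := by
          push_cast
          exact Subgroup.mul_mem _ (Subgroup.inv_mem _ hy') hc
        rw [coeff_brRes_of_mem _ hy', coeff_brRes_of_mem _ hyc]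
        simp
    · intro y _ hne
      by_contra hy
      exact hne (by rw [coeff_brRes_of_not_mem _ hy, zero_mul])
  · rw [coeff_brRes_of_not_mem _ hc, Finset.sum_eq_zero]
    intro y _
    by_cases hy : (y : G) ∈ Subgroup.centralizer (P : Set G)
    · rw [coeff_brRes_of_not_mem b, mul_zero]
      intro h
      apply hc
      have := Subgroup.mul_mem _ hy h
      simpa using this
    · rw [coeff_brRes_of_not_mem _ hy, zero_mul]

theorem brRes_isClassCoeff {P H : Subgroup G} (hHN : H ≤ Subgroup.normalizer (P : Set G))
    {a : MonoidAlgebra k G} (ha : IsClassCoeff a) : IsClassCoeff (brRes P H a) := by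
  intro x h
  have hn : ∀ n : G, n ∈ Subgroup.normalizer (P : Set G) → ∀ y : G,
      y ∈ Subgroup.centralizer (P : Set G) → n * y * n⁻¹ ∈ Subgroup.centralizer (P : Set G) := by
    intro n hn y hy
    rw [Subgroup.mem_centralizer_iff] at hy ⊢
    intro u hu
    have hu' : n⁻¹ * u * n ∈ (P : Set G) := by
      have := (Subgroup.mem_normalizer_iff.1 (Subgroup.inv_mem _ hn) u).1 hu
      simpa using this
    have := hy _ hu'
    calc u * (n * y * n⁻¹) = n * ((n⁻¹ * u * n) * y) * n⁻¹ := by group
      _ = n * (y * (n⁻¹ * u * n)) * n⁻¹ := by rw [this]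
      _ = _ := by group
  by_cases hx : (x : G) ∈ Subgroup.centralizer (P : Set G)
  · have hx' : ((h * x * h⁻¹ : H) : G) ∈ Subgroup.centralizer (P : Set G) := by
      push_cast
      exact hn h (hHN h.2) x hx
    rw [coeff_brRes_of_mem _ hx, coeff_brRes_of_mem _ hx']
    push_cast
    rw [ha]
  · have hx' : ((h * x * h⁻¹ : H) : G) ∉ Subgroup.centralizer (P : Set G) := by
      intro hh
      apply hx
      push_cast at hh
      have := hn (h : G)⁻¹ (Subgroup.inv_mem _ (hHN h.2)) _ hh
      simpa [mul_assoc] using this
    rw [coeff_brRes_of_not_mem _ hx, coeff_brRes_of_not_mem _ hx']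

/-- The Brauer homomorphism between centres of group algebras. -/
noncomputable def brHom {p : ℕ} [Fact p.Prime] [CharP k p] {P H : Subgroup G} (hP : IsPGroup p P)
    (hCH : Subgroup.centralizer (P : Set G) ≤ H) (hHN : H ≤ Subgroup.normalizer (P : Set G)) :
    Subalgebra.center k (MonoidAlgebra k G) →ₐ[k] Subalgebra.center k (MonoidAlgebra k H) where
  toFun a := ⟨brRes P H a, isClassCoeff_iff_mem_center.1
    (brRes_isClassCoeff hHN (isClassCoeff_center a))⟩
  map_one' := by
    apply Subtype.ext
    simp only [OneMemClass.coe_one]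
    exact brRes_one P H
  map_mul' a b := by
    apply Subtype.ext
    simp only [MulMemClass.coe_mul]
    exact brRes_mul hP hCH (isPInv_of_isClassCoeff (isClassCoeff_center a) P)
      (isPInv_of_isClassCoeff (isClassCoeff_center b) P)
  map_zero' := by
    apply Subtype.ext
    simp only [ZeroMemClass.coe_zero]
    exact brRes_zero P H
  map_add' a b := by
    apply Subtype.ext
    simp only [AddMemClass.coe_add]
    exact brRes_add P H _ _
  commutes' r := by
    apply Subtype.ext
    simp only [Subalgebra.coe_algebraMap]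
    rw [Algebra.algebraMap_eq_smul_one, Algebra.algebraMap_eq_smul_one, brRes_smul, brRes_one]

@[simp]
theorem coe_brHom {p : ℕ} [Fact p.Prime] [CharP k p] {P H : Subgroup G} (hP : IsPGroup p P)
    (hCH : Subgroup.centralizer (P : Set G) ≤ H) (hHN : H ≤ Subgroup.normalizer (P : Set G))
    (a : Subalgebra.center k (MonoidAlgebra k G)) :
    ((brHom hP hCH hHN a : Subalgebra.center k (MonoidAlgebra k H)) : MonoidAlgebra k H)
      = brRes P H (a : MonoidAlgebra k G) := rfl

end Brauer

section Nilpotent

variable {G : Type u} [Group G] [Finite G]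

/-- A class sum of a class missing the centralizer of a normal `p`-subgroup is nilpotent over
`ZMod p`. -/
theorem isNilpotent_classSum_zmod {p : ℕ} [Fact p.Prime] {P : Subgroup G} [hPn : P.Normal]
    (hP : IsPGroup p P) {g : G} (hg : ∀ x, IsConj g x → x ∉ Subgroup.centralizer (P : Set G)) :
    IsNilpotent (classSum (ZMod p) g) := by
  classical
  have := Fintype.ofFinite G
  set K := classSum (ZMod p) g with hK
  have : Finite (MonoidAlgebra (ZMod p) G) :=
    Finite.of_equiv (G → ZMod p) (Finsupp.equivFunOnFinite.symm.trans coeffEquiv.symm)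
  obtain ⟨i, j, hij, hpow⟩ : ∃ i j : ℕ, i < j ∧ K ^ i = K ^ j := by
    obtain ⟨i, j, hne, h⟩ := Finite.exists_ne_map_eq_of_infinite (fun n : ℕ => K ^ n)
    rcases Nat.lt_or_gt_of_ne hne with hlt | hlt
    · exact ⟨i, j, hlt, h⟩
    · exact ⟨j, i, hlt, h.symm⟩
  obtain ⟨d, hd⟩ : ∃ d, j = i + (d + 1) := ⟨j - i - 1, by omega⟩
  subst hd
  have hper : ∀ t m, i ≤ m → K ^ (m + t * (d + 1)) = K ^ m := by
    intro t
    induction t with
    | zero => simp
    | succ t ih =>
      intro m hm
      obtain ⟨r, rfl⟩ := Nat.exists_eq_add_of_le hm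
      rw [show i + r + (t + 1) * (d + 1) = (i + (d + 1) + r) + t * (d + 1) by ring,
        ih _ (by omega), pow_add, ← hpow, ← pow_add]
  set N := (i + 1) * (d + 1) with hN
  refine ⟨N, ?_⟩
  set e := K ^ N with he
  have hee : e * e = e := by
    rw [he, ← pow_add]
    exact hper (i + 1) N (by nlinarith)
  have hec : ∀ b, b * e = e * b := by
    intro b
    exact Subalgebra.mem_center_iff.1 (Subalgebra.pow_mem _ (classSum_mem_center g) N) b
  by_contra hne
  -- the additive group `V = e * A`
  let V : AddSubgroup (MonoidAlgebra (ZMod p) G) :=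
    { carrier := {w | e * w = w}
      add_mem' := fun {a b} (ha : e * a = a) (hb : e * b = b) => by
        change e * (a + b) = a + b
        rw [mul_add, ha, hb]
      zero_mem' := mul_zero _
      neg_mem' := fun {a} (ha : e * a = a) => by
        change e * (-a) = -a
        rw [mul_neg, ha] }
  have hpV : ∀ w : V, p • w = 0 := by
    intro w
    apply Subtype.ext
    change p • (w : MonoidAlgebra (ZMod p) G) = 0
    exact char_nsmul_eq_zero _
  let _ : MulAction P V :=
    { smul := fun u w => ⟨single (u : G) 1 * (w : MonoidAlgebra (ZMod p) G), by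
        change e * (single (u : G) 1 * _) = _
        rw [← mul_assoc, ← hec, mul_assoc, w.2]⟩
      one_smul := fun w => Subtype.ext (by
        change single ((1 : P) : G) (1 : ZMod p) * (w : MonoidAlgebra (ZMod p) G) = _
        rw [OneMemClass.coe_one, ← one_def, one_mul])
      mul_smul := fun u v w => Subtype.ext (by
        change single ((u * v : P) : G) (1 : ZMod p) * (w : MonoidAlgebra (ZMod p) G) = _
        rw [Subgroup.coe_mul]
        change _ = single (u : G) 1 * (single (v : G) 1 * _)
        rw [← mul_assoc, single_mul_single, one_mul]) }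
  have hdvd : p ∣ Nat.card V := by
    have he0 : (⟨e, hee⟩ : V) ≠ 0 := fun h => hne (congrArg Subtype.val h)
    have hord := addOrderOf_eq_prime (hpV ⟨e, hee⟩) he0
    exact (Eq.symm hord).dvd.trans (addOrderOf_dvd_natCard _)
  have hfix := (hP.card_modEq_card_fixedPoints V).symm.trans (Nat.modEq_zero_iff_dvd.2 hdvd)
  rw [Nat.modEq_zero_iff_dvd] at hfix
  have hzero : (0 : V) ∈ MulAction.fixedPoints P V := fun u => Subtype.ext (mul_zero _)
  obtain ⟨⟨w, hw⟩, hw0⟩ : ∃ w : MulAction.fixedPoints P V, w ≠ ⟨0, hzero⟩ := by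
    have hpos : 0 < Nat.card (MulAction.fixedPoints P V) :=
      Nat.card_pos_iff.2 ⟨⟨⟨0, hzero⟩⟩, inferInstance⟩
    have : 1 < Nat.card (MulAction.fixedPoints P V) :=
      lt_of_lt_of_le (Fact.out (p := p.Prime)).one_lt (Nat.le_of_dvd hpos hfix)
    have := Finite.one_lt_card_iff_nontrivial.1 this
    exact exists_ne _
  apply hw0
  have hfixw : ∀ u ∈ P, single u (1 : ZMod p) * (w : MonoidAlgebra (ZMod p) G) = w := by
    intro u hu
    exact congrArg Subtype.val (hw ⟨u, hu⟩)
  have hKw : K * (w : MonoidAlgebra (ZMod p) G) = 0 := by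
    have hsum : K = ∑ x, single x (if IsConj g x then (1 : ZMod p) else 0) := by
      ext y
      simp only [hK, coeff_classSum, coeff_sum, coeff_single, Finset.sum_apply']
      rw [Finset.sum_eq_single y]
      · simp
      · intro b _ hb
        simp [hb]
      · simp
    rw [hsum, Finset.sum_mul]
    let _ : MulAction P G :=
      { smul := fun u x => (u : G) * x * (u : G)⁻¹
        one_smul := fun x => by change (1 : G) * x * (1 : G)⁻¹ = x; simp
        mul_smul := fun u v x => by
          change ((u * v : P) : G) * x * ((u * v : P) : G)⁻¹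
            = (u : G) * ((v : G) * x * (v : G)⁻¹) * (u : G)⁻¹
          push_cast
          group }
    rw [sum_eq_sum_fixed hP (p := p) (fun v => char_nsmul_eq_zero v)]
    · refine Finset.sum_eq_zero fun x hx => ?_
      simp only [Finset.mem_filter, Finset.mem_univ, true_and] at hx
      rw [if_neg, single_zero, zero_mul]
      intro hgx
      refine hg x hgx (Subgroup.mem_centralizer_iff.2 fun u hu => ?_)
      have h1 : u * x * u⁻¹ = x := hx ⟨u, hu⟩
      exact mul_inv_eq_iff_eq_mul.1 h1
    · intro u x
      change single ((u : G) * x * (u : G)⁻¹)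
        (if IsConj g ((u : G) * x * (u : G)⁻¹) then (1 : ZMod p) else 0) * _ = _
      have hiff : IsConj g ((u : G) * x * (u : G)⁻¹) ↔ IsConj g x :=
        ⟨fun h => h.trans (isConj_iff.2 ⟨(u : G)⁻¹, by group⟩),
          fun h => h.trans (isConj_iff.2 ⟨u, rfl⟩)⟩
      rw [show (u : G) * x * (u : G)⁻¹ = x * ((x⁻¹ * (u : G) * x) * (u : G)⁻¹) by group] at hiff ⊢
      simp only [hiff]
      rw [← mul_one (if IsConj g x then (1 : ZMod p) else 0), ← single_mul_single, mul_assoc,
        hfixw _ (P.mul_mem (by simpa using hPn.conj_mem (u : G) u.2 x⁻¹) (P.inv_mem u.2))]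
      simp
  apply Subtype.ext
  apply Subtype.ext
  change (w : MonoidAlgebra (ZMod p) G) = 0
  have hwV : e * (w : MonoidAlgebra (ZMod p) G) = w := w.2
  obtain ⟨N', hN'⟩ : ∃ N', N = N' + 1 := ⟨N - 1, by
    have : 0 < N := by positivity
    omega⟩
  rw [← hwV, he, hN', pow_succ, mul_assoc, hKw, mul_zero]

variable {k : Type v} [CommRing k]

theorem isNilpotent_classSum {p : ℕ} [Fact p.Prime] [CharP k p] {P : Subgroup G} [P.Normal]
    (hP : IsPGroup p P) {g : G} (hg : ∀ x, IsConj g x → x ∉ Subgroup.centralizer (P : Set G)) :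
    IsNilpotent (classSum k g) := by
  have h := (isNilpotent_classSum_zmod hP hg).map (mapRingHom G (ZMod.castHom (dvd_refl p) k))
  rwa [mapRingHom_classSum] at h

/-- A central element vanishing on the centralizer of a normal `p`-subgroup is nilpotent. -/
theorem isNilpotent_of_coeff_centralizer_eq_zero {p : ℕ} [Fact p.Prime] [CharP k p]
    {P : Subgroup G} [hPn : P.Normal] (hP : IsPGroup p P) {a : MonoidAlgebra k G}
    (ha : IsClassCoeff a) (h0 : ∀ x ∈ Subgroup.centralizer (P : Set G), a.coeff x = 0) :
    IsNilpotent a := by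
  classical
  have : Finite (ConjClasses G) := Finite.of_surjective ConjClasses.mk ConjClasses.mk_surjective
  have := Fintype.ofFinite (ConjClasses G)
  have key : IsNilpotent (∑ C : ConjClasses G,
      (a.coeff C.out • classSumZ k C.out : Subalgebra.center k (MonoidAlgebra k G))) := by
    refine isNilpotent_sum fun C _ => ?_
    by_cases hc : ∀ x, IsConj C.out x → x ∉ Subgroup.centralizer (P : Set G)
    · obtain ⟨n, hn⟩ := isNilpotent_classSum (k := k) hP hc
      refine ⟨n, ?_⟩
      rw [smul_pow]
      apply Subtype.ext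
      simp [classSumZ, hn]
    · push Not at hc
      obtain ⟨x, hx, hxP⟩ := hc
      refine ⟨1, ?_⟩
      rw [pow_one, coeff_eq_of_isConj ha hx, h0 x hxP, zero_smul]
  obtain ⟨n, hn⟩ := key
  refine ⟨n, ?_⟩
  have := congrArg Subtype.val hn
  simp only [SubmonoidClass.coe_pow, AddSubmonoidClass.coe_finsetSum, SetLike.val_smul,
    classSumZ, ZeroMemClass.coe_zero] at this
  rwa [← eq_sum_classSum ha] at this

end Nilpotent

end CfsgLib.Block
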