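import Cfsg.Agent.Lib.Block.LocalRing
import Cfsg.Agent.Lib.Block.GroupAlg
import Cfsg.Agent.Lib.Char.Integral
import Cfsg.Agent.Lib.Char.Induce

/-!
Central characters as algebra homomorphisms on the centre of the complex group algebra, the
idempotents of irreducible characters, and locally integral central elements.
-/

set_option autoImplicit false
set_option linter.unusedSectionVars false

namespace CfsgLib.Block

open Cfsg MonoidAlgebra
open scoped ComplexConjugate

universe u

variable {G : Type u} [Group G] [Finite G]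

theorem irr_conj_eq {χ : G → ℂ} (hχ : IsIrrCharacter G χ) (g : G) : conj (χ g) = χ g⁻¹ :=
  (CfsgLib.Char.char_inv (CfsgLib.Char.irr_isCharacter hχ) g).symm

theorem irr_apply_isIntegral {χ : G → ℂ} (hχ : IsCharacter G χ) (g : G) : IsIntegral ℤ (χ g) := by
  obtain ⟨n, ρ, rfl⟩ := hχ
  exact CfsgLib.Char.char_isIntegral ρ g

theorem irr_centralChar_isIntegral {χ : G → ℂ} (hχ : IsIrrCharacter G χ) (g : G) :
    IsIntegral ℤ (centralChar χ g) := by
  obtain ⟨n, ρ, hρ, rfl⟩ := hχ
  unfold centralChar
  rw [Representation.char_one]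
  exact CfsgLib.Char.centralChar_isIntegral ρ g

/-- The central character, extended linearly to the group algebra. -/
noncomputable def omegaC (χ : G → ℂ) (a : MonoidAlgebra ℂ G) : ℂ :=
  (∑ᶠ g, a.coeff g * χ g) / χ 1

theorem omegaC_eq [Fintype G] (χ : G → ℂ) (a : MonoidAlgebra ℂ G) :
    omegaC χ a = (∑ g, a.coeff g * χ g) / χ 1 := by
  rw [omegaC, finsum_eq_sum_of_fintype]

theorem omegaC_add (χ : G → ℂ) (a b : MonoidAlgebra ℂ G) :
    omegaC χ (a + b) = omegaC χ a + omegaC χ b := by
  have := Fintype.ofFinite G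
  simp [omegaC_eq, add_mul, Finset.sum_add_distrib, add_div]

theorem omegaC_smul (χ : G → ℂ) (c : ℂ) (a : MonoidAlgebra ℂ G) :
    omegaC χ (c • a) = c * omegaC χ a := by
  have := Fintype.ofFinite G
  simp [omegaC_eq, mul_assoc, ← Finset.mul_sum, mul_div_assoc]

theorem omegaC_zero (χ : G → ℂ) : omegaC χ (0 : MonoidAlgebra ℂ G) = 0 := by
  have := Fintype.ofFinite G
  simp [omegaC_eq]

theorem omegaC_sum {ι : Type*} (χ : G → ℂ) (s : Finset ι) (a : ι → MonoidAlgebra ℂ G) :
    omegaC χ (∑ i ∈ s, a i) = ∑ i ∈ s, omegaC χ (a i) :=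
  map_sum (AddMonoidHom.mk' (omegaC χ) (omegaC_add χ)) a s

theorem omegaC_one {χ : G → ℂ} (hχ : χ 1 ≠ 0) : omegaC χ (1 : MonoidAlgebra ℂ G) = 1 := by
  have := Fintype.ofFinite G
  rw [omegaC_eq, Finset.sum_eq_single 1]
  · simp [div_self hχ]
  · intro b _ hb
    simp [one_def, hb]
  · simp

theorem omegaC_classSum {χ : G → ℂ} (hχ : IsClassFunction G χ) (g : G) :
    omegaC χ (classSum ℂ g) = centralChar χ g := by
  classical
  have := Fintype.ofFinite G
  rw [omegaC_eq, centralChar]
  congr 1
  rw [← CfsgLib.Char.natCard_carrier_eq_index]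
  simp only [coeff_classSum, ite_mul, one_mul, zero_mul]
  rw [← Finset.sum_filter, Finset.sum_congr rfl (g := fun _ => χ g), Finset.sum_const, nsmul_eq_mul]
  · congr 2
    rw [Nat.card_eq_fintype_card, Fintype.card_of_subtype]
    intro x
    simp only [Finset.mem_filter, Finset.mem_univ, true_and,
      ConjClasses.mem_carrier_iff_mk_eq, ConjClasses.mk_eq_mk_iff_isConj]
    exact isConj_comm
  · intro x hx
    exact (CfsgLib.Char.isClassFunction_isConj hχ (Finset.mem_filter.1 hx).2).symm

theorem trace_asAlgebraHom [Fintype G] {V : Type*} [AddCommGroup V] [Module ℂ V]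
    (ρ : Representation ℂ G V) (a : MonoidAlgebra ℂ G) :
    LinearMap.trace ℂ V (ρ.asAlgebraHom a) = ∑ g, a.coeff g * ρ.character g := by
  conv_lhs => rw [← MonoidAlgebra.sum_coeff_single a, Finsupp.sum_fintype _ _ (fun _ => by simp)]
  simp [Representation.asAlgebraHom_single, Representation.character]

theorem asAlgebraHom_eq_smul [Fintype G] {V : Type*} [AddCommGroup V] [Module ℂ V]
    [FiniteDimensional ℂ V] (ρ : Representation ℂ G V) [ρ.IsIrreducible]
    {a : MonoidAlgebra ℂ G} (ha : IsClassCoeff a) :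
    ρ.asAlgebraHom a = omegaC ρ.character a • (LinearMap.id : V →ₗ[ℂ] V) := by
  have hf : IsClassFunction G (fun g => a.coeff g⁻¹) := by
    intro g h
    change a.coeff (h * g * h⁻¹)⁻¹ = a.coeff g⁻¹
    rw [show (h * g * h⁻¹)⁻¹ = h * g⁻¹ * h⁻¹ by group, ha]
  have h1 := CfsgLib.Char.classOp_eq_scalar hf ρ
  have h2 : CfsgLib.Char.classOp (fun g => a.coeff g⁻¹) ρ = ρ.asAlgebraHom a := by
    conv_rhs => rw [← MonoidAlgebra.sum_coeff_single a, Finsupp.sum_fintype _ _ (fun _ => by simp)]
    simp only [CfsgLib.Char.classOp, map_sum, Representation.asAlgebraHom_single]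
    exact Fintype.sum_equiv (Equiv.inv G) _ _ (fun g => by simp)
  rw [h2] at h1
  rw [h1, omegaC_eq, Representation.char_one, CfsgLib.Char.classInner_def, ← mul_assoc,
    mul_inv_cancel₀ CfsgLib.Char.natCard_ne_zero, one_mul]
  congr 2
  exact Fintype.sum_equiv (Equiv.inv G) _ _ (fun g => by
    simp [CfsgLib.Char.char_inv_eq_conj])

theorem omegaC_mul {χ : G → ℂ} (hχ : IsIrrCharacter G χ) {a : MonoidAlgebra ℂ G}
    (ha : IsClassCoeff a) (b : MonoidAlgebra ℂ G) :
    omegaC χ (a * b) = omegaC χ a * omegaC χ b := by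
  have := Fintype.ofFinite G
  obtain ⟨n, ρ, hρ, rfl⟩ := hχ
  rw [omegaC_eq ρ.character (a * b), omegaC_eq ρ.character b, ← trace_asAlgebraHom,
    ← trace_asAlgebraHom, map_mul, asAlgebraHom_eq_smul ρ ha, mul_div_assoc']
  simp [Module.End.mul_eq_comp]

/-- The central character as an algebra homomorphism. -/
noncomputable def omegaHom (χ : IrrCharacter G) :
    Subalgebra.center ℂ (MonoidAlgebra ℂ G) →ₐ[ℂ] ℂ where
  toFun a := omegaC (χ : G → ℂ) (a : MonoidAlgebra ℂ G)
  map_one' := by
    simp only [OneMemClass.coe_one]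
    exact omegaC_one (CfsgLib.Char.irr_apply_one_ne_zero χ.2)
  map_mul' a b := by
    simp only [MulMemClass.coe_mul]
    exact omegaC_mul χ.2 (isClassCoeff_center a) _
  map_zero' := by
    simp only [ZeroMemClass.coe_zero]
    exact omegaC_zero _
  map_add' a b := by
    simp only [AddMemClass.coe_add]
    exact omegaC_add _ _ _
  commutes' r := by
    simp only [Subalgebra.coe_algebraMap]
    rw [Algebra.algebraMap_eq_smul_one, omegaC_smul,
      omegaC_one (CfsgLib.Char.irr_apply_one_ne_zero χ.2)]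
    simp

/-- The central idempotent of an irreducible character. -/
noncomputable def idemC (χ : G → ℂ) : MonoidAlgebra ℂ G :=
  mkGA fun g => (Nat.card G : ℂ)⁻¹ * (χ 1 * conj (χ g))

theorem idemC_isClassCoeff {χ : G → ℂ} (hχ : IsClassFunction G χ) : IsClassCoeff (idemC χ) := by
  intro g h
  simp [idemC, hχ g h]

open scoped Classical in
theorem omegaC_idemC {χ ψ : G → ℂ} (hψ : IsIrrCharacter G ψ) (hχ : IsIrrCharacter G χ) :
    omegaC ψ (idemC χ) = if ψ = χ then 1 else 0 := by
  have := Fintype.ofFinite G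
  have h : (∑ g, (idemC χ).coeff g * ψ g) = χ 1 * Cfsg.classInner ψ χ := by
    rw [CfsgLib.Char.classInner_def, Finset.mul_sum, Finset.mul_sum]
    refine Finset.sum_congr rfl fun g _ => ?_
    simp only [idemC, coeff_mkGA]
    ring
  rw [omegaC_eq, h, CfsgLib.Char.irr_classInner hψ hχ]
  split
  · next h => subst h; simp [div_self (CfsgLib.Char.irr_apply_one_ne_zero hψ)]
  · simp

/-- A central element is determined by the values of the central characters. -/
theorem eq_of_omegaC_eq {a b : MonoidAlgebra ℂ G} (ha : IsClassCoeff a) (hb : IsClassCoeff b)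
    (h : ∀ χ : IrrCharacter G, omegaC (χ : G → ℂ) a = omegaC (χ : G → ℂ) b) : a = b := by
  have := Fintype.ofFinite G
  have hf : IsClassFunction G (fun g => a.coeff g⁻¹ - b.coeff g⁻¹) := by
    intro g x
    simp only
    rw [show (x * g * x⁻¹)⁻¹ = x * g⁻¹ * x⁻¹ by group, ha, hb]
  have h0 := CfsgLib.Char.classFunction_eq_zero hf (fun χ hχ => by
    have h1 := h ⟨χ, hχ⟩
    rw [omegaC_eq, omegaC_eq, div_left_inj' (CfsgLib.Char.irr_apply_one_ne_zero hχ)] at h1
    rw [CfsgLib.Char.classInner_def, mul_eq_zero]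
    right
    simp only [sub_mul, Finset.sum_sub_distrib, sub_eq_zero]
    rw [← Equiv.sum_comp (Equiv.inv G) (fun g => a.coeff g⁻¹ * conj (χ g)),
      ← Equiv.sum_comp (Equiv.inv G) (fun g => b.coeff g⁻¹ * conj (χ g))]
    simpa [irr_conj_eq hχ] using h1)
  ext g
  have := congrFun h0 g⁻¹
  simpa [sub_eq_zero] using this

theorem eq_sum_idemC [Fintype (IrrCharacter G)] {a : MonoidAlgebra ℂ G} (ha : IsClassCoeff a) :
    a = ∑ χ : IrrCharacter G, omegaC (χ : G → ℂ) a • idemC (χ : G → ℂ) := by
  classical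
  refine eq_of_omegaC_eq ha ?_ fun ψ => ?_
  · intro g h
    simp only [coeff_sum, coeff_smul, Finset.sum_apply', Finsupp.smul_apply]
    refine Finset.sum_congr rfl fun χ _ => ?_
    rw [idemC_isClassCoeff (CfsgLib.Char.irr_isClassFunction χ.2) g h]
  · simp only [omegaC_sum, omegaC_smul, omegaC_idemC ψ.2 (Subtype.property _)]
    rw [Finset.sum_eq_single ψ] <;> simp +contextual [Subtype.coe_inj, eq_comm]

/-- The sum of the central idempotents of the members of a set of characters. -/
noncomputable def blockSum (A : Set (IrrCharacter G)) : MonoidAlgebra ℂ G := mkGA (blockCoeff A)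

theorem blockCoeff_eq_sum [Fintype (IrrCharacter G)] (A : Set (IrrCharacter G))
    [DecidablePred (· ∈ A)] (g : G) :
    blockCoeff A g = ∑ χ : IrrCharacter G, if χ ∈ A then (idemC (χ : G → ℂ)).coeff g else 0 := by
  unfold blockCoeff
  rw [← finsum_eq_sum_of_fintype, finsum_mem_def, mul_finsum]
  refine finsum_congr fun χ => ?_
  rw [Set.indicator_apply]
  split <;> simp [idemC]

theorem blockSum_eq_sum [Fintype (IrrCharacter G)] (A : Set (IrrCharacter G))
    [DecidablePred (· ∈ A)] :
    blockSum A = ∑ χ : IrrCharacter G, if χ ∈ A then idemC (χ : G → ℂ) else 0 := by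
  ext g
  simp only [blockSum, coeff_mkGA, coeff_sum, Finset.sum_apply', blockCoeff_eq_sum]
  refine Finset.sum_congr rfl fun χ _ => ?_
  split <;> simp

theorem blockSum_isClassCoeff (A : Set (IrrCharacter G)) : IsClassCoeff (blockSum A) := by
  classical
  have := Fintype.ofFinite (IrrCharacter G)
  intro g h
  simp only [blockSum, coeff_mkGA, blockCoeff_eq_sum]
  refine Finset.sum_congr rfl fun χ _ => ?_
  rw [idemC_isClassCoeff (CfsgLib.Char.irr_isClassFunction χ.2) g h]

open scoped Classical in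
theorem omegaC_blockSum (A : Set (IrrCharacter G)) (ψ : IrrCharacter G) :
    omegaC (ψ : G → ℂ) (blockSum A) = if ψ ∈ A then 1 else 0 := by
  have := Fintype.ofFinite (IrrCharacter G)
  rw [blockSum_eq_sum, omegaC_sum, Finset.sum_eq_single ψ]
  · split <;> simp [omegaC_idemC ψ.2 ψ.2, omegaC_zero]
  · intro χ _ hne
    split
    · rw [omegaC_idemC ψ.2 χ.2, if_neg]
      exact fun h => hne (Subtype.ext h.symm)
    · exact omegaC_zero _
  · simp

theorem blockSum_univ : blockSum (Set.univ : Set (IrrCharacter G)) = 1 := by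
  classical
  refine eq_of_omegaC_eq (blockSum_isClassCoeff _)
    (isClassCoeff_iff_mem_center.2 (Subalgebra.one_mem _)) fun χ => ?_
  rw [omegaC_blockSum, omegaC_one (CfsgLib.Char.irr_apply_one_ne_zero χ.2)]
  simp

theorem blockSum_union {A B : Set (IrrCharacter G)} (h : Disjoint A B) :
    blockSum (A ∪ B) = blockSum A + blockSum B := by
  classical
  have := Fintype.ofFinite (IrrCharacter G)
  rw [blockSum_eq_sum, blockSum_eq_sum, blockSum_eq_sum, ← Finset.sum_add_distrib]
  refine Finset.sum_congr rfl fun χ _ => ?_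
  by_cases hA : χ ∈ A
  · have : χ ∉ B := Set.disjoint_left.1 h hA
    simp [hA, this]
  · by_cases hB : χ ∈ B <;> simp [hA, hB]

theorem blockSum_mul (A B : Set (IrrCharacter G)) :
    blockSum A * blockSum B = blockSum (A ∩ B) := by
  classical
  refine eq_of_omegaC_eq ?_ (blockSum_isClassCoeff _) fun χ => ?_
  · exact isClassCoeff_iff_mem_center.2 (Subalgebra.mul_mem _
      (isClassCoeff_iff_mem_center.1 (blockSum_isClassCoeff A))
      (isClassCoeff_iff_mem_center.1 (blockSum_isClassCoeff B)))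
  · rw [omegaC_mul χ.2 (blockSum_isClassCoeff A), omegaC_blockSum, omegaC_blockSum,
      omegaC_blockSum]
    by_cases hA : χ ∈ A <;> by_cases hB : χ ∈ B <;> simp [hA, hB]

/-- A central element with coefficients in the local ring at `M`. -/
def IsLocalCentral (M : Ideal AlgInt) (a : MonoidAlgebra ℂ G) : Prop :=
  IsClassCoeff a ∧ ∀ g, MemLocalRing M (a.coeff g)

section Local

variable {M : Ideal AlgInt} [M.IsPrime]

theorem isLocalCentral_classSum (g : G) : IsLocalCentral M (classSum ℂ g) := by
  classical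
  refine ⟨classSum_isClassCoeff g, fun x => ?_⟩
  rw [coeff_classSum]
  split
  · exact (lring M).one_mem
  · exact (lring M).zero_mem

theorem isLocalCentral_one : IsLocalCentral M (1 : MonoidAlgebra ℂ G) := by
  classical
  refine ⟨isClassCoeff_iff_mem_center.2 (Subalgebra.one_mem _), fun g => ?_⟩
  rw [one_def, coeff_single, Finsupp.single_apply]
  split
  · exact (lring M).one_mem
  · exact (lring M).zero_mem

theorem isLocalCentral_zero : IsLocalCentral M (0 : MonoidAlgebra ℂ G) :=
  ⟨isClassCoeff_iff_mem_center.2 (Subalgebra.zero_mem _), fun g => by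
    rw [coeff_zero]; exact (lring M).zero_mem⟩

theorem isLocalCentral_add {a b : MonoidAlgebra ℂ G} (ha : IsLocalCentral M a)
    (hb : IsLocalCentral M b) : IsLocalCentral M (a + b) := by
  refine ⟨fun g h => by simp [ha.1 g h, hb.1 g h], fun g => ?_⟩
  rw [coeff_add, Finsupp.add_apply]
  exact memLocalRing_add (ha.2 g) (hb.2 g)

theorem isLocalCentral_smul {c : ℂ} {a : MonoidAlgebra ℂ G} (hc : MemLocalRing M c)
    (ha : IsLocalCentral M a) : IsLocalCentral M (c • a) := by
  refine ⟨fun g h => by simp [ha.1 g h], fun g => ?_⟩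
  rw [coeff_smul, Finsupp.smul_apply, smul_eq_mul]
  exact memLocalRing_mul hc (ha.2 g)

theorem isLocalCentral_neg {a : MonoidAlgebra ℂ G} (ha : IsLocalCentral M a) :
    IsLocalCentral M (-a) := by
  have h := isLocalCentral_smul (c := (-1 : ℂ)) ((lring M).neg_mem (lring M).one_mem) ha
  rwa [neg_one_smul] at h

theorem isLocalCentral_sub {a b : MonoidAlgebra ℂ G} (ha : IsLocalCentral M a)
    (hb : IsLocalCentral M b) : IsLocalCentral M (a - b) :=
  sub_eq_add_neg a b ▸ isLocalCentral_add ha (isLocalCentral_neg hb)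

theorem isLocalCentral_sum {ι : Type*} (s : Finset ι) (a : ι → MonoidAlgebra ℂ G)
    (h : ∀ i ∈ s, IsLocalCentral M (a i)) : IsLocalCentral M (∑ i ∈ s, a i) :=
  Finset.sum_induction a (IsLocalCentral M) (fun _ _ => isLocalCentral_add) isLocalCentral_zero h

theorem isLocalCentral_mul {a b : MonoidAlgebra ℂ G} (ha : IsLocalCentral M a)
    (hb : IsLocalCentral M b) : IsLocalCentral M (a * b) := by
  have := Fintype.ofFinite G
  refine ⟨isClassCoeff_iff_mem_center.2 (Subalgebra.mul_mem _
    (isClassCoeff_iff_mem_center.1 ha.1) (isClassCoeff_iff_mem_center.1 hb.1)), fun g => ?_⟩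
  rw [coeff_mul_eq]
  exact memLocalRing_sum _ _ fun x _ => memLocalRing_mul (ha.2 x) (hb.2 _)

theorem isLocalCentral_pow {a : MonoidAlgebra ℂ G} (ha : IsLocalCentral M a) :
    ∀ n : ℕ, IsLocalCentral M (a ^ n)
  | 0 => by rw [pow_zero]; exact isLocalCentral_one
  | n + 1 => by rw [pow_succ]; exact isLocalCentral_mul (isLocalCentral_pow ha n) ha

theorem memLocalRing_centralChar {χ : G → ℂ} (hχ : IsIrrCharacter G χ) (g : G) :
    MemLocalRing M (centralChar χ g) :=
  memLocalRing_of_isIntegral (irr_centralChar_isIntegral hχ g)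

theorem omegaC_eq_sum_classes [Fintype (ConjClasses G)] {χ : G → ℂ} (hχ : IsClassFunction G χ)
    {a : MonoidAlgebra ℂ G} (ha : IsClassCoeff a) :
    omegaC χ a = ∑ C : ConjClasses G, a.coeff C.out * centralChar χ C.out := by
  conv_lhs => rw [eq_sum_classSum ha]
  simp [omegaC_sum, omegaC_smul, omegaC_classSum hχ]

theorem memLocalRing_omegaC {χ : G → ℂ} (hχ : IsIrrCharacter G χ) {a : MonoidAlgebra ℂ G}
    (ha : IsLocalCentral M a) : MemLocalRing M (omegaC χ a) := by
  have : Finite (ConjClasses G) := Finite.of_surjective ConjClasses.mk ConjClasses.mk_surjective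
  have := Fintype.ofFinite (ConjClasses G)
  rw [omegaC_eq_sum_classes (CfsgLib.Char.irr_isClassFunction hχ) ha.1]
  exact memLocalRing_sum _ _ fun C _ => memLocalRing_mul (ha.2 _) (memLocalRing_centralChar hχ _)

theorem memLocalIdeal_omegaC {χ : G → ℂ} (hχ : IsIrrCharacter G χ) {a : MonoidAlgebra ℂ G}
    (ha : IsClassCoeff a) (h : ∀ g, MemLocalIdeal M (a.coeff g)) :
    MemLocalIdeal M (omegaC χ a) := by
  have : Finite (ConjClasses G) := Finite.of_surjective ConjClasses.mk ConjClasses.mk_surjective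
  have := Fintype.ofFinite (ConjClasses G)
  rw [omegaC_eq_sum_classes (CfsgLib.Char.irr_isClassFunction hχ) ha]
  exact memLocalIdeal_sum _ _ fun C _ =>
    memLocalIdeal_mul_right (memLocalRing_centralChar hχ _) (h _)

theorem natCard_smul_idemC {χ : G → ℂ} (hχ : IsIrrCharacter G χ) (g : G) :
    MemLocalRing M ((Nat.card G : ℂ) * (idemC χ).coeff g) := by
  have := Fintype.ofFinite G
  simp only [idemC, coeff_mkGA]
  rw [← mul_assoc, mul_inv_cancel₀ CfsgLib.Char.natCard_ne_zero, one_mul]
  refine memLocalRing_mul (memLocalRing_of_isIntegral ?_) ?_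
  · exact irr_apply_isIntegral (CfsgLib.Char.irr_isCharacter hχ) 1
  · rw [irr_conj_eq hχ]
    exact memLocalRing_of_isIntegral (irr_apply_isIntegral (CfsgLib.Char.irr_isCharacter hχ) _)

/-- A central element all of whose central character values are divisible by the group order in
the local ring has coefficients in the local ring. -/
theorem isLocalCentral_of_omegaC {a : MonoidAlgebra ℂ G} (ha : IsClassCoeff a)
    (h : ∀ χ : IrrCharacter G, MemLocalRing M (omegaC (χ : G → ℂ) a / (Nat.card G : ℂ))) :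
    IsLocalCentral M a := by
  have := Fintype.ofFinite G
  have := Fintype.ofFinite (IrrCharacter G)
  refine ⟨ha, fun g => ?_⟩
  rw [eq_sum_idemC ha]
  simp only [coeff_sum, coeff_smul, Finset.sum_apply', Finsupp.smul_apply, smul_eq_mul]
  refine memLocalRing_sum _ _ fun χ _ => ?_
  have hcard : (Nat.card G : ℂ) ≠ 0 := CfsgLib.Char.natCard_ne_zero
  rw [show omegaC (χ : G → ℂ) a * (idemC (χ : G → ℂ)).coeff g
    = omegaC (χ : G → ℂ) a / (Nat.card G : ℂ) * ((Nat.card G : ℂ) * (idemC (χ : G → ℂ)).coeff g) by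
      field_simp]
  exact memLocalRing_mul (h χ) (natCard_smul_idemC χ.2 g)

/-- The stronger form: values divisible by the group order with quotient in the ideal. -/
theorem coeff_memLocalIdeal_of_omegaC {a : MonoidAlgebra ℂ G} (ha : IsClassCoeff a)
    (h : ∀ χ : IrrCharacter G, MemLocalIdeal M (omegaC (χ : G → ℂ) a / (Nat.card G : ℂ))) (g : G) :
    MemLocalIdeal M (a.coeff g) := by
  have := Fintype.ofFinite G
  have := Fintype.ofFinite (IrrCharacter G)
  rw [eq_sum_idemC ha]
  simp only [coeff_sum, coeff_smul, Finset.sum_apply', Finsupp.smul_apply, smul_eq_mul]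
  refine memLocalIdeal_sum _ _ fun χ _ => ?_
  have hcard : (Nat.card G : ℂ) ≠ 0 := CfsgLib.Char.natCard_ne_zero
  rw [show omegaC (χ : G → ℂ) a * (idemC (χ : G → ℂ)).coeff g
    = omegaC (χ : G → ℂ) a / (Nat.card G : ℂ) * ((Nat.card G : ℂ) * (idemC (χ : G → ℂ)).coeff g) by
      field_simp]
  exact memLocalIdeal_mul_right (natCard_smul_idemC χ.2 g) (h χ)

end Local

end CfsgLib.Block
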