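import Cfsg.Agent.Lib.Block.LocalRing
import Cfsg.Agent.Lib.Block.Omega
import Cfsg.Agent.Lib.BlockA.Regular

/-!
# Divisibility by centralizer orders

A combination of irreducible characters with integral coefficients that vanishes on the elements of
order divisible by `p` has, at every element, a value divisible in the local ring by the order of the
centralizer.
-/

set_option autoImplicit false
set_option linter.unusedSectionVars false

namespace CfsgLib.Block

open Cfsg
open scoped ComplexConjugate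

universe u

variable {G : Type u} [Group G] [Fintype G]

/-- The sum of a character over the coset `x * P`, for `x` centralising `P`, is `|P|` times an
algebraic integer. -/
theorem isIntegral_cosetSum_div {χ : G → ℂ} (hχ : IsCharacter G χ) {x : G} (P : Subgroup G)
    [Fintype P] (hxP : ∀ u ∈ P, Commute x u) :
    IsIntegral ℤ ((∑ u : P, χ (x * (u : G))) / (Nat.card P : ℂ)) := by
  classical
  set C : Subgroup G := Subgroup.zpowers x with hC
  have := Fintype.ofFinite C
  have := Fintype.ofFinite (IrrCharacter C)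
  have hcomm : ∀ (c : C) (u : P), Commute (c : G) (u : G) := by
    rintro ⟨c, hc⟩ u
    obtain ⟨k, rfl⟩ := Subgroup.mem_zpowers_iff.1 hc
    exact (hxP _ u.2).zpow_left k
  let ι : C × P →* G :=
    { toFun := fun z => (z.1 : G) * (z.2 : G)
      map_one' := by simp
      map_mul' := fun a b => by
        simp only [Prod.fst_mul, Prod.snd_mul, Subgroup.coe_mul]
        rw [mul_assoc, ← mul_assoc (b.1 : G), (hcomm b.1 a.2).eq]
        simp only [mul_assoc] }
  have hM : ∀ θ : IrrCharacter C, ∃ m : ℕ,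
      classInner (χ ∘ ι) ((θ : C → ℂ) ∘ MonoidHom.fst C P) = m := fun θ =>
    CfsgLib.Char.classInner_isCharacter_nat (CfsgLib.Char.isCharacter_comp hχ ι)
      (CfsgLib.Char.isCharacter_comp (CfsgLib.Char.irr_isCharacter θ.2) _)
  choose m hm using hM
  set x' : C := ⟨x, Subgroup.mem_zpowers x⟩ with hx'
  have hkey : (∑ u : P, χ (x * (u : G))) / (Nat.card P : ℂ) =
      ∑ θ : IrrCharacter C, (m θ : ℂ) * (θ : C → ℂ) x' := by
    have hcen : ∀ c : C, IsConj x' c ↔ x' = c := fun c => by
      refine ⟨fun h => ?_, fun h => h ▸ IsConj.refl _⟩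
      obtain ⟨a, ha⟩ := isConj_iff.1 h
      rw [← ha]
      apply Subtype.ext
      simp only [Subgroup.coe_mul, Subgroup.coe_inv]
      have : Commute (a : G) (x' : G) := by
        obtain ⟨a, hk⟩ := a
        obtain ⟨k, rfl⟩ := Subgroup.mem_zpowers_iff.1 hk
        exact (Commute.refl x).zpow_left k
      rw [this.eq, mul_inv_cancel_right]
    have hcard : Nat.card (Subgroup.centralizer ({x'} : Set C)) = Nat.card C := by
      refine Nat.card_congr ⟨fun z => z.1, fun c => ⟨c, ?_⟩, fun _ => rfl, fun _ => rfl⟩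
      rw [Subgroup.mem_centralizer_singleton_iff]
      obtain ⟨c, hk⟩ := c
      obtain ⟨k, rfl⟩ := Subgroup.mem_zpowers_iff.1 hk
      exact Subtype.ext ((Commute.refl x).zpow_left k).eq
    simp only [← hm, CfsgLib.Char.classInner_def, Function.comp_apply, MonoidHom.coe_fst,
      Finset.mul_sum, Finset.sum_mul]
    rw [Finset.sum_comm]
    have hterm : ∀ z : C × P, ∑ θ : IrrCharacter C, (Nat.card (C × P) : ℂ)⁻¹ *
        (χ (ι z) * conj ((θ : C → ℂ) z.1)) * (θ : C → ℂ) x' =
        if x' = z.1 then χ (ι z) / (Nat.card P : ℂ) else 0 := by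
      intro z
      have h := CfsgLib.Char.column_orthogonality x' z.1
      rw [hcard] at h
      have h1 : ∑ θ : IrrCharacter C, (Nat.card (C × P) : ℂ)⁻¹ *
          (χ (ι z) * conj ((θ : C → ℂ) z.1)) * (θ : C → ℂ) x' =
          (Nat.card (C × P) : ℂ)⁻¹ * χ (ι z) *
            ∑ θ : IrrCharacter C, (θ : C → ℂ) x' * conj ((θ : C → ℂ) z.1) := by
        rw [Finset.mul_sum]
        exact Finset.sum_congr rfl fun θ _ => by ring
      rw [h1, h, Nat.card_prod, Nat.cast_mul]
      simp only [hcen]
      split_ifs with hz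
      · have hc0 : (Nat.card C : ℂ) ≠ 0 := by exact_mod_cast Nat.card_pos.ne'
        have hp0 : (Nat.card P : ℂ) ≠ 0 := by exact_mod_cast Nat.card_pos.ne'
        field_simp
      · rw [mul_zero]
    rw [Finset.sum_congr rfl fun z _ => hterm z, Fintype.sum_prod_type,
      Finset.sum_eq_single x' (fun c _ hc => Finset.sum_eq_zero fun u _ => if_neg (Ne.symm hc))
        (fun h => absurd (Finset.mem_univ _) h), Finset.sum_div]
    exact Finset.sum_congr rfl fun u _ => by rw [if_pos rfl]; rfl
  rw [hkey]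
  exact IsIntegral.sum _ fun θ _ => (isIntegral_algebraMap (x := (m θ : ℤ))).mul
    (irr_apply_isIntegral (CfsgLib.Char.irr_isCharacter θ.2) x') |> fun h => by simpa using h

variable {p : ℕ} [hp : Fact p.Prime] {M : Ideal AlgInt}

/-- **Divisibility.** -/
theorem memLocalRing_div_centralizer_of_vanish (hM : IsPModular p M) (s : Finset (IrrCharacter G))
    (a : IrrCharacter G → ℂ) (ha : ∀ χ ∈ s, IsIntegral ℤ (a χ))
    (hvan : ∀ g : G, p ∣ orderOf g → ∑ χ ∈ s, a χ * (χ : G → ℂ) g = 0) (x : G) :
    MemLocalRing M ((∑ χ ∈ s, a χ * (χ : G → ℂ) x) /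
      (Nat.card (Subgroup.centralizer ({x} : Set G)) : ℂ)) := by
  classical
  have := isPrime_of_pmodular hM
  by_cases hx : p ∣ orderOf x
  · rw [hvan x hx, zero_div]
    exact (lring M).zero_mem
  set K : Subgroup G := Subgroup.centralizer ({x} : Set G) with hK
  obtain ⟨P⟩ : Nonempty (Sylow p K) := inferInstance
  set Q : Subgroup G := (P : Subgroup K).map K.subtype with hQ
  have := Fintype.ofFinite Q
  have hcardQ : Nat.card Q = Nat.card (P : Subgroup K) :=
    (Nat.card_congr ((P : Subgroup K).equivMapOfInjective _ K.subtype_injective).toEquiv).symm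
  have hxQ : ∀ u ∈ Q, Commute x u := by
    intro u hu
    obtain ⟨v, -, rfl⟩ := Subgroup.mem_map.1 hu
    exact (show Commute ((v : K) : G) x from Subgroup.mem_centralizer_singleton_iff.1 v.2).symm
  have hQp : IsPGroup p Q := P.isPGroup'.map _
  have hsum : ∑ χ ∈ s, a χ * ∑ u : Q, (χ : G → ℂ) (x * (u : G)) =
      ∑ χ ∈ s, a χ * (χ : G → ℂ) x := by
    simp only [Finset.mul_sum]
    rw [Finset.sum_comm, Finset.sum_eq_single (1 : Q)]
    · simp
    · intro u _ hu
      refine hvan _ ?_
      have hu1 : (u : G) ≠ 1 := fun h => hu (Subtype.ext h)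
      have hpu := CfsgLib.BlockA.dvd_orderOf_of_mem hQp u.2 hu1
      have hcop : (orderOf x).Coprime (orderOf (u : G)) := by
        obtain ⟨j, hj⟩ := (IsPGroup.iff_orderOf.1 hQp) u
        rw [← Subgroup.orderOf_coe] at hj
        rw [hj]
        exact Nat.Coprime.pow_right _ ((hp.out.coprime_iff_not_dvd.2 hx).symm)
      rw [(hxQ _ u.2).orderOf_mul_eq_mul_orderOf_of_coprime hcop]
      exact hpu.mul_left _
    · intro h; exact absurd (Finset.mem_univ _) h
  obtain ⟨k, hk, hcard⟩ : ∃ k : ℕ, ¬ p ∣ k ∧ Nat.card K = Nat.card Q * k :=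
    ⟨(P : Subgroup K).index, P.not_dvd_index, by rw [hcardQ, Subgroup.card_mul_index]⟩
  have hint : IsIntegral ℤ (∑ χ ∈ s, a χ *
      ((∑ u : Q, (χ : G → ℂ) (x * (u : G))) / (Nat.card Q : ℂ))) :=
    IsIntegral.sum _ fun χ hχ =>
      (ha χ hχ).mul (isIntegral_cosetSum_div (CfsgLib.Char.irr_isCharacter χ.2) Q hxQ)
  have heq : (∑ χ ∈ s, a χ * (χ : G → ℂ) x) / (Nat.card K : ℂ) =
      (∑ χ ∈ s, a χ * ((∑ u : Q, (χ : G → ℂ) (x * (u : G))) / (Nat.card Q : ℂ))) *
        ((k : ℂ))⁻¹ := by
    rw [← hsum, hcard, Nat.cast_mul, Finset.sum_div, Finset.sum_mul]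
    exact Finset.sum_congr rfl fun χ _ => by ring
  rw [heq]
  exact memLocalRing_mul (memLocalRing_of_isIntegral hint) (memLocalRing_inv_natCast hM hk)

end CfsgLib.Block
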