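import Cfsg.Agent.Lib.Block.CyclicCount
import Cfsg.Agent.Lib.Block.VanishDiv

/-!
# The conjugate columns of a cyclic defect block against the values

For `i ≠ 0` the function `g ↦ ∑ χ, conj (col χ i) * χ g / conj (dg i)` lives on the section of `el i`,
and its values are divisible by `p ^ a` and by the centralizer orders.
-/

set_option autoImplicit false
set_option linter.unusedSectionVars false

namespace CfsgLib.Block

open Cfsg CfsgLib.Block CfsgLib.BlockA CfsgLib.BlockB CfsgLib.BlockB.SubSum
  CfsgLib.BlockB.HeightBound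
open scoped ComplexConjugate

universe u

namespace CycBlock

variable {G : Type u} [Group G] [Fintype G] {p : ℕ} [hp : Fact p.Prime] {M : Ideal AlgInt}
  [M.IsPrime] (S : CycBlock G p M)

local notation "cs" y => Subgroup.centralizer (Singleton.singleton y : Set G)

attribute [local instance] csFintype

/-- The conjugate column at `i` against the values at `g`, normalised. -/
noncomputable def colFun (i : ZMod (p ^ S.a)) (g : G) : ℂ :=
  (∑ χ ∈ S.B.toFinite.toFinset, conj (S.col χ i) * (χ : G → ℂ) g) / conj (S.dg i)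

theorem colFun_conj (i : ZMod (p ^ S.a)) (a g : G) :
    S.colFun i (a * g * a⁻¹) = S.colFun i g := by
  unfold colFun
  congr 1
  exact Finset.sum_congr rfl fun χ _ => by rw [CfsgLib.Char.irr_isClassFunction χ.2 g a]

/-- Outside the section of `el i` it vanishes. -/
theorem colFun_eq_zero {i : ZMod (p ^ S.a)} {g y : G} (hy : IsPPart p g y)
    (hne : ¬ IsConj (S.el i) y) : S.colFun i g = 0 := by
  classical
  have := Fintype.ofFinite (IrrCharacter G)
  have h := congrArg conj (SubColumn.sum_subFun_mul_conj_eq_zero S.hM (S.isPPower_el i)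
    (S.isPBlock_blk i) hy hne)
  rw [map_sum, map_zero] at h
  rw [colFun, Finset.sum_subset (Finset.subset_univ _) (fun χ _ hχ => by
    rw [S.col_eq_zero_of_not_mem (by simpa using hχ), map_zero, zero_mul]),
    show (∑ χ : IrrCharacter G, conj (S.col χ i) * (χ : G → ℂ) g) = 0 from by
      rw [← h]
      refine Finset.sum_congr rfl fun χ _ => ?_
      rw [map_mul, Complex.conj_conj, col, ← S.blk_coeff i], zero_div]

/-- On the section it is the sum over the block below. -/
theorem colFun_apply {i : ZMod (p ^ S.a)} (hi : i ≠ 0) (r : (cs (S.el i)))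
    (hr : ¬ p ∣ orderOf r) :
    S.colFun i (S.el i * (r : G)) =
      ∑ θ ∈ (S.blk i).toFinite.toFinset, (θ : (cs (S.el i)) → ℂ) r := by
  classical
  have := Fintype.ofFinite (IrrCharacter G)
  have hone : ¬ p ∣ orderOf (1 : (cs (S.el i))) := by
    rw [orderOf_one]; exact hp.out.not_dvd_one
  have h := congrArg conj
    (sectionTwist S.hM (S.isPPower_el i) (S.isPBlock_blk i) hone hr)
  rw [map_sum, map_sum] at h
  have hL : ∀ χ : IrrCharacter G, conj (S.col χ i) * (χ : G → ℂ) (S.el i * (r : G)) =
      conj (blockPart (S.blk i) (fun c : (cs (S.el i)) => (χ : G → ℂ) (S.el i * (c : G))) 1 *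
        conj ((χ : G → ℂ) (S.el i * (r : G)))) := fun χ => by
    rw [map_mul, Complex.conj_conj, col, ← S.blk_coeff i,
      SubColumn.subFun_eq_blockPart S.hM (S.blk i) χ]
  rw [colFun, Finset.sum_subset (Finset.subset_univ _) (fun χ _ hχ => by
    rw [S.col_eq_zero_of_not_mem (by simpa using hχ), map_zero, zero_mul]),
    Finset.sum_congr rfl (fun χ _ => hL χ), h, Finset.sum_div]
  refine Finset.sum_congr rfl fun θ hθ => ?_
  rw [map_mul, Complex.conj_conj, dg,
    S.allEq_of_ne_zero hi θ (by simpa using hθ) _ (S.member_mem i) 1 hone,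
    mul_div_cancel_left₀ _ (by
      rw [Ne, map_eq_zero]
      exact CfsgLib.Char.irr_apply_one_ne_zero (S.member i).2)]

theorem sum_blk_eq_zero_of_singular {i : ZMod (p ^ S.a)} (hi : i ≠ 0) {g : (cs (S.el i))}
    (hg : p ∣ orderOf g) : ∑ θ ∈ (S.blk i).toFinite.toFinset, (θ : (cs (S.el i)) → ℂ) g = 0 := by
  classical
  have hone : ¬ p ∣ orderOf (1 : (cs (S.el i))) := by
    rw [orderOf_one]; exact hp.out.not_dvd_one
  have h := blockCoeff_eq_zero_of_singular S.hM (S.isPBlock_blk i) hg
  rw [blockCoeff, finsum_mem_eq_finite_toFinset_sum _ (S.blk i).toFinite,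
    Finset.sum_congr rfl (fun θ hθ => by
      rw [S.allEq_of_ne_zero hi θ (by simpa using hθ) _ (S.member_mem i) 1 hone]),
    ← Finset.mul_sum, ← map_sum, mul_eq_zero, mul_eq_zero] at h
  rcases h with h | h | h
  · exact absurd h (inv_ne_zero (Nat.cast_ne_zero.2 Nat.card_pos.ne'))
  · exact absurd h (S.dg_ne_zero i)
  · rwa [map_eq_zero] at h

/-- Either zero, or the sum over the block below at a regular element with the same centralizer. -/
theorem exists_colFun_eq {i : ZMod (p ^ S.a)} (hi : i ≠ 0) (g : G) :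
    S.colFun i g = 0 ∨ ∃ r : (cs (S.el i)), ¬ p ∣ orderOf r ∧
      S.colFun i g = ∑ θ ∈ (S.blk i).toFinite.toFinset, (θ : (cs (S.el i)) → ℂ) r ∧
      Nat.card (Subgroup.centralizer ({g} : Set G)) =
        Nat.card (Subgroup.centralizer ({r} : Set (cs (S.el i)))) := by
  classical
  obtain ⟨y, hy⟩ := exists_isPPart hp.out g
  by_cases hc : IsConj (S.el i) y
  swap
  · exact Or.inl (S.colFun_eq_zero hy hc)
  obtain ⟨a, ha⟩ := isConj_iff.1 hc
  have hya := isPPart_conj hy a⁻¹
  rw [← ha, show a⁻¹ * (a * S.el i * a⁻¹) * a⁻¹⁻¹ = S.el i by group] at hya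
  obtain ⟨v, hv, hcv, -, hvreg⟩ := hya
  set g' := a⁻¹ * g * a⁻¹⁻¹ with hg'
  have hval : S.colFun i g = S.colFun i g' := (S.colFun_conj i a⁻¹ g).symm
  have hcard : Nat.card (Subgroup.centralizer ({g} : Set G)) =
      Nat.card (Subgroup.centralizer ({g'} : Set G)) :=
    (Nat.card_congr (cenConj a⁻¹ g).toEquiv).symm
  let r : (cs (S.el i)) := ⟨v, Subgroup.mem_centralizer_singleton_iff.2 hcv.symm⟩
  have hr : ¬ p ∣ orderOf r := by rwa [← Subgroup.orderOf_coe]
  have hsub : Nat.card (Subgroup.centralizer ({g'} : Set G)) =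
      Nat.card (Subgroup.centralizer ({r} : Set (cs (S.el i)))) := by
    have hmem : ∀ w : G, w ∈ Subgroup.centralizer ({g'} : Set G) →
        Commute w (S.el i) ∧ Commute w v := by
      intro w hw
      have hw' : Commute g' w := (show Commute w g' from
        Subgroup.mem_centralizer_singleton_iff.1 hw).symm
      have h1 : IsPPart p g' (S.el i) := ⟨v, hv, hcv, S.isPPower_el i, hvreg⟩
      have h2 := (isPPart_commute hp.out h1 hw').symm
      refine ⟨h2, ?_⟩
      have h3 : v = (S.el i)⁻¹ * g' := by rw [← hv, inv_mul_cancel_left]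
      rw [h3]
      exact h2.inv_right.mul_right hw'.symm
    refine Nat.card_congr
      { toFun := fun w => ⟨⟨(w : G), Subgroup.mem_centralizer_singleton_iff.2 (hmem _ w.2).1⟩,
          Subgroup.mem_centralizer_singleton_iff.2 (Subtype.ext (hmem _ w.2).2)⟩
        invFun := fun w => ⟨((w : (cs (S.el i))) : G), Subgroup.mem_centralizer_singleton_iff.2 ?_⟩
        left_inv := fun _ => rfl
        right_inv := fun _ => rfl }
    rw [← hv]
    have e1 : Commute ((w : (cs (S.el i))) : G) (S.el i) :=
      Subgroup.mem_centralizer_singleton_iff.1 (w : (cs (S.el i))).2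
    have e2 : Commute ((w : (cs (S.el i))) : G) v :=
      congrArg Subtype.val (Subgroup.mem_centralizer_singleton_iff.1 w.2)
    exact e1.mul_right e2
  refine Or.inr ⟨r, hr, ?_, hcard.trans hsub⟩
  rw [hval, ← hv, show S.el i * v = S.el i * (r : G) from rfl, S.colFun_apply hi r hr]

/-- **The two divisibilities.** -/
theorem memLocalRing_colFun {i : ZMod (p ^ S.a)} (hi : i ≠ 0) (g : G) :
    MemLocalRing M (S.colFun i g / ((p ^ S.a : ℕ) : ℂ)) ∧
      MemLocalRing M (S.colFun i g / (Nat.card (Subgroup.centralizer ({g} : Set G)) : ℂ)) := by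
  classical
  rcases S.exists_colFun_eq hi g with h | ⟨r, hr, hval, hcard⟩
  · rw [h, zero_div, zero_div]
    exact ⟨(lring M).zero_mem, (lring M).zero_mem⟩
  rw [hval, hcard]
  refine ⟨?_, ?_⟩
  · rw [Finset.sum_congr rfl (fun θ hθ => by
        rw [S.allEq_of_ne_zero hi θ (by simpa using hθ) _ (S.member_mem i) r hr]),
      Finset.sum_const, nsmul_eq_mul, ← Set.ncard_eq_toFinset_card, ← Nat.card_coe_set_eq,
      (S.natCard_blk hi).2, mul_div_cancel_left₀ _
        (Nat.cast_ne_zero.2 (pow_ne_zero _ hp.out.ne_zero))]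
    exact memLocalRing_irr_apply (S.member i) r
  · have h := memLocalRing_div_centralizer_of_vanish S.hM (S.blk i).toFinite.toFinset
      (fun _ => 1) (fun _ _ => isIntegral_one) (fun w hw => by
        simpa using S.sum_blk_eq_zero_of_singular hi hw) r
    simpa using h

/-- The same divisibility for the column itself against the values. -/
theorem memLocalRing_sum_col_mul {i : ZMod (p ^ S.a)} (hi : i ≠ 0) (g : G) :
    MemLocalRing M ((∑ χ ∈ S.B.toFinite.toFinset, S.col χ i * (χ : G → ℂ) g) / S.dg i /
      (Nat.card (Subgroup.centralizer ({g} : Set G)) : ℂ)) := by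
  classical
  have hconj : (∑ χ ∈ S.B.toFinite.toFinset, S.col χ i * (χ : G → ℂ) g) / S.dg i =
      conj (S.colFun i g⁻¹) := by
    rw [colFun, map_div₀, Complex.conj_conj, map_sum]
    congr 1
    refine Finset.sum_congr rfl fun χ _ => ?_
    rw [map_mul, Complex.conj_conj, irr_conj_eq χ.2, inv_inv]
  have hcg : Subgroup.centralizer ({g⁻¹} : Set G) = Subgroup.centralizer ({g} : Set G) := by
    ext x
    rw [Subgroup.mem_centralizer_singleton_iff, Subgroup.mem_centralizer_singleton_iff]
    exact Commute.inv_right_iff (a := x) (b := g)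
  rw [hconj, ← hcg]
  rcases S.exists_colFun_eq hi g⁻¹ with h | ⟨r, hr, hval, hcard⟩
  · rw [h, map_zero, zero_div]
    exact (lring M).zero_mem
  have hcr : Subgroup.centralizer ({r⁻¹} : Set (cs (S.el i))) =
      Subgroup.centralizer ({r} : Set (cs (S.el i))) := by
    ext x
    rw [Subgroup.mem_centralizer_singleton_iff, Subgroup.mem_centralizer_singleton_iff]
    exact Commute.inv_right_iff (a := x) (b := r)
  rw [hval, hcard, ← hcr, map_sum, Finset.sum_congr rfl (fun θ _ => irr_conj_eq θ.2 r)]
  have h := memLocalRing_div_centralizer_of_vanish S.hM (S.blk i).toFinite.toFinset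
    (fun _ => 1) (fun _ _ => isIntegral_one) (fun w hw => by
      simpa using S.sum_blk_eq_zero_of_singular hi hw) r⁻¹
  simpa using h

end CycBlock

end CfsgLib.Block
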