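import Cfsg.Agent.Lib.Block.CyclicDescent

/-!
# Restricting the columns of a cyclic defect block to the centralizer of an element

The cyclic defect block of `C(el i)` below the maximal pair has the same coefficient functions at
the powers of the generator whose centralizer lies in `C(el i)`, so its columns determine those of
the original block through the restriction of characters.
-/

set_option autoImplicit false
set_option linter.unusedSectionVars false

namespace CfsgLib.Block.CycBlock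

open Cfsg CfsgLib.Block CfsgLib.BlockA CfsgLib.BlockB CfsgLib.BlockB.SubSum
  CfsgLib.BlockB.HeightBound MonoidAlgebra
open scoped ComplexConjugate

universe u

variable {G : Type u} [Group G] [Fintype G] {p : ℕ} [hp : Fact p.Prime] {M : Ideal AlgInt}
  [M.IsPrime] (S : CycBlock G p M)

local notation "cen" Q => Subgroup.centralizer ((Q : Subgroup G) : Set G)
local notation "cs" y => Subgroup.centralizer (Singleton.singleton y : Set G)

attribute [local instance] csFintype

theorem secPow_mul_dg {i : ZMod (p ^ S.a)} (h : S.AllEq i) (χ : IrrCharacter G) (k : ℕ) :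
    S.secPow χ i k * S.dg i = subFun (χ : G → ℂ) (S.beta i) (S.el i ^ k) := by
  classical
  rw [← S.blk_coeff i, dg, ← blockPart_eq_secPow h χ k not_dvd_orderOf_one]
  have h1 := subFun_coeff (x := S.el i) (S.blk i) (CfsgLib.Char.irr_isClassFunction χ.2)
    (y := S.el i ^ k) (centralizer_le_pow S.hM (S.isPPower_el i) k) 1
  simpa using h1.symm

theorem dg_eq_nat (i : ZMod (p ^ S.a)) : ∃ d : ℕ, 0 < d ∧ S.dg i = d :=
  CfsgLib.Char.irr_apply_one_pos (S.member i).2

theorem nrm_eq_beta (i : ZMod (p ^ S.a)) :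
    S.nrm i = (Nat.card (cs (S.el i)) : ℂ) * S.beta i 1 := by
  classical
  rw [← S.blk_coeff i, subgroupBlockCoeff, dif_pos (one_mem _), blockCoeff,
    finsum_mem_eq_finite_toFinset_sum _ (S.blk i).toFinite, ← mul_assoc,
    mul_inv_cancel₀ (Nat.cast_ne_zero.2 Nat.card_pos.ne'), one_mul]
  rfl

theorem natCard_cs_subgroup {H : Subgroup G} {x : H} (h : (cs (x : G)) ≤ H) :
    Nat.card (Subgroup.centralizer ({x} : Set H)) = Nat.card (cs (x : G)) := by
  refine Nat.card_congr
    { toFun := fun c => ⟨((c : H) : G), Subgroup.mem_centralizer_singleton_iff.2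
        (congrArg Subtype.val (Subgroup.mem_centralizer_singleton_iff.1 c.2))⟩
      invFun := fun c => ⟨⟨(c : G), h c.2⟩, Subgroup.mem_centralizer_singleton_iff.2
        (Subtype.ext (Subgroup.mem_centralizer_singleton_iff.1 c.2))⟩
      left_inv := fun c => rfl
      right_inv := fun c => rfl }

/-- The cyclic defect block of `C(el i)`, with its coefficient functions. -/
theorem exists_cenBlock' {i : ZMod (p ^ S.a)} (hi : i ≠ 0) :
    ∃ S' : CycBlock (cs (S.el i)) p M, S'.B = S.blk i ∧ S'.a = S.a ∧ S'.e = 1 ∧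
      (S'.u : G) = S.u ∧
      ∀ n : ℕ, (cs (S.u ^ n)) ≤ (cs (S.el i)) → ∀ t : (cs (S.el i)),
        S'.beta (n : ZMod (p ^ S'.a)) t = S.beta (n : ZMod (p ^ S.a)) (t : G) := by
  classical
  set H : Subgroup G := (cs (S.el i)) with hH
  have hDH : S.D ≤ H := S.D_le_cs i
  have hQD := S.zpowers_le_D i
  have hCQ : (cen (Subgroup.zpowers (S.el i))) = H := cen_zpowers (S.el i)
  have hCH : (cen S.D) ≤ H := hCQ ▸ centralizer_le_centralizer hQD
  obtain ⟨h₁, h₂, hle⟩ := subpairLE_subBlock S.hM (S.below_le i) hDH hCQ.le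
  have hD' : IsBrauerPair p M (S.D.subgroupOf H) (subBlock h₂ S.eD) :=
    isBrauerPair_subBlock h₂ S.isBrauerPair_eD
  have hQpair : IsBrauerPair p M ((Subgroup.zpowers (S.el i)).subgroupOf H)
      (subBlock h₁ (S.below i)) := isBrauerPair_of_subpairLE hD' hle
  have hBQ : IsBrauerPairOf p M (S.blk i) ((Subgroup.zpowers (S.el i)).subgroupOf H)
      (subBlock h₁ (S.below i)) := by
    obtain ⟨ξ, hξ⟩ := isPBlock_nonempty (S.isPBlock_below i)
    rw [isBrauerPairOf_iff S.hM hQpair (S.isPBlock_blk i)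
      (show irrMap (cenIso h₁) ξ ∈ subBlock h₁ (S.below i) from ⟨ξ, hξ, rfl⟩)]
    have hcoef : ∀ t : H, (t : G) ∈ (cen (Subgroup.zpowers (S.el i))) →
        (blkIdem M (S.blk i) : MonoidAlgebra (kres M) H).coeff t =
          (sIdem M (cen (Subgroup.zpowers (S.el i))) (S.below i)).coeff (t : G) := by
      intro t ht
      have h := congrFun (S.blk_coeff i) (t : G)
      rw [beta, subgroupBlockCoeff, subgroupBlockCoeff, dif_pos t.2, dif_pos ht] at h
      rw [sIdem, show (t : G) = ((⟨t, ht⟩ : (cen (Subgroup.zpowers (S.el i)))) : G) from rfl,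
        coeff_inclSub_of_mem, coeff_blkIdem, coeff_blkIdem]
      exact congrArg _ h
    rw [(pairVal_subBlock h₁ ξ (isCInv_sIdem S.hM le_rfl (S.below i)) hcoef).2,
      pairVal_sIdem S.hM (S.isPBlock_below i), if_pos hξ]
  have hBD : IsBrauerPairOf p M (S.blk i) (S.D.subgroupOf H) (subBlock h₂ S.eD) :=
    (isBrauerPairOf_iff_of_le S.hM hD' hle (S.isPBlock_blk i)).2 hBQ
  obtain ⟨D'', hD''⟩ := exists_isDefectGroup S.hM (S.isPBlock_blk i)
  have hmax : IsMaximalBrauerPair p M (S.blk i) (S.D.subgroupOf H) (subBlock h₂ S.eD) := by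
    refine isMaximal_of_card S.hM hBD hD'' ?_
    rw [natCard_defectGroup S.hM (S.isPBlock_blk i) hD'', S.blk_defect, S.blockDefect_B,
      Nat.card_congr (Subgroup.subgroupOfEquivOfLe hDH).toEquiv, natCard_D]
  have hu : S.u ∈ S.D := Subgroup.zpowers_le.1 (le_of_eq S.hu)
  have hgen : Subgroup.zpowers (⟨S.u, hDH hu⟩ : H) = S.D.subgroupOf H := by
    apply Subgroup.map_injective H.subtype_injective
    rw [MonoidHom.map_zpowers, Subgroup.map_subgroupOf_eq_of_le hDH]
    exact S.hu
  have hord : orderOf (⟨S.u, hDH hu⟩ : H) = p ^ S.a := by rw [Subgroup.orderOf_mk, S.hord]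
  let S' : CycBlock H p M := ⟨S.hM, S.blk i, S.D.subgroupOf H, subBlock h₂ S.eD, hmax,
    ⟨S.u, hDH hu⟩, hgen, S.a, S.ha, hord⟩
  refine ⟨S', rfl, rfl, ?_, rfl, fun n hn t => ?_⟩
  · refine Subgroup.relIndex_eq_one.2 fun t ht => ?_
    have htN : (t : G) ∈ Subgroup.normalizer (S.D : Set G) :=
      (mem_normalizer_subgroupOf hDH t).1 ht.1
    have hst : StabilizesBlock (cen S.D) S.eD (t : G) :=
      (stabilizesBlock_subBlock S.hM hDH h₂ S.isBrauerPair_eD.2 t htN).1
        (stabilizesBlock_of_mem S.hM hD'.2 ht)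
    have htT : (t : G) ∈ S.T :=
      ⟨htN, (stabilizesBlock_iff_coeff S.hM S.isBrauerPair_eD.2 htN).1 hst⟩
    have hfix : (t : G) * S.el i * (t : G)⁻¹ = S.el i := by
      rw [Subgroup.mem_centralizer_singleton_iff.1 t.2, mul_inv_cancel_right]
    have htC := S.mem_cen_of_fix htT (S.el_mem i) (fun h => hi (S.el_eq_one_iff.1 h)) hfix
    exact (((cenEq_iff _ S.D).1 h₂).2 t).2 htC
  · set m : ZMod (p ^ S.a) := (n : ZMod (p ^ S.a)) with hm
    have hel : S.el m = S.u ^ n := S.el_natCast n
    have hCm : (cen (Subgroup.zpowers (S.el m))) ≤ H := by rw [cen_zpowers, hel]; exact hn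
    obtain ⟨k₁, k₂, hlem⟩ := subpairLE_subBlock S.hM (S.below_le m) hDH hCm
    have hQ : (Subgroup.zpowers (S.el m)).subgroupOf H =
        Subgroup.zpowers (S'.el (n : ZMod (p ^ S'.a))) := by
      rw [S'.el_natCast]
      apply Subgroup.map_injective H.subtype_injective
      rw [MonoidHom.map_zpowers,
        Subgroup.map_subgroupOf_eq_of_le ((S.zpowers_le_D m).trans hDH), hel]
      rfl
    rw [← S'.beta_eq_of_below (f := subBlock k₁ (S.below m)) hQ hlem]
    show _ = subgroupBlockCoeff (cen (Subgroup.zpowers (S.el m))) (S.below m) (t : G)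
    unfold subgroupBlockCoeff
    by_cases ht : t ∈ Subgroup.centralizer
        (((Subgroup.zpowers (S.el m)).subgroupOf H : Subgroup H) : Set H)
    · have ht' := (((cenEq_iff _ _).1 k₁).2 t).1 ht
      rw [dif_pos ht, dif_pos ht']
      simp only [subBlock, blockCoeff_blockMap]
      rfl
    · rw [dif_neg ht, dif_neg fun h => ht ((((cenEq_iff _ _).1 k₁).2 t).2 h)]

/-- A sum against a function living on a subgroup. -/
theorem sum_mul_eq_sum_subgroup {H : Subgroup G} [Fintype H] {β : G → ℂ}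
    (hβ : ∀ k, β k ≠ 0 → k ∈ H) (f : G → ℂ) : ∑ k : G, β k * f k = ∑ t : H, β t * f t := by
  classical
  rw [← Finset.sum_subset (Finset.subset_univ (Finset.univ.filter fun k : G => k ∈ H))
    (fun k _ hk => by
      rw [show β k = 0 from by_contra fun h => hk (by simpa using hβ k h), zero_mul]),
    Finset.sum_subtype _ (p := fun k : G => k ∈ H) (fun k => by simp)]

theorem mem_cs_of_beta {j : ZMod (p ^ S.a)} {k : G} (hk : S.beta j k ≠ 0) :
    k ∈ (cs (S.el j)) := by
  rw [← S.blk_coeff j] at hk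
  exact Subgroup.mem_centralizer_singleton_iff.2 (SubColumn.beta_support S.hM (S.isPBlock_blk j) hk).1.eq.symm

/-- A column of the block through the restriction to the centralizer. -/
theorem subFun_eq_sum_restrict (χ : IrrCharacter G) {i : ZMod (p ^ S.a)}
    (S' : CycBlock (cs (S.el i)) p M) (hu : (S'.u : G) = S.u)
    (hβ : ∀ n : ℕ, (cs (S.u ^ n)) ≤ (cs (S.el i)) → ∀ t : (cs (S.el i)),
        S'.beta (n : ZMod (p ^ S'.a)) t = S.beta (n : ZMod (p ^ S.a)) (t : G))
    {n : ℕ} (hn : (cs (S.u ^ n)) ≤ (cs (S.el i))) [Fintype (IrrCharacter (cs (S.el i)))] :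
    S.col χ (n : ZMod (p ^ S.a)) = ∑ θ : IrrCharacter (cs (S.el i)),
      (resMult (S.el i) χ θ : ℂ) * S'.col θ (n : ZMod (p ^ S'.a)) := by
  classical
  have hsupp : ∀ k, S.beta (n : ZMod (p ^ S.a)) k ≠ 0 → k ∈ (cs (S.el i)) := fun k hk => by
    have h := S.mem_cs_of_beta hk
    rw [el_natCast] at h
    exact hn h
  simp only [col, el_natCast]
  unfold subFun
  rw [sum_mul_eq_sum_subgroup hsupp (fun k => (χ : G → ℂ) (k * S.u ^ n))]
  have hres : ∀ t : (cs (S.el i)), (χ : G → ℂ) ((t : G) * S.u ^ n) =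
      ∑ θ : IrrCharacter (cs (S.el i)), (resMult (S.el i) χ θ : ℂ) *
        (θ : (cs (S.el i)) → ℂ) (t * S'.u ^ n) := fun t => by
    have h := apply_pow_mul S.hM (S.isPPower_el i) χ 0 (t * S'.u ^ n)
    simpa [hu] using h
  simp only [hres, Finset.mul_sum]
  rw [Finset.sum_comm]
  refine Finset.sum_congr rfl fun θ _ => Finset.sum_congr rfl fun t _ => ?_
  rw [hβ n hn t]
  ring

end CfsgLib.Block.CycBlock
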