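import Cfsg.Agent.Lib.Block.DefectOrder

/-!
Weighted sums of `p`-regular elements: their central characters detect the block and height zero.
-/

set_option autoImplicit false
set_option linter.unusedSectionVars false

namespace CfsgLib.Block

open Cfsg MonoidAlgebra
open scoped ComplexConjugate

universe u

variable {G : Type u} [Group G] [Finite G] {p : ℕ} {M : Ideal AlgInt} [M.IsPrime]

/-- The sum of the `p`-regular elements `x` weighted by `θ x⁻¹`. -/
noncomputable def regSum (p : ℕ) (θ : G → ℂ) : MonoidAlgebra ℂ G :=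
  mkGA fun x => if p ∣ orderOf x then 0 else θ x⁻¹

theorem coeff_regSum (θ : G → ℂ) (x : G) :
    (regSum p θ).coeff x = if p ∣ orderOf x then 0 else θ x⁻¹ := coeff_mkGA _ x

theorem regSum_isClassCoeff {θ : G → ℂ} (hθ : IsClassFunction G θ) :
    IsClassCoeff (regSum p θ) := by
  intro g h
  have ho : orderOf (h * g * h⁻¹) = orderOf g := by
    simpa using orderOf_injective (MulAut.conj h).toMonoidHom (MulAut.conj h).injective g
  have hv : θ (h * g * h⁻¹)⁻¹ = θ g⁻¹ := by
    rw [show (h * g * h⁻¹)⁻¹ = h * g⁻¹ * h⁻¹ by group]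
    exact hθ g⁻¹ h
  rw [coeff_regSum, coeff_regSum, ho, hv]

theorem isLocalCentral_regSum {θ : G → ℂ} (hθ : IsCharacter G θ) :
    IsLocalCentral M (regSum p θ) := by
  refine ⟨regSum_isClassCoeff (CfsgLib.Char.isCharacter_isClassFunction hθ), fun x => ?_⟩
  rw [coeff_regSum]
  split
  · exact (lring M).zero_mem
  · exact memLocalRing_of_isIntegral (irr_apply_isIntegral hθ _)

theorem regSum_add (θ η : G → ℂ) : regSum p (θ + η) = regSum p θ + regSum p η := by
  ext x
  rw [coeff_add, Finsupp.add_apply, coeff_regSum, coeff_regSum, coeff_regSum]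
  split <;> simp

theorem regSum_smul (c : ℂ) (θ : G → ℂ) : regSum p (c • θ) = c • regSum p θ := by
  ext x
  rw [coeff_smul, Finsupp.smul_apply, coeff_regSum, coeff_regSum]
  split <;> simp

theorem regSum_sum {ι : Type*} (s : Finset ι) (θ : ι → G → ℂ) :
    regSum p (∑ i ∈ s, θ i) = ∑ i ∈ s, regSum p (θ i) :=
  map_sum (AddMonoidHom.mk' (regSum (G := G) p) regSum_add) θ s

theorem resSub_regSum (H : Subgroup G) (θ : G → ℂ) :
    resSub H (regSum p θ) = regSum p (fun h : H => θ (h : G)) := by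
  ext h
  rw [coeff_resSub, coeff_regSum, coeff_regSum, Subgroup.orderOf_coe]
  split <;> simp

/-- The modular image of a weighted regular sum. -/
noncomputable def regZ (M : Ideal AlgInt) [M.IsPrime] (p : ℕ) (θ : G → ℂ) (hθ : IsCharacter G θ) :
    Subalgebra.center (kres M) (MonoidAlgebra (kres M) G) :=
  ⟨redA M (regSum p θ), isClassCoeff_iff_mem_center.1
    (redA_isClassCoeff (regSum_isClassCoeff (CfsgLib.Char.isCharacter_isClassFunction hθ)))⟩

theorem lam_regZ (φ : IrrCharacter G) (θ : G → ℂ) (hθ : IsCharacter G θ) :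
    lam M φ (regZ M p θ hθ) = redC M (omegaC (φ : G → ℂ) (regSum p θ)) :=
  lam_apply φ (isLocalCentral_regSum hθ) _ rfl

variable (hM : IsPModular p M)
include hM

/-- Irreducible characters in different blocks are orthogonal on the regular elements. -/
theorem omegaC_regSum_eq_zero {χ φ : IrrCharacter G}
    (h : ¬ SameBlock M (χ : G → ℂ) (φ : G → ℂ)) :
    omegaC (φ : G → ℂ) (regSum p (χ : G → ℂ)) = 0 := by
  classical
  have := Fintype.ofFinite G
  have := Fintype.ofFinite (IrrCharacter G)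
  rw [omegaC_eq, div_eq_zero_iff]
  left
  set B := blockOf M (χ : G → ℂ) with hBdef
  have hB : IsPBlock M B := isPBlock_blockOf χ
  -- `Σ_{x,y} χ x⁻¹ φ y Π_B(x, y)` evaluated in two ways
  let K : G → G → ℂ := fun x y =>
    ∑ ψ : IrrCharacter G, B.indicator (fun ψ => (ψ : G → ℂ) x * conj ((ψ : G → ℂ) y)) ψ
  have hK : ∀ x y, ¬ p ∣ orderOf x → p ∣ orderOf y → K x y = 0 := by
    intro x y hx hy
    rw [← sum_block_eq_zero_of_regular_singular hM hB hx hy, finsum_mem_def,
      finsum_eq_sum_of_fintype]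
  -- `χ° = Π_B (χ°)` since `Π_B χ = χ`
  have hproj : ∀ x : G, ¬ p ∣ orderOf x →
      (χ : G → ℂ) x⁻¹ = (Nat.card G : ℂ)⁻¹ * ∑ y with ¬ p ∣ orderOf y, K x⁻¹ y * (χ : G → ℂ) y := by
    intro x hx
    rw [Finset.sum_subset (Finset.filter_subset _ _) (fun y _ hy => by
      rw [hK _ _ (by rwa [orderOf_inv]) (by simpa using hy), zero_mul])]
    have h1 : ∀ ψ : IrrCharacter G, (Nat.card G : ℂ)⁻¹ * ∑ y, (χ : G → ℂ) y * conj ((ψ : G → ℂ) y)
        = if χ = ψ then 1 else 0 := fun ψ => by
      rw [← CfsgLib.Char.classInner_def, CfsgLib.Char.irr_classInner χ.2 ψ.2]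
      simp [Subtype.coe_inj]
    simp only [K, Finset.sum_mul]
    rw [Finset.sum_comm, Finset.mul_sum, Finset.sum_eq_single χ]
    · have hh := h1 χ
      rw [if_pos rfl] at hh
      conv_lhs => rw [← mul_one ((χ : G → ℂ) x⁻¹), ← hh, Finset.mul_sum, Finset.mul_sum]
      rw [Finset.mul_sum]
      refine Finset.sum_congr rfl fun y _ => ?_
      rw [Set.indicator_of_mem (mem_blockOf_self χ)]
      ring
    · intro ψ _ hψ
      by_cases hψB : ψ ∈ B
      · have hh := h1 ψ
        rw [if_neg (Ne.symm hψ)] at hh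
        rw [← mul_zero ((ψ : G → ℂ) x⁻¹), ← hh, Finset.mul_sum, Finset.mul_sum, Finset.mul_sum]
        refine Finset.sum_congr rfl fun y _ => ?_
        rw [Set.indicator_of_mem hψB]
        ring
      · simp [Set.indicator_of_notMem hψB]
    · simp
  have hφ : ∀ ψ : IrrCharacter G, ψ ∈ B → ∑ x, (ψ : G → ℂ) x⁻¹ * (φ : G → ℂ) x = 0 := by
    intro ψ hψ
    have hne : φ ≠ ψ := fun e => h (e ▸ hψ)
    have h0 := CfsgLib.Char.irr_classInner_ne φ.2 ψ.2 (fun e => hne (Subtype.ext e))
    rw [CfsgLib.Char.classInner_def, mul_eq_zero, or_iff_right (inv_ne_zero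
      CfsgLib.Char.natCard_ne_zero)] at h0
    rw [← h0]
    exact Finset.sum_congr rfl fun x _ => by rw [irr_conj_eq ψ.2, mul_comm]
  -- the kernel annihilates `φ`
  have hKφ : ∀ y : G, ¬ p ∣ orderOf y →
      ∑ x with ¬ p ∣ orderOf x, K x⁻¹ y * (φ : G → ℂ) x = 0 := by
    intro y hy
    rw [Finset.sum_subset (Finset.filter_subset _ _) (fun x _ hx => by
      have hsym : K x⁻¹ y = conj (K y x⁻¹) := by
        simp only [K, map_sum]
        refine Finset.sum_congr rfl fun ψ _ => ?_
        simp only [Set.indicator_apply]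
        split <;> simp [mul_comm]
      rw [hsym, hK y x⁻¹ hy (by simpa [orderOf_inv] using hx), map_zero, zero_mul])]
    simp only [K, Finset.sum_mul]
    rw [Finset.sum_comm]
    refine Finset.sum_eq_zero fun ψ _ => ?_
    by_cases hψB : ψ ∈ B
    · simp only [Set.indicator_of_mem hψB]
      rw [← mul_zero (conj ((ψ : G → ℂ) y)), ← hφ ψ hψB, Finset.mul_sum]
      exact Finset.sum_congr rfl fun x _ => by ring
    · simp [Set.indicator_of_notMem hψB]
  have hLHS : ∑ x, (regSum p (χ : G → ℂ)).coeff x * (φ : G → ℂ) x =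
      ∑ x with ¬ p ∣ orderOf x, (χ : G → ℂ) x⁻¹ * (φ : G → ℂ) x := by
    rw [Finset.sum_filter]
    refine Finset.sum_congr rfl fun x _ => ?_
    rw [coeff_regSum]
    split <;> simp
  rw [hLHS, Finset.sum_congr rfl (fun x hx => by rw [hproj x (Finset.mem_filter.1 hx).2]),
    Finset.sum_congr rfl (g := fun x => ∑ y with ¬ p ∣ orderOf y,
      (Nat.card G : ℂ)⁻¹ * (χ : G → ℂ) y * (K x⁻¹ y * (φ : G → ℂ) x)) (fun x _ => by
      rw [mul_assoc, Finset.sum_mul, Finset.mul_sum]
      exact Finset.sum_congr rfl fun y _ => by ring)]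
  rw [Finset.sum_comm]
  refine Finset.sum_eq_zero fun y hy => ?_
  rw [← Finset.mul_sum, hKφ y (Finset.mem_filter.1 hy).2, mul_zero]

theorem lam_regZ_eq_zero {χ φ : IrrCharacter G} (h : ¬ SameBlock M (χ : G → ℂ) (φ : G → ℂ)) :
    lam M φ (regZ M p (χ : G → ℂ) (CfsgLib.Char.irr_isCharacter χ.2)) = 0 := by
  rw [lam_regZ, omegaC_regSum_eq_zero hM h, redC_zero]

/-- Within its block, the regular sum of `χ` has nonzero central character exactly when `χ` has
height zero. -/
theorem lam_regZ_ne_zero_iff {B : Set (IrrCharacter G)} (hB : IsPBlock M B)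
    {χ φ : IrrCharacter G} (hχ : χ ∈ B) (hφ : φ ∈ B) :
    lam M φ (regZ M p (χ : G → ℂ) (CfsgLib.Char.irr_isCharacter χ.2)) ≠ 0 ↔
      blockHeight p B (χ : G → ℂ) = 0 := by
  classical
  have := Fintype.ofFinite (IrrCharacter G)
  have : Finite (ConjClasses G) := Finite.of_surjective ConjClasses.mk ConjClasses.mk_surjective
  have := Fintype.ofFinite (ConjClasses G)
  obtain ⟨c, hc, hexp⟩ := exists_blockCoeff_expansion hM hB
  set h := sInf ((fun ψ : IrrCharacter G => (charDegree (ψ : G → ℂ)).factorization p) '' B)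
  have hph : (p : ℕ) ^ h ≠ 0 := pow_ne_zero _ hM.1.ne_zero
  have hfac : (p ^ h).factorization p = h := by simp [hM.1.factorization]
  let D : IrrCharacter G → ℂ := fun ψ => (charDegree (ψ : G → ℂ) : ℂ) / ((p ^ h : ℕ) : ℂ)
  have hD : ∀ ψ ∈ B, MemLocalRing M (D ψ) := fun ψ hψ =>
    memLocalRing_natCast_div hM hph (Or.inr (by rw [hfac]; exact Nat.sInf_le ⟨ψ, hψ, rfl⟩))
  set A := ∑ ψ : IrrCharacter G, if ψ ∈ B then c ψ * D ψ else 0 with hA
  have hterm : ∀ ψ : IrrCharacter G, MemLocalRing M (if ψ ∈ B then c ψ * D ψ else 0) := by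
    intro ψ
    split
    · next hψ => exact memLocalRing_mul (hc ψ) (hD ψ hψ)
    · exact (lring M).zero_mem
  have hAR : MemLocalRing M A := memLocalRing_sum _ _ fun ψ _ => hterm ψ
  have key : ∀ χ ∈ B, redC M A * lam M φ (regZ M p ((χ : IrrCharacter G) : G → ℂ)
      (CfsgLib.Char.irr_isCharacter χ.2)) = redC M (D χ) := by
    intro χ hχ
    conv_rhs => rw [← mul_one (redC M (D χ)), ← (algHom_blkIdem_eq_one_iff hM hB φ).2 hφ]
    rw [algHom_eq_sum_classes (lam M φ), algHom_eq_sum_classes (lam M φ), Finset.mul_sum,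
      Finset.mul_sum]
    refine Finset.sum_congr rfl fun C _ => ?_
    rw [coeff_blkIdem]
    simp only [regZ, redA, coeff_mkGA, coeff_regSum]
    set g := C.out
    by_cases hg : p ∣ orderOf g
    · rw [if_pos hg, blockCoeff_eq_zero_of_singular hM hB hg, redC_zero]
      ring
    rw [if_neg hg]
    by_cases hl : lam M φ (classSumZ (kres M) g) = 0
    · rw [hl]; ring
    rw [← mul_assoc, ← mul_assoc]
    congr 1
    have hidx : (Subgroup.centralizer ({g} : Set G)).index.factorization p ≤ h := by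
      refine le_csInf ⟨_, χ, hχ, rfl⟩ ?_
      rintro _ ⟨ψ, hψ, rfl⟩
      refine index_le_degree hM hB hψ fun hz => hl ?_
      rw [lam_eq_of_sameBlock (sameBlock_of_mem hB hφ hψ), lam_classSumZ,
        redC_eq_zero_iff (memLocalRing_centralChar ψ.2 g)]
      exact hz
    set q : ℂ := ((p ^ h : ℕ) : ℂ) / ((Subgroup.centralizer ({g} : Set G)).index : ℂ)
    have hq : MemLocalRing M q :=
      memLocalRing_natCast_div hM Subgroup.index_ne_zero_of_finite (Or.inr (by rw [hfac]; exact hidx))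
    have hval : ∀ ψ ∈ B, (ψ : G → ℂ) g⁻¹ = D ψ * q * centralChar (ψ : G → ℂ) g⁻¹ := by
      intro ψ hψ
      rw [centralChar_eq_div]
      have hi : Subgroup.centralizer ({g⁻¹} : Set G) = Subgroup.centralizer ({g} : Set G) := by
        ext x
        rw [Subgroup.mem_centralizer_singleton_iff, Subgroup.mem_centralizer_singleton_iff]
        exact Commute.inv_right_iff (a := x) (b := g)
      rw [hi]
      have a1 : (charDegree (ψ : G → ℂ) : ℂ) ≠ 0 := by exact_mod_cast charDegree_ne_zero ψ.2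
      have a2 : ((Subgroup.centralizer ({g} : Set G)).index : ℂ) ≠ 0 := by
        exact_mod_cast Subgroup.index_ne_zero_of_finite
      have a3 : ((p ^ h : ℕ) : ℂ) ≠ 0 := by exact_mod_cast hph
      simp only [D, q]
      field_simp
    have hred : ∀ ψ ∈ B, redC M ((ψ : G → ℂ) g⁻¹) =
        redC M (D ψ) * redC M q * redC M (centralChar (φ : G → ℂ) g⁻¹) := by
      intro ψ hψ
      rw [hval ψ hψ, redC_mul (memLocalRing_mul (hD ψ hψ) hq) (memLocalRing_centralChar ψ.2 _),
        redC_mul (hD ψ hψ) hq, (redC_eq_iff (memLocalRing_centralChar ψ.2 _)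
          (memLocalRing_centralChar φ.2 _)).2 (sameBlock_of_mem hB hψ hφ g⁻¹)]
    have hterm' : ∀ ψ : IrrCharacter G,
        MemLocalRing M (B.indicator (fun ψ => c ψ * (ψ : G → ℂ) g⁻¹) ψ) := by
      intro ψ
      rw [Set.indicator_apply]
      split
      · exact memLocalRing_mul (hc ψ) (memLocalRing_irr_apply ψ _)
      · exact (lring M).zero_mem
    rw [hexp g hg, finsum_mem_def, finsum_eq_sum_of_fintype, redC_sum _ _ (fun ψ _ => hterm' ψ),
      hA, redC_sum _ _ (fun ψ _ => hterm ψ), Finset.sum_mul, Finset.mul_sum, hred χ hχ]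
    refine Finset.sum_congr rfl fun ψ _ => ?_
    rw [Set.indicator_apply]
    split
    · next hψ =>
      rw [redC_mul (hc ψ) (hD ψ hψ), redC_mul (hc ψ) (memLocalRing_irr_apply ψ _), hred ψ hψ]
      ring
    · rw [redC_zero]; ring
  have hDne : ∀ ψ ∈ B, (redC M (D ψ) ≠ 0 ↔ blockHeight p B ((ψ : IrrCharacter G) : G → ℂ) = 0) := by
    intro ψ hψ
    rw [blockHeight_eq_zero_iff hM hB hψ, Ne, redC_eq_zero_iff (hD ψ hψ)]
    have hle : h ≤ (charDegree (ψ : G → ℂ)).factorization p := Nat.sInf_le ⟨ψ, hψ, rfl⟩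
    constructor
    · intro hnot
      refine le_antisymm ?_ hle
      by_contra hlt
      exact hnot (memLocalIdeal_natCast_div hM hph (Or.inr (by rw [hfac]; exact not_le.1 hlt)))
    · intro he hmem
      have hinv : MemLocalRing M (((p ^ h : ℕ) : ℂ) / (charDegree (ψ : G → ℂ) : ℂ)) :=
        memLocalRing_natCast_div hM (charDegree_ne_zero ψ.2) (Or.inr (by rw [hfac]; omega))
      apply not_memLocalIdeal_one (M := M)
      have hprod : D ψ * (((p ^ h : ℕ) : ℂ) / (charDegree (ψ : G → ℂ) : ℂ)) = 1 := by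
        have a1 : (charDegree (ψ : G → ℂ) : ℂ) ≠ 0 := by exact_mod_cast charDegree_ne_zero ψ.2
        have a3 : ((p ^ h : ℕ) : ℂ) ≠ 0 := by exact_mod_cast hph
        simp only [D]
        field_simp
      rw [← hprod]
      exact memLocalIdeal_mul_right hinv hmem
  have hAne : redC M A ≠ 0 := by
    obtain ⟨χ₀, hχ₀, h0⟩ := exists_height_zero hM hB
    intro hA0
    apply (hDne χ₀ hχ₀).2 h0
    rw [← key χ₀ hχ₀, hA0, zero_mul]
  rw [← hDne χ hχ, ← key χ hχ]
  exact ⟨fun hl => mul_ne_zero hAne hl, fun hm => right_ne_zero_of_mul hm⟩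

end CfsgLib.Block
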