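import Cfsg.Agent.Lib.Block.CyclicColumns
import Cfsg.Agent.Lib.BlockA.CentralDefect

/-!
# Sections whose block has one regular part

When all members of the block below at `el i` agree on the regular elements, the column at the
powers of `el i` is the common degree times a cyclotomic number `S.secPow χ i k`. At a generator
this applies, and the Galois mean bounds the number of characters of the block by `p ^ a`.
-/

set_option autoImplicit false
set_option linter.unusedSectionVars false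

namespace CfsgLib.Block

open Cfsg CfsgLib.Block CfsgLib.BlockA CfsgLib.BlockB CfsgLib.BlockB.SubSum
  CfsgLib.BlockB.HeightBound
open scoped ComplexConjugate
open Polynomial

universe u

theorem isCyclo_sum_roots {n : ℕ} (hn : n ≠ 0) {ι : Type*} (s : Finset ι) (m : ι → ℕ)
    (r : ι → ℂ) (hr : ∀ i ∈ s, r i ^ n = 1) :
    IsCyclo n (fun k => ∑ i ∈ s, (m i : ℂ) * r i ^ k) := by
  refine IsCyclo.sum s fun i hi => ?_
  have : NeZero n := ⟨hn⟩
  obtain ⟨j, -, hj⟩ := (zetaN_isPrimitiveRoot hn).eq_pow_of_pow_eq_one (hr i hi)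
  refine ⟨Polynomial.C (m i : ℤ) * X ^ j, fun k => ?_⟩
  beta_reduce
  rw [map_mul, aeval_C, map_pow, aeval_X, ← hj, ← pow_mul, ← pow_mul, mul_comm k j]
  simp

theorem one_le_prod_units {n : ℕ} [NeZero n] {f : ℕ → ℂ} (hf : IsCyclo n f)
    (hne : ∀ u : (ZMod n)ˣ, f (u : ZMod n).val ≠ 0) :
    1 ≤ ∏ u : (ZMod n)ˣ, ‖f (u : ZMod n).val‖ := by
  classical
  have hn : n ≠ 0 := NeZero.ne n
  have h := one_le_prod_norm (Finset.univ : Finset (ZMod n)ˣ)
    (fun u i => f (i * (u : ZMod n).val)) hn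
    (fun u _ => by simpa only [mul_comm] using hf.comp_mul (u : ZMod n).val) (fun k hk => ?_)
    (fun u _ => by simpa only [one_mul] using hne u)
  · simpa only [one_mul] using h
  · refine ⟨(Equiv.mulLeft (ZMod.unitOfCoprime k hk)).subtypeEquiv (fun u => by simp), fun u => ?_⟩
    show f (1 * ((ZMod.unitOfCoprime k hk * u.1 : (ZMod n)ˣ) : ZMod n).val) = _
    rw [one_mul, ← hf.apply_mod hn (k * (u.1 : ZMod n).val), Units.val_mul, ZMod.val_mul,
      ZMod.coe_unitOfCoprime, ZMod.val_natCast, Nat.mod_mul_mod]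

/-- The Galois mean of the squared absolute value, with its case of equality. -/
theorem card_le_sum_normSq {n : ℕ} [NeZero n] {f : ℕ → ℂ} (hf : IsCyclo n f)
    (hne : ∀ u : (ZMod n)ˣ, f (u : ZMod n).val ≠ 0) :
    (Nat.card (ZMod n)ˣ : ℝ) ≤ ∑ u : (ZMod n)ˣ, Complex.normSq (f (u : ZMod n).val) ∧
      (∑ u : (ZMod n)ˣ, Complex.normSq (f (u : ZMod n).val) ≤ (Nat.card (ZMod n)ˣ : ℝ) →
        ∀ u : (ZMod n)ˣ, Complex.normSq (f (u : ZMod n).val) = 1) := by
  set r : (ZMod n)ˣ → ℝ := fun u => Complex.normSq (f (u : ZMod n).val) with hr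
  have hpos : ∀ u, 0 < r u := fun u => Complex.normSq_pos.2 (hne u)
  have hlog : 0 ≤ ∑ u, Real.log (r u) := by
    rw [← Real.log_prod (fun u _ => (hpos u).ne')]
    refine Real.log_nonneg ?_
    have h := one_le_prod_units hf hne
    simp only [hr, Complex.normSq_eq_norm_sq, Finset.prod_pow]
    exact one_le_pow₀ h
  have hle : ∀ u, 0 ≤ r u - 1 - Real.log (r u) := fun u => by
    linarith [Real.log_le_sub_one_of_pos (hpos u)]
  have hsum : ∑ u, (r u - 1 - Real.log (r u)) =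
      ∑ u, r u - (Nat.card (ZMod n)ˣ : ℝ) - ∑ u, Real.log (r u) := by
    rw [Finset.sum_sub_distrib, Finset.sum_sub_distrib, Finset.sum_const, Finset.card_univ,
      nsmul_eq_mul, mul_one, Nat.card_eq_fintype_card]
  have h0 : 0 ≤ ∑ u, (r u - 1 - Real.log (r u)) := Finset.sum_nonneg fun u _ => hle u
  refine ⟨by linarith, fun h u => ?_⟩
  have h1 : ∑ u, (r u - 1 - Real.log (r u)) = 0 := by linarith
  have h2 := (Finset.sum_eq_zero_iff_of_nonneg fun u _ => hle u).1 h1 u (Finset.mem_univ u)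
  by_contra hne1
  linarith [Real.log_lt_sub_one_of_pos (hpos u) hne1]

namespace CycBlock

variable {G : Type u} [Group G] [Fintype G] {p : ℕ} [hp : Fact p.Prime] {M : Ideal AlgInt}
  [M.IsPrime] (S : CycBlock G p M)

local notation "cs" y => Subgroup.centralizer (Singleton.singleton y : Set G)

/-- All members of the block below agree on the regular elements. -/
def AllEq (i : ZMod (p ^ S.a)) : Prop :=
  ∀ θ ∈ S.blk i, ∀ θ' ∈ S.blk i, ∀ v : (cs (S.el i)), ¬ p ∣ orderOf v →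
    (θ : (cs (S.el i)) → ℂ) v = (θ' : (cs (S.el i)) → ℂ) v

/-- A member of the block below. -/
noncomputable def member (i : ZMod (p ^ S.a)) : IrrCharacter (cs (S.el i)) :=
  (isPBlock_nonempty (S.isPBlock_blk i)).choose

theorem member_mem (i : ZMod (p ^ S.a)) : S.member i ∈ S.blk i :=
  (isPBlock_nonempty (S.isPBlock_blk i)).choose_spec

/-- The degree in the block below. -/
noncomputable def dg (i : ZMod (p ^ S.a)) : ℂ := (S.member i : (cs (S.el i)) → ℂ) 1

theorem dg_ne_zero (i : ZMod (p ^ S.a)) : S.dg i ≠ 0 :=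
  CfsgLib.Char.irr_apply_one_ne_zero (S.member i).2

/-- The cyclotomic number of a power of `el i`. -/
noncomputable def secPow (χ : IrrCharacter G) (i : ZMod (p ^ S.a)) (k : ℕ) : ℂ :=
  ∑ θ ∈ (S.blk i).toFinite.toFinset, (resMult (S.el i) χ θ : ℂ) * centralRoot (S.el i) θ ^ k

theorem orderOf_el_dvd (i : ZMod (p ^ S.a)) : orderOf (S.el i) ∣ p ^ S.a :=
  S.natCard_D ▸ Subgroup.orderOf_dvd_natCard S.D (S.el_mem i)

theorem isCyclo_secPow (χ : IrrCharacter G) (i : ZMod (p ^ S.a)) :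
    IsCyclo (p ^ S.a) (S.secPow χ i) :=
  isCyclo_sum_roots (pow_ne_zero _ hp.out.ne_zero) _ _ _ fun θ _ => by
    obtain ⟨c, hc⟩ := S.orderOf_el_dvd i
    rw [hc, pow_mul, (centralRoot_spec S.hM (S.isPPower_el i) θ).2.1, one_pow]

variable {S}

theorem blockPart_eq_secPow {i : ZMod (p ^ S.a)} (h : S.AllEq i) [Fintype (cs (S.el i))]
    (χ : IrrCharacter G) (k : ℕ) {v : (cs (S.el i))} (hv : ¬ p ∣ orderOf v) :
    blockPart (S.blk i) (fun c : (cs (S.el i)) => (χ : G → ℂ) (S.el i ^ k * (c : G))) v =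
      S.secPow χ i k * (S.member i : (cs (S.el i)) → ℂ) v := by
  rw [blockPart_pow S.hM (S.isPPower_el i) (S.blk i) χ k v, secPow, Finset.sum_mul]
  refine Finset.sum_congr rfl fun θ hθ => ?_
  rw [h θ (by simpa using hθ) _ (S.member_mem i) v hv]

theorem not_dvd_orderOf_one {H : Type*} [Group H] : ¬ p ∣ orderOf (1 : H) := by
  rw [orderOf_one]
  exact hp.out.not_dvd_one

theorem col_unit_mul {i : ZMod (p ^ S.a)} (h : S.AllEq i) (χ : IrrCharacter G)
    (w : (ZMod (p ^ S.a))ˣ) :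
    S.col χ ((w : ZMod (p ^ S.a)) * i) = S.secPow χ i (w : ZMod (p ^ S.a)).val * S.dg i := by
  classical
  rw [col, S.beta_unit_mul, el_mul_eq, ← S.blk_coeff i, dg,
    ← blockPart_eq_secPow h χ _ not_dvd_orderOf_one]
  have h1 := subFun_coeff (x := S.el i) (S.blk i) (CfsgLib.Char.irr_isClassFunction χ.2)
    (y := S.el i ^ (w : ZMod (p ^ S.a)).val) (centralizer_le_pow S.hM (S.isPPower_el i) _) 1
  simpa using h1

theorem col_eq_secPow {i : ZMod (p ^ S.a)} (h : S.AllEq i) (χ : IrrCharacter G) :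
    S.col χ i = S.secPow χ i 1 * S.dg i := by
  classical
  rw [col, ← S.blk_coeff i, dg, ← blockPart_eq_secPow h χ 1 not_dvd_orderOf_one, pow_one]
  have h1 := subFun_coeff (x := S.el i) (S.blk i) (CfsgLib.Char.irr_isClassFunction χ.2)
    (y := S.el i) le_rfl 1
  simpa using h1

theorem nrm_eq {i : ZMod (p ^ S.a)} (h : S.AllEq i) :
    S.nrm i = (Nat.card (S.blk i) : ℂ) * (S.dg i * conj (S.dg i)) := by
  rw [nrm, Finset.sum_congr rfl (fun θ hθ => by
      rw [h θ (by simpa using hθ) _ (S.member_mem i) 1 not_dvd_orderOf_one]),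
    Finset.sum_const, nsmul_eq_mul, ← Set.ncard_eq_toFinset_card, ← Nat.card_coe_set_eq]
  rfl

theorem nrm_unit_mul (w : (ZMod (p ^ S.a))ˣ) (i : ZMod (p ^ S.a)) :
    S.nrm ((w : ZMod (p ^ S.a)) * i) = S.nrm i := by
  have key : ∀ (H H' : Subgroup G), H = H' → ∀ (b : Set (IrrCharacter H))
      (b' : Set (IrrCharacter H')), IsPBlock M b → IsPBlock M b' →
      subgroupBlockCoeff H b = subgroupBlockCoeff H' b' →
      ∑ θ ∈ b.toFinite.toFinset, (θ : H → ℂ) 1 * conj ((θ : H → ℂ) 1) =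
        ∑ θ ∈ b'.toFinite.toFinset, (θ : H' → ℂ) 1 * conj ((θ : H' → ℂ) 1) := by
    rintro H H' rfl b b' hb hb' he
    rw [subgroupBlockCoeff_injective S.hM hb hb' he]
  refine key _ _ ?_ _ _ (S.isPBlock_blk _) (S.isPBlock_blk _)
    (by rw [S.blk_coeff, S.blk_coeff, S.beta_unit_mul])
  rw [← cen_zpowers, ← cen_zpowers, S.zpowers_el_unit_mul]

theorem sum_normSq_secPow {i : ZMod (p ^ S.a)} (h : S.AllEq i) (w : (ZMod (p ^ S.a))ˣ) :
    ∑ χ ∈ S.B.toFinite.toFinset, Complex.normSq (S.secPow χ i (w : ZMod (p ^ S.a)).val) =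
      (Nat.card (S.blk i) : ℝ) := by
  have h1 := S.orth_self ((w : ZMod (p ^ S.a)) * i)
  have e : ∀ χ : IrrCharacter G, S.col χ ((w : ZMod (p ^ S.a)) * i) *
      conj (S.col χ ((w : ZMod (p ^ S.a)) * i)) =
      (Complex.normSq (S.secPow χ i (w : ZMod (p ^ S.a)).val) : ℂ) *
        (Complex.normSq (S.dg i) : ℂ) := fun χ => by
    rw [col_unit_mul h, map_mul, mul_mul_mul_comm, Complex.mul_conj, Complex.mul_conj]
  simp only [nrm_unit_mul, nrm_eq h, e, Complex.mul_conj, ← Finset.sum_mul] at h1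
  have h2 := mul_right_cancel₀ (Complex.ofReal_ne_zero.2
    (Complex.normSq_pos.2 (S.dg_ne_zero i)).ne') h1
  exact_mod_cast h2

theorem secPow_ne_zero {i : ZMod (p ^ S.a)} (h : S.AllEq i) {χ : IrrCharacter G} (hχ : χ ∈ S.B)
    (w : (ZMod (p ^ S.a))ˣ) : S.secPow χ i (w : ZMod (p ^ S.a)).val ≠ 0 := by
  classical
  intro h0
  set k := (w : ZMod (p ^ S.a)).val with hk
  set j := (w : ZMod (p ^ S.a)) * i with hj
  have := Fintype.ofFinite (cs (S.el i))
  have := Fintype.ofFinite (cs (S.el j))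
  have hne := subSum_ne_zero S.hM (S.isPPower_el j) (S.isPBlock_blk j) (S.blk_induced j)
    (S.blk_defect j).ge hχ
  rw [S.blk_coeff, hj, S.beta_unit_mul, el_mul_eq, ← S.blk_coeff i,
    subSum_eq_sum S.hM (S.isPPower_el i)
      ((ZMod.val_coe_unit_coprime w).coprime_dvd_right (S.orderOf_el_dvd i)) χ] at hne
  refine hne (Finset.sum_eq_zero fun v _ => ?_)
  by_cases hv : p ∣ orderOf v
  · rw [regInd, if_pos hv, zero_mul]
  · rw [blockPart_eq_secPow h χ k hv, h0, zero_mul, map_zero, zero_mul, mul_zero]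

theorem natCard_B_le_blk {i : ZMod (p ^ S.a)} (h : S.AllEq i) :
    Nat.card S.B ≤ Nat.card (S.blk i) := by
  have : NeZero (p ^ S.a) := ⟨pow_ne_zero _ hp.out.ne_zero⟩
  have h1 : ∑ χ ∈ S.B.toFinite.toFinset, (Nat.card (ZMod (p ^ S.a))ˣ : ℝ) ≤
      ∑ χ ∈ S.B.toFinite.toFinset, ∑ w : (ZMod (p ^ S.a))ˣ,
        Complex.normSq (S.secPow χ i (w : ZMod (p ^ S.a)).val) :=
    Finset.sum_le_sum fun χ hχ =>
      (card_le_sum_normSq (S.isCyclo_secPow χ i) (secPow_ne_zero h (by simpa using hχ))).1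
  rw [Finset.sum_comm, Finset.sum_congr rfl (fun w _ => sum_normSq_secPow h w), Finset.sum_const,
    Finset.sum_const, nsmul_eq_mul, nsmul_eq_mul, Finset.card_univ, ← Nat.card_eq_fintype_card,
    mul_comm] at h1
  have h2 := le_of_mul_le_mul_left h1 (Nat.cast_pos.2 Nat.card_pos)
  rw [Nat.card_coe_set_eq, Set.ncard_eq_toFinset_card]
  exact_mod_cast h2

theorem normSq_secPow_eq_one {i : ZMod (p ^ S.a)} (h : S.AllEq i)
    (hk : Nat.card (S.blk i) ≤ Nat.card S.B) {χ : IrrCharacter G} (hχ : χ ∈ S.B)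
    (w : (ZMod (p ^ S.a))ˣ) :
    Complex.normSq (S.secPow χ i (w : ZMod (p ^ S.a)).val) = 1 := by
  have : NeZero (p ^ S.a) := ⟨pow_ne_zero _ hp.out.ne_zero⟩
  have hmean := fun ψ (hψ : ψ ∈ S.B) =>
    card_le_sum_normSq (S.isCyclo_secPow ψ i) (secPow_ne_zero h hψ)
  refine (hmean χ hχ).2 ?_ w
  by_contra hlt
  rw [not_le] at hlt
  have h1 : ∑ ψ ∈ S.B.toFinite.toFinset, (Nat.card (ZMod (p ^ S.a))ˣ : ℝ) <
      ∑ ψ ∈ S.B.toFinite.toFinset, ∑ v : (ZMod (p ^ S.a))ˣ,
        Complex.normSq (S.secPow ψ i (v : ZMod (p ^ S.a)).val) :=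
    Finset.sum_lt_sum (fun ψ hψ => (hmean ψ (by simpa using hψ)).1) ⟨χ, by simpa using hχ, hlt⟩
  rw [Finset.sum_comm, Finset.sum_congr rfl (fun v _ => sum_normSq_secPow h v), Finset.sum_const,
    Finset.sum_const, nsmul_eq_mul, nsmul_eq_mul, Finset.card_univ, ← Nat.card_eq_fintype_card,
    mul_comm] at h1
  refine absurd (lt_of_mul_lt_mul_left h1 (Nat.cast_nonneg _)) (not_lt.2 ?_)
  rw [← Set.ncard_eq_toFinset_card, ← Nat.card_coe_set_eq]
  exact_mod_cast hk

/-- The generators: the block below has central defect group. -/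
theorem generator_block (w : (ZMod (p ^ S.a))ˣ) :
    S.AllEq (w : ZMod (p ^ S.a)) ∧ blockRank p (S.blk (w : ZMod (p ^ S.a))) = 1 ∧
      Nat.card (S.blk (w : ZMod (p ^ S.a))) = p ^ S.a := by
  classical
  set i : ZMod (p ^ S.a) := (w : ZMod (p ^ S.a)) with hi
  have := Fintype.ofFinite (cs (S.el i))
  have hz : Subgroup.zpowers (S.el i) = S.D := by
    have h := S.zpowers_el_unit_mul w 1
    rwa [mul_one, el_one, S.hu] at h
  have hC : (cs (S.el i)) = Subgroup.centralizer (S.D : Set G) := by rw [← cen_zpowers, hz]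
  have hDC : S.D ≤ (cs (S.el i)) := hC ▸ S.D_le_cen
  set P : Subgroup (cs (S.el i)) := S.D.subgroupOf (cs (S.el i)) with hP
  have hPz : P ≤ Subgroup.center (cs (S.el i)) := by
    intro x hx
    rw [Subgroup.mem_center_iff]
    intro c
    have hc : (c : G) ∈ Subgroup.centralizer (S.D : Set G) := (SetLike.ext_iff.1 hC _).1 c.2
    exact Subtype.ext (Subgroup.mem_centralizer_iff.1 hc _ hx).symm
  have hPn : P.Normal := ⟨fun x hx c => by
    rwa [Subgroup.mem_center_iff.1 (hPz hx) c, mul_inv_cancel_right]⟩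
  have hPp : IsPGroup p P := S.isBrauerPair_eD.1.comap_subtype
  obtain ⟨D', hD'⟩ := exists_isDefectGroup S.hM (S.isPBlock_blk i)
  have hle := normal_le_defectGroup S.hM hPp (S.isPBlock_blk i) hD'
  have hcardP : Nat.card P = p ^ S.a := by
    rw [hP, Nat.card_congr (Subgroup.subgroupOfEquivOfLe hDC).toEquiv, natCard_D]
  have hcard : Nat.card D' = Nat.card P := by
    rw [natCard_defectGroup S.hM (S.isPBlock_blk i) hD', S.blk_defect, S.blockDefect_B, hcardP]
  have hPD : P = D' := Subgroup.eq_of_le_of_card_ge hle hcard.le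
  rw [← hPD] at hD'
  refine ⟨fun θ hθ θ' hθ' v hv =>
    regular_eq_of_central_defect S.hM (S.isPBlock_blk i) hD' hPz hθ hθ' hv,
    blockRank_of_central_defect S.hM (S.isPBlock_blk i) hD' hPz,
    (natCard_block_of_central_defect S.hM (S.isPBlock_blk i) hD' hPz).trans hcardP⟩

variable (S)

/-- **`k(B) ≤ p ^ a`.** -/
theorem natCard_B_le : Nat.card S.B ≤ p ^ S.a := by
  obtain ⟨h, -, hc⟩ := S.generator_block 1
  exact (natCard_B_le_blk h).trans hc.le

theorem natCard_B_pos : 0 < Nat.card S.B := by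
  obtain ⟨χ, hχ⟩ := isPBlock_nonempty S.isPBlock_B
  have : Nonempty S.B := ⟨⟨χ, hχ⟩⟩
  exact Nat.card_pos

theorem blockRank_pos : 0 < blockRank p S.B := by
  obtain ⟨χ, hχ⟩ := isPBlock_nonempty S.isPBlock_B
  refine Module.finrank_pos_iff_exists_ne_zero.2
    ⟨⟨_, Submodule.subset_span ⟨χ, hχ, rfl⟩⟩, fun h => ?_⟩
  have h1 := congrFun (congrArg Subtype.val h) 1
  simp only [ZeroMemClass.coe_zero, Pi.zero_apply, pRegularPart] at h1
  rw [if_pos (show IsPRegular p (1 : G) from not_dvd_orderOf_one)] at h1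
  exact CfsgLib.Char.irr_apply_one_ne_zero χ.2 h1

/-- With trivial inertial quotient the block has one regular rank and `p ^ a` characters. -/
theorem rank_card_of_e_eq_one (he : S.e = 1) :
    blockRank p S.B = 1 ∧ Nat.card S.B = p ^ S.a := by
  have h1 := S.natCard_B_le
  have h2 := S.blockRank_pos
  have h3 := S.blockRank_add_le (t := p ^ S.a - 1) (by rw [he, mul_one])
  have h4 : 0 < p ^ S.a := pow_pos hp.out.pos _
  omega

end CycBlock

end CfsgLib.Block
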