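import Mathlib

/-!
The dimension of a faithful irreducible representation in characteristic `p` of a group with a cyclic
trivial intersection Sylow `p`-subgroup of order at least `p ^ 2`.
-/

set_option autoImplicit false
set_option linter.unusedSectionVars false

namespace CfsgLib.Block.CyclicTIDim

universe u v w

/-- A free equivariant sum is a relative trace. -/
theorem exists_sum_eq_of_free {H : Type u} [Group H] [Fintype H] {X : Type v} [MulAction H X]
    {M : Type w} [AddCommGroup M] (a : H → (M →+ M)) (F : X → M) (hF : ∀ (h : H) (x : X), F (h • x) = a h (F x)) :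
    ∀ s : Finset X, (∀ (h : H), ∀ x ∈ s, h • x ∈ s) → (∀ (h : H), ∀ x ∈ s, h • x = x → h = 1) →
      ∃ f : M, ∑ x ∈ s, F x = ∑ h : H, a h f := by
  classical
  intro s
  induction s using Finset.strongInduction with
  | _ s ih =>
    intro hinv hfree
    rcases s.eq_empty_or_nonempty with rfl | ⟨x, hx⟩
    · exact ⟨0, by simp⟩
    set O := Finset.univ.image fun h : H => h • x with hO
    have hinj : Set.InjOn (fun h : H => h • x) (Finset.univ : Finset H) := fun h _ h' _ he => by
      have h1 : (h'⁻¹ * h) • x = x := by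
        change (fun h : H => h • x) h = (fun h : H => h • x) h' at he
        simp only at he
        rw [mul_smul, he, inv_smul_smul]
      exact (inv_mul_eq_one.1 (hfree _ x hx h1)).symm
    have hOs : O ⊆ s := fun y hy => by
      obtain ⟨h, -, rfl⟩ := Finset.mem_image.1 hy
      exact hinv h x hx
    have hlt : s \ O ⊂ s := Finset.sdiff_ssubset hOs ⟨x, Finset.mem_image.2 ⟨1, Finset.mem_univ _, one_smul H x⟩⟩
    obtain ⟨f, hf⟩ := ih _ hlt (fun h y hy => by
      obtain ⟨hys, hyO⟩ := Finset.mem_sdiff.1 hy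
      refine Finset.mem_sdiff.2 ⟨hinv h y hys, fun hc => hyO ?_⟩
      obtain ⟨k, -, hk⟩ := Finset.mem_image.1 hc
      exact Finset.mem_image.2 ⟨h⁻¹ * k, Finset.mem_univ _, by rw [mul_smul, hk, inv_smul_smul]⟩)
      fun h y hy => hfree h y (Finset.mem_sdiff.1 hy).1
    refine ⟨f + F x, ?_⟩
    rw [← Finset.sum_sdiff hOs, hf, hO, Finset.sum_image hinj, ← Finset.sum_add_distrib]
    exact Finset.sum_congr rfl fun h _ => by rw [map_add, hF]

variable {G : Type u} [Group G] [Finite G] {p : ℕ} [hp : Fact p.Prime] {F : Type v} [Field F] [CharP F p]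
  {V : Type w} [AddCommGroup V] [Module F V] [FiniteDimensional F V]

/-- The norm of an operator of order `p ^ n` acting by conjugation. -/
theorem dvd_sum_conj {n : ℕ} {Y Yi : Module.End F V} (hYi : Y * Yi = 1) (hiY : Yi * Y = 1)
    {d : ℕ} (hT : (Y - 1) ^ d = 0) (f : Module.End F V) :
    (Y - 1) ^ (p ^ n - d) ∣ ∑ i ∈ Finset.range (p ^ n), Y ^ i * f * Yi ^ i := by
  classical
  set q := p ^ n
  have hq : 1 ≤ q := Nat.one_le_pow _ _ hp.out.pos
  set T := Y - 1 with hTdef
  set A : Module.End F (Module.End F V) := LinearMap.mulLeft F Y * LinearMap.mulRight F Yi with hA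
  have hApow : ∀ (i : ℕ) (g : Module.End F V), (A ^ i) g = Y ^ i * g * Yi ^ i := fun i => by
    induction i with
    | zero => intro g; simp
    | succ i ih =>
      intro g
      rw [pow_succ', Module.End.mul_apply, ih, hA, Module.End.mul_apply, LinearMap.mulRight_apply,
        LinearMap.mulLeft_apply, pow_succ', pow_succ]
      simp only [mul_assoc]
  have hpoly : ∑ i ∈ Finset.range q, (Polynomial.X : Polynomial F) ^ i = (Polynomial.X - 1) ^ (q - 1) := by
    have h0 : (Polynomial.X : Polynomial F) - 1 ≠ 0 := by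
      rw [← Polynomial.C_1]; exact Polynomial.X_sub_C_ne_zero 1
    refine mul_right_cancel₀ h0 ?_
    rw [geom_sum_mul, ← pow_succ, Nat.sub_add_cancel hq, sub_pow_char_pow, one_pow]
  have hsum := congrArg (Polynomial.aeval A) hpoly
  simp only [map_sum, map_pow, map_sub, Polynomial.aeval_X, map_one] at hsum
  set D : Module.End F (Module.End F V) := LinearMap.mulLeft F T + LinearMap.mulRight F (-T) with hD
  have hA1 : A - 1 = LinearMap.mulRight F Yi * D := by
    refine LinearMap.ext fun g => ?_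
    simp only [hA, hD, hTdef, LinearMap.sub_apply, Module.End.mul_apply, Module.End.one_apply,
      LinearMap.add_apply, LinearMap.mulRight_apply, LinearMap.mulLeft_apply, sub_mul, one_mul, mul_neg,
      mul_sub, mul_one, add_mul, neg_mul, mul_assoc, hYi]
    abel
  have hcomm : Commute (LinearMap.mulRight F Yi) D := by
    refine (LinearMap.commute_mulLeft_right T Yi).symm.add_right ?_
    refine LinearMap.ext fun g => ?_
    simp only [Module.End.mul_apply, LinearMap.mulRight_apply, mul_assoc]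
    congr 1
    rw [hTdef, mul_neg, neg_mul, sub_mul, mul_sub, one_mul, mul_one, hYi, hiY]
  have hsum' : ∑ i ∈ Finset.range q, Y ^ i * f * Yi ^ i = (D ^ (q - 1)) f * Yi ^ (q - 1) := by
    rw [← Finset.sum_congr rfl fun i _ => hApow i f, ← LinearMap.sum_apply, hsum, hA1, hcomm.mul_pow,
      LinearMap.pow_mulRight, Module.End.mul_apply, LinearMap.mulRight_apply]
  rw [hsum']
  refine Dvd.dvd.mul_right ?_ _
  rw [hD, (LinearMap.commute_mulLeft_right T (-T)).add_pow, LinearMap.sum_apply]
  refine Finset.dvd_sum fun a ha => ?_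
  rw [← nsmul_eq_mul', LinearMap.smul_apply, nsmul_eq_mul', LinearMap.pow_mulLeft, LinearMap.pow_mulRight,
    Module.End.mul_apply, LinearMap.mulRight_apply, LinearMap.mulLeft_apply]
  refine Dvd.dvd.mul_right ?_ _
  by_cases hd : d ≤ q - 1 - a
  · rw [neg_pow, show q - 1 - a = (q - 1 - a - d) + d by omega, pow_add T, hT, mul_zero, mul_zero,
      mul_zero, mul_zero]
    exact dvd_zero _
  · refine Dvd.dvd.mul_right (pow_dvd_pow T ?_) _
    rw [Finset.mem_range] at ha
    omega

/-- The dimension bound. -/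
theorem le_finrank (P : Sylow p G) (hcyc : IsCyclic (P : Subgroup G)) (n : ℕ) (hn : 2 ≤ n)
    (hPn : Nat.card P = p ^ n) (hTI : ∀ Q : Sylow p G, Q ≠ P → (P : Subgroup G) ⊓ (Q : Subgroup G) = ⊥)
    (ρ : Representation F G V) (hfaith : Function.Injective ρ) (hirr : ρ.IsIrreducible) :
    p ^ n - (p - 1) ≤ Module.finrank F V := by
  classical
  by_contra hlt
  push Not at hlt
  have hp' := hp.out
  have hp2 := hp'.two_le
  set d := Module.finrank F V with hd
  set q := p ^ n with hq
  have hq1 : 1 < q := Nat.one_lt_pow (by omega) hp'.one_lt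
  obtain ⟨⟨y, hyP⟩, hgen⟩ := hcyc.exists_generator
  have hyq : orderOf y = q := by
    rw [← Subgroup.orderOf_mk y hyP, orderOf_eq_card_of_forall_mem_zpowers hgen]
    exact hPn
  have hPy : (P : Subgroup G) = Subgroup.zpowers y := by
    refine le_antisymm (fun u hu => ?_) (Subgroup.zpowers_le.2 hyP)
    obtain ⟨j, hj⟩ := Subgroup.mem_zpowers_iff.1 (hgen ⟨u, hu⟩)
    exact Subgroup.mem_zpowers_iff.2 ⟨j, congrArg Subtype.val hj⟩
  have : Nontrivial V := by
    by_contra hV
    rw [not_nontrivial_iff_subsingleton] at hV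
    have h1 : y = 1 := hfaith (Subsingleton.elim _ _)
    rw [h1, orderOf_one] at hyq
    omega
  have : CharP (Module.End F V) p :=
    charP_of_injective_algebraMap (FaithfulSMul.algebraMap_injective F (Module.End F V)) p
  set Y := ρ y
  set T := Y - 1 with hT
  have hYq : Y ^ q = 1 := by rw [← map_pow, ← hyq, pow_orderOf_eq_one, map_one]
  have hTnil : IsNilpotent T := ⟨q, by
    rw [hT, hq, sub_pow_char_pow_of_commute p n (Commute.one_right Y), one_pow, ← hq, hYq, sub_self]⟩
  have hTd : T ^ d = 0 := by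
    have h := LinearMap.aeval_self_charpoly T
    rwa [IsNilpotent.charpoly_eq_X_pow_finrank hTnil, map_pow, Polynomial.aeval_X] at h
  have hTp : T ^ (p - 1) ≠ 0 := fun h => by
    have h1 : T ^ p = 0 := by rw [show p = p - 1 + 1 by omega, pow_succ, h, zero_mul]
    rw [hT, sub_pow_char_of_commute p (Commute.one_right Y), one_pow, sub_eq_zero, ← map_pow,
      ← map_one ρ] at h1
    have h2 := orderOf_dvd_of_pow_eq_one (hfaith h1)
    rw [hyq] at h2
    have h3 := Nat.le_of_dvd hp'.pos h2
    have h4 : p * p ≤ q := by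
      rw [hq, ← sq]; exact Nat.pow_le_pow_right hp'.pos hn
    nlinarith [hp'.two_le]
  -- the action of the normalizer on the generator
  set N := Subgroup.normalizer ((P : Subgroup G) : Set G) with hN
  have hgenN : ∀ u : N, ∃ k : ℕ, (u : G) * y * (u : G)⁻¹ = y ^ k := fun u => by
    have h := (Subgroup.mem_normalizer_iff.1 u.2 y).1 hyP
    have h' : (u : G) * y * (u : G)⁻¹ ∈ Subgroup.zpowers y := hPy ▸ h
    obtain ⟨k, hk⟩ := mem_powers_iff_mem_zpowers.2 h'
    exact ⟨k, hk.symm⟩
  choose κ hκ using hgenN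
  have hcast : ∀ a b : ℕ, y ^ a = y ^ b ↔ (a : ZMod q) = b := fun a b => by
    rw [pow_eq_pow_iff_modEq, hyq, ZMod.natCast_eq_natCast_iff]
  let fm : N →* ZMod q :=
    { toFun := fun u => (κ u : ZMod q)
      map_one' := by
        rw [← Nat.cast_one, ← hcast, ← hκ]
        simp
      map_mul' := fun u v => by
        rw [← Nat.cast_mul, ← hcast, ← hκ, pow_mul, ← hκ u, conj_pow, ← hκ v, Subgroup.coe_mul]
        group }
  let f : N →* (ZMod q)ˣ := fm.toHomUnits
  have hfk : ∀ u, ((f u : (ZMod q)ˣ) : ZMod q) = (κ u : ZMod q) := fun u => rfl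
  have hker : (P : Subgroup G).subgroupOf N ≤ f.ker := fun u hu => by
    refine MonoidHom.mem_ker.2 (Units.ext ?_)
    rw [hfk, Units.val_one, ← Nat.cast_one, ← hcast, ← hκ, pow_one]
    obtain ⟨j, hj⟩ := Subgroup.mem_zpowers_iff.1 (show (u : G) ∈ Subgroup.zpowers y from hPy ▸ hu)
    rw [← hj, ← (Commute.zpow_right (Commute.refl y) j).eq, mul_inv_cancel_right]
  set A := f.range
  have hAp : ¬ p ∣ Nat.card A := fun h => by
    rw [← Subgroup.index_ker] at h
    have h1 : f.ker.index ∣ ((P : Subgroup G).subgroupOf N).index := Subgroup.index_dvd_of_le hker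
    have h2 : ((P : Subgroup G).subgroupOf N).index ∣ (P : Subgroup G).index :=
      Subgroup.relIndex_dvd_index_of_le Subgroup.le_normalizer
    exact P.not_dvd_index (h.trans (h1.trans h2))
  have hqd : p ∣ q := hq ▸ dvd_pow_self p (by omega)
  let c : ZMod q →+* F := ZMod.castHom hqd F
  let cu : A → Fˣ := fun a => Units.map c.toMonoidHom (a : (ZMod q)ˣ)
  have := Fintype.ofFinite A
  -- the eigenvector in the group algebra of `P`
  set L : Module.End F V := ∑ a : A, (((cu a)⁻¹ : Fˣ) : F) • (Y ^ ((a : (ZMod q)ˣ) : ZMod q).val - 1) with hL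
  have hLu : ∀ u : N, ρ u * L = ((c (κ u) : F) • L) * ρ u := fun u => by
    set b : A := ⟨f u, ⟨u, rfl⟩⟩
    have e : ∀ a : A, ρ u * (Y ^ ((a : (ZMod q)ˣ) : ZMod q).val - 1) =
        (Y ^ (((b * a : A) : (ZMod q)ˣ) : ZMod q).val - 1) * ρ u := fun a => by
      rw [mul_sub, sub_mul, one_mul, mul_one, ← map_pow, ← map_pow, ← map_mul, ← map_mul]
      congr 2
      have h1 : y ^ (((b * a : A) : (ZMod q)ˣ) : ZMod q).val =
          y ^ (κ u * ((a : (ZMod q)ˣ) : ZMod q).val) := by
        have : NeZero q := ⟨by omega⟩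
        rw [hcast, ZMod.natCast_zmod_val, Nat.cast_mul, ZMod.natCast_zmod_val, Subgroup.coe_mul,
          Units.val_mul, ← hfk]
      rw [h1, pow_mul, ← hκ, conj_pow, inv_mul_cancel_right]
    rw [hL, Finset.mul_sum, Finset.smul_sum, Finset.sum_mul]
    refine Fintype.sum_equiv (Equiv.mulLeft b) _ _ fun a => ?_
    rw [Equiv.coe_mulLeft, mul_smul_comm, e, smul_smul, smul_mul_assoc]
    congr 1
    have hb : (c (κ u) : F) = (cu b : F) := rfl
    have hmul : cu (b * a) = cu b * cu a := by simp [cu, map_mul]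
    rw [hb, hmul, ← Units.val_mul, mul_inv_rev, mul_left_comm, mul_inv_cancel, mul_one]
  have hpow1 : ∀ u : N, (c (κ u) : F) ^ (p - 1) = 1 := fun u => by
    have h0 : IsUnit (c (κ u) : F) := hfk u ▸ (f u).isUnit.map c
    rw [← map_pow]
    have h : ((κ u : ℕ) : ZMod p) ≠ 0 := fun h => h0.ne_zero (by
      rw [map_natCast]; exact (CharP.cast_eq_zero_iff F p _).2 ((CharP.cast_eq_zero_iff (ZMod p) p _).1 h))
    have h2 := congrArg (ZMod.castHom dvd_rfl F) (ZMod.pow_card_sub_one_eq_one h)
    rw [map_pow, map_one, map_natCast] at h2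
    rw [map_pow, map_natCast]
    exact h2
  set φ := L ^ (p - 1) with hφ
  have hφu : ∀ u : N, ρ u * φ = φ * ρ u := fun u => by
    have h : ∀ m : ℕ, ρ u * L ^ m = ((c (κ u) : F) ^ m • L ^ m) * ρ u := fun m => by
      induction m with
      | zero => simp
      | succ m ih =>
        rw [pow_succ L, ← mul_assoc, ih, mul_assoc, hLu, ← mul_assoc, smul_mul_assoc, mul_smul_comm,
          smul_smul, ← pow_succ]
    rw [hφ, h, hpow1, one_smul]
  -- `L` is `T` times a unit
  set W : Module.End F V :=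
    ∑ a : A, (((cu a)⁻¹ : Fˣ) : F) • ∑ i ∈ Finset.range ((a : (ZMod q)ˣ) : ZMod q).val, Y ^ i with hW
  have hTY : Commute T Y := ((Commute.refl Y).sub_left (Commute.one_left Y))
  have hTW : Commute T W := Commute.sum_right _ _ _ fun a _ =>
    (Commute.sum_right _ _ _ fun i _ => hTY.pow_right i).smul_right _
  have hLT : L = T * W := by
    rw [hTW.eq, hW, hL, Finset.sum_mul]
    refine Finset.sum_congr rfl fun a _ => ?_
    rw [smul_mul_assoc, hT, geom_sum_mul]
  have hWunit : IsUnit W := by
    have hval : W = (Nat.card A : F) • (1 : Module.End F V) + T * ∑ a : A, (((cu a)⁻¹ : Fˣ) : F) •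
        ∑ i ∈ Finset.range ((a : (ZMod q)ˣ) : ZMod q).val, ∑ j ∈ Finset.range i, Y ^ j := by
      have hpiece : ∀ a : A, ∑ i ∈ Finset.range ((a : (ZMod q)ˣ) : ZMod q).val, Y ^ i =
          (((a : (ZMod q)ˣ) : ZMod q).val : F) • (1 : Module.End F V) +
            T * ∑ i ∈ Finset.range ((a : (ZMod q)ˣ) : ZMod q).val, ∑ j ∈ Finset.range i, Y ^ j := fun a => by
        rw [Finset.mul_sum, Finset.sum_congr rfl (g := fun i => Y ^ i - 1) (s₂ := Finset.range _)
          (f := fun i => T * ∑ j ∈ Finset.range i, Y ^ j) fun i _ => mul_geom_sum Y i,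
          Finset.sum_sub_distrib, Finset.sum_const, Finset.card_range, Nat.cast_smul_eq_nsmul,
          add_sub_cancel]
      have hone : ∀ a : A, (((cu a)⁻¹ : Fˣ) : F) * (((a : (ZMod q)ˣ) : ZMod q).val : F) = 1 := fun a => by
        have : NeZero q := ⟨by omega⟩
        rw [← map_natCast c, ZMod.natCast_zmod_val]
        exact (cu a).inv_mul
      rw [hW, Finset.sum_congr rfl fun a _ => by rw [hpiece a, smul_add, smul_smul, hone, ← mul_smul_comm],
        Finset.sum_add_distrib, Finset.sum_const, ← Finset.mul_sum, Finset.card_univ, Nat.card_eq_fintype_card,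
        one_smul, Nat.cast_smul_eq_nsmul]
    have hu : IsUnit ((Nat.card A : F) • (1 : Module.End F V)) := by
      rw [← Algebra.algebraMap_eq_smul_one]
      refine (isUnit_iff_ne_zero.2 fun h => hAp ?_).map _
      exact (CharP.cast_eq_zero_iff F p _).1 h
    rw [hval, add_comm]
    refine IsNilpotent.isUnit_add_right_of_commute ?_ hu ?_
    · refine Commute.isNilpotent_mul_right ?_ hTnil
      exact Commute.sum_right _ _ _ fun a _ => (Commute.sum_right _ _ _ fun i _ =>
        Commute.sum_right _ _ _ fun j _ => hTY.pow_right j).smul_right _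
    · exact ((Commute.one_right _).smul_right _)
  have hφT : φ = T ^ (p - 1) * W ^ (p - 1) := by rw [hφ, hLT, hTW.mul_pow]
  have hφnil : IsNilpotent φ := by
    rw [hφT]
    exact Commute.isNilpotent_mul_right ((hTW.pow_left _).pow_right _)
      (IsNilpotent.pow_of_pos hTnil (by omega))
  -- the averaged endomorphism
  let Φ : G ⧸ N → Module.End F V := Quotient.lift (fun g : G => ρ g * φ * ρ g⁻¹) fun a b hab => by
    have hmem : a⁻¹ * b ∈ N := QuotientGroup.leftRel_apply.1 hab
    obtain ⟨u, rfl⟩ : ∃ u : N, b = a * u := ⟨⟨_, hmem⟩, by simp⟩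
    rw [mul_inv_rev, map_mul, map_mul, show ρ a * ρ u * φ * (ρ (u : G)⁻¹ * ρ a⁻¹) =
      ρ a * (ρ u * φ) * ρ (u : G)⁻¹ * ρ a⁻¹ by simp only [mul_assoc], hφu]
    simp only [mul_assoc]
    rw [← mul_assoc (ρ (u : G)) (ρ (u : G)⁻¹), ← map_mul, mul_inv_cancel, map_one, one_mul]
  have hΦ : ∀ g : G, Φ (g : G ⧸ N) = ρ g * φ * ρ g⁻¹ := fun g => rfl
  have hΦsmul : ∀ (g : G) (ω : G ⧸ N), Φ (g • ω) = ρ g * Φ ω * ρ g⁻¹ := fun g ω => by
    induction ω using QuotientGroup.induction_on with
    | _ a =>
      rw [MulAction.Quotient.smul_coe, hΦ, hΦ, smul_eq_mul, map_mul, mul_inv_rev, map_mul]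
      simp only [mul_assoc]
  have := Fintype.ofFinite (G ⧸ N)
  set S := ∑ ω : G ⧸ N, Φ ω with hS
  have hScomm : ∀ g : G, S * ρ g = ρ g * S := fun g => by
    rw [hS, Finset.sum_mul, Finset.mul_sum]
    refine Fintype.sum_equiv (MulAction.toPerm g⁻¹) _ _ fun ω => ?_
    rw [MulAction.toPerm_apply, hΦsmul, inv_inv, ← mul_assoc, ← mul_assoc, ← map_mul, mul_inv_cancel,
      map_one, one_mul]
  have := Fintype.ofFinite (P : Subgroup G)
  obtain ⟨g₀, hg₀⟩ := exists_sum_eq_of_free (H := (P : Subgroup G))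
    (fun u => ((LinearMap.mulLeft F (ρ (u : G))).comp (LinearMap.mulRight F (ρ (u : G)⁻¹))).toAddMonoidHom)
    Φ (fun u ω => by
      change Φ ((u : G) • ω) = ρ (u : G) * (Φ ω * ρ (u : G)⁻¹)
      rw [hΦsmul, mul_assoc])
    (Finset.univ.erase ((1 : G) : G ⧸ N))
    (fun u ω hω => Finset.mem_erase.2 ⟨fun h => (Finset.mem_erase.1 hω).1 (by
      have h1 : ω = (u : G)⁻¹ • (((1 : G) : G ⧸ N)) := by
        rw [← h]; exact (inv_smul_smul (u : G) ω).symm
      rw [h1, MulAction.Quotient.smul_coe, smul_eq_mul, mul_one, QuotientGroup.eq, inv_inv, mul_one]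
      exact Subgroup.le_normalizer u.2), Finset.mem_univ _⟩)
    (fun u ω hω hfix => by
      have hne := (Finset.mem_erase.1 hω).1
      induction ω using QuotientGroup.induction_on with
      | _ a =>
        by_contra hu
        have h1 : a⁻¹ * (u : G) * a ∈ N := by
          have h := hfix.symm
          change ((a : G) : G ⧸ N) = (((u : G) • a : G) : G ⧸ N) at h
          rw [QuotientGroup.eq, smul_eq_mul, ← mul_assoc] at h
          exact h
        have hQ : MulAut.conj a⁻¹ • (u : G) ∈ N := by simpa using h1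
        have hpu : IsPGroup p (Subgroup.zpowers (a⁻¹ * (u : G) * a)) := by
          refine IsPGroup.of_card (n := (Nat.card (Subgroup.zpowers (a⁻¹ * (u : G) * a))).factorization p) ?_
          have hdvd : Nat.card (Subgroup.zpowers (a⁻¹ * (u : G) * a)) ∣ p ^ n := by
            rw [Nat.card_zpowers, ← hq, ← hPn, show a⁻¹ * (u : G) * a = MulAut.conj a⁻¹ (u : G) by simp,
              show orderOf (MulAut.conj a⁻¹ (u : G)) = orderOf (u : G) from
                orderOf_injective (MulAut.conj a⁻¹).toMonoidHom (MulAut.conj a⁻¹).injective _]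
            exact Subgroup.orderOf_dvd_natCard _ u.2
          obtain ⟨k, -, hk⟩ := (Nat.dvd_prime_pow hp').1 hdvd
          rw [hk, Nat.Prime.factorization_pow hp', Finsupp.single_eq_same]
        have hmem : a⁻¹ * (u : G) * a ∈ (P : Subgroup G) := by
          have hle := P.smul_eq_iff_mem_normalizer.2 h1
          exact (IsPGroup.inf_normalizer_sylow hpu P).le ⟨Subgroup.mem_zpowers _, h1⟩ |>.2
        have hne' : a • P ≠ P := fun h => hne (by
          rw [QuotientGroup.eq, mul_one]
          exact inv_mem (Sylow.smul_eq_iff_mem_normalizer.1 h))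
        have hmem2 : (u : G) ∈ ((a • P : Sylow p G) : Subgroup G) := by
          rw [show (u : G) = a * (a⁻¹ * (u : G) * a) * a⁻¹ by group]
          exact Subgroup.mem_map_of_mem (MulAut.conj a).toMonoidHom hmem
        have h3 : (u : G) ∈ (P : Subgroup G) ⊓ ((a • P : Sylow p G) : Subgroup G) := ⟨u.2, hmem2⟩
        rw [hTI _ hne', Subgroup.mem_bot] at h3
        exact hu (Subtype.ext h3))
  have hSφ : S = φ + ∑ u : (P : Subgroup G), ρ (u : G) * g₀ * ρ (u : G)⁻¹ := by
    rw [hS, ← Finset.add_sum_erase _ _ (Finset.mem_univ ((1 : G) : G ⧸ N)), hg₀, hΦ]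
    simp [mul_assoc]
  have hnorm : ∑ u : (P : Subgroup G), ρ (u : G) * g₀ * ρ (u : G)⁻¹ =
      ∑ i ∈ Finset.range q, Y ^ i * g₀ * ρ y⁻¹ ^ i := by
    rw [← Fin.sum_univ_eq_sum_range (fun i => Y ^ i * g₀ * ρ y⁻¹ ^ i)]
    symm
    refine Fintype.sum_bijective (fun i : Fin q => (⟨y ^ (i : ℕ), pow_mem hyP _⟩ : (P : Subgroup G))) ?_ _ _ ?_
    · refine (Fintype.bijective_iff_injective_and_card _).2 ⟨fun i j h => Fin.ext ?_, ?_⟩
      · exact pow_injOn_Iio_orderOf (by simp [hyq, i.2]) (by simp [hyq, j.2]) (congrArg Subtype.val h)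
      · rw [Fintype.card_fin, ← Nat.card_eq_fintype_card]; exact hPn.symm
    · intro i
      rw [← map_pow, ← map_pow, inv_pow]
  obtain ⟨h, hh⟩ : T ^ (q - d) ∣ ∑ u : (P : Subgroup G), ρ (u : G) * g₀ * ρ (u : G)⁻¹ := hnorm ▸
    dvd_sum_conj (by rw [← map_mul, mul_inv_cancel, map_one]) (by rw [← map_mul, inv_mul_cancel, map_one])
      hTd g₀
  -- Schur
  have hrel : S - φ = T ^ (q - d) * h := by rw [hSφ, hh, add_sub_cancel_left]
  let Sι : Representation.IntertwiningMap ρ ρ :=
    { toLinearMap := S, isIntertwining' := fun g => hScomm g }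
  have := hirr
  rcases Representation.IsIrreducible.bijective_or_eq_zero Sι with hbij | hzero
  · have hSu : IsUnit S := (Module.End.isUnit_iff S).2 hbij
    have hcomm : Commute S φ := by
      have hY : Commute S Y := hScomm y
      have hSL : Commute S L := Commute.sum_right _ _ _ fun a _ =>
        ((hY.pow_right _).sub_right (Commute.one_right S)).smul_right _
      exact hSL.pow_right _
    have hu : IsUnit (S - φ) := by
      rw [sub_eq_add_neg, add_comm]
      exact IsNilpotent.isUnit_add_right_of_commute hφnil.neg hSu hcomm.symm.neg_left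
    rw [hrel] at hu
    have h1 : IsUnit (T ^ (q - d)) := isUnit_of_mul_isUnit_left hu
    exact IsNilpotent.not_isUnit (IsNilpotent.pow_of_pos hTnil (by omega)) h1
  · have hS0 : S = 0 := congrArg Representation.IntertwiningMap.toLinearMap hzero
    rw [hS0, zero_sub] at hrel
    apply hTp
    obtain ⟨W', hW'⟩ := (hWunit.pow (p - 1)).exists_right_inv
    have hk : T ^ (p - 1) = T ^ (q - d) * (-(h * W')) := by
      rw [mul_neg, ← mul_assoc, ← hrel, neg_mul, neg_neg, hφT, mul_assoc, hW', mul_one]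
    obtain ⟨g, hg⟩ : T ^ p ∣ T ^ (q - d) := pow_dvd_pow T (by omega)
    set g' := g * -(h * W')
    have hk' : T ^ (p - 1) = T ^ p * g' := by rw [← mul_assoc, ← hg, hk]
    have hiter : ∀ j : ℕ, ∃ r, T ^ (p - 1) = T ^ (p - 1 + j) * r := fun j => by
      induction j with
      | zero => exact ⟨1, by simp⟩
      | succ j ih =>
        obtain ⟨r, hr⟩ := ih
        refine ⟨g' * r, ?_⟩
        rw [← mul_assoc, show p - 1 + (j + 1) = j + p by omega, pow_add, mul_assoc (T ^ j), ← hk',
          ← pow_add, show j + (p - 1) = p - 1 + j by omega, ← hr]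
    obtain ⟨r, hr⟩ := hiter d
    rw [hr, pow_add, hTd, mul_zero, zero_mul]

end CfsgLib.Block.CyclicTIDim
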