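import Cfsg.Agent.Lib.Block.Orthogonality

/-!
Defect classes, the min–max theorem, conjugacy of defect groups.
-/

set_option autoImplicit false
set_option linter.unusedSectionVars false

namespace CfsgLib.Block

open Cfsg MonoidAlgebra

universe u

variable {G : Type u} [Group G] [Finite G] {p : ℕ}

/-- The image in `G` of a subgroup of a centralizer. -/
abbrev cenSub (g : G) (P : Subgroup (Subgroup.centralizer ({g} : Set G))) : Subgroup G :=
  P.map (Subgroup.centralizer ({g} : Set G)).subtype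

theorem cenSub_le (g : G) (P : Subgroup (Subgroup.centralizer ({g} : Set G))) :
    cenSub g P ≤ Subgroup.centralizer ({g} : Set G) := Subgroup.map_subtype_le P

theorem isPGroup_cenSub (g : G) (P : Sylow p (Subgroup.centralizer ({g} : Set G))) :
    IsPGroup p (cenSub g (P : Subgroup (Subgroup.centralizer ({g} : Set G)))) :=
  P.2.map _

theorem natCard_cenSub [Fact p.Prime] (g : G) (P : Sylow p (Subgroup.centralizer ({g} : Set G))) :
    Nat.card (cenSub g (P : Subgroup (Subgroup.centralizer ({g} : Set G)))) =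
      p ^ (Nat.card (Subgroup.centralizer ({g} : Set G))).factorization p := by
  rw [Subgroup.card_map_of_injective (Subgroup.subtype_injective _), Sylow.card_eq_multiplicity]

theorem exists_sylow_cenSub_ge {g : G} {R : Subgroup G} (hR : IsPGroup p R)
    (hRg : R ≤ Subgroup.centralizer ({g} : Set G)) :
    ∃ Q : Sylow p (Subgroup.centralizer ({g} : Set G)),
      R ≤ cenSub g (Q : Subgroup (Subgroup.centralizer ({g} : Set G))) := by
  obtain ⟨Q, hQ⟩ := (hR.comap_subtype (K := Subgroup.centralizer ({g} : Set G))).exists_le_sylow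
  refine ⟨Q, fun x hx => ?_⟩
  exact ⟨⟨x, hRg hx⟩, hQ (show (⟨x, hRg hx⟩ : Subgroup.centralizer ({g} : Set G)).1 ∈ R from hx), rfl⟩

theorem mem_map_conj_iff {D : Subgroup G} {x y : G} :
    y ∈ D.map (MulAut.conj x).toMonoidHom ↔ x⁻¹ * y * x ∈ D := by
  constructor
  · rintro ⟨z, hz, rfl⟩
    simpa [MulAut.conj_apply, mul_assoc] using hz
  · intro h
    exact ⟨x⁻¹ * y * x, h, by simp [MulAut.conj_apply, mul_assoc]⟩

theorem natCard_map_conj (D : Subgroup G) (x : G) :
    Nat.card (D.map (MulAut.conj x).toMonoidHom) = Nat.card D :=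
  Subgroup.card_map_of_injective (f := (MulAut.conj x).toMonoidHom) (MulAut.conj x).injective

theorem map_conj_map_conj (D : Subgroup G) (x y : G) :
    (D.map (MulAut.conj x).toMonoidHom).map (MulAut.conj y).toMonoidHom =
      D.map (MulAut.conj (y * x)).toMonoidHom := by
  rw [Subgroup.map_map]
  congr 1
  ext z
  simp [MulAut.conj_apply, mul_assoc]

theorem map_conj_one (D : Subgroup G) : D.map (MulAut.conj (1 : G)).toMonoidHom = D := by
  ext z; rw [mem_map_conj_iff]; simp

/-- Any `p`-subgroup centralizing `g` is conjugate into any Sylow subgroup of `C(g)`. -/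
theorem le_conj_cenSub [Fact p.Prime] {g : G} (P : Sylow p (Subgroup.centralizer ({g} : Set G)))
    {R : Subgroup G} (hR : IsPGroup p R) (hRg : R ≤ Subgroup.centralizer ({g} : Set G)) :
    ∃ x ∈ Subgroup.centralizer ({g} : Set G),
      R ≤ (cenSub g (P : Subgroup (Subgroup.centralizer ({g} : Set G)))).map
        (MulAut.conj x).toMonoidHom := by
  obtain ⟨Q, hQ⟩ := exists_sylow_cenSub_ge hR hRg
  obtain ⟨c, rfl⟩ := MulAction.exists_smul_eq (Subgroup.centralizer ({g} : Set G)) P Q
  refine ⟨c, c.2, fun r hr => ?_⟩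
  obtain ⟨y, hy, rfl⟩ := hQ hr
  rw [Sylow.coe_subgroup_smul, SetLike.mem_coe] at hy
  obtain ⟨z, hz, rfl⟩ := hy
  refine ⟨z.1, ⟨z, hz, rfl⟩, ?_⟩
  simp [MulAut.smul_def, MulAut.conj_apply]

/-- Supported on classes all of whose `p`-subgroups of centralizers are conjugate into `D`. -/
def DefSupported {k : Type*} [CommRing k] (p : ℕ) (D : Subgroup G) (a : MonoidAlgebra k G) :
    Prop :=
  ∀ c, a.coeff c ≠ 0 → ∀ R : Subgroup G, IsPGroup p R → R ≤ Subgroup.centralizer ({c} : Set G) →
    ∃ x, R ≤ D.map (MulAut.conj x).toMonoidHom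

theorem defSupported_mul {k : Type*} [CommRing k] [Fact p.Prime] [CharP k p] {D : Subgroup G}
    {a b : MonoidAlgebra k G} (ha : DefSupported p D a) (hac : IsClassCoeff a)
    (hbc : IsClassCoeff b) : DefSupported p D (a * b) := by
  classical
  have := Fintype.ofFinite G
  intro c hc R hR hRc
  have hcR : c ∈ Subgroup.centralizer (R : Set G) := by
    rw [Subgroup.mem_centralizer_iff]
    intro r hr
    exact Subgroup.mem_centralizer_singleton_iff.1 (hRc hr)
  rw [coeff_mul_of_mem_centralizer hR (isPInv_of_isClassCoeff hac R)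
    (isPInv_of_isClassCoeff hbc R) hcR] at hc
  obtain ⟨x, hx, hx0⟩ := Finset.exists_ne_zero_of_sum_ne_zero hc
  refine ha x (fun h => hx0 (by rw [h, zero_mul])) R hR fun r hr => ?_
  rw [Subgroup.mem_centralizer_singleton_iff]
  exact Subgroup.mem_centralizer_iff.1 (Finset.mem_filter.1 hx).2 r hr

theorem defSupported_classSum {k : Type*} [CommRing k] [Fact p.Prime] {g : G}
    (P : Sylow p (Subgroup.centralizer ({g} : Set G))) :
    DefSupported p (cenSub g (P : Subgroup (Subgroup.centralizer ({g} : Set G))))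
      (classSum k g) := by
  classical
  intro c hc R hR hRc
  rw [coeff_classSum] at hc
  split at hc
  · next hgc =>
    obtain ⟨y, rfl⟩ := isConj_iff.1 hgc
    obtain ⟨x, _, hx⟩ := le_conj_cenSub P (R := R.map (MulAut.conj y⁻¹).toMonoidHom) (hR.map _) (by
      intro r hr
      rw [mem_map_conj_iff, inv_inv] at hr
      have h1 := Subgroup.mem_centralizer_singleton_iff.1 (hRc hr)
      rw [Subgroup.mem_centralizer_singleton_iff]
      have h2 : y * (r * g) * y⁻¹ = y * (g * r) * y⁻¹ := by
        calc y * (r * g) * y⁻¹ = (y * r * y⁻¹) * (y * g * y⁻¹) := by group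
          _ = (y * g * y⁻¹) * (y * r * y⁻¹) := h1
          _ = _ := by group
      simpa using h2)
    refine ⟨y * x, fun r hr => ?_⟩
    have h3 := hx (show y⁻¹ * r * y ∈ R.map (MulAut.conj y⁻¹).toMonoidHom by
      rw [mem_map_conj_iff]; simpa [mul_assoc] using hr)
    rw [mem_map_conj_iff] at h3 ⊢
    simpa [mul_assoc] using h3
  · exact absurd rfl hc

section Block

variable {M : Ideal AlgInt} [M.IsPrime] (hM : IsPModular p M) {B : Set (IrrCharacter G)}
  (hB : IsPBlock M B)
include hM hB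

theorem isDefectClass_iff {χ : IrrCharacter G} (hχ : χ ∈ B) (g : G) :
    IsDefectClass M B g ↔ (blkIdem M B : MonoidAlgebra (kres M) G).coeff g ≠ 0 ∧
      lam M χ (classSumZ (kres M) g) ≠ 0 := by
  rw [coeff_blkIdem, lam_classSumZ, Ne, redC_eq_zero_iff (blockCoeff_memLocalRing hM hB g), Ne,
    redC_eq_zero_iff (memLocalRing_centralChar χ.2 g)]
  constructor
  · rintro ⟨-, h1, h2⟩
    exact ⟨h1, h2 χ hχ⟩
  · rintro ⟨h1, h2⟩
    refine ⟨blockCoeff_memLocalRing hM hB g, h1, fun ψ hψ h => h2 ?_⟩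
    rw [← redC_eq_zero_iff (memLocalRing_centralChar χ.2 g), ← lam_classSumZ,
      lam_eq_of_sameBlock (sameBlock_of_mem hB hχ hψ), lam_classSumZ,
      redC_eq_zero_iff (memLocalRing_centralChar ψ.2 g)]
    exact h

theorem exists_classSumZ_of_lam_ne_zero {χ : IrrCharacter G} (hχ : χ ∈ B)
    {z : Subalgebra.center (kres M) (MonoidAlgebra (kres M) G)} (hz : lam M χ z ≠ 0) :
    ∃ g, (z : MonoidAlgebra (kres M) G).coeff g ≠ 0 ∧ lam M χ (classSumZ (kres M) g) ≠ 0 := by
  have : Finite (ConjClasses G) := Finite.of_surjective ConjClasses.mk ConjClasses.mk_surjective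
  have := Fintype.ofFinite (ConjClasses G)
  rw [algHom_eq_sum_classes (lam M χ)] at hz
  obtain ⟨C, _, hC⟩ := Finset.exists_ne_zero_of_sum_ne_zero hz
  exact ⟨C.out, left_ne_zero_of_mul hC, right_ne_zero_of_mul hC⟩

theorem exists_isDefectClass : ∃ g : G, IsDefectClass M B g := by
  obtain ⟨χ, hχ⟩ := isPBlock_nonempty hB
  obtain ⟨g, h1, h2⟩ := exists_classSumZ_of_lam_ne_zero hM hB hχ (z := blkIdem M B)
    (by rw [(algHom_blkIdem_eq_one_iff hM hB χ).2 hχ]; exact one_ne_zero)
  exact ⟨g, (isDefectClass_iff hM hB hχ g).2 ⟨h1, h2⟩⟩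

/-- If the central character is nonzero on `z`, the block idempotent is a multiple of `z`. -/
theorem exists_blkIdem_eq_mul {χ : IrrCharacter G} (hχ : χ ∈ B)
    {z : Subalgebra.center (kres M) (MonoidAlgebra (kres M) G)} (hz : lam M χ z ≠ 0) :
    ∃ w, blkIdem M B = z * w := by
  set x := (z - algebraMap (kres M) _ (lam M χ z)) * blkIdem M B with hx
  have hxnil : IsNilpotent x := isNilpotent_sub_lam_mul_blkIdem hM hB hχ z
  have hu : IsUnit (algebraMap (kres M) (Subalgebra.center (kres M) (MonoidAlgebra (kres M) G))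
      (lam M χ z) + x) := by
    have hc := (isUnit_iff_ne_zero.2 hz).map
      (algebraMap (kres M) (Subalgebra.center (kres M) (MonoidAlgebra (kres M) G)))
    exact IsNilpotent.isUnit_add_left_of_commute hxnil hc (Commute.all _ _)
  obtain ⟨v, hv⟩ := hu
  refine ⟨blkIdem M B * (v⁻¹ : _), ?_⟩
  have h1 : z * blkIdem M B = (v : Subalgebra.center (kres M) (MonoidAlgebra (kres M) G)) *
      blkIdem M B := by
    rw [hv, hx, add_mul, mul_assoc, blkIdem_idem hM hB, ← add_mul, add_sub_cancel]
  rw [← mul_assoc, h1, mul_comm (v : Subalgebra.center (kres M) (MonoidAlgebra (kres M) G)),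
    mul_assoc, Units.mul_inv, mul_one]

/-- The idempotent is supported on defect at most that of any class with nonzero central
character. -/
theorem defSupported_blkIdem {χ : IrrCharacter G} (hχ : χ ∈ B) {g : G}
    (hg : lam M χ (classSumZ (kres M) g) ≠ 0)
    (P : Sylow p (Subgroup.centralizer ({g} : Set G))) :
    DefSupported p (cenSub g (P : Subgroup (Subgroup.centralizer ({g} : Set G))))
      (blkIdem M B : MonoidAlgebra (kres M) G) := by
  have := Fact.mk hM.1
  have := charP_kres hM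
  obtain ⟨w, hw⟩ := exists_blkIdem_eq_mul hM hB hχ hg
  rw [hw, MulMemClass.coe_mul]
  exact defSupported_mul (defSupported_classSum P) (classSum_isClassCoeff g) (isClassCoeff_center w)

/-- Min–max, the maximal half. -/
theorem exists_le_conj_defect {g : G} (hg : IsDefectClass M B g)
    (P : Sylow p (Subgroup.centralizer ({g} : Set G))) {h : G}
    (hh : (blkIdem M B : MonoidAlgebra (kres M) G).coeff h ≠ 0) {R : Subgroup G}
    (hR : IsPGroup p R) (hRh : R ≤ Subgroup.centralizer ({h} : Set G)) :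
    ∃ x, R ≤ (cenSub g (P : Subgroup (Subgroup.centralizer ({g} : Set G)))).map
      (MulAut.conj x).toMonoidHom := by
  obtain ⟨χ, hχ⟩ := isPBlock_nonempty hB
  exact defSupported_blkIdem hM hB hχ ((isDefectClass_iff hM hB hχ g).1 hg).2 P h hh R hR hRh

/-- Min–max, the minimal half. -/
theorem exists_defect_le_conj {g : G} (hg : IsDefectClass M B g)
    (P : Sylow p (Subgroup.centralizer ({g} : Set G))) {χ : IrrCharacter G} (hχ : χ ∈ B) {h : G}
    (hh : lam M χ (classSumZ (kres M) h) ≠ 0)
    (Q : Sylow p (Subgroup.centralizer ({h} : Set G))) :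
    ∃ x, cenSub g (P : Subgroup (Subgroup.centralizer ({g} : Set G))) ≤
      (cenSub h (Q : Subgroup (Subgroup.centralizer ({h} : Set G)))).map
        (MulAut.conj x).toMonoidHom :=
  defSupported_blkIdem hM hB hχ hh Q g ((isDefectClass_iff hM hB hχ g).1 hg).1 _
    (isPGroup_cenSub g P) (cenSub_le g _)

omit hM hB in
theorem isDefectClass_conj {g : G} (hg : IsDefectClass M B g) (hB : IsPBlock M B) (x : G) :
    IsDefectClass M B (x * g * x⁻¹) := by
  obtain ⟨h1, h2, h3⟩ := hg
  have e1 : blockCoeff B (x * g * x⁻¹) = blockCoeff B g := by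
    simpa [blockSum] using blockSum_isClassCoeff B g x
  have e2 : ∀ χ ∈ B, centralChar (χ : G → ℂ) (x * g * x⁻¹) = centralChar (χ : G → ℂ) g := by
    intro χ _
    rw [← omegaC_classSum (CfsgLib.Char.irr_isClassFunction χ.2),
      ← omegaC_classSum (CfsgLib.Char.irr_isClassFunction χ.2),
      classSum_eq_of_isConj (isConj_iff.2 ⟨x, rfl⟩ : IsConj g (x * g * x⁻¹))]
  exact ⟨e1 ▸ h1, e1 ▸ h2, fun χ hχ => e2 χ hχ ▸ h3 χ hχ⟩

theorem isPGroup_defectGroup {D : Subgroup G} (hD : IsDefectGroup p M B D) : IsPGroup p D := by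
  obtain ⟨g, -, P, rfl⟩ := hD
  exact isPGroup_cenSub g P

theorem exists_isDefectGroup : ∃ D : Subgroup G, IsDefectGroup p M B D := by
  obtain ⟨g, hg⟩ := exists_isDefectClass hM hB
  exact ⟨_, g, hg, (Classical.arbitrary (Sylow p (Subgroup.centralizer ({g} : Set G)))), rfl⟩

theorem defectGroup_conj {D : Subgroup G} (hD : IsDefectGroup p M B D) (x : G) :
    IsDefectGroup p M B (D.map (MulAut.conj x).toMonoidHom) := by
  have := Fact.mk hM.1
  obtain ⟨g, hg, P, rfl⟩ := hD
  refine ⟨x * g * x⁻¹, isDefectClass_conj hg hB x, ?_⟩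
  have hle : (cenSub g (P : Subgroup (Subgroup.centralizer ({g} : Set G)))).map
      (MulAut.conj x).toMonoidHom ≤ Subgroup.centralizer ({x * g * x⁻¹} : Set G) := by
    intro y hy
    rw [mem_map_conj_iff] at hy
    have h := Subgroup.mem_centralizer_singleton_iff.1 (cenSub_le g _ hy)
    rw [Subgroup.mem_centralizer_singleton_iff]
    calc y * (x * g * x⁻¹) = x * ((x⁻¹ * y * x) * g) * x⁻¹ := by group
      _ = x * (g * (x⁻¹ * y * x)) * x⁻¹ := by rw [h]
      _ = _ := by group
  obtain ⟨Q, hQ⟩ := exists_sylow_cenSub_ge ((isPGroup_cenSub g P).map _) hle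
  refine ⟨Q, Subgroup.eq_of_le_of_card_ge hQ (le_of_eq ?_)⟩
  rw [natCard_map_conj]
  have e : Nat.card (Subgroup.centralizer ({x * g * x⁻¹} : Set G)) =
      Nat.card (Subgroup.centralizer ({g} : Set G)) := by
    have : Subgroup.centralizer ({x * g * x⁻¹} : Set G) =
        (Subgroup.centralizer ({g} : Set G)).map (MulAut.conj x).toMonoidHom := by
      ext y
      rw [mem_map_conj_iff, Subgroup.mem_centralizer_singleton_iff,
        Subgroup.mem_centralizer_singleton_iff]
      constructor
      · intro h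
        calc x⁻¹ * y * x * g = x⁻¹ * (y * (x * g * x⁻¹)) * x := by group
          _ = x⁻¹ * ((x * g * x⁻¹) * y) * x := by rw [h]
          _ = _ := by group
      · intro h
        calc y * (x * g * x⁻¹) = x * ((x⁻¹ * y * x) * g) * x⁻¹ := by group
          _ = x * (g * (x⁻¹ * y * x)) * x⁻¹ := by rw [h]
          _ = _ := by group
    rw [this, natCard_map_conj]
  rw [natCard_cenSub, natCard_cenSub, e]

theorem defectGroup_exists_conj {D E : Subgroup G} (hD : IsDefectGroup p M B D)
    (hE : IsDefectGroup p M B E) : ∃ x : G, E = D.map (MulAut.conj x).toMonoidHom := by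
  obtain ⟨χ, hχ⟩ := isPBlock_nonempty hB
  obtain ⟨g, hg, P, rfl⟩ := hD
  obtain ⟨h, hh, Q, rfl⟩ := hE
  obtain ⟨x, hx⟩ := exists_le_conj_defect hM hB hg P ((isDefectClass_iff hM hB hχ h).1 hh).1
    (isPGroup_cenSub h Q) (cenSub_le h _)
  obtain ⟨y, hy⟩ := exists_le_conj_defect hM hB hh Q ((isDefectClass_iff hM hB hχ g).1 hg).1
    (isPGroup_cenSub g P) (cenSub_le g _)
  refine ⟨x, Subgroup.eq_of_le_of_card_ge hx ?_⟩
  rw [natCard_map_conj]
  exact (Subgroup.card_le_of_le hy).trans_eq (natCard_map_conj _ _)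

/-- A `p`-subgroup is conjugate into the defect group iff the idempotent survives its Brauer map. -/
theorem exists_le_conj_iff_coeff {D : Subgroup G} (hD : IsDefectGroup p M B D) {R : Subgroup G}
    (hR : IsPGroup p R) :
    (∃ c ∈ Subgroup.centralizer (R : Set G), (blkIdem M B : MonoidAlgebra (kres M) G).coeff c ≠ 0)
      ↔ ∃ x : G, R ≤ D.map (MulAut.conj x).toMonoidHom := by
  obtain ⟨χ, hχ⟩ := isPBlock_nonempty hB
  obtain ⟨g, hg, P, rfl⟩ := hD
  constructor
  · rintro ⟨c, hc, hc0⟩
    refine exists_le_conj_defect hM hB hg P hc0 hR fun r hr => ?_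
    rw [Subgroup.mem_centralizer_singleton_iff]
    exact Subgroup.mem_centralizer_iff.1 hc r hr
  · rintro ⟨x, hx⟩
    refine ⟨x * g * x⁻¹, ?_, ?_⟩
    · rw [Subgroup.mem_centralizer_iff]
      intro r hr
      have h := hx hr
      rw [mem_map_conj_iff] at h
      have h1 := Subgroup.mem_centralizer_singleton_iff.1 (cenSub_le g _ h)
      calc r * (x * g * x⁻¹) = x * ((x⁻¹ * r * x) * g) * x⁻¹ := by group
        _ = x * (g * (x⁻¹ * r * x)) * x⁻¹ := by rw [h1]
        _ = _ := by group
    · rw [(isClassCoeff_center (blkIdem M B)) g x]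
      exact ((isDefectClass_iff hM hB hχ g).1 hg).1

/-- A character vanishes at `g` when the `p`-part of `g` lies in no defect group. -/
theorem irr_apply_eq_zero_of_not_mem_defect {g u : G} (hu : IsPPart p g u)
    (h : ∀ D : Subgroup G, IsDefectGroup p M B D → u ∉ D) {χ : IrrCharacter G} (hχ : χ ∈ B) :
    (χ : G → ℂ) g = 0 := by
  have := Fact.mk hM.1
  refine irr_apply_eq_zero_of_br_eq_zero hM hB hu (fun c hc => ?_) hχ
  by_contra hne
  obtain ⟨D, hD⟩ := exists_isDefectGroup hM hB
  obtain ⟨_, _, _, ⟨k, hk⟩, _⟩ := hu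
  have hR : IsPGroup p (Subgroup.zpowers u) :=
    IsPGroup.of_card (n := k) (by rw [Nat.card_zpowers, hk])
  obtain ⟨x, hx⟩ := (exists_le_conj_iff_coeff hM hB hD hR).1 ⟨c, by
      rw [Subgroup.zpowers_eq_closure, Subgroup.centralizer_closure]; exact hc, by
      rwa [coeff_blkIdem, Ne, redC_eq_zero_iff (blockCoeff_memLocalRing hM hB c)]⟩
  exact h _ (defectGroup_conj hM hB hD x) (hx (Subgroup.mem_zpowers u))

end Block

end CfsgLib.Block
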