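import Cfsg.Agent.Lib.Block.SecondMain
import Cfsg.Agent.Lib.Block.FirstMain
import Cfsg.Agent.Lib.BlockA.CentralDefect
import Mathlib.NumberTheory.LegendreSymbol.AddCharacter
import Mathlib.GroupTheory.SchurZassenhaus

/-!
The centralizer of an element of order `p` exactly dividing the group order, and its blocks.
-/

set_option autoImplicit false
set_option linter.unusedSectionVars false

namespace CfsgLib.Block

open Cfsg
open scoped ComplexConjugate

universe u

variable {G : Type u} [Group G] [Finite G] {p : ℕ} [hp : Fact p.Prime] {x : G}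

local notation "C" => Subgroup.centralizer (Singleton.singleton x : Set G)

namespace DefectOne

theorem mem_cen_self : x ∈ C := Subgroup.mem_centralizer_singleton_iff.2 rfl

theorem zpowers_le_cen : Subgroup.zpowers x ≤ C := Subgroup.zpowers_le.2 mem_cen_self

theorem centralizer_zpowers :
    Subgroup.centralizer ((Subgroup.zpowers x : Subgroup G) : Set G) = C := by
  rw [Subgroup.zpowers_eq_closure, Subgroup.centralizer_closure]

variable (hxo : orderOf x = p)
include hxo

theorem pow_val_natCast (j : ℕ) : x ^ ((j : ZMod p)).val = x ^ j := by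
  rw [ZMod.val_natCast]
  conv_rhs => rw [← pow_mod_orderOf, hxo]

theorem pow_val_mul (i j : ZMod p) : (x ^ i.val) ^ j.val = x ^ (i * j).val := by
  rw [← pow_mul, ← pow_val_natCast hxo, Nat.cast_mul, ZMod.natCast_zmod_val, ZMod.natCast_zmod_val]

theorem pow_val_add (i j : ZMod p) : x ^ (i + j).val = x ^ i.val * x ^ j.val := by
  rw [← pow_add, ← pow_val_natCast hxo (i.val + j.val), Nat.cast_add, ZMod.natCast_zmod_val,
    ZMod.natCast_zmod_val]

theorem pow_val_inj {i j : ZMod p} (h : x ^ i.val = x ^ j.val) : i = j := by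
  rw [pow_eq_pow_iff_modEq, hxo, ← ZMod.natCast_eq_natCast_iff, ZMod.natCast_zmod_val,
    ZMod.natCast_zmod_val] at h
  exact h

theorem centralizer_pow_val {i : ZMod p} (hi : i ≠ 0) :
    Subgroup.centralizer ({x ^ i.val} : Set G) = C := by
  have hz : Subgroup.zpowers (x ^ i.val) = Subgroup.zpowers x := by
    refine le_antisymm (Subgroup.zpowers_le.2 (pow_mem (Subgroup.mem_zpowers x) _))
      (Subgroup.zpowers_le.2 ?_)
    have h := pow_mem (Subgroup.mem_zpowers (x ^ i.val)) (i⁻¹).val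
    rwa [pow_val_mul hxo, mul_inv_cancel₀ hi, ZMod.val_one, pow_one] at h
  rw [← centralizer_zpowers (x := x), ← centralizer_zpowers (x := x ^ i.val), hz]

theorem orderOf_pow_val {i : ZMod p} (hi : i ≠ 0) : orderOf (x ^ i.val) = p := by
  refine orderOf_eq_prime ?_ fun h => hi (pow_val_inj hxo (h.trans ?_))
  · rw [← pow_mul, mul_comm, pow_mul, show x ^ p = 1 from hxo ▸ pow_orderOf_eq_one x, one_pow]
  · rw [ZMod.val_zero, pow_zero]

theorem isPElt_pow_val (i : ZMod p) : ∃ k : ℕ, orderOf (x ^ i.val) = p ^ k := by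
  rcases eq_or_ne i 0 with rfl | hi
  · exact ⟨0, by simp⟩
  · exact ⟨1, by rw [orderOf_pow_val hxo hi, pow_one]⟩

theorem isPGroup_zpowers : IsPGroup p (Subgroup.zpowers x) :=
  IsPGroup.of_card (n := 1) (by rw [Nat.card_zpowers, hxo, pow_one])

variable (hsq : ¬ p ^ 2 ∣ Nat.card G)
include hsq

/-- A `p`-subgroup containing `x` is `⟨x⟩`. -/
theorem eq_zpowers_of_isPGroup {Q : Subgroup G} (hQ : IsPGroup p Q) (hx : x ∈ Q) :
    Q = Subgroup.zpowers x := by
  refine (Subgroup.eq_of_le_of_card_ge (Subgroup.zpowers_le.2 hx) ?_).symm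
  obtain ⟨k, hk⟩ := hQ.exists_card_eq
  have hk1 : k ≤ 1 := by
    by_contra h
    exact hsq ((pow_dvd_pow p (show 2 ≤ k by omega)).trans (hk ▸ Subgroup.card_subgroup_dvd_card Q))
  rw [hk, Nat.card_zpowers, hxo]
  calc p ^ k ≤ p ^ 1 := Nat.pow_le_pow_right hp.out.pos hk1
    _ = p := pow_one p

/-- The `p`-elements commuting with `x` are powers of `x`. -/
theorem mem_zpowers_of_commute {u : G} (hu : ∃ k : ℕ, orderOf u = p ^ k) (hc : u ∈ C) :
    u ∈ Subgroup.zpowers x := by
  obtain ⟨k, hk⟩ := hu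
  have hU : IsPGroup p (Subgroup.zpowers u) := IsPGroup.of_card (n := k) (by rw [Nat.card_zpowers, hk])
  have hle : Subgroup.zpowers u ≤ Subgroup.normalizer ((Subgroup.zpowers x : Subgroup G) : Set G) := by
    refine le_trans (Subgroup.zpowers_le.2 hc) ?_
    rw [← centralizer_zpowers (x := x)]
    exact Subgroup.centralizer_le_normalizer _
  have hsup := IsPGroup.to_sup_of_normal_right' hU (isPGroup_zpowers hxo) hle
  rw [← eq_zpowers_of_isPGroup hxo hsq hsup (Subgroup.mem_sup_right (Subgroup.mem_zpowers x))]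
  exact Subgroup.mem_sup_left (Subgroup.mem_zpowers u)

/-- The decomposition of an element of the centralizer. -/
theorem exists_decomp {c : G} (hc : c ∈ C) :
    ∃ (i : ZMod p) (y : G), y ∈ C ∧ ¬ p ∣ orderOf y ∧ c = x ^ i.val * y := by
  obtain ⟨u, hu⟩ := exists_isPPart hp.out c
  have huz := isPPart_mem_zpowers hp.out hu
  obtain ⟨y, hy, hcomm, hord, hreg⟩ := hu
  have huC : u ∈ C := (Subgroup.zpowers_le.2 hc) huz
  obtain ⟨j, hj⟩ := mem_powers_iff_mem_zpowers.2 (mem_zpowers_of_commute hxo hsq hord huC)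
  refine ⟨(j : ZMod p), y, ?_, hreg, ?_⟩
  · rw [show y = u⁻¹ * c by rw [← hy, inv_mul_cancel_left]]
    exact mul_mem (inv_mem huC) hc
  · rw [pow_val_natCast hxo, show x ^ j = u from hj, hy]

theorem isPPart_pow_mul {y : G} (hy : y ∈ C) (hreg : ¬ p ∣ orderOf y) (i : ZMod p) :
    IsPPart p (x ^ i.val * y) (x ^ i.val) :=
  ⟨y, rfl, (Commute.pow_left (Subgroup.mem_centralizer_singleton_iff.1 hy).symm _),
    isPElt_pow_val hxo i, hreg⟩

theorem decomp_unique {y y' : G} (hy : y ∈ C) (hy' : y' ∈ C) (hr : ¬ p ∣ orderOf y)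
    (hr' : ¬ p ∣ orderOf y') {i j : ZMod p} (h : x ^ i.val * y = x ^ j.val * y') :
    i = j ∧ y = y' := by
  have h1 := isPPart_pow_mul hxo hsq hy hr i
  rw [h] at h1
  have hij := pow_val_inj hxo (isPPart_unique hp.out h1 (isPPart_pow_mul hxo hsq hy' hr' j))
  subst hij
  exact ⟨rfl, mul_left_cancel h⟩

/-- The `p`-regular elements of the centralizer form a subgroup. -/
theorem exists_regular_subgroup :
    ∃ O : Subgroup G, O ≤ C ∧ (∀ c ∈ C, c ∈ O ↔ ¬ p ∣ orderOf c) ∧
      Nat.card O * p = Nat.card C := by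
  set Z := (Subgroup.zpowers x).subgroupOf C with hZ
  have hZc : ∀ z ∈ Z, ∀ c : C, c * z = z * c := by
    intro z hz c
    obtain ⟨j, hj⟩ := mem_powers_iff_mem_zpowers.2 (Subgroup.mem_subgroupOf.1 hz)
    refine Subtype.ext ?_
    push_cast
    rw [← show x ^ j = (z : G) from hj]
    exact (Commute.pow_right (Subgroup.mem_centralizer_singleton_iff.1 c.2) j).eq
  have : Z.Normal := ⟨fun z hz c => by rw [hZc z hz c, mul_inv_cancel_right]; exact hz⟩
  have hZcard : Nat.card Z = p := by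
    rw [Nat.card_congr (Subgroup.subgroupOfEquivOfLe zpowers_le_cen).toEquiv, Nat.card_zpowers, hxo]
  have hmul := Subgroup.card_mul_index Z
  rw [hZcard] at hmul
  have hidx : ¬ p ∣ Z.index := fun h => hsq (by
    rw [pow_two]
    exact (Nat.mul_dvd_mul_left p h).trans (hmul ▸ Subgroup.card_subgroup_dvd_card C))
  obtain ⟨K, hK⟩ := Subgroup.exists_left_complement'_of_coprime (N := Z)
    (by rw [hZcard]; exact hp.out.coprime_iff_not_dvd.2 hidx)
  have hKcard : Nat.card K = Z.index := hK.index_eq_card.symm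
  refine ⟨K.map (Subgroup.centralizer ({x} : Set G)).subtype, Subgroup.map_subtype_le K, ?_, ?_⟩
  · intro c hc
    constructor
    · rintro ⟨d, hd, rfl⟩ hdvd
      refine hidx (hKcard ▸ hdvd.trans ?_)
      rw [Subgroup.subtype_apply, Subgroup.orderOf_coe, ← Subgroup.orderOf_mk d hd]
      exact orderOf_dvd_natCard _
    · intro hreg
      obtain ⟨a, ha, z, hz, haz⟩ := Subgroup.mem_sup_of_normal_right.1
        (show (⟨c, hc⟩ : C) ∈ K ⊔ Z from hK.sup_eq_top.symm ▸ Subgroup.mem_top _)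
      obtain ⟨j, hj⟩ := mem_powers_iff_mem_zpowers.2 (Subgroup.mem_subgroupOf.1 hz)
      have haG : ¬ p ∣ orderOf ((a : C) : G) := fun hdvd => hidx (hKcard ▸ hdvd.trans (by
        rw [Subgroup.orderOf_coe, ← Subgroup.orderOf_mk a ha]
        exact orderOf_dvd_natCard _))
      have hc' : c = (a : G) * (z : G) := (congrArg Subtype.val haz).symm
      have h1 : x ^ (0 : ZMod p).val * c = x ^ ((j : ZMod p)).val * (a : G) := by
        rw [ZMod.val_zero, pow_zero, one_mul, pow_val_natCast hxo, show x ^ j = (z : G) from hj, hc']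
        exact congrArg Subtype.val (hZc z hz a)
      exact ⟨a, ha, (decomp_unique hxo hsq hc a.2 hreg haG h1).2.symm⟩
  · rw [← Nat.card_congr (K.equivMapOfInjective _ (Subgroup.subtype_injective _)).toEquiv, hKcard,
      ← hmul, mul_comm]

variable {M : Ideal AlgInt} [M.IsPrime] (hM : IsPModular p M) {b : Set (IrrCharacter (Subgroup.centralizer ({x} : Set G)))}
  (hb : IsPBlock M b)
include hM hb

/-- The defect group of a block of the centralizer. -/
theorem isDefectGroup_cen : IsDefectGroup p M b ((Subgroup.zpowers x).subgroupOf C) := by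
  obtain ⟨D, hD⟩ := exists_isDefectGroup hM hb
  have hDp : IsPGroup p D := isPGroup_defectGroup hM hb hD
  have : ((Subgroup.zpowers x).subgroupOf C).Normal := by
    refine ⟨fun z hz c => ?_⟩
    obtain ⟨j, hj⟩ := mem_powers_iff_mem_zpowers.2 (Subgroup.mem_subgroupOf.1 hz)
    have hcz : c * z = z * c := Subtype.ext (by
      push_cast
      rw [← show x ^ j = (z : G) from hj]
      exact (Commute.pow_right (Subgroup.mem_centralizer_singleton_iff.1 c.2) j).eq)
    rw [hcz, mul_inv_cancel_right]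
    exact hz
  have hle := normal_le_defectGroup hM (Q := (Subgroup.zpowers x).subgroupOf C)
    ((isPGroup_zpowers hxo).comap_subtype) hb hD
  suffices (Subgroup.zpowers x).subgroupOf C = D by rwa [this]
  refine le_antisymm hle fun d hd => Subgroup.mem_subgroupOf.2 ?_
  refine mem_zpowers_of_commute hxo hsq ?_ d.2
  obtain ⟨k, hk⟩ := IsPGroup.iff_orderOf.1 hDp ⟨d, hd⟩
  exact ⟨k, by rw [← hk, Subgroup.orderOf_mk, Subgroup.orderOf_coe]⟩

/-- A block of the centralizer: `p` characters, the twists of one trivial on `x`. -/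
theorem exists_block_param {ψ : AddChar (ZMod p) ℂ} (hψ : ψ.IsPrimitive) :
    ∃ φ : ZMod p → IrrCharacter C, Function.Injective φ ∧ Set.range φ = b ∧
      ∀ (s i : ZMod p) (y : C), ¬ p ∣ orderOf y →
        (φ s : C → ℂ) (⟨x, mem_cen_self⟩ ^ i.val * y) = ψ (s * i) * (φ 0 : C → ℂ) y := by
  classical
  have := Fintype.ofFinite C
  set z : C := ⟨x, mem_cen_self⟩ with hz
  have hD := isDefectGroup_cen hxo hsq hM hb
  have hPZ : (Subgroup.zpowers x).subgroupOf C ≤ Subgroup.center C := by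
    intro u hu
    refine Subgroup.mem_center_iff.2 fun c => Subtype.ext ?_
    obtain ⟨j, hj⟩ := mem_powers_iff_mem_zpowers.2 (Subgroup.mem_subgroupOf.1 hu)
    push_cast
    rw [← show x ^ j = (u : G) from hj]
    exact (Commute.pow_right (Subgroup.mem_centralizer_singleton_iff.1 c.2) j).eq
  have hrank := CfsgLib.BlockA.blockRank_of_central_defect hM hb hD hPZ
  have hcard := CfsgLib.BlockA.blockRank_mul_natCard_central hM hb hD hPZ
  rw [hrank, one_mul, Nat.card_congr (Subgroup.subgroupOfEquivOfLe zpowers_le_cen).toEquiv,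
    Nat.card_zpowers, hxo] at hcard
  have := Fintype.ofFinite b
  obtain ⟨θ, hθ⟩ := isPBlock_nonempty hb
  have hzc : ∀ (n : ℕ) (w : C), z ^ n * w = w * z ^ n := fun n w =>
    (Commute.pow_left (Subtype.ext (Subgroup.mem_centralizer_singleton_iff.1 w.2).symm) n).eq
  -- regular restrictions are proportional
  have hone : ∀ φ : IrrCharacter C, pRegularPart p (φ : C → ℂ) 1 = (φ : C → ℂ) 1 := fun φ => by
    rw [pRegularPart, if_pos (show IsPRegular p (1 : C) by
      simp [IsPRegular, hp.out.ne_one])]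
  have hprop : ∀ φ ∈ b, ∀ y : C, ¬ p ∣ orderOf y →
      (φ : C → ℂ) y = (φ : C → ℂ) 1 / (θ : C → ℂ) 1 * (θ : C → ℂ) y := by
    intro φ hφ y hy
    set W := Submodule.span ℂ ((fun χ : IrrCharacter C => pRegularPart p (χ : C → ℂ)) '' b)
    have hw : (⟨_, Submodule.subset_span ⟨θ, hθ, rfl⟩⟩ : W) ≠ 0 := fun h => by
      have h1 := congrFun (congrArg Subtype.val h) 1
      exact CfsgLib.Char.irr_apply_one_ne_zero θ.2 ((hone θ).symm.trans h1)
    obtain ⟨c, hc⟩ := (finrank_eq_one_iff_of_nonzero' _ hw).1 hrank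
      ⟨_, Submodule.subset_span ⟨φ, hφ, rfl⟩⟩
    have hc1 := congrFun (congrArg Subtype.val hc) 1
    have hcy := congrFun (congrArg Subtype.val hc) y
    simp only [SetLike.val_smul, Pi.smul_apply, smul_eq_mul, hone] at hc1
    simp only [SetLike.val_smul, Pi.smul_apply, smul_eq_mul, pRegularPart,
      if_pos (show IsPRegular p y from hy)] at hcy
    rw [← hcy, ← hc1, mul_div_assoc, div_self (CfsgLib.Char.irr_apply_one_ne_zero θ.2), mul_one]
  -- central values
  have hζ : IsPrimitiveRoot (ψ 1) p := by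
    have hne : ψ 1 ≠ 1 := by
      intro h
      refine hψ (one_ne_zero : (1 : ZMod p) ≠ 0) ?_
      ext a
      rw [AddChar.mulShift_apply, one_mul, ← ZMod.natCast_zmod_val a, ← nsmul_one,
        AddChar.map_nsmul_eq_pow, h, one_pow, AddChar.one_apply]
    refine IsPrimitiveRoot.iff_orderOf.2 (orderOf_eq_prime ?_ hne)
    rw [← AddChar.map_nsmul_eq_pow, nsmul_one, ZMod.natCast_self, AddChar.map_zero_eq_one]
  let ω : IrrCharacter C → ℂ := fun φ => (φ : C → ℂ) z / (φ : C → ℂ) 1
  have hpow : ∀ φ : IrrCharacter C, ∀ (n : ℕ) (w : C),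
      (φ : C → ℂ) (z ^ n * w) = ω φ ^ n * (φ : C → ℂ) w := by
    intro φ n w
    induction n with
    | zero => simp
    | succ n ih =>
      rw [pow_succ', mul_assoc, CfsgLib.BlockA.irr_central_mul φ (fun v => by
        simpa using hzc 1 v) _, ih, pow_succ']
      ring
  have hωp : ∀ φ : IrrCharacter C, ω φ ^ p = 1 := fun φ => by
    have h := hpow φ p 1
    rw [mul_one, show z ^ p = 1 from Subtype.ext (by
      simp [z, ← hxo, pow_orderOf_eq_one])] at h
    exact mul_right_cancel₀ (CfsgLib.Char.irr_apply_one_ne_zero φ.2) (h.symm.trans (one_mul _).symm)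
  have key : ∀ φ : IrrCharacter C, ∃ s : ZMod p, ψ s = ω φ := fun φ => by
    obtain ⟨j, -, hj⟩ := hζ.eq_pow_of_pow_eq_one (hωp φ)
    exact ⟨j, by rw [← hj, ← AddChar.map_nsmul_eq_pow, nsmul_one]⟩
  choose s hs using key
  have hval : ∀ φ : IrrCharacter C, ∀ i : ZMod p, ∀ w : C,
      (φ : C → ℂ) (z ^ i.val * w) = ψ (s φ * i) * (φ : C → ℂ) w := fun φ i w => by
    rw [hpow, ← hs, ← AddChar.map_nsmul_eq_pow, nsmul_eq_mul, ZMod.natCast_zmod_val, mul_comm i]
  -- equal degrees
  have hsplit : ∀ c : C, ∃ (i : ZMod p) (y : C), ¬ p ∣ orderOf y ∧ c = z ^ i.val * y := fun c => by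
    obtain ⟨i, y, hy, hreg, hc⟩ := exists_decomp hxo hsq c.2
    exact ⟨i, ⟨y, hy⟩, by rwa [Subgroup.orderOf_mk], Subtype.ext (by simpa [z] using hc)⟩
  have hψn : ∀ a : ZMod p, conj (ψ a) * ψ a = 1 := fun a => by
    rw [← AddChar.map_neg_eq_conj, ← AddChar.map_add_eq_mul, neg_add_cancel,
      AddChar.map_zero_eq_one]
  have hdeg : ∀ φ ∈ b, (φ : C → ℂ) 1 = (θ : C → ℂ) 1 := by
    intro φ hφ
    set r := (φ : C → ℂ) 1 / (θ : C → ℂ) 1 with hr
    have h1 : ∀ c : C, (φ : C → ℂ) c * conj ((φ : C → ℂ) c) =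
        r * conj r * ((θ : C → ℂ) c * conj ((θ : C → ℂ) c)) := fun c => by
      obtain ⟨i, y, hy, rfl⟩ := hsplit c
      rw [hval, hval, hprop φ hφ y hy]
      simp only [map_mul (starRingEnd ℂ)]
      change ψ (s φ * i) * (r * _) * _ = _
      linear_combination (r * conj r * (θ : C → ℂ) y * conj ((θ : C → ℂ) y)) *
        (hψn (s φ * i)) - (r * conj r * (θ : C → ℂ) y * conj ((θ : C → ℂ) y)) * (hψn (s θ * i))
    have h2 := CfsgLib.Char.irr_classInner φ.2 φ.2
    have h3 := CfsgLib.Char.irr_classInner θ.2 θ.2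
    rw [if_pos rfl, CfsgLib.Char.classInner_def] at h2 h3
    rw [Finset.sum_congr rfl fun c _ => h1 c, ← Finset.mul_sum, mul_left_comm, h3, mul_one] at h2
    obtain ⟨a, ha⟩ : ∃ a : ℕ, (φ : C → ℂ) 1 = a :=
      ⟨_, (charDegree_cast (CfsgLib.Char.irr_isCharacter φ.2)).symm⟩
    obtain ⟨d, hd⟩ : ∃ d : ℕ, (θ : C → ℂ) 1 = d :=
      ⟨_, (charDegree_cast (CfsgLib.Char.irr_isCharacter θ.2)).symm⟩
    have hd0 : (d : ℂ) ≠ 0 := hd ▸ CfsgLib.Char.irr_apply_one_ne_zero θ.2
    rw [hr, ha, hd, map_div₀, map_natCast, map_natCast, div_mul_div_comm,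
      div_eq_one_iff_eq (mul_ne_zero hd0 hd0)] at h2
    rw [ha, hd]
    have h4 : a * a = d * d := by exact_mod_cast h2
    exact_mod_cast Nat.mul_self_inj.1 h4
  -- the parametrization
  have hinj : Function.Injective fun φ : b => s (φ : IrrCharacter C) := by
    intro φ φ' h
    simp only at h
    refine Subtype.ext (Subtype.ext (funext fun c => ?_))
    obtain ⟨i, y, hy, rfl⟩ := hsplit c
    rw [hval, hval, h, hprop _ φ.2 y hy, hprop _ φ'.2 y hy, hdeg _ φ.2, hdeg _ φ'.2]
  have hbij : Function.Bijective fun φ : b => s (φ : IrrCharacter C) := by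
    rw [Fintype.bijective_iff_injective_and_card]
    exact ⟨hinj, by rw [ZMod.card, ← Nat.card_eq_fintype_card, ← hcard]⟩
  let e := Equiv.ofBijective _ hbij
  refine ⟨fun t => (e.symm t : IrrCharacter C), fun a a' h => e.symm.injective (Subtype.ext h), ?_,
    fun t i y hy => ?_⟩
  · ext φ
    refine ⟨?_, fun hφ => ⟨e ⟨φ, hφ⟩, by simp⟩⟩
    rintro ⟨t, rfl⟩
    exact (e.symm t).2
  · have hst : ∀ a, s (e.symm a : IrrCharacter C) = a := fun a => e.apply_symm_apply a
    rw [hval, hst, hprop _ (e.symm t).2 y hy, hprop _ (e.symm 0).2 y hy, hdeg _ (e.symm t).2,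
      hdeg _ (e.symm 0).2]

end DefectOne

end CfsgLib.Block
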