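import Cfsg.Agent.Lib.Block.DefectOneGalois
import Cfsg.Agent.Lib.Block.SecondMain
import Cfsg.Agent.Lib.Char.CliffordApps

/-!
The number of characters of degree prime to `p` for a group order divisible by `p` exactly once,
in terms of the centralizer of an element of order `p` and the action of the normalizer.
-/

set_option autoImplicit false
set_option linter.unusedSectionVars false

namespace CfsgLib.Block

open Cfsg
open scoped ComplexConjugate

universe u

/-- The degree divides the index of an abelian normal subgroup. -/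
theorem charDegree_dvd_index_of_abelian {A : Type u} [Group A] [Finite A] (H : Subgroup A)
    [H.Normal] (hH : ∀ a ∈ H, ∀ b ∈ H, a * b = b * a) (χ : IrrCharacter A) :
    charDegree (χ : A → ℂ) ∣ H.index := by
  obtain ⟨m, ρ, hρ, hχ⟩ := χ.2
  have h := CfsgLib.Char.ito_degree_dvd_index ρ H hH
  rwa [charDegree, ← hχ, Representation.char_one, Complex.natCast_re, Nat.floor_natCast]

namespace OneBlock

variable {G : Type u} [Group G] [Fintype G] {p : ℕ} [hp : Fact p.Prime] {M : Ideal AlgInt}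
  [M.IsPrime] (O : OneBlock G p M)

local notation "Cx" => Subgroup.centralizer (Singleton.singleton (OneBlock.x O) : Set G)

theorem not_dvd_phi0 : ¬ p ∣ charDegree (O.φ 0 : Cx → ℂ) := by
  intro h
  have hcomm : ∀ a ∈ Subgroup.zpowers O.z, ∀ c : Cx, a * c = c * a := by
    intro a ha c
    obtain ⟨j, rfl⟩ := Subgroup.mem_zpowers_iff.1 ha
    refine (Commute.zpow_left ?_ j).eq
    exact Subtype.ext (Subgroup.mem_centralizer_singleton_iff.1 c.2).symm
  have : (Subgroup.zpowers O.z).Normal := ⟨fun a ha c => by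
    rw [← hcomm a ha c, mul_inv_cancel_right]; exact ha⟩
  have h1 := h.trans (charDegree_dvd_index_of_abelian (Subgroup.zpowers O.z)
    (fun a ha b _ => hcomm a ha b) (O.φ 0))
  apply O.hsq
  have h2 := (Subgroup.zpowers O.z).card_mul_index
  rw [Nat.card_zpowers, show orderOf O.z = p from (Subgroup.orderOf_mk O.x _).trans O.hxo] at h2
  rw [pow_two]
  refine dvd_trans ?_ (Subgroup.card_subgroup_dvd_card Cx)
  rw [← h2]
  exact mul_dvd_mul_left p h1

theorem not_dvd_relIndex : ¬ p ∣ Subgroup.relIndex Cx O.N := by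
  intro h
  apply O.hsq
  have h1 : Nat.card O.N = Nat.card Cx * Subgroup.relIndex Cx O.N := by
    rw [Subgroup.relIndex, ← Nat.card_congr (Subgroup.subgroupOfEquivOfLe O.cen_le_N).toEquiv,
      Subgroup.card_mul_index]
  have h2 : p ∣ Nat.card Cx := by
    have h := orderOf_dvd_natCard O.z
    rwa [show orderOf O.z = p from (Subgroup.orderOf_mk O.x _).trans O.hxo] at h
  rw [pow_two]
  exact dvd_trans (h1 ▸ mul_dvd_mul h2 h) (Subgroup.card_subgroup_dvd_card O.N)

variable {B : Set (IrrCharacter G)} (hind : IsInducedBlock M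
  (Subgroup.centralizer ({O.x} : Set G)) O.b B)
include hind

/-- All degrees in a block of positive defect are prime to `p`. -/
theorem not_dvd_charDegree {χ : IrrCharacter G} (hχ : χ ∈ B) :
    ¬ p ∣ charDegree (χ : G → ℂ) := by
  classical
  intro hdvd
  obtain ⟨X, Y, δ, w, hXY, -, -, -, hδ, hX, hY, -, -, -, -, -⟩ := O.exists_families hind
  obtain ⟨m, hm⟩ := O.charDegree_eq hind hχ
  have hk : ¬ (p : ℤ) ∣ ((Subgroup.relIndex O.T O.N * charDegree (O.φ 0 : Cx → ℂ) : ℕ) : ℤ) := by
    rw [Int.natCast_dvd_natCast]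
    intro h
    rcases hp.out.dvd_mul.1 h with h | h
    · exact O.not_dvd_relIndex (h.trans ⟨_, (O.relIndex_mul.symm.trans (mul_comm _ _))⟩)
    · exact O.not_dvd_phi0 h
  have hA : ¬ (p : ℤ) ∣ ∑ v, O.row χ v := by
    have hcop : ∀ k : ℕ, k ∣ p - 1 → ¬ p ∣ k := fun k hk hp' => by
      have h1 := Nat.le_of_dvd (by have := hp.out.two_le; omega) (hp'.trans hk)
      have := hp.out.two_le
      omega
    have key : ∀ (k : ℕ) (c : ℤ), k ∣ p - 1 → (c = 1 ∨ c = -1) → ¬ (p : ℤ) ∣ (k : ℤ) * c := by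
      rintro k c hk' (rfl | rfl) h
      · rw [mul_one, Int.natCast_dvd_natCast] at h
        exact hcop k hk' h
      · rw [mul_neg, mul_one, dvd_neg, Int.natCast_dvd_natCast] at h
        exact hcop k hk' h
    rcases (hXY ▸ hχ : χ ∈ X ∪ Y) with h | h
    · simp only [hX χ h, Finset.sum_const, Finset.card_univ, ZMod.card_units, nsmul_eq_mul]
      exact key _ _ dvd_rfl (hδ χ hχ)
    · rw [O.sum_indicator (w χ) (δ χ) _ (hY χ h)]
      exact key _ _ ⟨_, O.natCard_mul_index.symm⟩ (hδ χ hχ)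
  have hpr : Prime (p : ℤ) := Nat.prime_iff_prime_int.1 hp.out
  refine (hpr.dvd_mul.not.2 (not_or.2 ⟨hA, hk⟩)) ?_
  rw [show (∑ v, O.row χ v) * ((Subgroup.relIndex O.T O.N * charDegree (O.φ 0 : Cx → ℂ) : ℕ) : ℤ) =
    (charDegree (χ : G → ℂ) : ℤ) - (p : ℤ) * m by linarith]
  exact dvd_sub (Int.natCast_dvd_natCast.2 hdvd) (dvd_mul_right _ _)

end OneBlock

namespace DefectOne

variable {G : Type u} [Group G] [Fintype G] {p : ℕ} [hp : Fact p.Prime] {M : Ideal AlgInt}
  [M.IsPrime] {x : G}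

local notation "C" => Subgroup.centralizer (Singleton.singleton x : Set G)

/-- The order of the stabilizer of a character of the centralizer in the normalizer. -/
noncomputable def stabCard (x : G)
    (θ : IrrCharacter (Subgroup.centralizer ({x} : Set G))) : ℕ :=
  Nat.card {n : G // n ∈ Subgroup.normalizer ((Subgroup.zpowers x : Subgroup G) : Set G) ∧
    ∀ c c' : Subgroup.centralizer ({x} : Set G), (c' : G) = n * c * n⁻¹ →
      (θ : Subgroup.centralizer ({x} : Set G) → ℂ) c' = (θ : _ → ℂ) c}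

theorem stabCard_eq (O : OneBlock G p M) :
    stabCard O.x (O.φ 0) = Nat.card O.expSubgroup * Nat.card (Subgroup.centralizer ({O.x} : Set G)) := by
  rw [O.natCard_expSubgroup, mul_comm, Subgroup.relIndex,
    ← Nat.card_congr (Subgroup.subgroupOfEquivOfLe O.cen_le_T).toEquiv, Subgroup.card_mul_index,
    stabCard]
  refine Nat.card_congr (Equiv.subtypeEquivRight fun n => ?_)
  constructor
  · rintro ⟨hn, h⟩
    exact ⟨hn, Subtype.ext (funext fun c => h c _ rfl)⟩
  · rintro ⟨hn, h⟩
    refine ⟨hn, fun c c' hc => ?_⟩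
    have hc' : c' = normConjEquiv _ n (O.N_le hn) c := Subtype.ext (by rw [hc]; rfl)
    rw [hc', ← OneBlock.twist_apply O n hn, h]

/-- The count of the characters of degree prime to `p`. -/
theorem count_prime_degree (hM : IsPModular p M) (hxo : orderOf x = p)
    (hsq : ¬ p ^ 2 ∣ Nat.card G) :
    Subgroup.relIndex C (Subgroup.normalizer ((Subgroup.zpowers x : Subgroup G) : Set G)) *
        Nat.card {χ : IrrCharacter G // ¬ p ∣ charDegree (χ : G → ℂ)} * Nat.card C ^ 2 =
      ∑ᶠ θ : {θ : IrrCharacter C // (θ : C → ℂ) ⟨x, mem_cen_self⟩ = (θ : C → ℂ) 1},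
        (stabCard x θ.1 ^ 2 + (p - 1) * Nat.card C ^ 2) := by
  classical
  have := Fintype.ofFinite (IrrCharacter G)
  have := Fintype.ofFinite (IrrCharacter C)
  rw [finsum_eq_sum_of_fintype]
  set N := Subgroup.normalizer ((Subgroup.zpowers x : Subgroup G) : Set G)
  -- a parametrization at every admissible character
  have key : ∀ θ : {θ : IrrCharacter C // (θ : C → ℂ) ⟨x, mem_cen_self⟩ = (θ : C → ℂ) 1},
      ∃ φ : ZMod p → IrrCharacter C, ∃ (h1 : Function.Injective φ)
        (h2 : Set.range φ = blockOf M (θ.1 : C → ℂ))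
        (h3 : ∀ (s i : ZMod p) (y : C), ¬ p ∣ orderOf y →
          (φ s : C → ℂ) (⟨x, mem_cen_self⟩ ^ i.val * y) =
            ZMod.stdAddChar (s * i) * (φ 0 : C → ℂ) y), φ 0 = θ.1 := by
    intro θ
    obtain ⟨φ, h1, h2, h3, -⟩ := exists_param hM hxo hsq (isPBlock_blockOf θ.1)
    exact ⟨φ, h1, h2, h3, ((⟨hM, x, hxo, hsq, _, isPBlock_blockOf θ.1, φ, h1, h2, h3⟩ :
      OneBlock G p M).eq_phi0_of_trivial (θ := θ.1) (mem_blockOf_self _) θ.2).symm⟩
  choose φ h1 h2 h3 h0 using key
  let Oθ : {θ : IrrCharacter C // (θ : C → ℂ) ⟨x, mem_cen_self⟩ = (θ : C → ℂ) 1} → OneBlock G p M :=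
    fun θ => ⟨hM, x, hxo, hsq, blockOf M (θ.1 : C → ℂ), isPBlock_blockOf θ.1, φ θ, h1 θ, h2 θ, h3 θ⟩
  have hex : ∀ θ : {θ : IrrCharacter C // (θ : C → ℂ) ⟨x, mem_cen_self⟩ = (θ : C → ℂ) 1},
      ∃ B, IsInducedBlock M C (blockOf M (θ.1 : C → ℂ)) B := fun θ =>
    exists_isInducedBlock_centralizer hM ⟨1, by rw [hxo, pow_one]⟩ (isPBlock_blockOf θ.1)
  choose Bθ hBθ using hex
  have hind : ∀ θ, IsInducedBlock M (Subgroup.centralizer ({(Oθ θ).x} : Set G)) (Oθ θ).b (Bθ θ) :=
    hBθ
  -- characters of degree prime to `p`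
  set S := Finset.univ.image Bθ
  have hmem : ∀ χ : IrrCharacter G, ¬ p ∣ charDegree (χ : G → ℂ) ↔
      blockOf M (χ : G → ℂ) ∈ S := by
    intro χ
    constructor
    · intro hχ
      have hd : blockDefect p (blockOf M (χ : G → ℂ)) ≠ 0 := by
        intro h0
        have hle := Nat.sInf_le
          (Set.mem_image_of_mem (fun χ : IrrCharacter G => (charDegree (χ : G → ℂ)).factorization p)
            (mem_blockOf_self (M := M) χ))
        rw [Nat.factorization_eq_zero_of_not_dvd hχ, Nat.le_zero] at hle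
        simp only [blockDefect, hle, Nat.sub_zero] at h0
        have h2 := (hp.out.dvd_iff_one_le_factorization Nat.card_pos.ne').1
          (hxo ▸ orderOf_dvd_natCard x)
        omega
      obtain ⟨D, hD⟩ := exists_isDefectGroup hM (isPBlock_blockOf χ)
      obtain ⟨O, hO⟩ := exists_oneBlock_inducing hM hsq (isPBlock_blockOf χ) hd
      have hx' := O.isDefectGroup_zpowers hO
      obtain ⟨a, ha⟩ := O.exists_conj_zpowers hxo
      obtain ⟨b, hb⟩ := (exists_inducing_iff hM (isPGroup_zpowers hxo) zpowers_le_cen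
        (centralizer_zpowers (x := x)).le
        (centralizer_zpowers (x := x) ▸ Subgroup.centralizer_le_normalizer _)
        (isPBlock_blockOf χ) hx').2 ⟨a⁻¹, Subgroup.zpowers_le.2 ⟨a * x * a⁻¹, ha, by
          simp [mul_assoc]⟩⟩
      obtain ⟨φ', i1, i2, i3, -⟩ := exists_param hM hxo hsq hb.1
      refine Finset.mem_image.2 ⟨⟨φ' 0, ?_⟩, Finset.mem_univ _, ?_⟩
      · exact (⟨hM, x, hxo, hsq, b, hb.1, φ', i1, i2, i3⟩ : OneBlock G p M).phi0_z
      · refine isInducedBlock_unique _ (hBθ _) ?_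
        rw [← isPBlock_eq_of_mem hb.1 (isPBlock_blockOf (φ' 0)) (i2 ▸ Set.mem_range_self 0)
          (mem_blockOf_self _)]
        exact hb
    · intro h
      obtain ⟨θ, -, hθ⟩ := Finset.mem_image.1 h
      exact (Oθ θ).not_dvd_charDegree (hind θ) (hθ ▸ mem_blockOf_self χ)
  -- the fibres
  have hfib : ∀ B ∈ S, ∑ θ ∈ Finset.univ.filter (fun θ => Bθ θ = B),
      (stabCard x θ.1 ^ 2 + (p - 1) * Nat.card C ^ 2) =
      Subgroup.relIndex C N * (Finset.univ.filter fun χ : IrrCharacter G =>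
        blockOf M (χ : G → ℂ) = B).card * Nat.card C ^ 2 := by
    intro B hB
    obtain ⟨θ₀, -, rfl⟩ := Finset.mem_image.1 hB
    set O := Oθ θ₀ with hO
    have hBcard : (Finset.univ.filter fun χ : IrrCharacter G =>
        blockOf M (χ : G → ℂ) = Bθ θ₀).card = Nat.card (Bθ θ₀) := by
      rw [← Fintype.card_subtype, ← Nat.card_eq_fintype_card]
      refine Nat.card_congr (Equiv.subtypeEquivRight fun χ => ?_)
      exact ⟨fun h => h ▸ mem_blockOf_self χ, fun h => isPBlock_eq_of_mem (isPBlock_blockOf χ)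
        (hBθ θ₀).2.1 (mem_blockOf_self χ) h⟩
    have hconst : ∀ θ ∈ Finset.univ.filter (fun θ => Bθ θ = Bθ θ₀),
        stabCard x θ.1 = Nat.card O.expSubgroup * Nat.card C := by
      intro θ hθ
      have hBeq : Bθ θ = Bθ θ₀ := (Finset.mem_filter.1 hθ).2
      have h := stabCard_eq (Oθ θ)
      rw [show (Oθ θ).φ 0 = θ.1 from h0 θ, ← ((Oθ θ).natCard_eq_and_extremal (hind θ)).2.1, hBeq,
        (O.natCard_eq_and_extremal (hind θ₀)).2.1] at h
      exact h
    have horbit : (Finset.univ.filter fun θ => Bθ θ = Bθ θ₀).card =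
        Subgroup.relIndex O.T O.N := by
      let F : O.N → {θ // Bθ θ = Bθ θ₀} := fun n =>
        ⟨⟨O.twist (n : G)⁻¹ (inv_mem n.2) (O.φ 0), O.twist_phi0_z _⟩, by
          refine isInducedBlock_unique _ (hBθ _) ?_
          have hi := isInducedBlock_pullIrr (hind θ₀) ((n : G)⁻¹) (O.N_le (inv_mem n.2))
          rw [← isPBlock_eq_of_mem hi.1 (isPBlock_blockOf _) ⟨O.φ 0, O.phi_mem 0, rfl⟩
            (mem_blockOf_self (O.twist (n : G)⁻¹ (inv_mem n.2) (O.φ 0)))]
          exact hi⟩
      have hF : ∀ a b : O.N, F a = F b ↔ (a⁻¹ * b : O.N) ∈ O.T.subgroupOf O.N := by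
        intro a b
        rw [Subgroup.mem_subgroupOf, Subgroup.coe_mul, Subgroup.coe_inv]
        constructor
        · intro h
          have h' : O.twist (a : G)⁻¹ (inv_mem a.2) (O.φ 0) = O.twist (b : G)⁻¹ (inv_mem b.2) (O.φ 0) :=
            congrArg (fun t => t.1.1) h
          refine ⟨mul_mem (inv_mem a.2) b.2, ?_⟩
          rw [← O.twist_twist (a : G)⁻¹ (b : G) (inv_mem a.2) b.2, h', O.twist_twist]
          simp only [inv_mul_cancel]
          exact O.twist_one _
        · rintro ⟨hn, h⟩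
          refine Subtype.ext (Subtype.ext ?_)
          change O.twist (a : G)⁻¹ (inv_mem a.2) (O.φ 0) = O.twist (b : G)⁻¹ (inv_mem b.2) (O.φ 0)
          conv_rhs => rw [← h, O.twist_twist ((a : G)⁻¹ * (b : G)) (b : G)⁻¹ hn (inv_mem b.2)]
          simp only [mul_inv_cancel_right]
      rw [← Fintype.card_subtype, ← Nat.card_eq_fintype_card, Subgroup.relIndex, Subgroup.index]
      refine (Nat.card_eq_of_bijective
        (fun q : O.N ⧸ O.T.subgroupOf O.N => F q.out) ⟨fun q q' h => ?_, fun θ => ?_⟩).symm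
      · rw [← QuotientGroup.out_eq' q, ← QuotientGroup.out_eq' q', QuotientGroup.eq]
        exact (hF _ _).1 h
      · have hb' : IsInducedBlock M C (blockOf M (θ.1.1 : C → ℂ)) (Bθ θ₀) := by
          have h := hBθ θ.1
          rwa [θ.2] at h
        obtain ⟨n, hn, himg⟩ := O.exists_twist_of_inducing (hind θ₀) hb'
        obtain ⟨_, ⟨θ', hθ', hθe⟩⟩ : ∃ _ : True, θ.1.1 ∈ O.twist n hn '' O.b :=
          ⟨trivial, himg ▸ mem_blockOf_self θ.1.1⟩
        obtain ⟨c, hc0, hc⟩ := O.exists_conj hn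
        rw [← O.hrange] at hθ'
        obtain ⟨s, rfl⟩ := hθ'
        have hs : s = 0 := by
          have hy : ¬ p ∣ orderOf (1 : C) := by rw [orderOf_one]; exact hp.out.not_dvd_one
          have hv := O.twist_val hn hc s 1 (y := 1) hy
          rw [ZMod.val_one, pow_one, mul_one, mul_one, hθe, OneBlock.twist_apply, map_one,
            ← show (θ.1.1 : C → ℂ) 1 = (O.φ 0 : C → ℂ) 1 by
              rw [← hθe, OneBlock.twist_apply, map_one]; exact O.phi_one s] at hv
          have hz : (θ.1.1 : C → ℂ) O.z = (θ.1.1 : C → ℂ) 1 := θ.1.2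
          rw [hz] at hv
          have h1 : ZMod.stdAddChar (s * c) = (1 : ℂ) :=
            mul_right_cancel₀ (CfsgLib.Char.irr_apply_one_ne_zero θ.1.1.2) (by rw [one_mul]; exact hv.symm)
          exact (mul_eq_zero.1 (ZMod.injective_stdAddChar
            (h1.trans (AddChar.map_zero_eq_one _).symm))).resolve_right hc0
        subst hs
        refine ⟨((⟨n, hn⟩ : O.N)⁻¹ : O.N), Subtype.ext (Subtype.ext ?_)⟩
        have h' : F (((⟨n, hn⟩ : O.N)⁻¹ : O.N) : O.N ⧸ O.T.subgroupOf O.N).out =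
            F ((⟨n, hn⟩ : O.N)⁻¹) := by
          rw [hF, ← QuotientGroup.eq, QuotientGroup.out_eq']
        refine (congrArg (fun t => t.1.1) h').trans (Eq.trans ?_ hθe)
        simp [F]
    rw [Finset.sum_congr rfl (g := fun _ => (Nat.card O.expSubgroup * Nat.card C) ^ 2 +
        (p - 1) * Nat.card C ^ 2) fun θ hθ => by rw [hconst θ hθ],
      Finset.sum_const, horbit, smul_eq_mul, hBcard, (O.natCard_eq_and_extremal (hind θ₀)).1,
      show Subgroup.relIndex C N = Nat.card O.expSubgroup * Subgroup.relIndex O.T O.N by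
        rw [O.natCard_expSubgroup, O.relIndex_mul]; rfl,
      ← O.natCard_mul_index]
    ring
  rw [← Finset.sum_fiberwise_of_maps_to (t := S) (g := Bθ)
    (fun θ _ => Finset.mem_image_of_mem _ (Finset.mem_univ θ)), Finset.sum_congr rfl hfib,
    ← Finset.sum_mul, ← Finset.mul_sum]
  congr 2
  rw [Nat.card_eq_fintype_card, Fintype.card_subtype,
    Finset.card_eq_sum_card_fiberwise (t := S) (f := fun χ : IrrCharacter G => blockOf M (χ : G → ℂ))
      (fun χ hχ => (hmem χ).1 (Finset.mem_filter.1 hχ).2)]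
  refine Finset.sum_congr rfl fun B hB => congrArg Finset.card ?_
  ext χ
  simp only [Finset.mem_filter, Finset.mem_univ, true_and]
  exact ⟨fun h => h.2, fun h => ⟨(hmem χ).2 (h ▸ hB), h⟩⟩

end DefectOne

end CfsgLib.Block
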