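import Cfsg.Agent.Lib.Block.DefectOneRows

/-!
The block structure of a group whose order is divisible by `p` exactly once: degrees, existence of
a parametrization of every block of positive defect.
-/

set_option autoImplicit false
set_option linter.unusedSectionVars false

namespace CfsgLib.Block

open Cfsg
open scoped ComplexConjugate

universe u

namespace DefectOne

variable {G : Type u} [Group G] [Fintype G] {p : ℕ} [hp : Fact p.Prime] {M : Ideal AlgInt}
  [M.IsPrime]

/-- A parametrization attached to a block of the centralizer. -/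
theorem exists_param (hM : IsPModular p M) {x : G} (hxo : orderOf x = p)
    (hsq : ¬ p ^ 2 ∣ Nat.card G) {b : Set (IrrCharacter (Subgroup.centralizer ({x} : Set G)))}
    (hb : IsPBlock M b) :
    ∃ φ : ZMod p → IrrCharacter (Subgroup.centralizer ({x} : Set G)),
      ∃ (h1 : Function.Injective φ) (h2 : Set.range φ = b)
        (h3 : ∀ (s i : ZMod p) (y : Subgroup.centralizer ({x} : Set G)), ¬ p ∣ orderOf y →
          (φ s : Subgroup.centralizer ({x} : Set G) → ℂ) (⟨x, mem_cen_self⟩ ^ i.val * y) =
            ZMod.stdAddChar (s * i) *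
              (φ 0 : Subgroup.centralizer ({x} : Set G) → ℂ) y),
        (⟨hM, x, hxo, hsq, b, hb, φ, h1, h2, h3⟩ : OneBlock G p M).b = b := by
  obtain ⟨φ, h1, h2, h3⟩ := OneBlock.exists_oneBlock hM hxo hsq hb
  exact ⟨φ, h1, h2, h3, rfl⟩

/-- Every block of positive defect is induced from a centralizer of an element of order `p`. -/
theorem exists_oneBlock_inducing (hM : IsPModular p M) (hsq : ¬ p ^ 2 ∣ Nat.card G)
    {B : Set (IrrCharacter G)} (hB : IsPBlock M B) (hd : blockDefect p B ≠ 0) :
    ∃ O : OneBlock G p M, IsInducedBlock M (Subgroup.centralizer ({O.x} : Set G)) O.b B := by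
  classical
  obtain ⟨D, hD⟩ := exists_isDefectGroup hM hB
  have hcard := natCard_defectGroup hM hB hD
  have hd1 : blockDefect p B = 1 := by
    by_contra h
    have h2 : 2 ≤ blockDefect p B := by omega
    exact hsq ((pow_dvd_pow p h2).trans (hcard ▸ Subgroup.card_subgroup_dvd_card D))
  rw [hd1, pow_one] at hcard
  obtain ⟨⟨x, hx⟩, hgen⟩ := exists_prime_orderOf_dvd_card' (G := D) p (by rw [hcard])
  rw [Subgroup.orderOf_mk] at hgen
  have hDx : D = Subgroup.zpowers x := (Subgroup.eq_of_le_of_card_ge
    (Subgroup.zpowers_le.2 hx) (by rw [Nat.card_zpowers, hgen, hcard])).symm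
  obtain ⟨b, hb⟩ := (exists_inducing_iff hM (isPGroup_zpowers hgen) zpowers_le_cen
    (centralizer_zpowers (x := x)).le
    (centralizer_zpowers (x := x) ▸ Subgroup.centralizer_le_normalizer _) hB hD).2
      ⟨1, fun y hy => by
        rw [hDx]
        simpa using hy⟩
  obtain ⟨φ, h1, h2, h3, -⟩ := exists_param hM hgen hsq hb.1
  exact ⟨⟨hM, x, hgen, hsq, b, hb.1, φ, h1, h2, h3⟩, hb⟩

end DefectOne

namespace OneBlock

variable {G : Type u} [Group G] [Fintype G] {p : ℕ} [hp : Fact p.Prime] {M : Ideal AlgInt}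
  [M.IsPrime] (O : OneBlock G p M)

local notation "Cx" => Subgroup.centralizer (Singleton.singleton (OneBlock.x O) : Set G)

theorem relIndex_mul : Subgroup.relIndex Cx O.T * Subgroup.relIndex O.T O.N =
    Subgroup.relIndex Cx O.N :=
  Subgroup.relIndex_mul_relIndex _ _ _ O.cen_le_T O.T_le

theorem natCard_mul_index : Nat.card O.expSubgroup * O.expSubgroup.index = p - 1 := by
  rw [Subgroup.card_mul_index, Nat.card_eq_fintype_card, ZMod.card_units]

theorem sum_indicator (w : (ZMod p)ˣ) (c : ℤ) (f : (ZMod p)ˣ → ℤ)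
    [DecidablePred fun v => w⁻¹ * v ∈ O.expSubgroup]
    (hf : ∀ v, f v = if w⁻¹ * v ∈ O.expSubgroup then c else 0) :
    ∑ v, f v = (Nat.card O.expSubgroup : ℤ) * c := by
  classical
  simp only [hf]
  rw [← Finset.sum_filter, Finset.sum_const, nsmul_eq_mul]
  congr 2
  rw [Nat.card_eq_fintype_card, ← Finset.card_univ]
  exact Finset.card_bij' (fun j hj => (⟨w⁻¹ * j, (Finset.mem_filter.1 hj).2⟩ : O.expSubgroup))
    (fun u _ => w * (u : (ZMod p)ˣ)) (fun _ _ => Finset.mem_univ _)
    (fun u _ => Finset.mem_filter.2 ⟨Finset.mem_univ _, by rw [inv_mul_cancel_left]; exact u.2⟩)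
    (fun j _ => mul_inv_cancel_left w j) (fun u _ => Subtype.ext (inv_mul_cancel_left w u))

end OneBlock

end CfsgLib.Block
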