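import Cfsg.Agent.Lib.Block.DefectOneParam

/-!
The blocks of the centralizer inducing a given block of defect one, and the singular values of
its characters.
-/

set_option autoImplicit false
set_option linter.unusedSectionVars false

namespace CfsgLib.Block

open Cfsg
open scoped ComplexConjugate

universe u

namespace OneBlock

variable {G : Type u} [Group G] [Fintype G] {p : ℕ} [hp : Fact p.Prime] {M : Ideal AlgInt}
  [M.IsPrime] (O : OneBlock G p M)

local notation "Cx" => Subgroup.centralizer (Singleton.singleton (OneBlock.x O) : Set G)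
local notation "ψ" => (ZMod.stdAddChar (N := p))

/-- The stabilizer of the block in the normalizer. -/
def T : Subgroup G where
  carrier := {n | ∃ hn : n ∈ O.N, O.twist n hn (O.φ 0) = O.φ 0}
  mul_mem' := by
    rintro a b ⟨ha, ha'⟩ ⟨hb, hb'⟩
    refine ⟨mul_mem ha hb, ?_⟩
    rw [← O.twist_twist a b ha hb, ha', hb']
  one_mem' := ⟨one_mem _, O.twist_one _⟩
  inv_mem' := by
    rintro a ⟨ha, ha'⟩
    refine ⟨inv_mem ha, ?_⟩
    conv_lhs => rw [← ha', O.twist_twist a a⁻¹ ha (inv_mem ha)]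
    refine Subtype.ext (funext fun c => congrArg (O.φ 0 : Cx → ℂ) (Subtype.ext ?_))
    simp

theorem T_le : O.T ≤ O.N := fun _ h => h.1

theorem cen_le_T : Cx ≤ O.T := fun c hc => ⟨O.cen_le_N hc, Subtype.ext (funext fun w => by
  rw [twist_apply, show normConjEquiv Cx c (O.N_le (O.cen_le_N hc)) w =
    (⟨c, hc⟩ : Cx) * w * (⟨c, hc⟩ : Cx)⁻¹ from Subtype.ext (by simp)]
  exact CfsgLib.Char.irr_isClassFunction (O.φ 0).2 _ _)⟩

theorem image_eq_iff_mem {n : G} (hn : n ∈ O.N) : O.twist n hn '' O.b = O.b ↔ n ∈ O.T := by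
  rw [O.image_eq_iff hn]
  exact ⟨fun h => ⟨hn, h⟩, fun ⟨_, h⟩ => h⟩

/-- The exponents of the action of the stabilizer. -/
def expSubgroup : Subgroup (ZMod p)ˣ where
  carrier := {v | ∃ n ∈ O.T, n * O.x * n⁻¹ = O.x ^ (v : ZMod p).val}
  mul_mem' := by
    rintro v w ⟨a, ha, hav⟩ ⟨b, hb, hbw⟩
    refine ⟨a * b, mul_mem ha hb, ?_⟩
    rw [Units.val_mul, ← DefectOne.pow_val_mul O.hxo, ← hav, conj_pow, ← hbw]
    group
  one_mem' := ⟨1, one_mem _, by rw [Units.val_one, ZMod.val_one, pow_one]; group⟩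
  inv_mem' := by
    rintro v ⟨a, ha, hav⟩
    refine ⟨a⁻¹, inv_mem ha, ?_⟩
    have h : (a * O.x * a⁻¹) ^ ((v⁻¹ : (ZMod p)ˣ) : ZMod p).val = O.x := by
      rw [hav, DefectOne.pow_val_mul O.hxo, ← Units.val_mul, mul_inv_cancel, Units.val_one,
        ZMod.val_one, pow_one]
    rw [conj_pow] at h
    conv_lhs => rw [← h]
    group

theorem natCard_expSubgroup : Nat.card O.expSubgroup = Subgroup.relIndex Cx O.T := by
  classical
  have key : ∀ t : O.T, ∃ v : (ZMod p)ˣ, (t : G) * O.x * (t : G)⁻¹ = O.x ^ (v : ZMod p).val :=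
    fun t => by
      obtain ⟨c, hc0, hc⟩ := O.exists_conj (O.T_le t.2)
      exact ⟨Units.mk0 c hc0, hc⟩
  choose f hf using key
  have huniq : ∀ {v w : (ZMod p)ˣ}, O.x ^ (v : ZMod p).val = O.x ^ (w : ZMod p).val → v = w :=
    fun h => Units.ext (DefectOne.pow_val_inj O.hxo h)
  let ε : O.T →* O.expSubgroup :=
    { toFun := fun t => ⟨f t, t, t.2, hf t⟩
      map_one' := Subtype.ext (huniq (by
        rw [← hf 1, Subgroup.coe_one, Subgroup.coe_one, Units.val_one, ZMod.val_one, pow_one]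
        group))
      map_mul' := fun s t => Subtype.ext (huniq (by
        rw [← hf (s * t), Subgroup.coe_mul, Subgroup.coe_mul, Units.val_mul,
          ← DefectOne.pow_val_mul O.hxo, ← hf s, conj_pow, ← hf t]
        group)) }
  have hsurj : Function.Surjective ε := by
    rintro ⟨v, n, hn, hnv⟩
    exact ⟨⟨n, hn⟩, Subtype.ext (huniq ((hf ⟨n, hn⟩).symm.trans hnv))⟩
  have hker : ε.ker = (Cx).subgroupOf O.T := by
    ext t
    rw [MonoidHom.mem_ker, Subgroup.mem_subgroupOf, Subgroup.mem_centralizer_singleton_iff]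
    constructor
    · intro h
      have h1 := hf t
      rw [show f t = 1 from congrArg Subtype.val h, Units.val_one, ZMod.val_one, pow_one,
        mul_inv_eq_iff_eq_mul] at h1
      exact h1
    · intro h
      refine Subtype.ext (huniq ?_)
      rw [Subgroup.coe_one, Units.val_one, ZMod.val_one, pow_one]
      exact (hf t).symm.trans (by rw [h, mul_inv_cancel_right])
  rw [← Nat.card_congr (QuotientGroup.quotientKerEquivOfSurjective ε hsurj).toEquiv, hker]
  rfl

variable {B : Set (IrrCharacter G)} (hind : IsInducedBlock M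
  (Subgroup.centralizer ({O.x} : Set G)) O.b B)
include hind

theorem isDefectGroup_zpowers : IsDefectGroup p M B (Subgroup.zpowers O.x) := by
  have hB := hind.2.1
  obtain ⟨D, hD⟩ := exists_isDefectGroup O.hM hB
  obtain ⟨g, hg⟩ := (exists_inducing_iff O.hM (DefectOne.isPGroup_zpowers O.hxo)
    DefectOne.zpowers_le_cen (DefectOne.centralizer_zpowers (x := O.x)).le
    (DefectOne.centralizer_zpowers (x := O.x) ▸ Subgroup.centralizer_le_normalizer _) hB hD).1
      ⟨O.b, hind⟩
  have h := defectGroup_conj O.hM hB hD g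
  rwa [DefectOne.eq_zpowers_of_isPGroup O.hxo O.hsq (isPGroup_defectGroup O.hM hB h)
    (hg (Subgroup.mem_zpowers _))] at h

theorem blockDefect_ne_zero : blockDefect p B ≠ 0 := fun h0 => by
  have h := natCard_defectGroup O.hM hind.2.1 (O.isDefectGroup_zpowers hind)
  rw [Nat.card_zpowers, O.hxo, h0, pow_zero] at h
  exact hp.out.ne_one h

theorem exists_twist_of_inducing {b' : Set (IrrCharacter (Subgroup.centralizer ({O.x} : Set G)))}
    (hb' : IsInducedBlock M (Subgroup.centralizer ({O.x} : Set G)) b' B) :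
    ∃ (n : G) (hn : n ∈ O.N), O.twist n hn '' O.b = b' := by
  obtain ⟨n, hn, hmem⟩ := extFirstMain_conj O.hM hind.2.1 (O.isDefectGroup_zpowers hind)
    DefectOne.zpowers_le_cen (DefectOne.centralizer_zpowers (x := O.x)).le O.cen_le_N O.N_le
    hind hb'
  have hn' : n ∈ O.N := hn
  refine ⟨n, hn', ?_⟩
  exact isPBlock_eq_of_mem (isInducedBlock_pullIrr hind n (O.N_le hn')).1 hb'.1
    ⟨O.φ 0, O.phi_mem 0, rfl⟩ (hmem _ (O.phi_mem 0))

open Classical in
/-- The singular values of the characters of the induced block. -/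
theorem exists_values :
    ∃ (κ : Type u) (_ : Fintype κ) (c : κ → ZMod p) (Θ : κ → IrrCharacter Cx),
      Nat.card κ = Subgroup.relIndex O.T O.N ∧ (∀ q, c q ≠ 0) ∧
      (∀ q, ∃ (n : G) (hn : n ∈ O.N),
        Θ q = O.twist n hn (O.φ 0) ∧ n * O.x * n⁻¹ = O.x ^ (c q).val) ∧
      ∀ χ ∈ B, ∀ (i : ZMod p), i ≠ 0 → ∀ y : Cx, ¬ p ∣ orderOf y →
        (χ : G → ℂ) (O.x ^ i.val * (y : G)) = ∑ q, O.ah χ (c q * i) * (Θ q : Cx → ℂ) y := by
  set S := (allBlocks M Cx).filter
    (fun b' => IsInducedBlock M (Subgroup.centralizer ({O.x} : Set G)) b' B) with hS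
  have key : ∀ q : S, ∃ (n : G) (hn : n ∈ O.N) (c : ZMod p), c ≠ 0 ∧
      n * O.x * n⁻¹ = O.x ^ c.val ∧ O.twist n hn '' O.b = (q : Set (IrrCharacter Cx)) := by
    intro q
    obtain ⟨n, hn, h⟩ := O.exists_twist_of_inducing hind (Finset.mem_filter.1 q.2).2
    obtain ⟨c, hc0, hc⟩ := O.exists_conj hn
    exact ⟨n, hn, c, hc0, hc, h⟩
  choose n hn c hc0 hc hq using key
  refine ⟨S, inferInstance, c, fun q => O.twist (n q) (hn q) (O.φ 0), ?_, hc0,
    fun q => ⟨n q, hn q, rfl, hc q⟩, fun χ hχ i hi y hy => ?_⟩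
  · -- the orbit
    have himg : ∀ (m : G) (hm : m ∈ O.N), O.twist m hm '' O.b ∈ S := fun m hm =>
      Finset.mem_filter.2 ⟨mem_allBlocks.2 (isInducedBlock_pullIrr hind m (O.N_le hm)).1,
        isInducedBlock_pullIrr hind m (O.N_le hm)⟩
    let f : O.N ⧸ O.T.subgroupOf O.N → S := fun r =>
      ⟨O.twist ((r.out : O.N) : G)⁻¹ (inv_mem r.out.2) '' O.b, himg _ _⟩
    have hcomp : ∀ (a b : G) (ha : a ∈ O.N) (hb : b ∈ O.N),
        O.twist b hb '' (O.twist a ha '' O.b) = O.twist (a * b) (mul_mem ha hb) '' O.b := by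
      intro a b ha hb
      rw [Set.image_image]
      exact Set.image_congr fun θ _ => O.twist_twist a b ha hb θ
    have hinv : ∀ (a b : G) (ha : a ∈ O.N) (hb : b ∈ O.N),
        O.twist a ha '' O.b = O.twist b hb '' O.b ↔ b * a⁻¹ ∈ O.T := by
      intro a b ha hb
      rw [← O.image_eq_iff_mem (mul_mem hb (inv_mem ha)), ← hcomp b a⁻¹ hb (inv_mem ha)]
      constructor
      · intro h
        rw [← h, hcomp a a⁻¹ ha (inv_mem ha)]
        conv_rhs => rw [← Set.image_id O.b]
        refine Set.image_congr fun θ _ => ?_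
        exact Subtype.ext (funext fun w => congrArg (θ : Cx → ℂ) (Subtype.ext (by simp)))
      · intro h
        conv_lhs => rw [← h]
        rw [hcomp b a⁻¹ hb (inv_mem ha), hcomp _ a (mul_mem hb (inv_mem ha)) ha]
        refine Set.image_congr fun θ _ => ?_
        exact Subtype.ext (funext fun w => congrArg (θ : Cx → ℂ) (Subtype.ext (by simp)))
    rw [Subgroup.relIndex, Subgroup.index]
    refine (Nat.card_eq_of_bijective f ⟨fun r r' h => ?_, fun q => ?_⟩).symm
    · have h' := (hinv _ _ _ _).1 (congrArg Subtype.val h)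
      rw [inv_inv] at h'
      rw [← QuotientGroup.out_eq' r, ← QuotientGroup.out_eq' r', QuotientGroup.eq]
      have h2 := inv_mem h'
      rw [mul_inv_rev, inv_inv] at h2
      exact Subgroup.mem_subgroupOf.2 h2
    · refine ⟨((⟨n q, hn q⟩ : O.N)⁻¹ : O.N), Subtype.ext ?_⟩
      change O.twist _ _ '' O.b = (q : Set (IrrCharacter Cx))
      rw [← hq q, hinv]
      obtain ⟨t, ht⟩ := QuotientGroup.mk_out_eq_mul (O.T.subgroupOf O.N)
        ((⟨n q, hn q⟩ : O.N)⁻¹)
      rw [ht]
      simpa [mul_assoc] using Subgroup.mem_subgroupOf.1 t.2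
  · have hsum := sum_inducing_of_eq O.hM (DefectOne.isPElt_pow_val O.hxo i) (O.centralizer_pow hi)
      hind.2.1 χ hy
    rw [if_pos hχ] at hsum
    rw [← hsum]
    refine (Finset.sum_coe_sort S _).symm.trans ?_
    refine Fintype.sum_congr _ _ fun q => ?_
    have hσ : ¬ p ∣ orderOf (normConjEquiv Cx (n q) (O.N_le (hn q)) y) := by
      rw [show orderOf (normConjEquiv Cx (n q) (O.N_le (hn q)) y) = orderOf y from
        orderOf_injective (normConjEquiv Cx (n q) (O.N_le (hn q))).toMonoidHom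
          (normConjEquiv Cx (n q) (O.N_le (hn q))).injective y]
      exact hy
    rw [twist_apply, O.phi_regular 0 hσ]
    rw [← O.blockPart_translate χ (c q * i) hσ, ← blockPart_pullIrr, ← hq q]
    refine congrArg (fun f => blockPart (O.twist (n q) (hn q) '' O.b) f y) (funext fun d => ?_)
    rw [← DefectOne.pow_val_mul O.hxo, ← hc q, conj_pow, coe_normConjEquiv,
      show n q * O.x ^ i.val * (n q)⁻¹ * (n q * (d : G) * (n q)⁻¹) =
        n q * (O.x ^ i.val * (d : G)) * (n q)⁻¹ by group,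
      CfsgLib.Char.irr_isClassFunction χ.2]

/-- No character of the block vanishes at the sections. -/
theorem exists_ah_ne_zero {χ : IrrCharacter G} (hχ : χ ∈ B) : ∃ i : ZMod p, i ≠ 0 ∧ O.ah χ i ≠ 0 := by
  classical
  by_contra hall
  push Not at hall
  apply O.blockDefect_ne_zero hind
  refine blockDefect_eq_zero_of_vanish O.hM hind.2.1 hχ fun g hg => ?_
  obtain ⟨κ, hκ, c, Θ, -, hc0, -, hval⟩ := O.exists_values hind
  have hPc : Nat.card (Subgroup.zpowers O.x) = p ^ (Nat.card G).factorization p := by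
    rw [Nat.card_zpowers, O.hxo]
    have h1 : p ∣ Nat.card G := O.hxo ▸ orderOf_dvd_natCard O.x
    have h2 := (hp.out.dvd_iff_one_le_factorization Nat.card_pos.ne').1 h1
    have h3 : ¬ 2 ≤ (Nat.card G).factorization p := fun h =>
      O.hsq ((hp.out.pow_dvd_iff_le_factorization Nat.card_pos.ne').2 h)
    rw [show (Nat.card G).factorization p = 1 by omega, pow_one]
  let P : Sylow p G := Sylow.ofCard (Subgroup.zpowers O.x) hPc
  obtain ⟨Q, hQ⟩ := (IsPGroup.of_card (n := 1)
    (show Nat.card (Subgroup.zpowers g) = p ^ 1 by rw [Nat.card_zpowers, hg, pow_one])).exists_le_sylow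
  obtain ⟨a, ha⟩ := MulAction.exists_smul_eq G Q P
  have hmem : a * g * a⁻¹ ∈ Subgroup.zpowers O.x := by
    have : a * g * a⁻¹ ∈ (P : Subgroup G) := by
      rw [← ha]
      exact Subgroup.mem_map_of_mem _ (hQ (Subgroup.mem_zpowers g))
    exact this
  obtain ⟨j, hj⟩ := mem_powers_iff_mem_zpowers.2 hmem
  have hj0 : (j : ZMod p) ≠ 0 := by
    intro h
    have h1 : a * g * a⁻¹ = 1 := by
      rw [← show O.x ^ j = a * g * a⁻¹ from hj, ← DefectOne.pow_val_natCast O.hxo, h, ZMod.val_zero,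
        pow_zero]
    have : g = 1 := by simpa using h1
    rw [this, orderOf_one] at hg
    exact hp.out.ne_one hg.symm
  rw [← CfsgLib.Char.irr_isClassFunction χ.2 g a, ← show O.x ^ j = a * g * a⁻¹ from hj,
    ← DefectOne.pow_val_natCast O.hxo]
  have h1 := hval χ hχ (j : ZMod p) hj0 1 (by rw [orderOf_one]; exact hp.out.not_dvd_one)
  rw [Subgroup.coe_one, mul_one] at h1
  rw [h1]
  exact Finset.sum_eq_zero fun q _ => by rw [hall _ (mul_ne_zero (hc0 q) hj0), zero_mul]

end OneBlock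

end CfsgLib.Block
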