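import Cfsg.Agent.Lib.Block.Transport
import Cfsg.Agent.Lib.Block.FirstMain

/-!
The extended First Main Theorem: blocks of `L = P C(P)` inducing a block with defect group `P`.
-/

set_option autoImplicit false
set_option linter.unusedSectionVars false

namespace CfsgLib.Block

open Cfsg MonoidAlgebra
open scoped ComplexConjugate

universe u

variable {G : Type u} [Group G] [Finite G] {p : ℕ} {M : Ideal AlgInt} [M.IsPrime]

/-- Conjugation by an element of the normalizer. -/
def normConjEquiv (L : Subgroup G) (n : G) (hn : n ∈ Subgroup.normalizer (L : Set G)) : L ≃* L where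
  toFun x := ⟨n * x * n⁻¹, (Subgroup.mem_normalizer_iff.1 hn x).1 x.2⟩
  invFun x := ⟨n⁻¹ * x * n, (Subgroup.mem_normalizer_iff''.1 hn x).1 x.2⟩
  left_inv x := Subtype.ext (by simp [mul_assoc])
  right_inv x := Subtype.ext (by simp [mul_assoc])
  map_mul' a b := Subtype.ext (by simp [mul_assoc])

@[simp]
theorem coe_normConjEquiv (L : Subgroup G) (n : G) (hn : n ∈ Subgroup.normalizer (L : Set G))
    (x : L) : (normConjEquiv L n hn x : G) = n * x * n⁻¹ := rfl

theorem normalizer_le_normalizer_centralizer (P : Subgroup G) :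
    Subgroup.normalizer (P : Set G) ≤
      Subgroup.normalizer ((P ⊔ Subgroup.centralizer (P : Set G) : Subgroup G) : Set G) := by
  intro n hn
  have hgen : ∀ a ∈ Subgroup.normalizer (P : Set G),
      (P ⊔ Subgroup.centralizer (P : Set G)).map (MulAut.conj a).toMonoidHom ≤
        P ⊔ Subgroup.centralizer (P : Set G) := by
    intro a ha
    rw [Subgroup.map_sup]
    refine sup_le_sup ?_ ?_
    · rintro _ ⟨v, hv, rfl⟩
      exact (Subgroup.mem_normalizer_iff.1 ha v).1 hv
    · rintro _ ⟨v, hv, rfl⟩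
      rw [Subgroup.mem_centralizer_iff]
      intro w hw
      have h := Subgroup.mem_centralizer_iff.1 hv (a⁻¹ * w * a)
        ((Subgroup.mem_normalizer_iff''.1 ha w).1 hw)
      change w * (a * v * a⁻¹) = a * v * a⁻¹ * w
      calc w * (a * v * a⁻¹) = a * (a⁻¹ * w * a * v) * a⁻¹ := by group
        _ = _ := by rw [h]; group
  rw [Subgroup.mem_normalizer_iff]
  intro x
  refine ⟨fun hx => hgen n hn (Subgroup.mem_map_of_mem _ hx), fun hx => ?_⟩
  have h := hgen n⁻¹ ((Subgroup.normalizer (P : Set G)).inv_mem hn)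
    (Subgroup.mem_map_of_mem (MulAut.conj n⁻¹).toMonoidHom hx)
  simpa [mul_assoc] using h

/-- A normaliser-invariant function on `L` supported on elements of defect exactly `P` is the
Brauer image of a central element. -/
theorem exists_brHom_preimage_of_invariant [Fact p.Prime] [CharP (kres M) p] {P L : Subgroup G}
    (hP : IsPGroup p P) (hCL : Subgroup.centralizer (P : Set G) ≤ L)
    (hLN : L ≤ Subgroup.normalizer (P : Set G))
    (w : Subalgebra.center (kres M) (MonoidAlgebra (kres M) L))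
    (hinv : ∀ n ∈ Subgroup.normalizer (P : Set G), ∀ x y : L, (y : G) = n * x * n⁻¹ →
      (w : MonoidAlgebra (kres M) L).coeff y = (w : MonoidAlgebra (kres M) L).coeff x)
    (hsupp : ∀ c : L, (w : MonoidAlgebra (kres M) L).coeff c ≠ 0 →
      (c : G) ∈ Subgroup.centralizer (P : Set G) ∧
        ∃ S : Sylow p (Subgroup.centralizer ({(c : G)} : Set G)),
          cenSub (c : G) (S : Subgroup (Subgroup.centralizer ({(c : G)} : Set G))) = P) :
    ∃ a : Subalgebra.center (kres M) (MonoidAlgebra (kres M) G), brHom hP hCL hLN a = w := by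
  classical
  set f := fun c : L => (w : MonoidAlgebra (kres M) L).coeff c with hf
  let F : G → kres M := fun g =>
    if h : ∃ c : L, f c ≠ 0 ∧ IsConj (c : G) g then f h.choose else 0
  have huniq : ∀ c y : L, f c ≠ 0 → (y : G) ∈ Subgroup.centralizer (P : Set G) →
      IsConj (c : G) (y : G) → f y = f c := by
    intro c y hc hy hcy
    obtain ⟨n, hn, hnc⟩ := exists_normalizer_conj (hsupp c hc).2 hy hcy
    exact hinv n hn c y hnc.symm
  have hF : ∀ (g : G) (c : L), f c ≠ 0 → IsConj (c : G) g → F g = f c := by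
    intro g c hc hcg
    have hex : ∃ c : L, f c ≠ 0 ∧ IsConj (c : G) g := ⟨c, hc, hcg⟩
    simp only [F, dif_pos hex]
    exact huniq c _ hc (hsupp _ hex.choose_spec.1).1 (hcg.trans hex.choose_spec.2.symm)
  have hcl : IsClassCoeff (mkGA F) := by
    intro g h
    rw [coeff_mkGA, coeff_mkGA]
    by_cases hex : ∃ c : L, f c ≠ 0 ∧ IsConj (c : G) g
    · obtain ⟨c, hc, hcg⟩ := hex
      rw [hF g c hc hcg, hF _ c hc (hcg.trans (isConj_iff.2 ⟨h, rfl⟩))]
    · have hex' : ¬ ∃ c : L, f c ≠ 0 ∧ IsConj (c : G) (h * g * h⁻¹) := fun ⟨c, hc, hcg⟩ =>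
        hex ⟨c, hc, hcg.trans (isConj_iff.2 ⟨h, rfl⟩ : IsConj g (h * g * h⁻¹)).symm⟩
      simp only [F, dif_neg hex, dif_neg hex']
  refine ⟨⟨mkGA F, isClassCoeff_iff_mem_center.1 hcl⟩, Subtype.ext ?_⟩
  ext y
  rw [coe_brHom]
  by_cases hy : (y : G) ∈ Subgroup.centralizer (P : Set G)
  · rw [coeff_brRes_of_mem _ hy]
    change (mkGA F).coeff (y : G) = f y
    rw [coeff_mkGA]
    by_cases hex : ∃ c : L, f c ≠ 0 ∧ IsConj (c : G) (y : G)
    · obtain ⟨c, hc, hcy⟩ := hex
      rw [hF _ c hc hcy, huniq c y hc hy hcy]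
    · simp only [F, dif_neg hex]
      by_contra hne
      exact hex ⟨y, Ne.symm hne, IsConj.refl _⟩
  · rw [coeff_brRes_of_not_mem _ hy]
    by_contra hne
    exact hy (hsupp y (Ne.symm hne)).1

/-- A block of `L = P C(P)` with defect group `P` induces every block with defect group `P`. -/
theorem extFirstMain_exists (hM : IsPModular p M) {B : Set (IrrCharacter G)} (hB : IsPBlock M B)
    {P : Subgroup G} (hP : IsDefectGroup p M B P) {L : Subgroup G} (hPL : P ≤ L)
    (hCL : Subgroup.centralizer (P : Set G) ≤ L) (hLN : L ≤ Subgroup.normalizer (P : Set G)) :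
    ∃ b : Set (IrrCharacter L), IsDefectGroup p M b (P.subgroupOf L) ∧
      IsInducedBlock M L b B := by
  have := Fact.mk hM.1
  have hPp : IsPGroup p P := isPGroup_defectGroup hM hB hP
  obtain ⟨b, hb⟩ := (exists_inducing_iff hM hPp hPL hCL hLN hB hP).2
    ⟨1, le_of_eq (map_conj_one P).symm⟩
  refine ⟨b, ?_, hb⟩
  obtain ⟨Db, hDb⟩ := exists_isDefectGroup hM hb.1
  have : (P.subgroupOf L).Normal := subgroupOf_normal_of_le_normalizer hPL hLN
  have h1 : P.subgroupOf L ≤ Db :=
    normal_le_defectGroup hM (Q := P.subgroupOf L) (hPp.comap_subtype (K := L)) hb.1 hDb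
  obtain ⟨E, hE, hle⟩ := exists_map_subtype_le_defect hM hb hDb
  obtain ⟨z, rfl⟩ := defectGroup_exists_conj hM hB hP hE
  suffices P.subgroupOf L = Db by rw [this]; exact hDb
  refine Subgroup.eq_of_le_of_card_ge h1 ?_
  rw [← Subgroup.card_map_of_injective (K := P.subgroupOf L) (Subgroup.subtype_injective _),
    Subgroup.subgroupOf_map_subtype, inf_eq_left.2 hPL, ← natCard_map_conj P z,
    ← Subgroup.card_map_of_injective (K := Db) (Subgroup.subtype_injective _)]
  exact Subgroup.card_le_of_le hle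

/-- Blocks of `L` inducing the same block with defect group `P` are conjugate under `N(P)`. -/
theorem extFirstMain_conj (hM : IsPModular p M) {B : Set (IrrCharacter G)} (hB : IsPBlock M B)
    {P : Subgroup G} (hP : IsDefectGroup p M B P) {L : Subgroup G} (hPL : P ≤ L)
    (hCL : Subgroup.centralizer (P : Set G) ≤ L) (hLN : L ≤ Subgroup.normalizer (P : Set G))
    (hNL : Subgroup.normalizer (P : Set G) ≤ Subgroup.normalizer (L : Set G))
    {b b' : Set (IrrCharacter L)} (hb : IsInducedBlock M L b B)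
    (hb' : IsInducedBlock M L b' B) :
    ∃ (n : G) (hn : n ∈ Subgroup.normalizer (P : Set G)), ∀ θ ∈ b,
      pullIrr (normConjEquiv L n (hNL hn)) θ ∈ b' := by
  classical
  have := Fact.mk hM.1
  have := charP_kres hM
  have := Fintype.ofFinite L
  have hPp : IsPGroup p P := isPGroup_defectGroup hM hB hP
  have hCN := Subgroup.centralizer_le_normalizer (P : Set G)
  set N := Subgroup.normalizer (P : Set G) with hN
  obtain ⟨ξ, hξ⟩ := isPBlock_nonempty hb.1
  obtain ⟨ξ', hξ'⟩ := isPBlock_nonempty hb'.1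
  obtain ⟨χ, hχ⟩ := isPBlock_nonempty hB
  -- the central element with Brauer image the idempotent of the block of the normalizer
  obtain ⟨bN, hbN, hbND, hind⟩ := firstMain_exists hM hB hP
  obtain ⟨a, haD, hae⟩ := exists_brHom_preimage hM hPp hbN hbND
  obtain ⟨η, hη⟩ := isPBlock_nonempty hbN
  have hBa : lam M χ a = 1 := by
    rw [← (isInducedBlock_iff _ hbN hB hη hχ).1 hind,
      lam_resZ_eq_brHom hM hPp Subgroup.le_normalizer hCN le_rfl, hae,
      (algHom_blkIdem_eq_one_iff hM hbN η).2 hη]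
  have hf : ∀ z : Subalgebra.center (kres M) (MonoidAlgebra (kres M) G),
      lam M ξ (brHom hPp hCL hLN z) = lam M χ z := fun z => by
    rw [← lam_resZ_eq_brHom hM hPp hPL hCL hLN, (isInducedBlock_iff _ hb.1 hB hξ hχ).1 hb]
  have hf' : ∀ z : Subalgebra.center (kres M) (MonoidAlgebra (kres M) G),
      lam M ξ' (brHom hPp hCL hLN z) = lam M χ z := fun z => by
    rw [← lam_resZ_eq_brHom hM hPp hPL hCL hLN, (isInducedBlock_iff _ hb'.1 hB hξ' hχ).1 hb']
  -- the conjugates of `b`
  let σ : ∀ n : G, n ∈ N → (L ≃* L) := fun n hn => normConjEquiv L n (hNL hn)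
  have hσ1 : ∀ θ : IrrCharacter L, pullIrr (σ 1 N.one_mem) θ = θ := fun θ =>
    Subtype.ext (funext fun x => congrArg (θ : L → ℂ) (Subtype.ext (by simp [σ])))
  have hσmul : ∀ (θ : IrrCharacter L) (n m : G) (hn : n ∈ N) (hm : m ∈ N),
      pullIrr (σ m hm) (pullIrr (σ n hn) θ) = pullIrr (σ (n * m) (N.mul_mem hn hm)) θ :=
    fun θ n m hn hm => Subtype.ext (funext fun x =>
      congrArg (θ : L → ℂ) (Subtype.ext (by simp [σ, mul_assoc])))
  set O : Set (IrrCharacter L) := {θ | ∃ (n : G) (hn : n ∈ N), pullIrr (σ n hn) θ ∈ b} with hO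
  have hOinv : ∀ (n : G) (hn : n ∈ N), pullIrr (σ n hn) '' O = O := by
    intro n hn
    ext θ
    constructor
    · rintro ⟨φ, ⟨m, hm, hmb⟩, rfl⟩
      refine ⟨n⁻¹ * m, N.mul_mem (N.inv_mem hn) hm, ?_⟩
      rw [hσmul φ n (n⁻¹ * m) hn (N.mul_mem (N.inv_mem hn) hm)]
      simpa [mul_inv_cancel_left] using hmb
    · rintro ⟨m, hm, hmb⟩
      refine ⟨pullIrr (σ n⁻¹ (N.inv_mem hn)) θ, ⟨n * m, N.mul_mem hn hm, ?_⟩, ?_⟩
      · rw [hσmul θ n⁻¹ (n * m) (N.inv_mem hn) (N.mul_mem hn hm)]
        simpa [inv_mul_cancel_left] using hmb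
      · rw [hσmul θ n⁻¹ n (N.inv_mem hn) hn]
        simp [hσ1]
  have hOblocks : ∀ θ ∈ O, ∀ φ : IrrCharacter L, SameBlock M (θ : L → ℂ) (φ : L → ℂ) → φ ∈ O := by
    rintro θ ⟨n, hn, hnb⟩ φ h
    exact ⟨n, hn, mem_of_sameBlock hb.1 hnb ((sameBlock_pullIrr_iff _ θ φ).2 h)⟩
  have hOint := memLocalRing_blockCoeff_of_union hM hOblocks
  have hOloc : IsLocalCentral M (blockSum O) :=
    ⟨blockSum_isClassCoeff O, fun x => by rw [blockSum, coeff_mkGA]; exact hOint x⟩
  set eO : Subalgebra.center (kres M) (MonoidAlgebra (kres M) L) := blkIdem M O with heO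
  have hlamO : ∀ θ : IrrCharacter L, lam M θ eO = if θ ∈ O then 1 else 0 := by
    intro θ
    rw [lam_apply θ hOloc eO rfl, omegaC_blockSum]
    split <;> simp [redC_one, redC_zero]
  have hξO : ξ ∈ O := ⟨1, N.one_mem, by rw [hσ1]; exact hξ⟩
  have hOc : ∀ n ∈ N, ∀ x y : L, (y : G) = n * x * n⁻¹ →
      (eO : MonoidAlgebra (kres M) L).coeff y = (eO : MonoidAlgebra (kres M) L).coeff x := by
    intro n hn x y hxy
    rw [heO, coeff_blkIdem, coeff_blkIdem]
    conv_rhs => rw [← hOinv n hn, blockCoeff_pullIrr]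
    exact congrArg _ (congrArg _ (Subtype.ext (by simpa [σ] using hxy)))
  -- the separating element
  set r := brHom hPp hCL hLN a with hr
  set w := eO * r with hw
  have hrc : ∀ y : L, (r : MonoidAlgebra (kres M) L).coeff y =
      if (y : G) ∈ Subgroup.centralizer (P : Set G) then
        (a : MonoidAlgebra (kres M) G).coeff (y : G) else 0 := by
    intro y
    rw [hr, coe_brHom]
    split_ifs with h
    · exact coeff_brRes_of_mem _ h
    · exact coeff_brRes_of_not_mem _ h
  have hPn : (P.subgroupOf L).Normal := subgroupOf_normal_of_le_normalizer hPL hLN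
  have hPL' : IsPGroup p (P.subgroupOf L) := hPp.comap_subtype
  have hCmem : ∀ x : L, x ∈ Subgroup.centralizer ((P.subgroupOf L : Subgroup L) : Set L) →
      (x : G) ∈ Subgroup.centralizer (P : Set G) := by
    intro x hx
    rw [Subgroup.mem_centralizer_iff] at hx ⊢
    intro v hv
    exact congrArg Subtype.val (hx ⟨v, hPL hv⟩ hv)
  have hOsupp : ∀ x : L, (eO : MonoidAlgebra (kres M) L).coeff x ≠ 0 →
      (x : G) ∈ Subgroup.centralizer (P : Set G) := by
    intro x hx
    by_contra hxC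
    apply hx
    have hsum : blockSum O = ∑ B' ∈ (allBlocks M L).filter (fun B' => B' ⊆ O), blockSum B' := by
      refine eq_of_omegaC_eq (blockSum_isClassCoeff O) ?_ fun θ => ?_
      · intro y k
        simp only [coeff_sum, Finset.sum_apply']
        exact Finset.sum_congr rfl fun B' _ => blockSum_isClassCoeff B' y k
      rw [omegaC_blockSum, omegaC_sum]
      by_cases hθ : θ ∈ O
      · rw [if_pos hθ, Finset.sum_eq_single (blockOf M (θ : L → ℂ))]
        · rw [omegaC_blockSum, if_pos (mem_blockOf_self θ)]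
        · intro C hC hne
          rw [Finset.mem_filter, mem_allBlocks] at hC
          rw [omegaC_blockSum, if_neg]
          exact fun h => hne (isPBlock_eq_blockOf hC.1 h)
        · intro hn'
          exact absurd (Finset.mem_filter.2 ⟨mem_allBlocks.2 (isPBlock_blockOf θ),
            fun φ hφ => hOblocks θ hθ φ hφ⟩) hn'
      · rw [if_neg hθ]
        refine (Finset.sum_eq_zero fun C hC => ?_).symm
        rw [omegaC_blockSum, if_neg]
        exact fun h => hθ ((Finset.mem_filter.1 hC).2 h)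
    have h1 := congrArg (fun v => v.coeff x) hsum
    simp only [blockSum, coeff_mkGA, coeff_sum, Finset.sum_apply'] at h1
    rw [heO, coeff_blkIdem, h1, redC_sum _ _ fun B' hB' =>
      blockCoeff_memLocalRing hM (mem_allBlocks.1 (Finset.mem_filter.1 hB').1) x]
    refine Finset.sum_eq_zero fun B' hB' => ?_
    by_contra hne
    exact hxC (hCmem x (mem_centralizer_of_coeff_blkIdem_ne_zero hM hPL'
      (mem_allBlocks.1 (Finset.mem_filter.1 hB').1) (x := x) (by rwa [coeff_blkIdem])))
  have hwc : ∀ c : L, (w : MonoidAlgebra (kres M) L).coeff c =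
      ∑ x : L, (eO : MonoidAlgebra (kres M) L).coeff x *
        (r : MonoidAlgebra (kres M) L).coeff (x⁻¹ * c) := fun c => coeff_mul_eq _ _ c
  have hconjC : ∀ n ∈ N, ∀ v : G, n * v * n⁻¹ ∈ Subgroup.centralizer (P : Set G) ↔
      v ∈ Subgroup.centralizer (P : Set G) := by
    have hone : ∀ n ∈ N, ∀ v : G, v ∈ Subgroup.centralizer (P : Set G) →
        n * v * n⁻¹ ∈ Subgroup.centralizer (P : Set G) := by
      intro n hn v hv
      rw [Subgroup.mem_centralizer_iff] at hv ⊢
      intro u hu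
      have h := hv (n⁻¹ * u * n) ((Subgroup.mem_normalizer_iff''.1 hn u).1 hu)
      calc u * (n * v * n⁻¹) = n * (n⁻¹ * u * n * v) * n⁻¹ := by group
        _ = _ := by rw [h]; group
    intro n hn v
    refine ⟨fun h => ?_, hone n hn v⟩
    simpa [mul_assoc] using hone n⁻¹ (N.inv_mem hn) _ h
  have hrinv : ∀ n ∈ N, ∀ x y : L, (y : G) = n * x * n⁻¹ →
      (r : MonoidAlgebra (kres M) L).coeff y = (r : MonoidAlgebra (kres M) L).coeff x := by
    intro n hn x y hxy
    rw [hrc, hrc, hxy, isClassCoeff_center a]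
    exact if_congr (hconjC n hn _) rfl rfl
  have hwinv : ∀ n ∈ N, ∀ x y : L, (y : G) = n * x * n⁻¹ →
      (w : MonoidAlgebra (kres M) L).coeff y = (w : MonoidAlgebra (kres M) L).coeff x := by
    intro n hn x y hxy
    rw [hwc, hwc]
    refine (Fintype.sum_equiv (σ n hn).toEquiv _ _ fun v => ?_).symm
    simp only [MulEquiv.toEquiv_eq_coe, MulEquiv.coe_toEquiv]
    rw [hOc n hn v (σ n hn v) rfl, hrinv n hn (v⁻¹ * x) ((σ n hn v)⁻¹ * y) ?_]
    simp [σ, hxy, mul_assoc]
  have hwsupp : ∀ c : L, (w : MonoidAlgebra (kres M) L).coeff c ≠ 0 →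
      (c : G) ∈ Subgroup.centralizer (P : Set G) ∧
        ∃ S : Sylow p (Subgroup.centralizer ({(c : G)} : Set G)),
          cenSub (c : G) (S : Subgroup (Subgroup.centralizer ({(c : G)} : Set G))) = P := by
    intro c hc
    rw [hwc] at hc
    have hcC : (c : G) ∈ Subgroup.centralizer (P : Set G) := by
      obtain ⟨x, -, hx⟩ := Finset.exists_ne_zero_of_sum_ne_zero hc
      have h1 := hOsupp x (left_ne_zero_of_mul hx)
      have h2 := right_ne_zero_of_mul hx
      rw [hrc] at h2
      have h3 := (ite_ne_right_iff.1 h2).1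
      simpa using (Subgroup.centralizer (P : Set G)).mul_mem h1 h3
    refine ⟨hcC, exists_sylow_cenSub_eq_of_local hPp hcC fun R hR hPR hRle => ?_⟩
    refine le_antisymm ?_ hPR
    have hRN : ∀ u : R, (u : G) ∈ N := fun u => (hRle u.2).2
    let _ : MulAction R L :=
      { smul := fun u x => σ (u : G) (hRN u) x
        one_smul := fun x => by
          change σ ((1 : R) : G) (hRN 1) x = x
          exact Subtype.ext (by simp [σ])
        mul_smul := fun u v x => by
          change σ ((u * v : R) : G) (hRN (u * v)) x = σ (u : G) (hRN u) (σ (v : G) (hRN v) x)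
          exact Subtype.ext (by simp [σ, mul_assoc]) }
    have hcR : ∀ u : R, (u : G) * c = c * u := fun u =>
      Subgroup.mem_centralizer_singleton_iff.1 (hRle u.2).1
    rw [sum_eq_sum_fixed hR (p := p) (fun v => by simp [nsmul_eq_mul]) _ (fun u x => by
      change (eO : MonoidAlgebra (kres M) L).coeff (σ (u : G) (hRN u) x) *
        (r : MonoidAlgebra (kres M) L).coeff ((σ (u : G) (hRN u) x)⁻¹ * c) = _
      rw [hOc _ (hRN u) x _ rfl, hrinv _ (hRN u) (x⁻¹ * c)]
      have h : (c : G) = u * c * (u : G)⁻¹ := by rw [hcR u, mul_inv_cancel_right]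
      simp only [Subgroup.coe_mul, Subgroup.coe_inv, σ, coe_normConjEquiv]
      conv_lhs => rw [h]
      group)] at hc
    obtain ⟨x, hxf, hx⟩ := Finset.exists_ne_zero_of_sum_ne_zero hc
    have h2 := right_ne_zero_of_mul hx
    rw [hrc] at h2
    obtain ⟨y, hy⟩ := haD _ (ite_ne_right_iff.1 h2).2 R hR fun u hu => by
      rw [Subgroup.mem_centralizer_singleton_iff]
      have h1 : u * (x : G) * u⁻¹ = x :=
        congrArg Subtype.val ((Finset.mem_filter.1 hxf).2 ⟨u, hu⟩)
      rw [mul_inv_eq_iff_eq_mul] at h1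
      have h1' : u * (x : G)⁻¹ = (x : G)⁻¹ * u := Commute.inv_right h1
      simp only [Subgroup.coe_mul, Subgroup.coe_inv]
      rw [← mul_assoc, h1', mul_assoc, hcR ⟨u, hu⟩, mul_assoc]
    exact (Subgroup.eq_of_le_of_card_ge hPR
      ((Subgroup.card_le_of_le hy).trans_eq (natCard_map_conj P y))).ge
  obtain ⟨a', ha'⟩ := exists_brHom_preimage_of_invariant hPp hCL hLN w hwinv hwsupp
  have h1 : lam M ξ w = 1 := by
    rw [hw, map_mul, hlamO, if_pos hξO, hr, hf, hBa, mul_one]
  have h2 : lam M ξ' w = 1 := by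
    rw [← ha', hf', ← hf, ha', h1]
  rw [hw, map_mul, hlamO, hr, hf', hBa, mul_one] at h2
  obtain ⟨m, hm, hmb⟩ : ξ' ∈ O := by
    by_contra h
    rw [if_neg h] at h2
    exact zero_ne_one h2
  refine ⟨m⁻¹, N.inv_mem hm, fun θ hθ => mem_of_sameBlock hb'.1 hξ' ?_⟩
  have h3 : pullIrr (σ m⁻¹ (N.inv_mem hm)) (pullIrr (σ m hm) ξ') = ξ' := by
    rw [hσmul ξ' m m⁻¹ hm (N.inv_mem hm)]; simp [hσ1]
  rw [← h3]
  exact (sameBlock_pullIrr_iff _ _ θ).2 (sameBlock_of_mem hb.1 hmb hθ)

end CfsgLib.Block
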