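import Cfsg.Agent.Lib.Block.Covering

/-!
Transport of irreducible characters, blocks and block idempotents along a group isomorphism.
-/

set_option autoImplicit false
set_option linter.unusedSectionVars false

namespace CfsgLib.Block

open Cfsg MonoidAlgebra
open scoped ComplexConjugate

universe u

variable {H K : Type u} [Group H] [Group K] [Finite H] [Finite K]

/-- Pull back of an irreducible character along an isomorphism. -/
noncomputable def pullIrr (σ : H ≃* K) (θ : IrrCharacter K) : IrrCharacter H :=
  ⟨(θ : K → ℂ) ∘ σ,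
    CfsgLib.Char.isIrrCharacter_comp_surjective θ.2 σ.toMonoidHom σ.surjective⟩

@[simp]
theorem pullIrr_apply (σ : H ≃* K) (θ : IrrCharacter K) (x : H) :
    (pullIrr σ θ : H → ℂ) x = (θ : K → ℂ) (σ x) := rfl

theorem pullIrr_symm (σ : H ≃* K) (θ : IrrCharacter K) : pullIrr σ.symm (pullIrr σ θ) = θ :=
  Subtype.ext (funext fun x => by simp)

theorem pullIrr_trans {L : Type u} [Group L] [Finite L] (σ : H ≃* K) (τ : K ≃* L)
    (θ : IrrCharacter L) : pullIrr σ (pullIrr τ θ) = pullIrr (σ.trans τ) θ := rfl

theorem pullIrr_injective (σ : H ≃* K) : Function.Injective (pullIrr σ) := fun θ φ h => by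
  rw [← pullIrr_symm σ θ, h, pullIrr_symm]

theorem index_centralizer_map (σ : H ≃* K) (x : H) :
    (Subgroup.centralizer ({σ x} : Set K)).index =
      (Subgroup.centralizer ({x} : Set H)).index := by
  rw [← Subgroup.index_map_equiv (Subgroup.centralizer ({x} : Set H)) σ]
  congr 1
  ext y
  simp only [Subgroup.mem_map, MonoidHom.coe_coe, Subgroup.mem_centralizer_singleton_iff]
  constructor
  · exact fun hy => ⟨σ.symm y, σ.injective (by simpa using hy), σ.apply_symm_apply y⟩
  · rintro ⟨c, hc, rfl⟩
    simpa using congrArg σ hc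

theorem centralChar_pullIrr (σ : H ≃* K) (θ : IrrCharacter K) (x : H) :
    centralChar (pullIrr σ θ : H → ℂ) x = centralChar (θ : K → ℂ) (σ x) := by
  rw [centralChar, centralChar, index_centralizer_map, pullIrr_apply, pullIrr_apply, map_one]

variable {M : Ideal AlgInt}

theorem sameBlock_pullIrr_iff (σ : H ≃* K) (θ φ : IrrCharacter K) :
    SameBlock M (pullIrr σ θ : H → ℂ) (pullIrr σ φ : H → ℂ) ↔
      SameBlock M (θ : K → ℂ) (φ : K → ℂ) := by
  refine ⟨fun h x => ?_, fun h x => ?_⟩
  · have h1 := h (σ.symm x)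
    rwa [centralChar_pullIrr, centralChar_pullIrr, σ.apply_symm_apply] at h1
  · rw [centralChar_pullIrr, centralChar_pullIrr]
    exact h _

theorem blockCoeff_pullIrr (σ : H ≃* K) (B : Set (IrrCharacter K)) (x : H) :
    blockCoeff (pullIrr σ '' B) x = blockCoeff B (σ x) := by
  unfold blockCoeff
  rw [finsum_mem_image (pullIrr_injective σ).injOn, Nat.card_congr σ.toEquiv]
  refine congrArg _ (finsum_congr fun χ => finsum_congr fun _ => ?_)
  rw [pullIrr_apply, pullIrr_apply, map_one]

end CfsgLib.Block
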