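import Cfsg.Agent.Lib.Block.OrderPWeights
import Cfsg.Agent.Lib.Block.StableBlockTrace
import Cfsg.Agent.Lib.Block.TraceRank
import Cfsg.Agent.Lib.Block.BrauerInd
import Cfsg.Agent.Lib.Block.ExtFirstMain
import Cfsg.Agent.Lib.Block.Transport

/-!
A block of `G` induced from a block of the centralizer of an element of order `p` exactly dividing
the group order has rank at least the index of the centralizer in the stabilizer.
-/

set_option autoImplicit false
set_option linter.unusedSectionVars false

namespace CfsgLib.Block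

open Cfsg MonoidAlgebra

universe u v

section General

variable {G : Type u} [Group G] [Finite G] {k : Type v} [Field k]

theorem inclSub_resSub {H : Subgroup G} {a : MonoidAlgebra k G} (ha : SuppIn H a) :
    inclSub H (resSub H a) = a := by
  ext g
  by_cases hg : g ∈ H
  · rw [show g = ((⟨g, hg⟩ : H) : G) from rfl, coeff_inclSub_of_mem, coeff_resSub]
  · rw [coeff_inclSub_of_not_mem _ _ hg, ha g hg]

theorem suppIn_inclSub (H : Subgroup G) (a : MonoidAlgebra k H) : SuppIn H (inclSub H a) :=
  fun _ hg => coeff_inclSub_of_not_mem _ _ hg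

theorem inclSub_injective (H : Subgroup G) :
    Function.Injective (inclSub (k := k) H) :=
  Function.LeftInverse.injective (resSub_inclSub H)

theorem inclSub_smul (H : Subgroup G) (c : k) (a : MonoidAlgebra k H) :
    inclSub H (c • a) = c • inclSub H a := by
  ext g
  by_cases hg : g ∈ H
  · rw [show g = ((⟨g, hg⟩ : H) : G) from rfl, coeff_inclSub_of_mem]
    simp only [coeff_smul, Finsupp.smul_apply]
    exact congrArg (c • ·) (coeff_inclSub_of_mem H a ⟨g, hg⟩).symm
  · simp [coeff_inclSub_of_not_mem _ _ hg]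

theorem inclSub_of (H : Subgroup G) (h : H) : inclSub H (of k H h) = of k G (h : G) := by
  simp [inclSub, MonoidAlgebra.mapDomainRingHom]

theorem commute_of_suppIn {H : Subgroup G} {a : MonoidAlgebra k G} (ha : SuppIn H a) {g : G}
    (hg : ∀ h ∈ H, Commute g h) : of k G g * a = a * of k G g := by
  classical
  have := Fintype.ofFinite G
  rw [eq_sum_of_suppIn ha, Finset.mul_sum, Finset.sum_mul]
  exact Finset.sum_congr rfl fun h hh => by
    rw [mul_smul_comm, smul_mul_assoc, ← map_mul, ← map_mul, (hg h (Finset.mem_filter.1 hh).2).eq]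

/-- A group algebra of order prime to the characteristic has no nilpotent central elements. -/
theorem eq_zero_of_isNilpotent_central (hG : (Nat.card G : k) ≠ 0) {n : MonoidAlgebra k G}
    (hc : ∀ a, n * a = a * n) (hn : IsNilpotent n) : n = 0 := by
  obtain ⟨i, hiI, hic, hid⟩ := exists_central_unit_of_ideal hG
    (LinearMap.range (LinearMap.mulLeft k n))
    (fun g a ha => by
      obtain ⟨w, rfl⟩ := ha
      exact ⟨of k G g * w, by simp only [LinearMap.mulLeft_apply, ← mul_assoc, hc]⟩)
    (fun g a ha => by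
      obtain ⟨w, rfl⟩ := ha
      exact ⟨w * of k G g, by simp only [LinearMap.mulLeft_apply, mul_assoc]⟩)
  obtain ⟨w, hw⟩ := hiI
  have hii : i * i = i := hid i ⟨w, hw⟩
  obtain ⟨m, hm⟩ : IsNilpotent i := by
    rw [← hw, LinearMap.mulLeft_apply]
    exact Commute.isNilpotent_mul_right (hc w) hn
  have hi0 : i = 0 := by
    rw [← IsIdempotentElem.pow_succ_eq m hii, pow_succ, hm, zero_mul]
  have h := hid n ⟨1, mul_one n⟩
  rw [hi0, mul_zero] at h
  exact h.symm

end General

namespace DefectOne

variable {G : Type u} [Group G] [Finite G] {p : ℕ} [hp : Fact p.Prime] {x : G}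

local notation "Cx" => Subgroup.centralizer (Singleton.singleton x : Set G)

theorem normalizer_le (x : G) :
    Subgroup.normalizer ((Subgroup.zpowers x : Subgroup G) : Set G) ≤
      Subgroup.normalizer ((Subgroup.centralizer ({x} : Set G) : Subgroup G) : Set G) := by
  have h := normalizer_le_normalizer_centralizer (Subgroup.zpowers x)
  rw [centralizer_zpowers, sup_eq_right.2 zpowers_le_cen] at h
  exact h

variable {M : Ideal AlgInt} [M.IsPrime]

/-- The rank of the induced block is at least the index of the centralizer in the stabilizer. -/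
theorem relIndex_le_blockRank (hM : IsPModular p M) (hxo : orderOf x = p)
    (hsq : ¬ p ^ 2 ∣ Nat.card G) {b : Set (IrrCharacter (Subgroup.centralizer ({x} : Set G)))}
    {B : Set (IrrCharacter G)} (hind : IsInducedBlock M (Subgroup.centralizer ({x} : Set G)) b B)
    {T : Subgroup G} (hCT : Cx ≤ T)
    (hTN : T ≤ Subgroup.normalizer ((Subgroup.zpowers x : Subgroup G) : Set G))
    (hstab : ∀ (n : G) (hn : n ∈ Subgroup.normalizer ((Subgroup.zpowers x : Subgroup G) : Set G)),
      pullIrr (normConjEquiv Cx n (normalizer_le x hn)) '' b = b ↔ n ∈ T) :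
    Subgroup.relIndex Cx T ≤ blockRank p B := by
  classical
  have := charP_kres hM
  have := isAlgClosed_kres (M := M)
  have := Fintype.ofFinite G
  set N := Subgroup.normalizer ((Subgroup.zpowers x : Subgroup G) : Set G)
  have hb : IsPBlock M b := hind.1
  have hB : IsPBlock M B := hind.2.1
  obtain ⟨O, hOC, hOmem, -⟩ := exists_regular_subgroup hxo hsq
  set eb : Subalgebra.center (kres M) (MonoidAlgebra (kres M) Cx) := blkIdem M b with heb
  set e : MonoidAlgebra (kres M) G := inclSub Cx (eb : MonoidAlgebra (kres M) Cx) with he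
  have heC : SuppIn Cx e := suppIn_inclSub _ _
  have heO : SuppIn O e := by
    intro g hg
    by_cases hgC : g ∈ Cx
    · rw [he, show g = ((⟨g, hgC⟩ : Cx) : G) from rfl, coeff_inclSub_of_mem]
      refine blkIdem_coeff_eq_zero_of_singular hM hb ?_
      by_contra h
      exact hg ((hOmem g hgC).2 (by rwa [Subgroup.orderOf_mk] at h))
    · exact heC g hgC
  have hebb : eb * eb = eb := blkIdem_idem hM hb
  have hee : e * e = e := by rw [he, ← map_mul, ← Subalgebra.coe_mul, hebb]
  have hOcard : (Nat.card O : kres M) ≠ 0 := by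
    intro h
    rw [CharP.cast_eq_zero_iff (kres M) p] at h
    obtain ⟨y, hy⟩ := exists_prime_orderOf_dvd_card' (G := O) p h
    exact (hOmem (y : G) (hOC y.2)).1 y.2 (by rw [Subgroup.orderOf_coe, hy])
  -- conjugation of the idempotent
  have hconj : ∀ (n : G) (hn : n ∈ N),
      of (kres M) G n⁻¹ * e * of (kres M) G n =
        inclSub Cx (blkIdem M (pullIrr (normConjEquiv Cx n (normalizer_le x hn)) '' b) :
          MonoidAlgebra (kres M) Cx) := by
    intro n hn
    ext g
    rw [of_apply, of_apply, coeff_mul_single_apply, coeff_single_mul_apply, inv_inv, mul_one,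
      one_mul]
    by_cases hg : g ∈ Cx
    · have h1 : n * g * n⁻¹ ∈ Cx := (Subgroup.mem_normalizer_iff.1 (normalizer_le x hn) g).1 hg
      rw [← mul_assoc, show g = ((⟨g, hg⟩ : Cx) : G) from rfl, coeff_inclSub_of_mem, he,
        show n * ((⟨g, hg⟩ : Cx) : G) * n⁻¹ = ((⟨n * g * n⁻¹, h1⟩ : Cx) : G) from rfl,
        coeff_inclSub_of_mem, heb, coeff_blkIdem, coeff_blkIdem, blockCoeff_pullIrr]
      rfl
    · rw [coeff_inclSub_of_not_mem _ _ hg]
      refine heC _ fun h => hg ?_
      rw [← mul_assoc] at h
      exact (Subgroup.mem_normalizer_iff.1 (normalizer_le x hn) g).2 h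
  have heT : ∀ t ∈ T, of (kres M) G t * e = e * of (kres M) G t := by
    intro t ht
    have h := hconj t (hTN ht)
    rw [(hstab t (hTN ht)).2 ht, ← heb, ← he] at h
    calc of (kres M) G t * e = of (kres M) G t * (of (kres M) G t⁻¹ * e * of (kres M) G t) := by
          rw [h]
      _ = _ := by
          rw [← mul_assoc, ← mul_assoc, ← map_mul, mul_inv_cancel, map_one, one_mul]
  have hoff : ∀ g ∈ N, g ∉ T → of (kres M) G g * e * of (kres M) G g⁻¹ * e = 0 := by
    intro g hg hgT
    have hg' : g⁻¹ ∈ N := inv_mem hg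
    set b' := pullIrr (normConjEquiv Cx g⁻¹ (normalizer_le x hg')) '' b
    have hb' : IsPBlock M b' := by
      obtain ⟨θ, rfl⟩ := hb
      refine ⟨pullIrr (normConjEquiv Cx g⁻¹ (normalizer_le x hg')) θ, ?_⟩
      ext φ
      constructor
      · rintro ⟨φ₀, hφ₀, rfl⟩
        exact (sameBlock_pullIrr_iff _ _ _).2 hφ₀
      · intro hφ
        have e' : pullIrr (normConjEquiv Cx g⁻¹ (normalizer_le x hg'))
            (pullIrr (normConjEquiv Cx g⁻¹ (normalizer_le x hg')).symm φ) = φ :=
          Subtype.ext (funext fun y => by simp)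
        exact ⟨pullIrr (normConjEquiv Cx g⁻¹ (normalizer_le x hg')).symm φ,
          (sameBlock_pullIrr_iff (normConjEquiv Cx g⁻¹ (normalizer_le x hg')) _ _).1
            (by rw [e']; exact hφ), e'⟩
    have hne : b' ≠ b := fun h => hgT (inv_mem_iff.1 ((hstab g⁻¹ hg').1 h))
    have h1 := hconj g⁻¹ hg'
    rw [inv_inv] at h1
    rw [h1, he, ← map_mul, ← Subalgebra.coe_mul, heb, blkIdem_mul_ne hM hb' hb hne,
      Subalgebra.coe_zero, map_zero]
  -- the matrix units
  set e₀ : MonoidAlgebra (kres M) O := resSub O e with he₀def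
  have hie₀ : inclSub O e₀ = e := inclSub_resSub heO
  have he₀c : ∀ a, e₀ * a = a * e₀ := fun a => inclSub_injective O (by
    rw [map_mul, map_mul, hie₀]
    classical
    rw [eq_sum_of_suppIn (suppIn_inclSub O a), Finset.mul_sum, Finset.sum_mul]
    exact Finset.sum_congr rfl fun t ht => by
      rw [mul_smul_comm, smul_mul_assoc, heT t (hCT (hOC (Finset.mem_filter.1 ht).2))])
  have he₀0 : e₀ ≠ 0 := by
    intro h
    obtain ⟨θ, hθ⟩ := isPBlock_nonempty hb
    have h1 := (algHom_blkIdem_eq_one_iff hM hb θ).2 hθ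
    rw [← heb, show eb = 0 from Subtype.ext (inclSub_injective Cx (by
      rw [← he, ← hie₀, h, map_zero, Subalgebra.coe_zero, map_zero])), map_zero] at h1
    exact zero_ne_one h1
  have hcen : ∀ z : MonoidAlgebra (kres M) O, (∀ a, z * a = a * z) → e₀ * z = z →
      ∃ c : kres M, z = c • e₀ := by
    intro z hz hez
    set zG := inclSub O z with hzG
    have hzC : SuppIn Cx zG := suppIn_mono hOC (suppIn_inclSub O z)
    have hcomm : ∀ c ∈ Cx, of (kres M) G c * zG = zG * of (kres M) G c := by
      intro c hc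
      obtain ⟨i, y, hy, hyr, rfl⟩ := exists_decomp hxo hsq hc
      have h1 : of (kres M) G (x ^ i.val) * zG = zG * of (kres M) G (x ^ i.val) :=
        commute_of_suppIn (suppIn_inclSub O z) fun h hh =>
          (Commute.pow_left (Subgroup.mem_centralizer_singleton_iff.1 (hOC hh)).symm _)
      have h2 : of (kres M) G y * zG = zG * of (kres M) G y := by
        rw [show y = ((⟨y, (hOmem y hy).2 hyr⟩ : O) : G) from rfl, ← inclSub_of, hzG, ← map_mul,
          ← map_mul, hz]
      rw [map_mul, mul_assoc, h2, ← mul_assoc, h1, mul_assoc]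
    have hzc : resSub Cx zG ∈ Subalgebra.center (kres M) (MonoidAlgebra (kres M) Cx) := by
      rw [Subalgebra.mem_center_iff]
      intro a
      refine inclSub_injective Cx ?_
      rw [map_mul, map_mul, inclSub_resSub hzC]
      induction a using MonoidAlgebra.induction_on with
      | of c => rw [inclSub_of, hcomm _ c.2]
      | add a a' ha ha' => rw [map_add, add_mul, mul_add, ha, ha']
      | smul r a ha => rw [inclSub_smul, smul_mul_assoc, mul_smul_comm, ha]
    obtain ⟨θ, hθ⟩ := isPBlock_nonempty hb
    set zC : Subalgebra.center (kres M) (MonoidAlgebra (kres M) Cx) := ⟨_, hzc⟩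
    obtain ⟨m, hm⟩ := isNilpotent_sub_lam_mul_blkIdem hM hb hθ zC
    refine ⟨lam M θ zC, sub_eq_zero.1 (eq_zero_of_isNilpotent_central hOcard (fun a => ?_) ⟨m, ?_⟩)⟩
    · rw [sub_mul, mul_sub, hz, smul_mul_assoc, mul_smul_comm, he₀c]
    · refine inclSub_injective O ?_
      rw [map_pow, map_zero, map_sub, inclSub_smul, hie₀]
      have h1 := congrArg (fun w : Subalgebra.center (kres M) (MonoidAlgebra (kres M) Cx) =>
        inclSub Cx (w : MonoidAlgebra (kres M) Cx)) hm
      simp only [SubmonoidClass.coe_pow, map_pow, Subalgebra.coe_mul, Subalgebra.coe_sub,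
        Subalgebra.coe_zero, map_zero, map_mul, map_sub, Subalgebra.coe_algebraMap,
        Algebra.algebraMap_eq_smul_one, SetLike.val_smul, Subalgebra.coe_one, inclSub_smul,
        map_one] at h1
      rw [show inclSub Cx (zC : MonoidAlgebra (kres M) Cx) = zG from inclSub_resSub hzC, ← heb,
        ← he, sub_mul, smul_mul_assoc, one_mul,
        show zG * e = zG by rw [← hie₀, hzG, ← map_mul, ← he₀c, hez]] at h1
      exact h1
  obtain ⟨n, E, hE1, hE2, hE3, hE4, hE5⟩ := exists_matrixUnits hOcard he₀0 (inclSub_injective O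
    (by rw [map_mul, hie₀, hee])) he₀c hcen
  let D : OrderPData G (kres M) p :=
    { x := x
      hxo := hxo
      hsq := hsq
      O := O
      hOC := hOC
      hOmem := hOmem
      T := T
      hCT := hCT
      hTN := hTN
      e := e
      heO := heO
      hee := hee
      heT := heT
      n := n
      E := fun i j => inclSub O (E i j)
      hEO := fun i j => suppIn_inclSub _ _
      heE := fun i j => by rw [← hie₀, ← map_mul, hE1]
      hEmul := fun i j l m => by
        rw [← map_mul, hE2]
        split <;> simp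
      hEsum := by rw [← map_sum, hE3, hie₀]
      hE0 := fun h => hE4 (inclSub_injective O (h.trans (map_zero _).symm))
      hspan := fun a ha => by
        obtain ⟨c, hc⟩ := hE5 (resSub O a)
        refine ⟨c, ?_⟩
        rw [← hie₀, ← inclSub_resSub ha, ← map_mul, hc]
        simp [map_sum, inclSub_smul]
      hoff := hoff }
  obtain ⟨S, η, hST, hη, horth, hmain⟩ := D.exists_weights
  set Z : Subgroup G := Subgroup.zpowers x
  set EB : MonoidAlgebra (kres M) G := (blkIdem M B : MonoidAlgebra (kres M) G) with hEB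
  have hZp : IsPGroup p Z := isPGroup_zpowers hxo
  have hZC : Z ≤ Cx := zpowers_le_cen
  have hCH : Subgroup.centralizer (Z : Set G) ≤ Cx := (centralizer_zpowers (x := x)).le
  have hHN : Cx ≤ N := centralizer_zpowers (x := x) ▸ Subgroup.centralizer_le_normalizer _
  -- the Brauer image
  set bz := brHom (k := kres M) hZp hCH hHN (blkIdem M B) with hbz
  have hbzb : bz * eb = eb := by
    obtain ⟨θ, hθ⟩ := isPBlock_nonempty hb
    obtain ⟨χ, hχ⟩ := isPBlock_nonempty hB
    have h1 := (isInducedBlock_iff Cx hb hB hθ hχ).1 hind (blkIdem M B)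
    rw [lam_resZ_eq_brHom hM hZp hZC hCH hHN, (algHom_blkIdem_eq_one_iff hM hB χ).2 hχ,
      ← hbz] at h1
    obtain ⟨m, hm⟩ := isNilpotent_sub_lam_mul_blkIdem hM hb hθ bz
    rw [h1, map_one, ← heb] at hm
    have hbzi : bz * bz = bz := by rw [hbz, ← map_mul, blkIdem_idem hM hB]
    set z : MonoidAlgebra (kres M) Cx := (bz : MonoidAlgebra (kres M) Cx) with hz
    set c : MonoidAlgebra (kres M) Cx := (eb : MonoidAlgebra (kres M) Cx) with hc
    have hzc : z * c = c * z := ((Subalgebra.mem_center_iff.1 eb.2) z)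
    have hcc : c * c = c := congrArg Subtype.val hebb
    have hzz : z * z = z := congrArg Subtype.val hbzi
    have hm' : IsNilpotent ((z - 1) * c) := ⟨m, by
      have h := congrArg Subtype.val hm
      simpa using h⟩
    have hidem : IsIdempotentElem (c - z * c) := by
      have ha1 : c * (z * c) = z * c := by rw [← mul_assoc, ← hzc, mul_assoc, hcc]
      have ha2 : z * c * c = z * c := by rw [mul_assoc, hcc]
      have ha3 : z * c * (z * c) = z * c := by
        rw [mul_assoc, ha1, ← mul_assoc, hzz]
      change (c - z * c) * (c - z * c) = c - z * c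
      rw [sub_mul, mul_sub, mul_sub, hcc, ha1, ha2, ha3, sub_self, sub_zero]
    have hnil : IsNilpotent (c - z * c) := by
      rw [show c - z * c = -((z - 1) * c) by rw [sub_mul, one_mul, neg_sub]]
      exact hm'.neg
    obtain ⟨m', hm''⟩ := hnil
    have h3 : c - z * c = 0 := by
      rw [← hidem.pow_succ_eq m', pow_succ, hm'', zero_mul]
    exact Subtype.ext (sub_eq_zero.1 h3).symm
  have hbr : projT Cx EB = inclSub Cx (bz : MonoidAlgebra (kres M) Cx) := by
    ext g
    rw [coeff_projT]
    split_ifs with hg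
    · rw [show g = ((⟨g, hg⟩ : Cx) : G) from rfl, coeff_inclSub_of_mem, hbz, coe_brHom,
        coeff_brRes_of_mem]
      exact (centralizer_zpowers (x := x)).ge hg
    · rw [coeff_inclSub_of_not_mem _ _ hg]
  -- the part off the centralizer
  have hrest : ∀ g, g ∈ T → g ∉ Cx → ∀ i : ℕ, EB.coeff ((x ^ i)⁻¹ * g) = EB.coeff g := by
    intro g hgT hg i
    obtain ⟨j, hj⟩ := mem_powers_iff_mem_zpowers.2
      ((Subgroup.mem_normalizer_iff.1 (hTN hgT) x).1 (Subgroup.mem_zpowers x))
    have hj1 : (j : ZMod p) ≠ 1 := by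
      intro h
      apply hg
      have h' : x ^ j = x := by rw [← pow_val_natCast hxo, h, ZMod.val_one, pow_one]
      rw [show x ^ j = g * x * g⁻¹ from hj, mul_inv_eq_iff_eq_mul] at h'
      exact Subgroup.mem_centralizer_singleton_iff.2 h'
    set l : ℕ := (-(i : ZMod p) * (1 - (j : ZMod p))⁻¹).val
    have hl : x ^ l * g * (x ^ l)⁻¹ = (x ^ i)⁻¹ * g := by
      have hgl : g * (x ^ l)⁻¹ = (x ^ (j * l))⁻¹ * g := by
        rw [pow_mul, show x ^ j = g * x * g⁻¹ from hj, conj_pow]
        group
      rw [mul_assoc, hgl, ← mul_assoc]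
      congr 1
      rw [mul_inv_eq_iff_eq_mul, eq_inv_mul_iff_mul_eq, ← pow_add, ← pow_val_natCast hxo (i + l),
        ← pow_val_natCast hxo (j * l)]
      congr 2
      simp only [l]
      push_cast [ZMod.natCast_zmod_val]
      field_simp [sub_ne_zero.2 (Ne.symm hj1)]
      ring
    rw [← hl]
    exact isClassCoeff_center (blkIdem M B) g (x ^ l)
  have hSx : ∀ g, (D.Sx * (projT T EB - projT Cx EB)).coeff g = 0 := by
    intro g
    rw [OrderPData.Sx, Finset.sum_mul, coeff_sum, Finsupp.finsetSum_apply]
    have hterm : ∀ i, (of (kres M) G x ^ i * (projT T EB - projT Cx EB)).coeff g =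
        if g ∈ T ∧ g ∉ Cx then EB.coeff g else 0 := by
      intro i
      rw [← map_pow, of_apply, coeff_single_mul_apply, one_mul, coeff_sub, Finsupp.sub_apply,
        coeff_projT, coeff_projT]
      have hxC : (x ^ i)⁻¹ ∈ Cx := inv_mem (pow_mem mem_cen_self i)
      simp only [Subgroup.mul_mem_cancel_left _ (hCT hxC), Subgroup.mul_mem_cancel_left _ hxC]
      by_cases hC : g ∈ Cx
      · simp [hC, hCT hC]
      · by_cases hT : g ∈ T
        · simp [hC, hT, hrest g hT hC i]
        · simp [hC, hT]
    rw [Finset.sum_congr rfl fun i _ => hterm i, Finset.sum_const, Finset.card_range, nsmul_eq_mul,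
      CharP.cast_eq_zero, zero_mul]
  have hZ : D.Sx * (projT T EB * D.e) = D.Sx * D.e := by
    have h0 : D.Sx * (projT T EB - projT Cx EB) = 0 := by
      ext g; simpa using hSx g
    have h1 : projT Cx EB * e = e := by rw [hbr, he, ← map_mul, ← Subalgebra.coe_mul, hbzb]
    calc D.Sx * (projT T EB * e) = D.Sx * (projT T EB - projT Cx EB) * e + D.Sx * (projT Cx EB * e) := by
          rw [← mul_assoc, ← mul_assoc, ← add_mul, ← mul_add, sub_add_cancel]
      _ = _ := by rw [h0, zero_mul, zero_add, h1]
  obtain ⟨τ, bb, hb1, hb0, hfix, hpel, hcommτ⟩ := S.exists_trace_functionals η hη horth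
    (E := EB) (fun a => ((Subalgebra.mem_center_iff.1 (blkIdem M B).2) a).symm)
    (by rw [hEB, ← Subalgebra.coe_mul, blkIdem_idem hM hB])
    (fun i => by
      rw [hST]
      exact hmain _ hZ i)
  have h := natCard_le_blockRank hM hB τ bb hb1 hb0 hfix hpel hcommτ
  rwa [Nat.card_fin] at h

end DefectOne

end CfsgLib.Block
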