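import Cfsg.Agent.Lib.Block.FirstMain
import Cfsg.Agent.Lib.Block.LamZero
import Cfsg.Agent.Lib.BlockB.PModular

/-!
Knörr: a character vanishing on the elements of order `p` has defect zero.
-/

set_option autoImplicit false
set_option linter.unusedSectionVars false

namespace CfsgLib.Block

open Cfsg MonoidAlgebra
open scoped ComplexConjugate

universe u

variable {G : Type u} [Group G] [Finite G] {p : ℕ} {M : Ideal AlgInt} [M.IsPrime]

/-- A character vanishing on the elements of order `p` lies in a block of defect zero. -/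
theorem blockDefect_eq_zero_of_vanish (hM : IsPModular p M) {B : Set (IrrCharacter G)}
    (hB : IsPBlock M B) {χ : IrrCharacter G} (hχ : χ ∈ B)
    (hvan : ∀ g : G, orderOf g = p → (χ : G → ℂ) g = 0) : blockDefect p B = 0 := by
  classical
  have := Fact.mk hM.1
  have := charP_kres hM
  have := Fintype.ofFinite G
  obtain ⟨D, hD⟩ := exists_isDefectGroup hM hB
  by_contra hd
  have hDp : IsPGroup p D := isPGroup_defectGroup hM hB hD
  have hDne : Nontrivial D := by
    rw [← Finite.one_lt_card_iff_nontrivial, natCard_defectGroup hM hB hD]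
    exact Nat.one_lt_pow hd hM.1.one_lt
  -- a central element of order `p` in `D`
  obtain ⟨v, hv⟩ : ∃ v : Subgroup.center D, orderOf v = p := by
    have := hDp.center_nontrivial
    obtain ⟨n, hn, hcard⟩ := (hDp.to_subgroup (Subgroup.center D)).nontrivial_iff_card.1 this
    exact exists_prime_orderOf_dvd_card' p (hcard ▸ dvd_pow_self p (by omega))
  set z : G := ((v : D) : G) with hzdef
  have hzo : orderOf z = p := by rw [hzdef, Subgroup.orderOf_coe, Subgroup.orderOf_coe, hv]
  have hzC : z ∈ Subgroup.centralizer (D : Set G) := by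
    rw [Subgroup.mem_centralizer_iff]
    intro u hu
    exact congrArg Subtype.val (Subgroup.mem_center_iff.1 v.2 ⟨u, hu⟩)
  -- the sum of the solutions of `x ^ p = 1`
  set X : MonoidAlgebra ℂ G := mkGA fun x => if x ^ p = 1 then 1 else 0 with hX
  have hconjX : ∀ g h : G, (h * g * h⁻¹) ^ p = 1 ↔ g ^ p = 1 := by
    intro g h
    rw [conj_pow, mul_inv_eq_one, mul_eq_left]
  have hXloc : IsLocalCentral M X := by
    refine ⟨fun g h => ?_, fun x => ?_⟩
    · simp only [hX, coeff_mkGA, hconjX]
    · rw [hX, coeff_mkGA]
      split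
      · exact (lring M).one_mem
      · exact (lring M).zero_mem
  set Z : Subalgebra.center (kres M) (MonoidAlgebra (kres M) G) :=
    ⟨redA M X, isClassCoeff_iff_mem_center.1 (redA_isClassCoeff hXloc.1)⟩
  have h1 : lam M χ Z = 1 := by
    rw [lam_apply χ hXloc Z rfl, omegaC_eq, Finset.sum_eq_single 1]
    · rw [hX, coeff_mkGA, if_pos (one_pow p), one_mul,
        div_self (CfsgLib.Char.irr_apply_one_ne_zero χ.2), redC_one]
    · intro x _ hx
      rw [hX, coeff_mkGA]
      split
      · next hxp => rw [hvan x (orderOf_eq_prime hxp hx), mul_zero]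
      · rw [zero_mul]
    · simp
  obtain ⟨b, hb, -, hind⟩ := firstMain_exists hM hB hD
  obtain ⟨ξ, hξ⟩ := isPBlock_nonempty hb
  have hCN := Subgroup.centralizer_le_normalizer (D : Set G)
  rw [← (isInducedBlock_iff _ hb hB hξ hχ).1 hind,
    lam_resZ_eq_brHom hM hDp Subgroup.le_normalizer hCN le_rfl] at h1
  set W := brHom hDp hCN le_rfl Z with hW
  -- its Brauer image squares to zero
  have hWc : ∀ c : Subgroup.normalizer (D : Set G),
      (W : MonoidAlgebra (kres M) (Subgroup.normalizer (D : Set G))).coeff c =
        if (c : G) ∈ Subgroup.centralizer (D : Set G) then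
          (if (c : G) ^ p = 1 then 1 else 0) else 0 := by
    intro c
    rw [hW, coe_brHom]
    split_ifs with h1' h2'
    · rw [coeff_brRes_of_mem _ h1']
      simp [Z, redA, hX, h2', redC_one]
    · rw [coeff_brRes_of_mem _ h1']
      simp [Z, redA, hX, h2', redC_zero]
    · rw [coeff_brRes_of_not_mem _ h1']
  let zN : Subgroup.normalizer (D : Set G) := ⟨z, hCN hzC⟩
  have hzNo : orderOf zN = p := by
    rw [← hzo]; exact (Subgroup.orderOf_coe zN).symm
  have hsq : W * W = 0 := by
    apply Subtype.ext
    ext c
    have := Fintype.ofFinite (Subgroup.normalizer (D : Set G))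
    rw [MulMemClass.coe_mul, coeff_mul_eq]
    have hZp : IsPGroup p (Subgroup.zpowers zN) :=
      IsPGroup.of_card (n := 1) (by rw [Nat.card_zpowers, hzNo, pow_one])
    set f := fun x : Subgroup.normalizer (D : Set G) =>
      (W : MonoidAlgebra (kres M) _).coeff x * (W : MonoidAlgebra (kres M) _).coeff (x⁻¹ * c)
    change ∑ x, f x = 0
    have hstep : ∀ (x : Subgroup.normalizer (D : Set G)), f (zN * x) = f x := by
      have hco : ∀ x : Subgroup.normalizer (D : Set G),
          (W : MonoidAlgebra (kres M) _).coeff (zN * x) =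
            (W : MonoidAlgebra (kres M) _).coeff x := by
        intro x
        rw [hWc, hWc]
        have hiff : ((zN * x : Subgroup.normalizer (D : Set G)) : G) ∈
            Subgroup.centralizer (D : Set G) ↔ (x : G) ∈ Subgroup.centralizer (D : Set G) :=
          Subgroup.mul_mem_cancel_left _ hzC
        by_cases hx : (x : G) ∈ Subgroup.centralizer (D : Set G)
        · rw [if_pos hx, if_pos (hiff.2 hx)]
          have hcm : Commute z (x : G) := Subgroup.mem_centralizer_iff.1 hx z (v : D).2
          have hzp : z ^ p = 1 := by rw [← hzo, pow_orderOf_eq_one]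
          rw [show ((zN * x : Subgroup.normalizer (D : Set G)) : G) = z * x from rfl,
            hcm.mul_pow, hzp, one_mul]
        · rw [if_neg hx, if_neg (fun h => hx (hiff.1 h))]
      intro x
      simp only [f]
      rw [hco]
      by_cases hx : (x : G) ∈ Subgroup.centralizer (D : Set G)
      · congr 1
        have hcm : Commute zN x :=
          Subtype.ext (Subgroup.mem_centralizer_iff.1 hx z (v : D).2)
        conv_rhs => rw [show x⁻¹ * c = zN * ((zN * x)⁻¹ * c) by
          rw [mul_inv_rev, ← (hcm.inv_inv).eq]; group, hco]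
      · rw [hWc x, if_neg hx, zero_mul, zero_mul]
    have hinv : ∀ (u : Subgroup.zpowers zN) (x : Subgroup.normalizer (D : Set G)),
        f (u • x) = f x := by
      rintro ⟨u, hu⟩ x
      obtain ⟨n, rfl⟩ := mem_powers_iff_mem_zpowers.2 hu
      change f (zN ^ n * x) = f x
      induction n with
      | zero => simp
      | succ n ih => rw [pow_succ', mul_assoc, hstep, ih (Subgroup.pow_mem _ (Subgroup.mem_zpowers _) n)]
    rw [sum_eq_sum_fixed hZp (p := p) (fun w => by simp [nsmul_eq_mul]) f hinv]
    refine Finset.sum_eq_zero fun x hx => ?_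
    exfalso
    have h2 : zN * x = x := (Finset.mem_filter.1 hx).2 ⟨zN, Subgroup.mem_zpowers zN⟩
    rw [mul_eq_right] at h2
    rw [h2, orderOf_one] at hzNo
    exact hM.1.one_lt.ne hzNo
  have h3 := congrArg (lam M ξ) hsq
  rw [map_mul, map_zero, h1, one_mul] at h3
  exact one_ne_zero h3

end CfsgLib.Block
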