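import Cfsg.Agent.Lib.Block.DefectOneBase
import Cfsg.Agent.Lib.Block.ExtFirstMain
import Cfsg.Agent.Lib.Block.DefectOneRank
import Cfsg.Agent.Lib.BlockA.SubsectionCount
import Cfsg.Agent.Lib.Block.Knorr
import Mathlib.Analysis.SpecialFunctions.Complex.CircleAddChar

/-!
The sections of the characters of `G` at a block of the centralizer of an element of order `p`
exactly dividing the group order.
-/

set_option autoImplicit false
set_option linter.unusedSectionVars false

namespace CfsgLib.Block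

open Cfsg
open scoped ComplexConjugate

universe u

section Transfer

variable {G : Type u} [Group G] [Fintype G] {p : ℕ} {M : Ideal AlgInt} [M.IsPrime]

theorem blockPart_eq_zero_of_eq (hM : IsPModular p M) {u : G} (hu : ∃ k : ℕ, orderOf u = p ^ k)
    {H : Subgroup G} (hH : H = Subgroup.centralizer ({u} : Set G)) {B : Set (IrrCharacter G)}
    (hB : IsPBlock M B) {χ : IrrCharacter G} (hχ : χ ∈ B) {b : Set (IrrCharacter H)}
    (hb : IsPBlock M b) (hnot : ¬ IsInducedBlock M H b B) {y : H} (hy : ¬ p ∣ orderOf y) :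
    blockPart b (fun c : H => (χ : G → ℂ) (u * (c : G))) y = 0 := by
  subst hH
  exact blockPart_centralizer_eq_zero hM hu hB hχ hb hnot hy

theorem column_section_of_eq (hM : IsPModular p M) {u : G} (hu : ∃ k : ℕ, orderOf u = p ^ k)
    {H : Subgroup G} (hH : H = Subgroup.centralizer ({u} : Set G))
    [Fintype (IrrCharacter G)] [Fintype (IrrCharacter H)] {y z : H}
    (hy : ¬ p ∣ orderOf y) (hz : ¬ p ∣ orderOf z) :
    ∑ χ : IrrCharacter G, (χ : G → ℂ) (u * (z : G)) * conj ((χ : G → ℂ) (u * (y : G))) =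
      ∑ φ : IrrCharacter H, (φ : H → ℂ) z * conj ((φ : H → ℂ) y) := by
  subst hH
  exact CfsgLib.BlockA.column_section hM hu hy hz

open Classical in
theorem sum_inducing_of_eq (hM : IsPModular p M) {u : G} (hu : ∃ k : ℕ, orderOf u = p ^ k)
    {H : Subgroup G} (hH : H = Subgroup.centralizer ({u} : Set G)) {B : Set (IrrCharacter G)}
    (hB : IsPBlock M B) (χ : IrrCharacter G) {y : H} (hy : ¬ p ∣ orderOf y) :
    ∑ b ∈ (allBlocks M H).filter (fun b => IsInducedBlock M H b B),
        blockPart b (fun c : H => (χ : G → ℂ) (u * (c : G))) y =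
      if χ ∈ B then (χ : G → ℂ) (u * (y : G)) else 0 := by
  subst hH
  exact CfsgLib.BlockA.sum_inducing_blockPart hM hu hB χ hy

theorem blockPart_pullIrr {H K : Type u} [Group H] [Group K] [Fintype H] [Fintype K] (σ : H ≃* K)
    (b : Set (IrrCharacter K)) (f : K → ℂ) (y : H) :
    blockPart (pullIrr σ '' b) (fun c => f (σ c)) y = blockPart b f (σ y) := by
  classical
  have hinner : ∀ φ : IrrCharacter K,
      classInner (fun c => f (σ c)) (pullIrr σ φ : H → ℂ) = classInner f (φ : K → ℂ) := by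
    intro φ
    rw [CfsgLib.Char.classInner_def, CfsgLib.Char.classInner_def, Nat.card_congr σ.toEquiv]
    congr 1
    exact Fintype.sum_equiv σ.toEquiv _ _ fun c => rfl
  simp only [blockPart]
  rw [finsum_mem_image (pullIrr_injective σ).injOn]
  refine finsum_congr fun φ => finsum_congr fun _ => ?_
  rw [pullIrr_apply]
  congr 1
  convert hinner φ

theorem isInducedBlock_pullIrr {H : Subgroup G} {b : Set (IrrCharacter H)}
    {B : Set (IrrCharacter G)} (h : IsInducedBlock M H b B) (n : G)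
    (hn : n ∈ Subgroup.normalizer (H : Set G)) :
    IsInducedBlock M H (pullIrr (normConjEquiv H n hn) '' b) B := by
  set σ := normConjEquiv H n hn with hσ
  refine ⟨?_, h.2.1, ?_⟩
  · obtain ⟨θ, rfl⟩ := h.1
    refine ⟨pullIrr σ θ, ?_⟩
    ext φ
    constructor
    · rintro ⟨φ₀, hφ₀, rfl⟩
      exact (sameBlock_pullIrr_iff _ _ _).2 hφ₀
    · intro hφ
      have e' : pullIrr σ (pullIrr σ.symm φ) = φ := Subtype.ext (funext fun y => by simp)
      exact ⟨pullIrr σ.symm φ, (sameBlock_pullIrr_iff σ _ _).1 (by rw [e']; exact hφ), e'⟩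
  · rintro _ ⟨ξ, hξ, rfl⟩ χ hχ g
    have hkey : inducedCentralChar H (pullIrr σ ξ : H → ℂ) g =
        inducedCentralChar H (ξ : H → ℂ) g := by
      simp only [inducedCentralChar, pullIrr_apply, map_one]
      refine finsum_mem_eq_of_bijOn σ ⟨?_, σ.injective.injOn, ?_⟩ fun h _ => rfl
      · intro h (hh : IsConj g (h : G))
        exact hh.trans (isConj_iff.2 ⟨n, rfl⟩)
      · intro h (hh : IsConj g (h : G))
        refine ⟨σ.symm h, ?_, σ.apply_symm_apply h⟩
        change IsConj g ((σ.symm h : H) : G)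
        exact hh.trans (isConj_iff.2 ⟨n⁻¹, by simp [σ, normConjEquiv]⟩)
    rw [hkey]
    exact h.2.2 ξ hξ χ hχ g

end Transfer

/-- A block of the centralizer of an element of order `p` exactly dividing the group order, with
its parametrization by the characters of `⟨x⟩`. -/
structure OneBlock (G : Type u) [Group G] [Finite G] (p : ℕ) [Fact p.Prime] (M : Ideal AlgInt)
    [M.IsPrime] where
  hM : IsPModular p M
  x : G
  hxo : orderOf x = p
  hsq : ¬ p ^ 2 ∣ Nat.card G
  b : Set (IrrCharacter (Subgroup.centralizer ({x} : Set G)))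
  hb : IsPBlock M b
  φ : ZMod p → IrrCharacter (Subgroup.centralizer ({x} : Set G))
  hinj : Function.Injective φ
  hrange : Set.range φ = b
  hval : ∀ (s i : ZMod p) (y : Subgroup.centralizer ({x} : Set G)), ¬ p ∣ orderOf y →
    (φ s : Subgroup.centralizer ({x} : Set G) → ℂ) (⟨x, DefectOne.mem_cen_self⟩ ^ i.val * y) =
      ZMod.stdAddChar (s * i) * (φ 0 : Subgroup.centralizer ({x} : Set G) → ℂ) y

namespace OneBlock

variable {G : Type u} [Group G] [Fintype G] {p : ℕ} [hp : Fact p.Prime] {M : Ideal AlgInt}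
  [M.IsPrime] (O : OneBlock G p M)

local notation "Cx" => Subgroup.centralizer (Singleton.singleton (OneBlock.x O) : Set G)
local notation "ψ" => (ZMod.stdAddChar (N := p))

theorem exists_oneBlock (hM : IsPModular p M) {x : G} (hxo : orderOf x = p)
    (hsq : ¬ p ^ 2 ∣ Nat.card G) {b : Set (IrrCharacter (Subgroup.centralizer ({x} : Set G)))}
    (hb : IsPBlock M b) :
    ∃ φ : ZMod p → IrrCharacter (Subgroup.centralizer ({x} : Set G)),
      Function.Injective φ ∧ Set.range φ = b ∧
      ∀ (s i : ZMod p) (y : Subgroup.centralizer ({x} : Set G)), ¬ p ∣ orderOf y →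
        (φ s : Subgroup.centralizer ({x} : Set G) → ℂ) (⟨x, DefectOne.mem_cen_self⟩ ^ i.val * y) =
          ψ (s * i) * (φ 0 : Subgroup.centralizer ({x} : Set G) → ℂ) y :=
  DefectOne.exists_block_param hxo hsq hM hb (ZMod.isPrimitive_stdAddChar p)

/-- The element `x` in its centralizer. -/
def z : Cx := ⟨O.x, DefectOne.mem_cen_self⟩

/-- The normalizer of `⟨x⟩`. -/
def N : Subgroup G := Subgroup.normalizer ((Subgroup.zpowers O.x : Subgroup G) : Set G)

theorem N_le : O.N ≤ Subgroup.normalizer ((Cx : Subgroup G) : Set G) :=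
  DefectOne.normalizer_le O.x

theorem cen_le_N : Cx ≤ O.N :=
  DefectOne.centralizer_zpowers (x := O.x) ▸ Subgroup.centralizer_le_normalizer _

/-- The conjugate of a character of the centralizer. -/
noncomputable def twist (n : G) (hn : n ∈ O.N) (θ : IrrCharacter Cx) : IrrCharacter Cx :=
  pullIrr (normConjEquiv Cx n (O.N_le hn)) θ

theorem twist_apply (n : G) (hn : n ∈ O.N) (θ : IrrCharacter Cx) (c : Cx) :
    (O.twist n hn θ : Cx → ℂ) c = (θ : Cx → ℂ) (normConjEquiv Cx n (O.N_le hn) c) := rfl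

theorem twist_twist (n m : G) (hn : n ∈ O.N) (hm : m ∈ O.N) (θ : IrrCharacter Cx) :
    O.twist m hm (O.twist n hn θ) = O.twist (n * m) (mul_mem hn hm) θ :=
  Subtype.ext (funext fun c => congrArg (θ : Cx → ℂ) (Subtype.ext (by simp [mul_assoc])))

theorem twist_one (θ : IrrCharacter Cx) : O.twist 1 (one_mem _) θ = θ :=
  Subtype.ext (funext fun c => congrArg (θ : Cx → ℂ) (Subtype.ext (by simp)))

theorem isClassFunction_translate (χ : IrrCharacter G) (i : ℕ) :
    IsClassFunction Cx (fun c : Cx => (χ : G → ℂ) (O.x ^ i * (c : G))) := fun c h => by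
  have h1 : (h : G) * O.x ^ i = O.x ^ i * (h : G) :=
    (Commute.pow_right (Subgroup.mem_centralizer_singleton_iff.1 h.2) i).eq
  have h2 : O.x ^ i * ((h * c * h⁻¹ : Cx) : G) = (h : G) * (O.x ^ i * (c : G)) * (h : G)⁻¹ := by
    push_cast
    rw [← mul_assoc (h : G), h1]
    group
  simp only [h2]
  exact CfsgLib.Char.irr_isClassFunction χ.2 _ _

theorem exists_split (c : Cx) : ∃ (i : ZMod p) (y : Cx),
    ¬ p ∣ orderOf y ∧ c = O.z ^ i.val * y := by
  obtain ⟨i, y, hy, hreg, hc⟩ := DefectOne.exists_decomp O.hxo O.hsq c.2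
  exact ⟨i, ⟨y, hy⟩, by rwa [Subgroup.orderOf_mk], Subtype.ext (by simpa [z] using hc)⟩

theorem phi_mem (s : ZMod p) : O.φ s ∈ O.b := O.hrange ▸ Set.mem_range_self s

theorem phi_one (s : ZMod p) : (O.φ s : Cx → ℂ) 1 = (O.φ 0 : Cx → ℂ) 1 := by
  have h := O.hval s 0 1 (by rw [orderOf_one]; exact hp.out.not_dvd_one)
  rw [ZMod.val_zero, pow_zero, one_mul, mul_zero, AddChar.map_zero_eq_one, one_mul] at h
  exact h

theorem phi_regular (s : ZMod p) {y : Cx} (hy : ¬ p ∣ orderOf y) :
    (O.φ s : Cx → ℂ) y = (O.φ 0 : Cx → ℂ) y := by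
  have h := O.hval s 0 y hy
  rw [ZMod.val_zero, pow_zero, one_mul, mul_zero, AddChar.map_zero_eq_one, one_mul] at h
  exact h

theorem phi0_one_ne_zero : (O.φ 0 : Cx → ℂ) 1 ≠ 0 := CfsgLib.Char.irr_apply_one_ne_zero (O.φ 0).2

/-- The multiplicity of `φ s` in the restriction. -/
noncomputable def mult (χ : IrrCharacter G) (s : ZMod p) : ℂ :=
  haveI := Fintype.ofFinite Cx
  classInner (fun c : Cx => (χ : G → ℂ) c) (O.φ s : Cx → ℂ)

theorem mult_def [Fintype Cx] (χ : IrrCharacter G) (s : ZMod p) :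
    O.mult χ s = classInner (fun c : Cx => (χ : G → ℂ) c) (O.φ s : Cx → ℂ) := by
  unfold mult
  congr
  exact Subsingleton.elim _ _

theorem exists_mult_nat (χ : IrrCharacter G) : ∃ n : ZMod p → ℕ, ∀ s, O.mult χ s = n s :=
  haveI := Fintype.ofFinite Cx
  ⟨_, fun s => (O.mult_def χ s).trans (CfsgLib.Char.classInner_isCharacter_nat
    (CfsgLib.Char.isCharacter_restrict (CfsgLib.Char.irr_isCharacter χ.2) Cx)
    (CfsgLib.Char.irr_isCharacter (O.φ s).2)).choose_spec⟩

/-- The section coefficient at `x ^ i`. -/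
noncomputable def ah (χ : IrrCharacter G) (i : ZMod p) : ℂ := ∑ s, O.mult χ s * ψ (s * i)

theorem blockPart_translate (χ : IrrCharacter G) (i : ZMod p) {y : Cx} (hy : ¬ p ∣ orderOf y) :
    blockPart O.b (fun c : Cx => (χ : G → ℂ) (O.x ^ i.val * (c : G))) y =
      O.ah χ i * (O.φ 0 : Cx → ℂ) y := by
  classical
  have key : ∀ s, classInner (fun c : Cx => (χ : G → ℂ) (O.x ^ i.val * (c : G))) (O.φ s : Cx → ℂ) =
      O.mult χ s * ψ (s * i) := by
    intro s
    have hshift : ∀ c : Cx, (O.φ s : Cx → ℂ) (O.z ^ i.val * c) =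
        ψ (s * i) * (O.φ s : Cx → ℂ) c := by
      intro c
      obtain ⟨j, w, hw, rfl⟩ := O.exists_split c
      have hpow : O.z ^ i.val * (O.z ^ j.val * w) = O.z ^ (i + j).val * w := by
        rw [← mul_assoc]
        congr 1
        refine Subtype.ext ?_
        simp [z, DefectOne.pow_val_add O.hxo i j]
      rw [hpow, z, O.hval s (i + j) w hw, O.hval s j w hw, mul_add, AddChar.map_add_eq_mul]
      ring
    rw [O.mult_def, CfsgLib.Char.classInner_def, CfsgLib.Char.classInner_def, mul_assoc, Finset.sum_mul]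
    congr 1
    refine Fintype.sum_equiv (Equiv.mulLeft (O.z ^ i.val)) _ _ fun c => ?_
    rw [Equiv.coe_mulLeft, hshift, map_mul (starRingEnd ℂ)]
    have hn : conj (ψ (s * i)) * ψ (s * i) = 1 := by
      rw [← AddChar.map_neg_eq_conj, ← AddChar.map_add_eq_mul, neg_add_cancel,
        AddChar.map_zero_eq_one]
    calc (χ : G → ℂ) (O.x ^ i.val * (c : G)) * conj ((O.φ s : Cx → ℂ) c)
        = (χ : G → ℂ) (O.x ^ i.val * (c : G)) * conj ((O.φ s : Cx → ℂ) c) *
            (conj (ψ (s * i)) * ψ (s * i)) := by rw [hn, mul_one]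
      _ = _ := by
          rw [show ((O.z ^ i.val * c : Cx) : G) = O.x ^ i.val * (c : G) by simp [z]]
          ring
  have h0 : blockPart O.b (fun c : Cx => (χ : G → ℂ) (O.x ^ i.val * (c : G))) y =
      ∑ᶠ φ ∈ Set.range O.φ, classInner (fun c : Cx => (χ : G → ℂ) (O.x ^ i.val * (c : G)))
        (φ : Cx → ℂ) * (φ : Cx → ℂ) y := by
    rw [O.hrange]
    simp only [blockPart]
    convert rfl
  rw [h0, finsum_mem_range O.hinj, finsum_eq_sum_of_fintype, ah, Finset.sum_mul]
  exact Finset.sum_congr rfl fun s _ => by rw [key, O.phi_regular s hy]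

theorem centralizer_pow {i : ZMod p} (hi : i ≠ 0) :
    Cx = Subgroup.centralizer ({O.x ^ i.val} : Set G) :=
  (DefectOne.centralizer_pow_val O.hxo hi).symm

theorem blockPart_translate_one (χ : IrrCharacter G) (i : ZMod p) :
    blockPart O.b (fun c : Cx => (χ : G → ℂ) (O.x ^ i.val * (c : G))) 1 =
      O.ah χ i * (O.φ 0 : Cx → ℂ) 1 :=
  O.blockPart_translate χ i (by rw [orderOf_one]; exact hp.out.not_dvd_one)

variable {B : Set (IrrCharacter G)} (hind : IsInducedBlock M
  (Subgroup.centralizer ({O.x} : Set G)) O.b B)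
include hind

/-- Characters outside the induced block vanish at the block. -/
theorem ah_eq_zero {χ : IrrCharacter G} (hχ : χ ∉ B) {i : ZMod p} (hi : i ≠ 0) : O.ah χ i = 0 := by
  have hy : ¬ p ∣ orderOf (1 : Cx) := by rw [orderOf_one]; exact hp.out.not_dvd_one
  have h := blockPart_eq_zero_of_eq O.hM (DefectOne.isPElt_pow_val O.hxo i) (O.centralizer_pow hi)
    (isPBlock_blockOf χ) (mem_blockOf_self χ) O.hb
    (fun h' => hχ (isInducedBlock_unique _ hind h' ▸ mem_blockOf_self χ)) hy
  rw [O.blockPart_translate_one] at h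
  exact (mul_eq_zero.1 h).resolve_right O.phi0_one_ne_zero

omit hind in
/-- Conjugation acts on the parametrization. -/
theorem twist_val {n : G} (hn : n ∈ O.N) {c : ZMod p} (hc : n * O.x * n⁻¹ = O.x ^ c.val)
    (s i : ZMod p) {y : Cx} (hy : ¬ p ∣ orderOf y) :
    (O.twist n hn (O.φ s) : Cx → ℂ) (O.z ^ i.val * y) =
      ψ (s * (c * i)) * (O.twist n hn (O.φ 0) : Cx → ℂ) y := by
  rw [twist_apply, twist_apply, map_mul, map_pow]
  have hz : normConjEquiv Cx n (O.N_le hn) O.z = O.z ^ c.val := Subtype.ext (by simp [z, hc])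
  have hpow : (O.z ^ c.val) ^ i.val = O.z ^ (c * i).val := Subtype.ext (by
    simp [z, DefectOne.pow_val_mul O.hxo c i])
  rw [hz, hpow, z, O.hval]
  rw [show orderOf ((normConjEquiv Cx n (O.N_le hn)) y) = orderOf y from
    orderOf_injective (normConjEquiv Cx n (O.N_le hn)).toMonoidHom
      (normConjEquiv Cx n (O.N_le hn)).injective y]
  exact hy

omit hind in
theorem exists_conj {n : G} (hn : n ∈ O.N) :
    ∃ c : ZMod p, c ≠ 0 ∧ n * O.x * n⁻¹ = O.x ^ c.val := by
  obtain ⟨j, hj⟩ := mem_powers_iff_mem_zpowers.2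
    ((Subgroup.mem_normalizer_iff.1 hn O.x).1 (Subgroup.mem_zpowers O.x))
  refine ⟨(j : ZMod p), fun h => ?_, by rw [DefectOne.pow_val_natCast O.hxo]; exact hj.symm⟩
  have h1 : n * O.x * n⁻¹ = 1 := by
    rw [← show O.x ^ j = n * O.x * n⁻¹ from hj, ← DefectOne.pow_val_natCast O.hxo, h, ZMod.val_zero,
      pow_zero]
  have h2 : O.x = 1 := by simpa using h1
  have := O.hxo
  rw [h2, orderOf_one] at this
  exact hp.out.ne_one this.symm

omit hind in
theorem eq_phi0_of_trivial {θ : IrrCharacter Cx} (hθ : θ ∈ O.b)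
    (hz : (θ : Cx → ℂ) O.z = (θ : Cx → ℂ) 1) : θ = O.φ 0 := by
  rw [← O.hrange] at hθ
  obtain ⟨s, rfl⟩ := hθ
  have hy : ¬ p ∣ orderOf (1 : Cx) := by rw [orderOf_one]; exact hp.out.not_dvd_one
  have h := O.hval s 1 1 hy
  rw [ZMod.val_one, pow_one, mul_one, mul_one] at h
  rw [z, h, O.phi_one s] at hz
  have h1 : ψ s = 1 := mul_right_cancel₀ O.phi0_one_ne_zero (by rw [hz, one_mul])
  rw [ZMod.injective_stdAddChar (h1.trans (AddChar.map_zero_eq_one _).symm)]

omit hind in
theorem phi0_z : (O.φ 0 : Cx → ℂ) O.z = (O.φ 0 : Cx → ℂ) 1 := by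
  have h := O.hval 0 1 1 (by rw [orderOf_one]; exact hp.out.not_dvd_one)
  rw [ZMod.val_one, pow_one, mul_one, zero_mul, AddChar.map_zero_eq_one, one_mul] at h
  exact h

omit hind in
theorem twist_phi0_z {n : G} (hn : n ∈ O.N) :
    (O.twist n hn (O.φ 0) : Cx → ℂ) O.z = (O.twist n hn (O.φ 0) : Cx → ℂ) 1 := by
  obtain ⟨c, -, hc⟩ := O.exists_conj hn
  have h := O.twist_val hn hc 0 1 (y := 1) (by rw [orderOf_one]; exact hp.out.not_dvd_one)
  rw [ZMod.val_one, pow_one, mul_one, zero_mul, AddChar.map_zero_eq_one, one_mul] at h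
  exact h

omit hind in
theorem twist_phi_eq {n : G} (hn : n ∈ O.N) (hfix : O.twist n hn (O.φ 0) = O.φ 0) {c : ZMod p}
    (hc : n * O.x * n⁻¹ = O.x ^ c.val) (s : ZMod p) : O.twist n hn (O.φ s) = O.φ (s * c) := by
  refine Subtype.ext (funext fun d => ?_)
  obtain ⟨i, y, hy, rfl⟩ := O.exists_split d
  rw [O.twist_val hn hc s i hy, hfix, z, O.hval (s * c) i y hy, mul_assoc]

omit hind in
/-- A conjugate of the block is the block exactly when it fixes the trivial member. -/
theorem image_eq_iff {n : G} (hn : n ∈ O.N) :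
    O.twist n hn '' O.b = O.b ↔ O.twist n hn (O.φ 0) = O.φ 0 := by
  constructor
  · intro h
    exact O.eq_phi0_of_trivial (h ▸ Set.mem_image_of_mem _ (O.phi_mem 0)) (O.twist_phi0_z hn)
  · intro h
    obtain ⟨c, hc0, hc⟩ := O.exists_conj hn
    ext θ
    constructor
    · rintro ⟨θ', hθ', rfl⟩
      rw [← O.hrange] at hθ'
      obtain ⟨s, rfl⟩ := hθ'
      rw [O.twist_phi_eq hn h hc]
      exact O.phi_mem _
    · intro hθ
      rw [← O.hrange] at hθ
      obtain ⟨s, rfl⟩ := hθ
      exact ⟨O.φ (s * c⁻¹), O.phi_mem _, by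
        rw [O.twist_phi_eq hn h hc, mul_assoc, inv_mul_cancel₀ hc0, mul_one]⟩

omit hind in
theorem mult_smul {n : G} (hn : n ∈ O.N) (hfix : O.twist n hn (O.φ 0) = O.φ 0) {c : ZMod p}
    (hc : n * O.x * n⁻¹ = O.x ^ c.val) (χ : IrrCharacter G) (s : ZMod p) :
    O.mult χ (s * c) = O.mult χ s := by
  classical
  rw [O.mult_def, O.mult_def, ← O.twist_phi_eq hn hfix hc s, CfsgLib.Char.classInner_def,
    CfsgLib.Char.classInner_def]
  congr 1
  refine Fintype.sum_equiv (normConjEquiv Cx n (O.N_le hn)).toEquiv _ _ fun d => ?_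
  rw [twist_apply]
  congr 1
  exact (CfsgLib.Char.irr_isClassFunction χ.2 (d : G) n).symm

open Classical in
/-- Orthogonality of the section coefficients. -/
theorem sum_ah_mul_conj [Fintype (IrrCharacter G)] {i j : ZMod p} (hi : i ≠ 0) (hj : j ≠ 0) :
    ∑ χ ∈ B.toFinite.toFinset, O.ah χ i * conj (O.ah χ j) =
      if ∃ (n : G) (hn : n ∈ O.N), O.twist n hn (O.φ 0) = O.φ 0 ∧
          n * O.x ^ i.val * n⁻¹ = O.x ^ j.val then (p : ℂ) else 0 := by
  have := Fintype.ofFinite (IrrCharacter Cx)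
  have hy1 : ¬ p ∣ orderOf (1 : Cx) := by rw [orderOf_one]; exact hp.out.not_dvd_one
  set d := (O.φ 0 : Cx → ℂ) 1 with hd
  have hd0 : d ≠ 0 := O.phi0_one_ne_zero
  have hdc : conj d = d := by
    rw [hd, ← charDegree_cast (CfsgLib.Char.irr_isCharacter (O.φ 0).2), map_natCast]
  rw [Finset.sum_subset (Finset.subset_univ _) fun χ _ hχ => by
    rw [O.ah_eq_zero hind (by simpa using hχ) hi, zero_mul]]
  refine mul_right_cancel₀ hd0 ?_
  set F : Cx → ℂ := fun w => ∑ χ : IrrCharacter G,
    (χ : G → ℂ) (O.x ^ i.val * (w : G)) * conj (O.ah χ j) with hF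
  have hS : (∑ χ : IrrCharacter G, O.ah χ i * conj (O.ah χ j)) * d = blockPart O.b F 1 := by
    simp only [hF, fun w : Cx => Finset.sum_congr rfl (s₁ := (Finset.univ : Finset (IrrCharacter G)))
      (fun χ _ => mul_comm ((χ : G → ℂ) (O.x ^ i.val * (w : G))) (conj (O.ah χ j))),
      CfsgLib.BlockA.blockPart_sum_smul, Finset.sum_mul, O.blockPart_translate_one]
    exact Finset.sum_congr rfl fun χ _ => by ring
  rw [hS]
  have hFw : ∀ w : Cx, conj (F w * d) = blockPart O.b (fun z' : Cx => ∑ χ : IrrCharacter G,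
      conj ((χ : G → ℂ) (O.x ^ i.val * (w : G))) * (χ : G → ℂ) (O.x ^ j.val * (z' : G))) 1 := by
    intro w
    simp only [CfsgLib.BlockA.blockPart_sum_smul, O.blockPart_translate_one, hF, Finset.sum_mul,
      map_sum, map_mul, Complex.conj_conj, hdc]
    exact Finset.sum_congr rfl fun χ _ => by ring
  by_cases hN : ∃ n, n ∈ O.N ∧ n * O.x ^ i.val * n⁻¹ = O.x ^ j.val
  · obtain ⟨n, hn, hnij⟩ := hN
    set Θ := O.twist n hn (O.φ 0) with hΘ
    have hΘreg : ∀ (s : ZMod p) {w : Cx}, ¬ p ∣ orderOf w →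
        (O.twist n hn (O.φ s) : Cx → ℂ) w = (Θ : Cx → ℂ) w := by
      intro s w hw
      rw [twist_apply, hΘ, twist_apply, O.phi_regular]
      rw [show orderOf ((normConjEquiv Cx n (O.N_le hn)) w) = orderOf w from
        orderOf_injective (normConjEquiv Cx n (O.N_le hn)).toMonoidHom
          (normConjEquiv Cx n (O.N_le hn)).injective w]
      exact hw
    have hFreg : ∀ w : Cx, ¬ p ∣ orderOf w → F w = (p : ℂ) * (Θ : Cx → ℂ) w := by
      intro w hw
      refine mul_right_cancel₀ hd0 ((starRingEnd ℂ).injective ?_)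
      rw [hFw]
      set σ := normConjEquiv Cx n (O.N_le hn) with hσ
      have hinner : ∀ z' : Cx, ¬ p ∣ orderOf z' → (∑ χ : IrrCharacter G,
          conj ((χ : G → ℂ) (O.x ^ i.val * (w : G))) * (χ : G → ℂ) (O.x ^ j.val * (z' : G))) =
          ∑ φ : IrrCharacter Cx, conj ((φ : Cx → ℂ) w) * (pullIrr σ.symm φ : Cx → ℂ) z' := by
        intro z' hz'
        have hreg : ¬ p ∣ orderOf (σ.symm z') := by
          rw [show orderOf (σ.symm z') = orderOf z' from
            orderOf_injective σ.symm.toMonoidHom σ.symm.injective z']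
          exact hz'
        have h := column_section_of_eq O.hM (DefectOne.isPElt_pow_val O.hxo i) (O.centralizer_pow hi)
          hw hreg
        simp only [pullIrr_apply]
        refine Eq.trans ?_ (Finset.sum_congr rfl fun φ _ => mul_comm _ _)
        rw [← h]
        refine Finset.sum_congr rfl fun χ _ => ?_
        rw [mul_comm, ← hnij]
        congr 1
        have he : n * O.x ^ i.val * n⁻¹ * (z' : G) =
            n * (O.x ^ i.val * ((σ.symm z' : Cx) : G)) * n⁻¹ := by
          simp [σ, normConjEquiv, mul_assoc]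
        rw [he, CfsgLib.Char.irr_isClassFunction χ.2]
      rw [CfsgLib.BlockA.blockPart_congr_regular O.hM O.hb hinner hy1,
        CfsgLib.BlockA.blockPart_sum_smul]
      simp only [CfsgLib.BlockA.blockPart_irr, mul_ite, mul_zero]
      rw [← Finset.sum_filter]
      have hset : (Finset.univ.filter fun φ : IrrCharacter Cx => pullIrr σ.symm φ ∈ O.b) =
          Finset.univ.image fun s => pullIrr σ (O.φ s) := by
        ext φ
        simp only [Finset.mem_filter, Finset.mem_univ, true_and, Finset.mem_image, ← O.hrange,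
          Set.mem_range]
        constructor
        · rintro ⟨s, hs⟩
          exact ⟨s, by rw [hs]; exact Subtype.ext (funext fun d => by simp)⟩
        · rintro ⟨s, rfl⟩
          exact ⟨s, (pullIrr_symm σ (O.φ s)).symm⟩
      rw [hset, Finset.sum_image fun a _ b _ h => O.hinj (pullIrr_injective σ h),
        Finset.sum_congr rfl (g := fun _ => conj ((Θ : Cx → ℂ) w) * d) fun s _ => ?_,
        Finset.sum_const, Finset.card_univ, ZMod.card, nsmul_eq_mul]
      · simp only [map_mul, map_natCast, hdc, mul_assoc]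
      · rw [show (pullIrr σ (O.φ s) : Cx → ℂ) w = (Θ : Cx → ℂ) w from hΘreg s hw, pullIrr_symm,
          O.phi_one]
    rw [CfsgLib.BlockA.blockPart_congr_regular O.hM O.hb hFreg hy1]
    have hlin := CfsgLib.BlockA.blockPart_sum_smul (ι := Unit) O.b (fun _ => (p : ℂ))
      (fun _ => (Θ : Cx → ℂ)) 1
    simp only [Finset.univ_unique, Finset.sum_singleton] at hlin
    rw [hlin, CfsgLib.BlockA.blockPart_irr]
    by_cases hfix : Θ = O.φ 0
    · rw [if_pos (hfix ▸ O.phi_mem 0), if_pos ⟨n, hn, hfix, hnij⟩, hfix]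
    · rw [if_neg (fun h => hfix (O.eq_phi0_of_trivial h (O.twist_phi0_z hn))), mul_zero,
        if_neg, zero_mul]
      rintro ⟨n', hn', hfix', hn'ij⟩
      apply hfix
      have hc : n'⁻¹ * n ∈ Cx := by
        rw [O.centralizer_pow hi, Subgroup.mem_centralizer_singleton_iff]
        calc n'⁻¹ * n * O.x ^ i.val = n'⁻¹ * (n * O.x ^ i.val * n⁻¹) * n := by group
          _ = n'⁻¹ * (n' * O.x ^ i.val * n'⁻¹) * n := by rw [hnij, hn'ij]
          _ = O.x ^ i.val * (n'⁻¹ * n) := by group
      have hmm : O.twist n hn (O.φ 0) = O.twist (n'⁻¹ * n) (O.cen_le_N hc)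
          (O.twist n' hn' (O.φ 0)) := by
        rw [O.twist_twist]
        congr 1
        rw [mul_inv_cancel_left]
      rw [hΘ, hmm, hfix']
      refine Subtype.ext (funext fun w => ?_)
      rw [twist_apply]
      have : normConjEquiv Cx (n'⁻¹ * n) (O.N_le (O.cen_le_N hc)) w =
          (⟨_, hc⟩ : Cx) * w * (⟨_, hc⟩ : Cx)⁻¹ := Subtype.ext (by simp [mul_assoc])
      rw [this]
      exact CfsgLib.Char.irr_isClassFunction (O.φ 0).2 _ _
  · rw [if_neg (fun ⟨n, hn, _, h⟩ => hN ⟨n, hn, h⟩), zero_mul]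
    have hFreg : ∀ w : Cx, ¬ p ∣ orderOf w → F w = (fun _ => (0 : ℂ)) w := by
      intro w hw
      refine mul_right_cancel₀ hd0 ((starRingEnd ℂ).injective ?_)
      simp only [zero_mul, map_zero]
      rw [hFw]
      have hinner : ∀ z' : Cx, ¬ p ∣ orderOf z' → (∑ χ : IrrCharacter G,
          conj ((χ : G → ℂ) (O.x ^ i.val * (w : G))) * (χ : G → ℂ) (O.x ^ j.val * (z' : G))) =
          (fun _ => (0 : ℂ)) z' := by
        intro z' hz'
        simp only [mul_comm (conj _)]
        rw [CfsgLib.Char.column_orthogonality, if_neg]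
        intro hconj
        obtain ⟨g, hg⟩ := isConj_iff.1 hconj.symm
        have hp1 := isPPart_conj (DefectOne.isPPart_pow_mul O.hxo O.hsq w.2
          (by rwa [Subgroup.orderOf_coe]) i) g
        rw [hg] at hp1
        have hp2 := DefectOne.isPPart_pow_mul O.hxo O.hsq z'.2 (by rwa [Subgroup.orderOf_coe]) j
        have hgx := isPPart_unique hp.out hp1 hp2
        refine hN ⟨g, ?_, hgx⟩
        have hgen : ∀ {k : ZMod p}, k ≠ 0 →
            Subgroup.zpowers (O.x ^ k.val) = Subgroup.zpowers O.x := fun {k} hk =>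
          Subgroup.eq_of_le_of_card_ge (Subgroup.zpowers_le.2 (pow_mem (Subgroup.mem_zpowers _) _))
            (by rw [Nat.card_zpowers, Nat.card_zpowers, O.hxo, DefectOne.orderOf_pow_val O.hxo hk])
        have hmap : (Subgroup.zpowers O.x).map (MulAut.conj g).toMonoidHom =
            Subgroup.zpowers O.x := by
          conv_lhs => rw [← hgen hi]
          rw [MonoidHom.map_zpowers, ← hgen hj]
          congr 1
        rw [N, Subgroup.mem_normalizer_iff]
        intro y
        have hy := Subgroup.mem_map_iff_mem (f := (MulAut.conj g).toMonoidHom)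
          (MulAut.conj g).injective (K := Subgroup.zpowers O.x) (x := y)
        rw [hmap] at hy
        exact hy.symm
      rw [CfsgLib.BlockA.blockPart_congr_regular O.hM O.hb hinner hy1, blockPart]
      simp [CfsgLib.Char.classInner_def]
    rw [CfsgLib.BlockA.blockPart_congr_regular O.hM O.hb hFreg hy1, blockPart]
    simp [CfsgLib.Char.classInner_def]

/-- Regular columns are orthogonal to the section coefficients. -/
theorem sum_ah_regular [Fintype (IrrCharacter G)] {i : ZMod p} (hi : i ≠ 0) {g : G}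
    (hg : ¬ p ∣ orderOf g) :
    ∑ χ ∈ B.toFinite.toFinset, O.ah χ i * (χ : G → ℂ) g = 0 := by
  classical
  have hy1 : ¬ p ∣ orderOf (1 : Cx) := by rw [orderOf_one]; exact hp.out.not_dvd_one
  have := Fintype.ofFinite B
  refine mul_right_cancel₀ O.phi0_one_ne_zero ?_
  rw [zero_mul, Finset.sum_mul, Finset.sum_congr rfl fun χ _ => show
    O.ah χ i * (χ : G → ℂ) g * (O.φ 0 : Cx → ℂ) 1 =
      (χ : G → ℂ) g * blockPart O.b (fun c : Cx => (χ : G → ℂ) (O.x ^ i.val * (c : G))) 1 by
    rw [O.blockPart_translate_one]; ring,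
    Finset.sum_subtype B.toFinite.toFinset (p := (· ∈ B)) (by simp)
      (fun χ : IrrCharacter G => (χ : G → ℂ) g *
        blockPart O.b (fun c : Cx => (χ : G → ℂ) (O.x ^ i.val * (c : G))) 1)]
  rw [← CfsgLib.BlockA.blockPart_sum_smul]
  have hzero : ∀ w : Cx, ¬ p ∣ orderOf w →
      (∑ χ : B, ((χ : IrrCharacter G) : G → ℂ) g *
        ((χ : IrrCharacter G) : G → ℂ) (O.x ^ i.val * (w : G))) = (fun _ => (0 : ℂ)) w := by
    intro w hw
    have h := sum_block_eq_zero_of_regular_singular O.hM hind.2.1 hg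
      (h := (O.x ^ i.val * (w : G))⁻¹) ?_
    · rw [← finsum_set_coe_eq_finsum_mem, finsum_eq_sum_of_fintype] at h
      rw [← h]
      exact Finset.sum_congr rfl fun χ _ => by
        rw [irr_conj_eq (χ : IrrCharacter G).2, inv_inv]
    · rw [orderOf_inv]
      have hc : Commute (O.x ^ i.val) (w : G) :=
        Commute.pow_left (Subgroup.mem_centralizer_singleton_iff.1 w.2).symm _
      have hcop : Nat.Coprime (orderOf (O.x ^ i.val)) (orderOf (w : G)) := by
        rw [DefectOne.orderOf_pow_val O.hxo hi, Subgroup.orderOf_coe]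
        exact hp.out.coprime_iff_not_dvd.2 hw
      rw [hc.orderOf_mul_eq_mul_orderOf_of_coprime hcop, DefectOne.orderOf_pow_val O.hxo hi]
      exact dvd_mul_right _ _
  rw [CfsgLib.BlockA.blockPart_congr_regular O.hM O.hb hzero hy1, blockPart]
  simp [CfsgLib.Char.classInner_def]

end OneBlock

end CfsgLib.Block
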