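import Cfsg.Agent.Lib.Block.PrimeSylow

/-!
The rows of the principal block of a group with a Sylow subgroup of prime order: restrictions,
Gram matrix and the shape of each member.
-/

set_option autoImplicit false
set_option linter.unusedSectionVars false
set_option maxHeartbeats 400000

namespace CfsgLib.Block

open Cfsg
open scoped ComplexConjugate

universe u

namespace PrimeRows

theorem sum_eq_zero_add_units {p : ℕ} [Fact p.Prime] {R : Type*} [AddCommMonoid R]
    (f : ZMod p → R) : ∑ i, f i = f 0 + ∑ v : (ZMod p)ˣ, f v := by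
  classical
  rw [← Finset.add_sum_erase _ f (Finset.mem_univ 0)]
  congr 1
  refine (Finset.sum_bij (fun (v : (ZMod p)ˣ) _ => (v : ZMod p)) ?_ ?_ ?_ ?_).symm
  · intro v _; simp [v.ne_zero]
  · intro v _ w _ h; exact Units.ext h
  · intro i hi
    exact ⟨Units.mk0 i (Finset.mem_erase.1 hi).1, Finset.mem_univ _, rfl⟩
  · intro v _; rfl

/-- The final count. -/
theorem count_arith {n : ℕ} {T e t p : ℤ} (he : 0 < e) (hT : 0 < T) (hpT : p = T + 1)
    (het : t * e = T) (hn : e + t ≤ (n : ℤ)) (Q A : Fin n → ℤ)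
    (hineq : ∀ i, e * T ≤ (T + e) * Q i - A i ^ 2)
    (h1 : ∑ i, (p * Q i - A i ^ 2) = T * p) (h2 : ∑ i, A i ^ 2 = T * e * p) :
    (n : ℤ) = e + t ∧ ∀ i, (T + e) * Q i - A i ^ 2 = e * T := by
  rw [Finset.sum_sub_distrib, h2, ← Finset.mul_sum] at h1
  have hQ : ∑ i, Q i = T * (1 + e) :=
    mul_left_cancel₀ (show p ≠ 0 by omega) (by linarith)
  have htot : ∑ i, ((T + e) * Q i - A i ^ 2) = (e + t) * (e * T) := by
    rw [Finset.sum_sub_distrib, h2, ← Finset.mul_sum, hQ, hpT]
    linear_combination -T * het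
  have hconst : ∑ _i : Fin n, e * T = (n : ℤ) * (e * T) := by simp
  have hle : (n : ℤ) * (e * T) ≤ (e + t) * (e * T) := by
    rw [← hconst, ← htot]; exact Finset.sum_le_sum fun i _ => hineq i
  have hnle : (n : ℤ) ≤ e + t := le_of_mul_le_mul_right hle (mul_pos he hT)
  have hneq : (n : ℤ) = e + t := le_antisymm hnle hn
  refine ⟨hneq, fun i => ?_⟩
  have h := (Finset.sum_eq_sum_iff_of_le fun i _ => hineq i).1 (by rw [hconst, htot, hneq])
  exact (h i (Finset.mem_univ i)).symm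

/-- Shape of an extremal invariant vector. -/
theorem extremal_shape {A : Type*} [CommGroup A] [Fintype A] (E : Subgroup A) (a : A → ℤ)
    (ha : ∀ u ∈ E, ∀ v, a (u * v) = a v) (hne : ∃ v, a v ≠ 0)
    (heq : (Fintype.card A + Nat.card E : ℤ) * ∑ v, a v ^ 2 - (∑ v, a v) ^ 2 =
      (Nat.card E : ℤ) * Fintype.card A) :
    ∃ c : ℤ, (c = 1 ∨ c = -1) ∧ ((∀ v, a v = c) ∨
      ∃ w : A, ∀ v, (w⁻¹ * v ∈ E → a v = c) ∧ (w⁻¹ * v ∉ E → a v = 0)) := by
  classical
  set s := Finset.univ.filter fun v => a v ≠ 0 with hs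
  have hsum : ∑ v, a v = ∑ v ∈ s, a v := (Finset.sum_filter_ne_zero _).symm
  have hsq : ∑ v, a v ^ 2 = ∑ v ∈ s, a v ^ 2 := by
    rw [hs, Finset.sum_filter]
    exact Finset.sum_congr rfl fun v _ => by split_ifs with h <;> simp_all
  obtain ⟨w, hw⟩ := hne
  set Cw := Finset.univ.filter fun v => w⁻¹ * v ∈ E with hCw
  have hsub : Cw ⊆ s := fun v hv => by
    refine Finset.mem_filter.2 ⟨Finset.mem_univ _, ?_⟩
    rw [show v = (w⁻¹ * v) * w by rw [mul_right_comm, inv_mul_cancel, one_mul],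
      ha _ (Finset.mem_filter.1 hv).2]
    exact hw
  have hCcard : Cw.card = Nat.card E := by
    rw [Nat.card_eq_fintype_card, ← Finset.card_univ]
    refine Finset.card_bij' (fun v hv => (⟨w⁻¹ * v, (Finset.mem_filter.1 hv).2⟩ : E))
      (fun c _ => w * (c : A)) (fun _ _ => Finset.mem_univ _) (fun c _ => ?_)
      (fun v _ => mul_inv_cancel_left w v) (fun c _ => Subtype.ext (inv_mul_cancel_left w c))
    exact Finset.mem_filter.2 ⟨Finset.mem_univ _, by rw [inv_mul_cancel_left]; exact c.2⟩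
  have hem : (Nat.card E : ℤ) ≤ s.card := by
    rw [← hCcard]; exact_mod_cast Finset.card_le_card hsub
  have hmT : (s.card : ℤ) ≤ Fintype.card A := by exact_mod_cast Finset.card_le_univ s
  have hcs : (∑ v ∈ s, a v) ^ 2 ≤ (s.card : ℤ) * ∑ v ∈ s, a v ^ 2 := sq_sum_le_card_mul_sum_sq
  have hone : ∀ v ∈ s, 1 ≤ a v ^ 2 := fun v hv => by
    nlinarith [Int.one_le_abs (Finset.mem_filter.1 hv).2, sq_abs (a v), abs_nonneg (a v)]
  have hm2 : (s.card : ℤ) ≤ ∑ v ∈ s, a v ^ 2 := by
    rw [Finset.card_eq_sum_ones]; push_cast; exact Finset.sum_le_sum hone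
  rw [hsum, hsq] at heq
  set m : ℤ := (s.card : ℤ)
  set Q := ∑ v ∈ s, a v ^ 2
  set S := ∑ v ∈ s, a v
  set T : ℤ := (Fintype.card A : ℤ)
  set e : ℤ := (Nat.card E : ℤ)
  have hcoef : 0 < T + e - m := by
    have : (0 : ℤ) < (Nat.card E : ℤ) := by exact_mod_cast Nat.card_pos (α := E)
    linarith
  have h1 : (T + e - m) * m ≤ (T + e - m) * Q := mul_le_mul_of_nonneg_left hm2 hcoef.le
  have h2 : 0 ≤ (m - e) * (T - m) := mul_nonneg (by linarith) (by linarith)
  have hQm : Q = m := by nlinarith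
  rw [hQm] at heq hcs
  have hS : S ^ 2 = m ^ 2 := by nlinarith
  have hprod : (m - e) * (T - m) = 0 := by nlinarith
  have hall : ∀ v ∈ s, a v ^ 2 = 1 := fun v hv => by
    have h := (Finset.sum_eq_sum_iff_of_le hone).1 (by simp [m, Q] at hQm ⊢; linarith) v hv
    exact h.symm
  have hc : ∃ c : ℤ, (c = 1 ∨ c = -1) ∧ ∀ v ∈ s, a v = c := by
    rcases sq_eq_sq_iff_eq_or_eq_neg.1 hS with h | h
    · refine ⟨1, Or.inl rfl, ?_⟩
      have hle : ∀ v ∈ s, a v ≤ 1 := fun v hv => by
        rcases sq_eq_one_iff.1 (hall v hv) with h | h <;> omega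
      exact (Finset.sum_eq_sum_iff_of_le hle).1 (by simp [m, S] at h ⊢; linarith)
    · refine ⟨-1, Or.inr rfl, ?_⟩
      have hge : ∀ v ∈ s, -1 ≤ a v := fun v hv => by
        rcases sq_eq_one_iff.1 (hall v hv) with h | h <;> omega
      exact fun v hv => ((Finset.sum_eq_sum_iff_of_le hge).1 (by simp [m, S] at h ⊢; linarith) v hv).symm
  obtain ⟨c, hc1, hc⟩ := hc
  refine ⟨c, hc1, ?_⟩
  rcases mul_eq_zero.1 hprod with h | h
  · refine Or.inr ⟨w, fun v => ⟨fun hv => hc v (hsub (Finset.mem_filter.2 ⟨Finset.mem_univ _, hv⟩)),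
      fun hv => ?_⟩⟩
    have hs2 : Cw = s := Finset.eq_of_subset_of_card_le hsub (by
      have h' : (s.card : ℤ) = (Nat.card E : ℤ) := sub_eq_zero.1 h
      rw [hCcard]; omega)
    by_contra h'
    have : v ∈ Cw := hs2 ▸ Finset.mem_filter.2 ⟨Finset.mem_univ _, h'⟩
    exact hv (Finset.mem_filter.1 this).2
  · refine Or.inl fun v => hc v ?_
    have h' : (Fintype.card A : ℤ) = (s.card : ℤ) := sub_eq_zero.1 h
    rw [Finset.eq_univ_of_card s (by omega)]
    exact Finset.mem_univ v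

/-- The principal block of a group with a Sylow subgroup of order `p`, with the sums over `P`. -/
theorem exists_rows_sum {G : Type u} [Group G] [Finite G] (p : ℕ) [Fact p.Prime] (M : Ideal AlgInt)
    (hM : IsPModular p M) (P : Sylow p G) (hP : Nat.card P = p) (e : ℕ)
    (he : (Subgroup.centralizer ((P : Subgroup G) : Set G)).relIndex
      (Subgroup.normalizer ((P : Subgroup G) : Set G)) = e) :
    ∃ (E : Subgroup (ZMod p)ˣ) (a : IrrCharacter G → (ZMod p)ˣ → ℤ),
      Nat.card E = e ∧ Nat.card (principalBlock M G) * e = (e * e + (p - 1)) ∧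
      (∀ χ ∈ principalBlock M G, ∃ c : ℤ, (c = 1 ∨ c = -1) ∧
        ((∀ v, a χ v = c) ∨
          ∃ w, ∀ v, (w⁻¹ * v ∈ E → a χ v = c) ∧ (w⁻¹ * v ∉ E → a χ v = 0))) ∧
      (∀ χ ∈ principalBlock M G, (charDegree (χ : G → ℂ) : ℤ) ≡ ∑ v, a χ v [ZMOD p]) ∧
      (∀ χ ∈ principalBlock M G, ∀ c : ℤ, (∀ v, a χ v = c) → ∀ y ∈ (P : Subgroup G), y ≠ 1 →
        ∀ z ∈ Subgroup.centralizer ((P : Subgroup G) : Set G), ¬ p ∣ orderOf z →
          (χ : G → ℂ) (y * z) = -(c : ℂ)) ∧
      (∀ r s : (ZMod p)ˣ, ∑ᶠ χ ∈ principalBlock M G, a χ r * a χ s =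
        (open Classical in if r⁻¹ * s ∈ E then (1 : ℤ) else 0) + e) ∧
      (∀ (g : G), ¬ p ∣ orderOf g → ∀ r : (ZMod p)ˣ,
        ∑ᶠ χ ∈ principalBlock M G, (a χ r : ℂ) * (χ : G → ℂ) g = 0) ∧
      (∀ χ ∈ principalBlock M G,
        ∑ᶠ y : (P : Subgroup G), (χ : G → ℂ) y = (χ : G → ℂ) 1 - ((∑ v, a χ v : ℤ) : ℂ)) := by
  classical
  have := hM.2.1.isPrime
  have := Fintype.ofFinite G
  have := Fintype.ofFinite (IrrCharacter G)
  set B := principalBlock M G with hBdef
  have := Fintype.ofFinite B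
  have hBblk : IsPBlock M B := isPBlock_principalBlock
  have hsumB : ∀ F : IrrCharacter G → ℂ, ∑ᶠ χ ∈ B, F χ = ∑ χ : B, F χ := fun F => by
    rw [← finsum_set_coe_eq_finsum_mem, finsum_eq_sum_of_fintype]
  obtain ⟨x, ε, hxo, hgen, hε, hker⟩ := exists_prime_sylow_data P hP
  have hee : Nat.card ε.range = e := by rw [← Subgroup.index_ker, hker, ← he]; rfl
  set T : ℕ := p - 1 with hTdef
  have hTcard : Fintype.card (ZMod p)ˣ = T := ZMod.card_units p
  -- powers
  set pw : ZMod p → G := fun i => x ^ i.val with hpw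
  have hpwN : ∀ j : ℕ, pw (j : ZMod p) = x ^ j := fun j => by
    simp only [hpw, ZMod.val_natCast]
    conv_rhs => rw [← pow_mod_orderOf, hxo]
  have hpwmul : ∀ i j : ZMod p, pw i ^ j.val = pw (i * j) := fun i j => by
    rw [← ZMod.natCast_zmod_val i, ← ZMod.natCast_zmod_val j, ← Nat.cast_mul, hpwN, hpwN,
      ZMod.natCast_zmod_val, ← pow_mul]
  have hpwinj : ∀ i j : ZMod p, pw i = pw j → i = j := by
    intro i j h
    simp only [hpw] at h
    rw [pow_eq_pow_iff_modEq, hxo, ← ZMod.natCast_eq_natCast_iff, ZMod.natCast_zmod_val,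
      ZMod.natCast_zmod_val] at h
    exact h
  have hpwP : ∀ i, pw i ∈ (P : Subgroup G) := fun i => by
    rw [hgen]; exact Subgroup.pow_mem _ (Subgroup.mem_zpowers x) _
  have hpw1 : pw 1 = x := by simp only [hpw, ZMod.val_one, pow_one]
  have hzp : ∀ v : (ZMod p)ˣ, Subgroup.zpowers (pw v) = (P : Subgroup G) := by
    intro v
    refine le_antisymm (Subgroup.zpowers_le.2 (hpwP _)) ?_
    rw [hgen, Subgroup.zpowers_le]
    have h : pw v ^ ((v⁻¹ : (ZMod p)ˣ) : ZMod p).val = x := by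
      rw [hpwmul, Units.mul_inv, hpw1]
    have hm := Subgroup.pow_mem _ (Subgroup.mem_zpowers (pw v)) ((v⁻¹ : (ZMod p)ˣ) : ZMod p).val
    rwa [h] at hm
  have hord : ∀ v : (ZMod p)ˣ, orderOf (pw v) = p := fun v => by
    rw [← Nat.card_zpowers, hzp, hP]
  have hcen : ∀ v : (ZMod p)ˣ, Subgroup.centralizer ({pw v} : Set G) =
      Subgroup.centralizer ((P : Subgroup G) : Set G) := fun v => by
    rw [← Subgroup.centralizer_closure, ← Subgroup.zpowers_eq_closure, hzp]
  have hconj : ∀ (n : Subgroup.normalizer ((P : Subgroup G) : Set G)) (i : ZMod p),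
      (n : G) * pw i * (n : G)⁻¹ = pw ((ε n : ZMod p) * i) := fun n i => by
    rw [show pw i = x ^ i.val from rfl, ← conj_pow, hε n]
    exact hpwmul _ _
  have hclass : ∀ v w : (ZMod p)ˣ, IsConj (pw v) (pw w) ↔
      ((v : (ZMod p)ˣ) : (ZMod p)ˣ ⧸ ε.range) = (w : (ZMod p)ˣ ⧸ ε.range) := by
    intro v w
    rw [QuotientGroup.eq]
    constructor
    · intro h
      obtain ⟨g, hg⟩ := isConj_iff.1 h
      have hgN : g ∈ Subgroup.normalizer ((P : Subgroup G) : Set G) := by
        have hmap : (P : Subgroup G).map (MulAut.conj g).toMonoidHom = (P : Subgroup G) := by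
          conv_lhs => rw [← hzp v, MonoidHom.map_zpowers]
          simp [hg, hzp w]
        rw [Subgroup.mem_normalizer_iff]
        intro y
        have hy := Subgroup.mem_map_iff_mem (f := (MulAut.conj g).toMonoidHom)
          (MulAut.conj g).injective (K := (P : Subgroup G)) (x := y)
        rw [hmap] at hy
        exact hy.symm
      refine ⟨⟨g, hgN⟩, Units.ext ?_⟩
      have h1 := hpwinj _ _ ((hconj ⟨g, hgN⟩ v).symm.trans hg)
      rw [Units.val_mul, mul_comm, ← h1, mul_assoc, Units.mul_inv, mul_one]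
    · rintro ⟨n, hn⟩
      refine isConj_iff.2 ⟨n, ?_⟩
      rw [hconj, hn, ← Units.val_mul, mul_comm v⁻¹ w, inv_mul_cancel_right]
  -- sections
  have hcenC : Cfsg.HasNormalPComplement p (Subgroup.centralizer ((P : Subgroup G) : Set G)) := by
    have hle : (P : Subgroup G) ≤ Subgroup.centralizer ((P : Subgroup G) : Set G) := by
      intro y hy
      rw [Subgroup.mem_centralizer_iff]
      intro z hz
      rw [SetLike.mem_coe, hgen, Subgroup.mem_zpowers_iff] at hz
      rw [hgen, Subgroup.mem_zpowers_iff] at hy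
      obtain ⟨i, rfl⟩ := hy
      obtain ⟨j, rfl⟩ := hz
      rw [← zpow_add, ← zpow_add, add_comm]
    refine CfsgLib.Transfer.hasNormalPComplement_of_normalizer_le_centralizer (P.subtype hle) ?_
    intro n _
    rw [Sylow.coe_subtype, Subgroup.mem_centralizer_iff]
    intro y hy
    exact Subtype.ext (Subgroup.mem_centralizer_iff.1 n.2 (y : G) hy)
  have hfac : (Nat.card (Subgroup.centralizer ((P : Subgroup G) : Set G))).factorization p = 1 := by
    have hG : (Nat.card G).factorization p = 1 := by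
      have h := P.card_eq_multiplicity
      rw [hP] at h
      exact (Nat.pow_eq_self_iff (Fact.out : p.Prime).one_lt).1 h.symm
    refine le_antisymm (hG ▸ (Nat.factorization_le_iff_dvd Nat.card_pos.ne' Nat.card_pos.ne').2
      (Subgroup.card_subgroup_dvd_card _) p) ?_
    refine (Nat.Prime.dvd_iff_one_le_factorization Fact.out Nat.card_pos.ne').1 ?_
    have hxC : x ∈ Subgroup.centralizer ((P : Subgroup G) : Set G) := by
      rw [← hcen 1, Units.val_one, hpw1, Subgroup.mem_centralizer_singleton_iff]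
    have h := orderOf_dvd_natCard (⟨x, hxC⟩ : Subgroup.centralizer ((P : Subgroup G) : Set G))
    rwa [Subgroup.orderOf_mk, hxo] at h
  have hval : ∀ v w : (ZMod p)ˣ, ∀ χ : IrrCharacter G, IsConj (pw v) (pw w) →
      (χ : G → ℂ) (pw v) = (χ : G → ℂ) (pw w) := fun v w χ h =>
    CfsgLib.Char.isClassFunction_isConj (CfsgLib.Char.irr_isClassFunction χ.2) h
  have horth : ∀ v w : (ZMod p)ˣ, ∑ χ : B, ((χ : IrrCharacter G) : G → ℂ) (pw v) *
      conj (((χ : IrrCharacter G) : G → ℂ) (pw w)) =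
      if ((v : (ZMod p)ˣ) : (ZMod p)ˣ ⧸ ε.range) = (w : (ZMod p)ˣ ⧸ ε.range) then (p : ℂ) else 0 := by
    intro v w
    rw [← hsumB fun χ => (χ : G → ℂ) (pw v) * conj ((χ : G → ℂ) (pw w))]
    by_cases h : IsConj (pw v) (pw w)
    · rw [if_pos ((hclass v w).1 h)]
      obtain ⟨-, hnorm⟩ := principal_section hM (x := pw v) ⟨1, by rw [hord, pow_one]⟩
        (by rw [hcen]; exact hcenC)
      rw [hcen, hfac, pow_one] at hnorm
      rw [← hnorm]
      exact finsum_congr fun χ => finsum_congr fun _ => by rw [hval v w χ h]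
    · rw [if_neg fun h' => h ((hclass v w).2 h')]
      exact sum_block_eq_zero hM hBblk (isPPart_self ⟨1, by rw [hord, pow_one]⟩ Fact.out)
        (isPPart_self ⟨1, by rw [hord, pow_one]⟩ Fact.out) h
  -- the lower bound
  have := Fintype.ofFinite ((ZMod p)ˣ ⧸ ε.range)
  have hge := card_principalBlock_ge hM P hP hxo hgen ε hker
    (fun i : (ZMod p)ˣ ⧸ ε.range => pw (i.out : (ZMod p)ˣ))
    (fun i => by rw [hord])
    (fun i j => by
      rw [hsumB fun χ => (χ : G → ℂ) (pw (i.out : (ZMod p)ˣ)) * conj ((χ : G → ℂ) (pw (j.out : (ZMod p)ˣ))),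
        horth, QuotientGroup.out_eq', QuotientGroup.out_eq']
      split_ifs <;> rfl)
  set t : ℕ := Fintype.card ((ZMod p)ˣ ⧸ ε.range) with htdef
  have het : t * e = T := by
    rw [← hee, ← hTcard, htdef, ← Nat.card_eq_fintype_card, ← Nat.card_eq_fintype_card,
      ← Subgroup.card_eq_card_quotient_mul_card_subgroup]
  -- multiplicities
  have hψ := ZMod.isPrimitive_stdAddChar p
  set ψ : AddChar (ZMod p) ℂ := ZMod.stdAddChar with hψdef
  choose b hb using fun χ : B =>
    exists_multiplicity hxo (CfsgLib.Char.irr_isCharacter (χ : IrrCharacter G).2) hψ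
  let a : B → (ZMod p)ˣ → ℤ := fun χ v => (b χ v : ℤ) - b χ 0
  let A : B → ℤ := fun χ => ∑ v, a χ v
  let Q : B → ℤ := fun χ => ∑ v, a χ v ^ 2
  have hortψ : ∀ s : ZMod p, ∑ i, ψ (i * s) = if s = 0 then (p : ℂ) else 0 := fun s => by
    rw [AddChar.sum_mulShift s hψ, ZMod.card]
    split_ifs <;> simp
  have hfour : ∀ χ : B, ∀ s : ZMod p,
      ∑ i, ((χ : IrrCharacter G) : G → ℂ) (pw i) * ψ (-(s * i)) = (p : ℂ) * b χ s := by
    intro χ s
    simp only [hpw, hb χ, Finset.sum_mul, mul_assoc, ← AddChar.map_add_eq_mul]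
    rw [Finset.sum_comm]
    simp only [← Finset.mul_sum]
    rw [Finset.sum_congr rfl fun r _ => show (b χ r : ℂ) * ∑ i, ψ (r * i + -(s * i)) =
        if r = s then (p : ℂ) * b χ s else 0 by
      rw [show (∑ i, ψ (r * i + -(s * i))) = ∑ i, ψ (i * (r - s)) from
        Finset.sum_congr rfl fun i _ => congrArg ψ (by ring), hortψ]
      by_cases hr : r = s
      · rw [if_pos hr, if_pos (sub_eq_zero.2 hr), hr]; ring
      · rw [if_neg hr, if_neg (sub_ne_zero.2 hr), mul_zero]]
    simp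
  have hinv : ∀ χ : B, ∀ c ∈ ε.range, ∀ v, a χ (c * v) = a χ v := by
    rintro χ c ⟨n, rfl⟩ v
    have h1 : (p : ℂ) * b χ ((ε n : ZMod p) * v) = (p : ℂ) * b χ v := by
      rw [← hfour, ← hfour]
      refine Fintype.sum_equiv (Units.mulLeft (ε n)) _ _ fun i => ?_
      rw [Units.mulLeft_apply, ← hconj n i, CfsgLib.Char.irr_isClassFunction (χ : IrrCharacter G).2,
        mul_assoc, mul_left_comm]
    have h2 : b χ ((ε n : ZMod p) * v) = b χ v :=
      Nat.cast_injective (mul_left_cancel₀ (Nat.cast_ne_zero.2 (Fact.out : p.Prime).ne_zero) h1)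
    simp only [a, Units.val_mul, h2]
  have hb0 : ∀ χ : B, ∀ v : (ZMod p)ˣ, (b χ v : ℂ) = (a χ v : ℂ) + (b χ 0 : ℂ) := fun χ v => by
    simp [a]
  have hpc : (p : ℂ) = (T : ℂ) + 1 := by
    exact_mod_cast (Nat.sub_add_cancel (Fact.out : p.Prime).one_le).symm
  have hsb : ∀ χ : B, ∑ s, (b χ s : ℂ) = (p : ℂ) * b χ 0 + (A χ : ℂ) := fun χ => by
    rw [sum_eq_zero_add_units]
    simp only [hb0, A, Int.cast_sum, Finset.sum_add_distrib, Finset.sum_const, Finset.card_univ,
      hTcard, nsmul_eq_mul]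
    rw [hpc]; ring
  have hsb2 : ∀ χ : B, ∑ s, (b χ s : ℂ) * b χ s =
      (p : ℂ) * (b χ 0 * b χ 0) + 2 * b χ 0 * (A χ : ℂ) + (Q χ : ℂ) := fun χ => by
    rw [sum_eq_zero_add_units]
    simp only [hb0, A, Q, Int.cast_sum, add_mul, mul_add, Finset.sum_add_distrib,
      Finset.sum_const, Finset.card_univ, hTcard, nsmul_eq_mul, ← Finset.mul_sum, ← Finset.sum_mul,
      sq]
    rw [hpc]; push_cast; ring
  have hdeg : ∀ χ : B, ((χ : IrrCharacter G) : G → ℂ) (pw 0) = ∑ s, (b χ s : ℂ) := fun χ => by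
    simp only [hpw, hb χ, mul_zero, AddChar.map_zero_eq_one, mul_one]
  have hS : ∀ χ : B, ∑ v : (ZMod p)ˣ, ((χ : IrrCharacter G) : G → ℂ) (pw v) = -(A χ : ℂ) := by
    intro χ
    have h := hfour χ 0
    simp only [zero_mul, neg_zero, AddChar.map_zero_eq_one, mul_one] at h
    rw [sum_eq_zero_add_units, hdeg, hsb] at h
    linear_combination h
  have hN2 : ∀ χ : B, ∑ v : (ZMod p)ˣ, ((χ : IrrCharacter G) : G → ℂ) (pw v) *
      conj (((χ : IrrCharacter G) : G → ℂ) (pw v)) = (p : ℂ) * (Q χ : ℂ) - (A χ : ℂ) ^ 2 := by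
    intro χ
    have hcj : ∀ i, conj (((χ : IrrCharacter G) : G → ℂ) (pw i)) =
        ∑ s, (b χ s : ℂ) * ψ (-(s * i)) := by
      intro i
      have hinvp : (pw i)⁻¹ = pw (-i) := by
        apply inv_eq_of_mul_eq_one_right
        rw [← ZMod.natCast_zmod_val i, ← ZMod.natCast_zmod_val (-(i.val : ZMod p)), hpwN, hpwN,
          ← pow_add, ← orderOf_dvd_iff_pow_eq_one, hxo, ← CharP.cast_eq_zero_iff (ZMod p) p]
        simp
      rw [irr_conj_eq (χ : IrrCharacter G).2, hinvp]
      simp only [hpw, hb χ, mul_neg]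
    have hall : ∑ i, ((χ : IrrCharacter G) : G → ℂ) (pw i) *
        conj (((χ : IrrCharacter G) : G → ℂ) (pw i)) = (p : ℂ) * ∑ s, (b χ s : ℂ) * b χ s := by
      simp only [hcj, Finset.mul_sum]
      rw [Finset.sum_comm]
      refine Finset.sum_congr rfl fun s _ => ?_
      rw [show (∑ i, ((χ : IrrCharacter G) : G → ℂ) (pw i) * ((b χ s : ℂ) * ψ (-(s * i)))) =
          (b χ s : ℂ) * ∑ i, ((χ : IrrCharacter G) : G → ℂ) (pw i) * ψ (-(s * i)) by
        rw [Finset.mul_sum]; exact Finset.sum_congr rfl fun i _ => by ring, hfour]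
      ring
    rw [sum_eq_zero_add_units, hdeg, map_sum] at hall
    simp only [map_natCast] at hall
    rw [hsb, hsb2] at hall
    linear_combination hall
  -- every member has a nonzero invariant
  have hne : ∀ χ : B, ∃ v, a χ v ≠ 0 := by
    intro χ
    by_contra h
    push Not at h
    have hb' : ∀ s, (b χ s : ℂ) = (b χ 0 : ℂ) := fun s => by
      rcases eq_or_ne s 0 with rfl | hs
      · rfl
      · have h' := hb0 χ (Units.mk0 s hs)
        rw [h, Int.cast_zero, zero_add] at h'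
        exact h'
    have h1 : ((χ : IrrCharacter G) : G → ℂ) x = 0 := by
      rw [← hpw1]
      simp only [hpw, hb χ, hb', ← Finset.mul_sum]
      rw [hortψ, if_neg one_ne_zero, mul_zero]
    have h2 := (χ : B).2 x
    change MemLocalIdeal M (centralChar (fun _ : G => (1 : ℂ)) x -
      centralChar ((χ : IrrCharacter G) : G → ℂ) x) at h2
    simp only [centralChar, h1, mul_zero, zero_div, sub_zero, mul_one, div_one] at h2
    refine P.not_dvd_index (((memLocalIdeal_natCast_iff hM _).1 h2).trans (Subgroup.index_dvd_of_le ?_))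
    intro y hy
    rw [Subgroup.mem_centralizer_singleton_iff]
    rw [hgen, Subgroup.mem_zpowers_iff] at hy
    obtain ⟨i, rfl⟩ := hy
    exact (Commute.zpow_left (Commute.refl x) i).eq
  have hineq := fun χ : B => invariant_sum_sq_ineq ε.range (a χ) (hinv χ) (hne χ)
  -- totals
  have hc1 : ∑ χ : B, ((p : ℤ) * Q χ - A χ ^ 2) = (T : ℤ) * p := by
    have h : ((∑ χ : B, ((p : ℤ) * Q χ - A χ ^ 2) : ℤ) : ℂ) = (T : ℂ) * p := by
      push_cast
      rw [Finset.sum_congr rfl fun χ _ => (hN2 χ).symm, Finset.sum_comm,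
        Finset.sum_congr rfl (g := fun _ => (p : ℂ)) fun v _ => by rw [horth, if_pos rfl],
        Finset.sum_const, Finset.card_univ, hTcard, nsmul_eq_mul]
    exact_mod_cast h
  have hc2 : ∑ χ : B, A χ ^ 2 = (T : ℤ) * e * p := by
    have h : ((∑ χ : B, A χ ^ 2 : ℤ) : ℂ) = (T : ℂ) * e * p := by
      push_cast
      have h1 : ∀ χ : B, (A χ : ℂ) ^ 2 = ∑ v : (ZMod p)ˣ, ∑ w : (ZMod p)ˣ,
          ((χ : IrrCharacter G) : G → ℂ) (pw v) * conj (((χ : IrrCharacter G) : G → ℂ) (pw w)) := by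
        intro χ
        rw [← Finset.sum_mul_sum, ← map_sum, hS, map_neg, map_intCast]
        ring
      rw [Finset.sum_congr rfl fun χ _ => h1 χ, Finset.sum_comm,
        Finset.sum_congr rfl (g := fun _ => (e : ℂ) * p) fun v _ => ?_,
        Finset.sum_const, Finset.card_univ, hTcard, nsmul_eq_mul, mul_assoc]
      rw [Finset.sum_comm, Finset.sum_congr rfl fun w _ => horth v w, ← Finset.sum_filter,
        Finset.sum_const, nsmul_eq_mul]
      congr 2
      rw [← hee, Nat.card_eq_fintype_card, ← Finset.card_univ]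
      refine Finset.card_bij' (fun w hw => (⟨v⁻¹ * w, QuotientGroup.eq.1 (Finset.mem_filter.1 hw).2⟩ : ε.range))
        (fun c _ => v * (c : (ZMod p)ˣ)) (fun _ _ => Finset.mem_univ _) (fun c _ => ?_)
        (fun w _ => mul_inv_cancel_left v w) (fun c _ => Subtype.ext (inv_mul_cancel_left v c))
      refine Finset.mem_filter.2 ⟨Finset.mem_univ _, QuotientGroup.eq.2 ?_⟩
      rw [inv_mul_cancel_left]
      exact c.2
    exact_mod_cast h
  set n := Fintype.card B with hndef
  let eqv := Fintype.equivFin B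
  have hT0 : 0 < T := by rw [← hTcard]; exact Fintype.card_pos
  have he0 : 0 < e := hee ▸ Nat.card_pos
  have hpT : (p : ℤ) = (T : ℤ) + 1 := by exact_mod_cast (Nat.sub_add_cancel (Fact.out : p.Prime).one_le).symm
  obtain ⟨hn, heq⟩ := count_arith (n := n) (T := (T : ℤ)) (e := (e : ℤ)) (t := (t : ℤ)) (p := (p : ℤ))
    (by exact_mod_cast he0) (by exact_mod_cast hT0) hpT (by exact_mod_cast het)
    (by
      rw [hee, Nat.card_eq_fintype_card] at hge
      exact_mod_cast hge)
    (fun i => Q (eqv.symm i)) (fun i => A (eqv.symm i))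
    (fun i => by
      have h := (hineq (eqv.symm i)).1
      rw [hee, hTcard] at h
      exact h)
    ((Equiv.sum_comp eqv.symm fun χ => (p : ℤ) * Q χ - A χ ^ 2).trans hc1)
    ((Equiv.sum_comp eqv.symm fun χ => A χ ^ 2).trans hc2)
  have hdiv : (n : ℤ) * e = (e : ℤ) * e + T := by
    rw [hn]
    have h : (t : ℤ) * e = T := by exact_mod_cast het
    linear_combination h
  let a' : IrrCharacter G → (ZMod p)ˣ → ℤ := fun χ v => if h : χ ∈ B then a ⟨χ, h⟩ v else 0
  have ha' : ∀ χ : B, a' χ = a χ := fun χ => by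
    funext v; simp only [a', dif_pos χ.2]
  have hap : ∀ (χ : B) (r : (ZMod p)ˣ), (p : ℂ) * (a χ r : ℂ) =
      ∑ v : (ZMod p)ˣ, ((χ : IrrCharacter G) : G → ℂ) (pw v) * (ψ (-((r : ZMod p) * v)) - 1) := by
    intro χ r
    have h1 := hfour χ r
    have h2 := hfour χ 0
    simp only [zero_mul, neg_zero, AddChar.map_zero_eq_one, mul_one] at h2
    rw [sum_eq_zero_add_units] at h1 h2
    simp only [mul_sub, mul_one, Finset.sum_sub_distrib]
    rw [mul_zero, neg_zero, AddChar.map_zero_eq_one, mul_one] at h1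
    have h3 := hb0 χ r
    linear_combination -h1 + h2 - (p : ℂ) * h3
  refine ⟨ε.range, a', hee, ?_, fun χ hχ => ?_, fun χ hχ => ?_, ?_, fun r s => ?_, fun g hg r => ?_,
    fun χ hχ => ?_⟩
  · rw [Nat.card_eq_fintype_card (α := B), ← hndef]
    exact_mod_cast hdiv
  · have h := heq (eqv ⟨χ, hχ⟩)
    simp only [Equiv.symm_apply_apply] at h
    rw [show a' χ = a ⟨χ, hχ⟩ from ha' ⟨χ, hχ⟩]
    refine extremal_shape ε.range _ (hinv _) (hne _) ?_
    rw [hee, hTcard]
    exact h
  · set χ' : B := ⟨χ, hχ⟩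
    have h1 : ((charDegree (χ : G → ℂ) : ℤ) : ℂ) = (((p : ℤ) * (b χ' 0 : ℤ) + A χ' : ℤ) : ℂ) := by
      push_cast
      rw [charDegree_cast (CfsgLib.Char.irr_isCharacter χ.2), ← hsb, ← hdeg]
      simp [hpw, χ']
    rw [Int.cast_inj.1 h1, show a' χ = a χ' from ha' χ']
    exact Int.modEq_iff_dvd.2 ⟨-(b χ' 0 : ℤ), by change A χ' - _ = _; ring⟩
  · intro χ hχ c hc y hy hy1 z hz hzr
    set χ' : B := ⟨χ, hχ⟩
    obtain ⟨i, hi⟩ : ∃ i : ℕ, x ^ i = y := by
      rw [hgen] at hy; exact mem_powers_iff_mem_zpowers.2 hy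
    have hi0 : (i : ZMod p) ≠ 0 := by
      intro h0
      apply hy1
      rw [← hi, ← hpwN, h0]
      simp [hpw]
    set v : (ZMod p)ˣ := Units.mk0 (i : ZMod p) hi0
    have hyv : pw v = y := by rw [← hi, ← hpwN]; rfl
    obtain ⟨hconst, -⟩ := principal_section hM (x := pw v) ⟨1, by rw [hord, pow_one]⟩
      (by rw [hcen]; exact hcenC)
    rw [← hyv, hconst χ hχ z ((Subgroup.mem_centralizer_iff.1 hz _ (hpwP v))) hzr]
    have hac : ∀ s : (ZMod p)ˣ, (b χ' s : ℂ) = (c : ℂ) + (b χ' 0 : ℂ) := fun s => by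
      rw [hb0, ← ha' χ']
      simp only [χ', hc]
    have h1 : (χ : G → ℂ) (pw v) = ∑ s : ZMod p, (b χ' s : ℂ) * ψ (s * v) := by
      simp only [hpw, ← hb χ', χ']
    have h2 := hortψ (v : ZMod p)
    rw [if_neg v.ne_zero, sum_eq_zero_add_units, zero_mul, AddChar.map_zero_eq_one] at h2
    rw [h1, sum_eq_zero_add_units, zero_mul, AddChar.map_zero_eq_one]
    simp only [hac, add_mul, Finset.sum_add_distrib, ← Finset.mul_sum]
    linear_combination ((c : ℂ) + (b χ' 0 : ℂ)) * h2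
  · rw [finsum_mem_eq_finite_toFinset_sum _ B.toFinite,
      Finset.sum_subtype B.toFinite.toFinset (p := (· ∈ B)) (by simp) (fun χ => a' χ r * a' χ s)]
    simp only [ha']
    have hkey : ((p : ℂ) * p) * ((∑ χ : B, a χ r * a χ s : ℤ) : ℂ) =
        ((p : ℂ) * p) * (((if r⁻¹ * s ∈ ε.range then (1 : ℤ) else 0) + (e : ℤ) : ℤ) : ℂ) := by
      push_cast
      have hreal : ∀ χ : B, (p : ℂ) * (a χ s : ℂ) = ∑ w : (ZMod p)ˣ,
          conj (((χ : IrrCharacter G) : G → ℂ) (pw w)) * (ψ ((s : ZMod p) * w) - 1) := fun χ => by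
        have h := congrArg conj (hap χ s)
        simp only [map_mul, map_natCast, map_intCast, map_sum, map_sub, map_one] at h
        rw [h]
        refine Finset.sum_congr rfl fun w _ => ?_
        rw [← AddChar.map_neg_eq_conj, neg_neg]
      rw [Finset.mul_sum, Finset.sum_congr rfl fun χ _ => show (p : ℂ) * p * ((a χ r : ℂ) * a χ s) =
          ((p : ℂ) * a χ r) * ((p : ℂ) * a χ s) by ring]
      simp only [hreal, hap, Finset.sum_mul, Finset.mul_sum]
      rw [Finset.sum_comm, Finset.sum_congr rfl fun v _ => Finset.sum_comm]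
      have hstep : ∀ v w : (ZMod p)ˣ, ∑ χ : B, ((χ : IrrCharacter G) : G → ℂ) (pw v) *
          (ψ (-((r : ZMod p) * v)) - 1) * (conj (((χ : IrrCharacter G) : G → ℂ) (pw w)) *
            (ψ ((s : ZMod p) * w) - 1)) =
          if v⁻¹ * w ∈ ε.range then
            (p : ℂ) * ((ψ (-((r : ZMod p) * v)) - 1) * (ψ ((s : ZMod p) * w) - 1)) else 0 := by
        intro v w
        rw [show (∑ χ : B, ((χ : IrrCharacter G) : G → ℂ) (pw v) *
            (ψ (-((r : ZMod p) * v)) - 1) * (conj (((χ : IrrCharacter G) : G → ℂ) (pw w)) *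
              (ψ ((s : ZMod p) * w) - 1))) =
            ∑ χ : B, (((χ : IrrCharacter G) : G → ℂ) (pw v) *
              conj (((χ : IrrCharacter G) : G → ℂ) (pw w))) *
              ((ψ (-((r : ZMod p) * v)) - 1) * (ψ ((s : ZMod p) * w) - 1)) from
            Finset.sum_congr rfl fun χ _ => by ring,
          ← Finset.sum_mul, horth]
        by_cases h : v⁻¹ * w ∈ ε.range
        · rw [if_pos h, if_pos (QuotientGroup.eq.2 h)]
        · rw [if_neg h, if_neg (fun h' => h (QuotientGroup.eq.1 h')), zero_mul]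
      simp only [hstep]
      rw [Finset.sum_comm]
      -- substitute `w = v * c`
      rw [Finset.sum_congr rfl fun v _ => show (∑ w : (ZMod p)ˣ, if v⁻¹ * w ∈ ε.range then
          (p : ℂ) * ((ψ (-((r : ZMod p) * v)) - 1) * (ψ ((s : ZMod p) * w) - 1)) else 0) =
          ∑ c : (ZMod p)ˣ, if c ∈ ε.range then
            (p : ℂ) * ((ψ (-((r : ZMod p) * v)) - 1) * (ψ ((s : ZMod p) * (v * c : (ZMod p)ˣ)) - 1))
            else 0 from (Fintype.sum_equiv (Equiv.mulLeft v) _ _ fun c => by simp).symm,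
        Finset.sum_comm]
      have hinner : ∀ c : (ZMod p)ˣ, ∑ v : (ZMod p)ˣ,
          (ψ (-((r : ZMod p) * v)) - 1) * (ψ ((s : ZMod p) * (v * c : (ZMod p)ˣ)) - 1) =
          (p : ℂ) * ((if s * c = r then 1 else 0) + 1) := by
        intro c
        have h3 : ∀ d : ZMod p, ∑ v : (ZMod p)ˣ, ψ ((v : ZMod p) * d) =
            (if d = 0 then (p : ℂ) else 0) - 1 := fun d => by
          rw [← hortψ d, sum_eq_zero_add_units, zero_mul, AddChar.map_zero_eq_one]; ring
        have h4 : ∀ v : (ZMod p)ˣ,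
            (ψ (-((r : ZMod p) * v)) - 1) * (ψ ((s : ZMod p) * (v * c : (ZMod p)ˣ)) - 1) =
            ψ ((v : ZMod p) * ((s : ZMod p) * c - r)) - ψ ((v : ZMod p) * -(r : ZMod p)) -
              ψ ((v : ZMod p) * ((s : ZMod p) * c)) + 1 := fun v => by
          rw [show (s : ZMod p) * (v * c : (ZMod p)ˣ) = (v : ZMod p) * ((s : ZMod p) * c) by
              push_cast; ring,
            show -((r : ZMod p) * v) = (v : ZMod p) * -(r : ZMod p) by ring,
            show (v : ZMod p) * ((s : ZMod p) * c - r) =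
              (v : ZMod p) * -(r : ZMod p) + (v : ZMod p) * ((s : ZMod p) * c) by ring,
            AddChar.map_add_eq_mul]
          ring
        rw [Finset.sum_congr rfl fun v _ => h4 v, Finset.sum_add_distrib, Finset.sum_sub_distrib,
          Finset.sum_sub_distrib, h3, h3, h3, if_neg (neg_ne_zero.2 r.ne_zero),
          if_neg (mul_ne_zero s.ne_zero c.ne_zero), Finset.sum_const, Finset.card_univ, hTcard,
          nsmul_eq_mul, mul_one]
        by_cases h : s * c = r
        · rw [if_pos h, if_pos (by rw [← h]; push_cast; ring), hpc]; ring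
        · rw [if_neg h, if_neg (fun h' => h (Units.ext (by push_cast; exact sub_eq_zero.1 h'))), hpc]
          ring
      have houter : ∀ c : (ZMod p)ˣ, (∑ v : (ZMod p)ˣ, if c ∈ ε.range then
          (p : ℂ) * ((ψ (-((r : ZMod p) * v)) - 1) * (ψ ((s : ZMod p) * (v * c : (ZMod p)ˣ)) - 1))
          else 0) = if c ∈ ε.range then (p : ℂ) * p * ((if s * c = r then 1 else 0) + 1) else 0 := by
        intro c
        by_cases h : c ∈ ε.range
        · simp only [if_pos h]
          rw [← Finset.mul_sum, hinner]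
          ring
        · simp only [if_neg h, Finset.sum_const_zero]
      simp only [houter]
      rw [← Finset.sum_filter, ← Finset.mul_sum, Finset.sum_add_distrib, Finset.sum_const,
        show (Finset.univ.filter fun c : (ZMod p)ˣ => c ∈ ε.range).card = e by
          rw [← hee, Nat.card_eq_fintype_card, Fintype.card_subtype], Finset.sum_ite, Finset.sum_const,
        Finset.sum_const_zero, add_zero]
      congr 2
      · have h5 : ((Finset.univ.filter fun c : (ZMod p)ˣ => c ∈ ε.range).filter fun c => s * c = r) =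
            if r⁻¹ * s ∈ ε.range then {s⁻¹ * r} else ∅ := by
          ext c
          have hiff : s * c = r ↔ c = s⁻¹ * r := eq_inv_mul_iff_mul_eq.symm
          have hinvm : (s⁻¹ * r) ∈ ε.range ↔ r⁻¹ * s ∈ ε.range := by
            rw [← inv_mem_iff (x := r⁻¹ * s), mul_inv_rev, inv_inv]
          split_ifs with h
          · simp only [Finset.mem_filter, Finset.mem_univ, true_and, Finset.mem_singleton, hiff]
            exact ⟨fun h' => h'.2, fun h' => ⟨h' ▸ hinvm.2 h, h'⟩⟩
          · simp only [Finset.mem_filter, Finset.mem_univ, true_and, Finset.notMem_empty, iff_false,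
              hiff]
            exact fun h' => h (hinvm.1 (h'.2 ▸ h'.1))
        rw [h5]; split_ifs <;> simp
      · simp
    have hp0 : (p : ℂ) * p ≠ 0 := by simp [(Fact.out : p.Prime).ne_zero]
    exact_mod_cast mul_left_cancel₀ hp0 hkey
  · rw [finsum_mem_eq_finite_toFinset_sum _ B.toFinite,
      Finset.sum_subtype B.toFinite.toFinset (p := (· ∈ B)) (by simp)
        (fun χ => (a' χ r : ℂ) * (χ : G → ℂ) g)]
    simp only [ha']
    refine mul_left_cancel₀ (Nat.cast_ne_zero.2 (Fact.out : p.Prime).ne_zero : (p : ℂ) ≠ 0) ?_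
    rw [mul_zero, Finset.mul_sum]
    simp only [← mul_assoc, hap, Finset.sum_mul]
    rw [Finset.sum_comm]
    refine Finset.sum_eq_zero fun v _ => ?_
    have h := sum_block_eq_zero_of_regular_singular hM hBblk hg (h := (pw v)⁻¹)
      (by rw [orderOf_inv, hord])
    rw [hsumB fun χ => (χ : G → ℂ) g * conj ((χ : G → ℂ) (pw v)⁻¹)] at h
    have h' : ∑ χ : B, ((χ : IrrCharacter G) : G → ℂ) g * ((χ : IrrCharacter G) : G → ℂ) (pw v) = 0 := by
      rw [← h]
      exact Finset.sum_congr rfl fun χ _ => by rw [irr_conj_eq (χ : IrrCharacter G).2, inv_inv]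
    rw [show (∑ χ : B, ((χ : IrrCharacter G) : G → ℂ) (pw v) *
        (ψ (-((r : ZMod p) * v)) - 1) * ((χ : IrrCharacter G) : G → ℂ) g) =
        ∑ χ : B, (((χ : IrrCharacter G) : G → ℂ) g * ((χ : IrrCharacter G) : G → ℂ) (pw v)) *
          (ψ (-((r : ZMod p) * v)) - 1) from Finset.sum_congr rfl fun χ _ => by ring, ← Finset.sum_mul, h', zero_mul]
  · set χ' : B := ⟨χ, hχ⟩
    have := Fintype.ofFinite (P : Subgroup G)
    let Φ : ZMod p → (P : Subgroup G) := fun i => ⟨pw i, hpwP i⟩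
    have hΦ : Function.Bijective Φ := by
      refine (Fintype.bijective_iff_injective_and_card Φ).2
        ⟨fun i j h => hpwinj i j (congrArg Subtype.val h), ?_⟩
      rw [ZMod.card, ← Nat.card_eq_fintype_card, hP]
    rw [finsum_eq_sum_of_fintype, ← (Equiv.ofBijective Φ hΦ).sum_comp, sum_eq_zero_add_units,
      show a' χ = a χ' from ha' χ']
    have h := hS χ'
    have h0 : pw 0 = 1 := by simp [hpw]
    simp only [Equiv.ofBijective_apply, Φ, h0]
    change (χ : G → ℂ) 1 + ∑ v : (ZMod p)ˣ, (χ : G → ℂ) (pw v) = _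
    rw [h]
    simp only [A]
    ring

/-- The principal block of a group with a Sylow subgroup of order `p`. -/
theorem exists_rows {G : Type u} [Group G] [Finite G] (p : ℕ) [Fact p.Prime] (M : Ideal AlgInt)
    (hM : IsPModular p M) (P : Sylow p G) (hP : Nat.card P = p) (e : ℕ)
    (he : (Subgroup.centralizer ((P : Subgroup G) : Set G)).relIndex
      (Subgroup.normalizer ((P : Subgroup G) : Set G)) = e) :
    ∃ (E : Subgroup (ZMod p)ˣ) (a : IrrCharacter G → (ZMod p)ˣ → ℤ),
      Nat.card E = e ∧ Nat.card (principalBlock M G) * e = (e * e + (p - 1)) ∧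
      (∀ χ ∈ principalBlock M G, ∃ c : ℤ, (c = 1 ∨ c = -1) ∧
        ((∀ v, a χ v = c) ∨
          ∃ w, ∀ v, (w⁻¹ * v ∈ E → a χ v = c) ∧ (w⁻¹ * v ∉ E → a χ v = 0))) ∧
      (∀ χ ∈ principalBlock M G, (charDegree (χ : G → ℂ) : ℤ) ≡ ∑ v, a χ v [ZMOD p]) ∧
      (∀ χ ∈ principalBlock M G, ∀ c : ℤ, (∀ v, a χ v = c) → ∀ y ∈ (P : Subgroup G), y ≠ 1 →
        ∀ z ∈ Subgroup.centralizer ((P : Subgroup G) : Set G), ¬ p ∣ orderOf z →
          (χ : G → ℂ) (y * z) = -(c : ℂ)) ∧
      (∀ r s : (ZMod p)ˣ, ∑ᶠ χ ∈ principalBlock M G, a χ r * a χ s =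
        (open Classical in if r⁻¹ * s ∈ E then (1 : ℤ) else 0) + e) ∧
      (∀ (g : G), ¬ p ∣ orderOf g → ∀ r : (ZMod p)ˣ,
        ∑ᶠ χ ∈ principalBlock M G, (a χ r : ℂ) * (χ : G → ℂ) g = 0) := by
  obtain ⟨E, a, h1, h2, h3, h4, h5, h6, h7, -⟩ := exists_rows_sum p M hM P hP e he
  exact ⟨E, a, h1, h2, h3, h4, h5, h6, h7⟩

end PrimeRows

end CfsgLib.Block
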