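import Cfsg.Agent.Lib.Block.DefectOneOrbit
import Cfsg.Agent.Lib.Block.PrimeSylowPrincipal

/-!
The rows of a block of defect one: the integral invariants of its characters, the count of its
characters, and the exceptional family.
-/

set_option autoImplicit false
set_option linter.unusedSectionVars false

namespace CfsgLib.Block

open Cfsg
open scoped ComplexConjugate

universe u

namespace OneBlock

variable {G : Type u} [Group G] [Fintype G] {p : ℕ} [hp : Fact p.Prime] {M : Ideal AlgInt}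
  [M.IsPrime] (O : OneBlock G p M)

local notation "Cx" => Subgroup.centralizer (Singleton.singleton (OneBlock.x O) : Set G)
local notation "ψ" => (ZMod.stdAddChar (N := p))

theorem sum_units_psi (s : ZMod p) :
    ∑ v : (ZMod p)ˣ, ψ (s * v) = (if s = 0 then (p : ℂ) else 0) - 1 := by
  have h1 := PrimeRows.sum_eq_zero_add_units (fun i : ZMod p => ψ (s * i))
  have h2 : ∑ i : ZMod p, ψ (s * i) = if s = 0 then (p : ℂ) else 0 := by
    rw [Finset.sum_congr rfl fun i _ => congrArg ψ (mul_comm s i),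
      AddChar.sum_mulShift s (ZMod.isPrimitive_stdAddChar p), ZMod.card]
    split_ifs <;> simp
  rw [mul_zero, AddChar.map_zero_eq_one, h2] at h1
  rw [h1, add_sub_cancel_left]

/-- The integral invariant of a character at the block. -/
noncomputable def row (χ : IrrCharacter G) (v : (ZMod p)ˣ) : ℤ :=
  ((O.exists_mult_nat χ).choose v : ℤ) - ((O.exists_mult_nat χ).choose 0 : ℤ)

theorem row_cast (χ : IrrCharacter G) (v : (ZMod p)ˣ) :
    (O.row χ v : ℂ) = O.mult χ v - O.mult χ 0 := by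
  rw [(O.exists_mult_nat χ).choose_spec, (O.exists_mult_nat χ).choose_spec, row]
  push_cast
  rfl

theorem row_mul (χ : IrrCharacter G) {u : (ZMod p)ˣ} (hu : u ∈ O.expSubgroup) (v : (ZMod p)ˣ) :
    O.row χ (u * v) = O.row χ v := by
  obtain ⟨n, ⟨hn, hfix⟩, hc⟩ := hu
  refine Int.cast_injective (α := ℂ) ?_
  rw [row_cast, row_cast, Units.val_mul, mul_comm (u : ZMod p), O.mult_smul hn hfix hc]

theorem ah_eq_sum_row (χ : IrrCharacter G) (i : (ZMod p)ˣ) :
    O.ah χ i = ∑ v : (ZMod p)ˣ, (O.row χ v : ℂ) * ψ (v * i) := by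
  simp only [row_cast, sub_mul, Finset.sum_sub_distrib, ← Finset.mul_sum]
  rw [ah, PrimeRows.sum_eq_zero_add_units, zero_mul, AddChar.map_zero_eq_one, mul_one,
    show ∑ v : (ZMod p)ˣ, ψ ((v : ZMod p) * i) = ∑ v : (ZMod p)ˣ, ψ ((i : ZMod p) * v) from
      Finset.sum_congr rfl fun v _ => by rw [mul_comm],
    sum_units_psi, if_neg i.ne_zero]
  ring

theorem sum_ah (χ : IrrCharacter G) :
    ∑ i : (ZMod p)ˣ, O.ah χ i = -((∑ v : (ZMod p)ˣ, O.row χ v : ℤ) : ℂ) := by
  simp only [ah_eq_sum_row, Int.cast_sum]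
  rw [Finset.sum_comm, ← Finset.sum_neg_distrib]
  refine Finset.sum_congr rfl fun v _ => ?_
  rw [← Finset.mul_sum, sum_units_psi, if_neg v.ne_zero]
  ring

theorem mul_row (χ : IrrCharacter G) (v : (ZMod p)ˣ) :
    (p : ℂ) * (O.row χ v : ℂ) = ∑ i : (ZMod p)ˣ, O.ah χ i * (ψ (-((v : ZMod p) * i)) - 1) := by
  classical
  simp only [mul_sub, mul_one, Finset.sum_sub_distrib, sum_ah]
  simp only [ah_eq_sum_row, Finset.sum_mul, mul_assoc, ← AddChar.map_add_eq_mul]
  rw [Finset.sum_comm, Finset.sum_congr rfl fun w _ => show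
    ∑ i : (ZMod p)ˣ, (O.row χ w : ℂ) * ψ ((w : ZMod p) * i + -((v : ZMod p) * i)) =
      (if w = v then (p : ℂ) * (O.row χ w : ℂ) else 0) - (O.row χ w : ℂ) by
    rw [← Finset.mul_sum, show ∑ i : (ZMod p)ˣ, ψ ((w : ZMod p) * i + -((v : ZMod p) * i)) =
      ∑ i : (ZMod p)ˣ, ψ (((w : ZMod p) - v) * i) from
      Finset.sum_congr rfl fun i _ => congrArg ψ (by ring), sum_units_psi]
    by_cases h : w = v
    · rw [if_pos h, if_pos (sub_eq_zero.2 (congrArg Units.val h))]; ring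
    · rw [if_neg h, if_neg (sub_ne_zero.2 fun h' => h (Units.ext h'))]; ring]
  rw [Finset.sum_sub_distrib, Finset.sum_ite_eq' Finset.univ v, if_pos (Finset.mem_univ v)]
  push_cast
  ring

theorem sum_norm_ah (χ : IrrCharacter G) :
    ∑ i : (ZMod p)ˣ, O.ah χ i * conj (O.ah χ i) =
      (((p : ℤ) * ∑ v, O.row χ v ^ 2 - (∑ v, O.row χ v) ^ 2 : ℤ) : ℂ) := by
  classical
  simp only [ah_eq_sum_row, map_sum, map_mul, map_intCast, ← AddChar.map_neg_eq_conj,
    Finset.sum_mul_sum]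
  rw [Finset.sum_comm, Finset.sum_congr rfl fun v _ => Finset.sum_comm]
  have key : ∀ v w : (ZMod p)ˣ, ∑ i : (ZMod p)ˣ,
      (O.row χ v : ℂ) * ψ (v * i) * ((O.row χ w : ℂ) * ψ (-((w : ZMod p) * i))) =
      (O.row χ v : ℂ) * (O.row χ w : ℂ) * ((if v = w then (p : ℂ) else 0) - 1) := by
    intro v w
    rw [Finset.sum_congr rfl fun (i : (ZMod p)ˣ) _ => show
      (O.row χ v : ℂ) * ψ (v * i) * ((O.row χ w : ℂ) * ψ (-((w : ZMod p) * i))) =
        (O.row χ v : ℂ) * (O.row χ w : ℂ) * ψ (((v : ZMod p) - w) * i) by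
      rw [show ((v : ZMod p) - w) * i = (v : ZMod p) * i + -((w : ZMod p) * i) by ring,
        AddChar.map_add_eq_mul]
      ring, ← Finset.mul_sum, sum_units_psi]
    congr 2
    by_cases h : v = w
    · rw [if_pos h, if_pos (sub_eq_zero.2 (congrArg Units.val h))]
    · rw [if_neg h, if_neg (sub_ne_zero.2 fun h' => h (Units.ext h'))]
  simp only [key, mul_sub, Finset.sum_sub_distrib, mul_ite, mul_zero, mul_one, Finset.sum_ite_eq,
    Finset.mem_univ, if_true]
  push_cast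
  rw [sq (∑ v, (O.row χ v : ℂ)), Finset.sum_mul_sum, Finset.mul_sum]
  congr 1
  exact Finset.sum_congr rfl fun v _ => by ring

variable {B : Set (IrrCharacter G)} (hind : IsInducedBlock M
  (Subgroup.centralizer ({O.x} : Set G)) O.b B)
include hind

theorem exists_row_ne_zero {χ : IrrCharacter G} (hχ : χ ∈ B) : ∃ v, O.row χ v ≠ 0 := by
  obtain ⟨i, hi, hne⟩ := O.exists_ah_ne_zero hind hχ
  by_contra h
  push Not at h
  apply hne
  rw [show i = ((Units.mk0 i hi : (ZMod p)ˣ) : ZMod p) from rfl, ah_eq_sum_row]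
  exact Finset.sum_eq_zero fun v _ => by rw [h v, Int.cast_zero, zero_mul]

open Classical in
theorem orth [Fintype B] (i j : (ZMod p)ˣ) :
    ∑ χ : B, O.ah χ i * conj (O.ah χ j) = if i⁻¹ * j ∈ O.expSubgroup then (p : ℂ) else 0 := by
  have := Fintype.ofFinite (IrrCharacter G)
  rw [← Finset.sum_subtype B.toFinite.toFinset (p := (· ∈ B)) (by simp)
    (fun χ : IrrCharacter G => O.ah χ i * conj (O.ah χ j)),
    O.sum_ah_mul_conj hind i.ne_zero j.ne_zero]
  refine if_congr ⟨?_, ?_⟩ rfl rfl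
  · rintro ⟨n, hn, hfix, h⟩
    obtain ⟨c, hc0, hc⟩ := O.exists_conj hn
    rw [← conj_pow, hc, DefectOne.pow_val_mul O.hxo] at h
    have hci := DefectOne.pow_val_inj O.hxo h
    refine ⟨n, ⟨hn, hfix⟩, ?_⟩
    rw [Units.val_mul, ← hci, mul_comm c, ← mul_assoc, Units.inv_mul, one_mul]
    exact hc
  · rintro ⟨n, ⟨hn, hfix⟩, h⟩
    refine ⟨n, hn, hfix, ?_⟩
    rw [← conj_pow, h, DefectOne.pow_val_mul O.hxo, Units.val_mul, mul_comm _ (j : ZMod p),
      mul_assoc, Units.inv_mul, mul_one]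

theorem sum_regular [Fintype B] (i : (ZMod p)ˣ) {g : G} (hg : ¬ p ∣ orderOf g) :
    ∑ χ : B, O.ah χ i * ((χ : IrrCharacter G) : G → ℂ) g = 0 := by
  have := Fintype.ofFinite (IrrCharacter G)
  rw [← Finset.sum_subtype B.toFinite.toFinset (p := (· ∈ B)) (by simp)
    (fun χ : IrrCharacter G => O.ah χ i * (χ : G → ℂ) g)]
  exact O.sum_ah_regular hind i.ne_zero hg

/-- The regular rank and the index of the exponents together are bounded by the block. -/
theorem blockRank_add_index_le : blockRank p B + O.expSubgroup.index ≤ Nat.card B := by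
  classical
  have := Fintype.ofFinite B
  let Q := (ZMod p)ˣ ⧸ O.expSubgroup
  have := Fintype.ofFinite Q
  let L := Fintype.linearCombination ℂ
    (fun χ : B => pRegularPart p ((χ : IrrCharacter G) : G → ℂ))
  have hrange : LinearMap.range L = Submodule.span ℂ
      ((fun χ : IrrCharacter G => pRegularPart p (χ : G → ℂ)) '' B) := by
    rw [Fintype.range_linearCombination, Set.image_eq_range]
  let col : Q → LinearMap.ker L := fun r =>
    ⟨fun χ : B => O.ah χ ((r.out : (ZMod p)ˣ) : ZMod p), by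
      rw [LinearMap.mem_ker, Fintype.linearCombination_apply]
      ext g
      simp only [Finset.sum_apply, Pi.smul_apply, smul_eq_mul, pRegularPart, Pi.zero_apply]
      by_cases hg : IsPRegular p g
      · simp only [if_pos hg]
        exact O.sum_regular hind r.out hg
      · simp [if_neg hg]⟩
  have hli : LinearIndependent ℂ col := by
    rw [Fintype.linearIndependent_iff]
    intro c hc r
    have h1 : ∀ χ : B, ∑ s, c s * O.ah χ ((s.out : (ZMod p)ˣ) : ZMod p) = 0 := fun χ => by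
      have h2 := congrFun (congrArg Subtype.val hc) χ
      simpa [col] using h2
    have h3 : ∑ χ : B, (∑ s, c s * O.ah χ ((s.out : (ZMod p)ˣ) : ZMod p)) *
        conj (O.ah χ ((r.out : (ZMod p)ˣ) : ZMod p)) = 0 :=
      Finset.sum_eq_zero fun χ _ => by rw [h1, zero_mul]
    simp only [Finset.sum_mul, mul_assoc] at h3
    rw [Finset.sum_comm] at h3
    simp only [← Finset.mul_sum, O.orth hind] at h3
    rw [Finset.sum_eq_single r] at h3
    · rw [if_pos (by simp)] at h3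
      exact (mul_eq_zero.1 h3).resolve_right (Nat.cast_ne_zero.2 hp.out.ne_zero)
    · intro s _ hs
      rw [if_neg, mul_zero]
      intro h
      apply hs
      rw [← QuotientGroup.out_eq' s, ← QuotientGroup.out_eq' r]
      exact QuotientGroup.eq.2 h
    · intro h; exact absurd (Finset.mem_univ r) h
  have hle := hli.fintype_card_le_finrank
  have hsum := LinearMap.finrank_range_add_finrank_ker L
  rw [Module.finrank_fintype_fun_eq_card, hrange] at hsum
  rw [blockRank, Subgroup.index, Nat.card_eq_fintype_card, Nat.card_eq_fintype_card]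
  change _ + Fintype.card Q ≤ _
  omega

theorem relIndex_le_rank : Subgroup.relIndex Cx O.T ≤ blockRank p B :=
  DefectOne.relIndex_le_blockRank O.hM O.hxo O.hsq hind O.cen_le_T O.T_le fun n hn =>
    O.image_eq_iff_mem (n := n) hn

/-- The count of the block and the extremal property of its rows. -/
theorem natCard_eq_and_extremal :
    Nat.card B = Nat.card O.expSubgroup + O.expSubgroup.index ∧
      blockRank p B = Nat.card O.expSubgroup ∧
      ∀ χ ∈ B, (Fintype.card (ZMod p)ˣ + Nat.card O.expSubgroup : ℤ) * ∑ v, O.row χ v ^ 2 -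
        (∑ v, O.row χ v) ^ 2 = (Nat.card O.expSubgroup : ℤ) * Fintype.card (ZMod p)ˣ := by
  classical
  have := Fintype.ofFinite B
  set H := O.expSubgroup with hH
  set e : ℕ := Nat.card H with he
  set T : ℕ := Fintype.card (ZMod p)ˣ with hT
  have het : H.index * e = T := by
    rw [hT, ← Nat.card_eq_fintype_card, he]
    exact H.index_mul_card
  have hrank : e ≤ blockRank p B := by
    rw [he, hH, O.natCard_expSubgroup]
    exact O.relIndex_le_rank hind
  have hlow := O.blockRank_add_index_le hind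
  let Q : B → ℤ := fun χ => ∑ v, O.row χ v ^ 2
  let A : B → ℤ := fun χ => ∑ v, O.row χ v
  have hc1 : ∑ χ : B, ((p : ℤ) * Q χ - A χ ^ 2) = (T : ℤ) * p := by
    refine Int.cast_injective (α := ℂ) ?_
    rw [Int.cast_sum, Finset.sum_congr rfl fun (χ : B) _ => (O.sum_norm_ah χ).symm, Finset.sum_comm,
      Finset.sum_congr rfl (g := fun _ => (p : ℂ)) fun i _ => by
        rw [O.orth hind, if_pos (by simp)],
      Finset.sum_const, Finset.card_univ, nsmul_eq_mul]
    push_cast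
    rfl
  have hc2 : ∑ χ : B, A χ ^ 2 = (T : ℤ) * e * p := by
    refine Int.cast_injective (α := ℂ) ?_
    have h1 : ∀ χ : B, ((A χ ^ 2 : ℤ) : ℂ) = ∑ i : (ZMod p)ˣ, ∑ j : (ZMod p)ˣ,
        O.ah χ i * conj (O.ah χ j) := fun χ => by
      rw [← Finset.sum_mul_sum, ← map_sum, sum_ah, map_neg, map_intCast]
      simp only [A]
      push_cast
      ring
    rw [Int.cast_sum, Finset.sum_congr rfl fun (χ : B) _ => h1 χ, Finset.sum_comm,
      Finset.sum_congr rfl (g := fun _ => (e : ℂ) * p) fun i _ => ?_,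
      Finset.sum_const, Finset.card_univ, nsmul_eq_mul]
    · push_cast; ring
    rw [Finset.sum_comm, Finset.sum_congr rfl fun j _ => O.orth hind i j, ← Finset.sum_filter,
      Finset.sum_const, nsmul_eq_mul]
    congr 2
    rw [he, Nat.card_eq_fintype_card, ← Finset.card_univ]
    exact Finset.card_bij' (fun j hj => (⟨i⁻¹ * j, (Finset.mem_filter.1 hj).2⟩ : H))
      (fun c _ => i * (c : (ZMod p)ˣ)) (fun _ _ => Finset.mem_univ _)
      (fun c _ => Finset.mem_filter.2 ⟨Finset.mem_univ _, by rw [inv_mul_cancel_left]; exact c.2⟩)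
      (fun j _ => mul_inv_cancel_left i j) (fun c _ => Subtype.ext (inv_mul_cancel_left i c))
  set n := Fintype.card B with hn
  let eq := (Fintype.equivFin B).symm
  rw [Nat.card_eq_fintype_card (α := ↥B), ← hn] at hlow ⊢
  rw [← hH] at hlow
  have key := PrimeRows.count_arith (n := n) (T := (T : ℤ)) (e := (e : ℤ)) (t := (H.index : ℤ))
    (p := (p : ℤ)) (by exact_mod_cast Nat.card_pos) (by exact_mod_cast Fintype.card_pos)
    (by rw [hT, ZMod.card_units, Nat.cast_sub hp.out.one_le]; simp)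
    (by exact_mod_cast het) (by exact_mod_cast (by omega : e + H.index ≤ n))
    (Q ∘ eq) (A ∘ eq)
    (fun i => (invariant_sum_sq_ineq H _ (fun u hu v => O.row_mul (eq i) hu v)
      (O.exists_row_ne_zero hind (eq i).2)).1)
    ((Equiv.sum_comp eq fun χ => (p : ℤ) * Q χ - A χ ^ 2).trans hc1)
    ((Equiv.sum_comp eq fun χ => A χ ^ 2).trans hc2)
  have hcard : n = e + H.index := by exact_mod_cast key.1
  refine ⟨hcard, le_antisymm (by omega) hrank, fun χ hχ => ?_⟩
  have h := key.2 (eq.symm ⟨χ, hχ⟩)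
  simp only [Function.comp_apply, Equiv.apply_symm_apply] at h
  exact h

theorem shape {χ : IrrCharacter G} (hχ : χ ∈ B) :
    ∃ c : ℤ, (c = 1 ∨ c = -1) ∧ ((∀ v, O.row χ v = c) ∨
      ∃ w : (ZMod p)ˣ, ∀ v, (w⁻¹ * v ∈ O.expSubgroup → O.row χ v = c) ∧
        (w⁻¹ * v ∉ O.expSubgroup → O.row χ v = 0)) :=
  PrimeRows.extremal_shape O.expSubgroup (O.row χ) (fun _ hu v => O.row_mul χ hu v)
    (O.exists_row_ne_zero hind hχ) ((O.natCard_eq_and_extremal hind).2.2 χ hχ)

open Classical in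
/-- The Gram matrix of the rows. -/
theorem gram [Fintype B] (r s : (ZMod p)ˣ) :
    ∑ χ : B, O.row χ r * O.row χ s =
      (if r⁻¹ * s ∈ O.expSubgroup then (1 : ℤ) else 0) + Nat.card O.expSubgroup := by
  set H := O.expSubgroup with hH
  refine Int.cast_injective (α := ℂ) (mul_left_cancel₀
    (pow_ne_zero 2 (Nat.cast_ne_zero.2 hp.out.ne_zero : (p : ℂ) ≠ 0)) ?_)
  have hconj : ∀ χ : B, (p : ℂ) * (O.row χ s : ℂ) =
      ∑ j : (ZMod p)ˣ, conj (O.ah χ j) * (ψ ((s : ZMod p) * j) - 1) := fun χ => by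
    have h := congrArg conj (O.mul_row χ s)
    simp only [map_mul, map_natCast, map_intCast, map_sum, map_sub, map_one,
      ← AddChar.map_neg_eq_conj, neg_neg] at h
    exact h
  push_cast
  rw [Finset.mul_sum, Finset.sum_congr rfl fun (χ : B) _ => show
    (p : ℂ) ^ 2 * ((O.row χ r : ℂ) * (O.row χ s : ℂ)) =
      ∑ i : (ZMod p)ˣ, ∑ j : (ZMod p)ˣ, O.ah χ i * conj (O.ah χ j) *
        ((ψ (-((r : ZMod p) * i)) - 1) * (ψ ((s : ZMod p) * j) - 1)) by
    rw [show (p : ℂ) ^ 2 * ((O.row χ r : ℂ) * (O.row χ s : ℂ)) =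
      ((p : ℂ) * (O.row χ r : ℂ)) * ((p : ℂ) * (O.row χ s : ℂ)) by ring, O.mul_row, hconj,
      Finset.sum_mul_sum]
    exact Finset.sum_congr rfl fun i _ => Finset.sum_congr rfl fun j _ => by ring]
  rw [Finset.sum_comm, Finset.sum_congr rfl fun i _ => Finset.sum_comm]
  simp only [← Finset.sum_mul, O.orth hind]
  have hstep : ∀ i : (ZMod p)ˣ, ∑ j : (ZMod p)ˣ, (if i⁻¹ * j ∈ H then (p : ℂ) else 0) *
      ((ψ (-((r : ZMod p) * i)) - 1) * (ψ ((s : ZMod p) * j) - 1)) =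
      ∑ u : H, (p : ℂ) * ((ψ (-((r : ZMod p) * i)) - 1) *
        (ψ ((s : ZMod p) * ((i * u : (ZMod p)ˣ) : ZMod p)) - 1)) := by
    intro i
    simp only [ite_mul, zero_mul]
    rw [← Finset.sum_filter]
    exact Finset.sum_bij' (fun j hj => (⟨i⁻¹ * j, (Finset.mem_filter.1 hj).2⟩ : H))
      (fun u _ => i * (u : (ZMod p)ˣ)) (fun _ _ => Finset.mem_univ _)
      (fun c _ => Finset.mem_filter.2 ⟨Finset.mem_univ _, by rw [inv_mul_cancel_left]; exact c.2⟩)
      (fun j _ => mul_inv_cancel_left i j) (fun c _ => Subtype.ext (inv_mul_cancel_left i c))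
      (fun j _ => by rw [mul_inv_cancel_left])
  rw [Finset.sum_congr rfl fun i _ => hstep i, Finset.sum_comm]
  have hinner : ∀ u : H, ∑ i : (ZMod p)ˣ, (p : ℂ) * ((ψ (-((r : ZMod p) * i)) - 1) *
      (ψ ((s : ZMod p) * ((i * u : (ZMod p)ˣ) : ZMod p)) - 1)) =
      (p : ℂ) ^ 2 * (if r = s * u then 1 else 0) + (p : ℂ) ^ 2 := by
    intro u
    rw [← Finset.mul_sum, Finset.sum_congr rfl fun (i : (ZMod p)ˣ) _ => show
      (ψ (-((r : ZMod p) * i)) - 1) * (ψ ((s : ZMod p) * ((i * u : (ZMod p)ˣ) : ZMod p)) - 1) =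
        ψ (((s : ZMod p) * (u : (ZMod p)ˣ) - r) * i) - ψ (-(r : ZMod p) * i) -
          ψ (((s : ZMod p) * (u : (ZMod p)ˣ)) * i) + 1 by
      rw [Units.val_mul, show ((s : ZMod p) * (u : (ZMod p)ˣ) - r) * i =
        -((r : ZMod p) * i) + (s : ZMod p) * ((i : ZMod p) * (u : (ZMod p)ˣ)) by ring,
        AddChar.map_add_eq_mul, show -(r : ZMod p) * i = -((r : ZMod p) * i) by ring,
        show (s : ZMod p) * (u : (ZMod p)ˣ) * i = (s : ZMod p) * ((i : ZMod p) * (u : (ZMod p)ˣ))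
          by ring]
      ring]
    simp only [Finset.sum_add_distrib, Finset.sum_sub_distrib, sum_units_psi, Finset.sum_const,
      Finset.card_univ, ZMod.card_units, nsmul_eq_mul, mul_one, neg_eq_zero, r.ne_zero,
      mul_ne_zero s.ne_zero (Units.ne_zero _), if_false]
    rw [Nat.cast_sub hp.out.one_le, Nat.cast_one]
    by_cases h : r = s * u
    · rw [if_pos h, if_pos (by rw [h, Units.val_mul, sub_self])]; ring
    · rw [if_neg h, if_neg (sub_ne_zero.2 fun h' => h (Units.ext (by rw [Units.val_mul, h'])))]; ring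
  rw [Finset.sum_congr rfl fun u _ => hinner u, Finset.sum_add_distrib, ← Finset.mul_sum,
    Finset.sum_const, Finset.card_univ, ← Nat.card_eq_fintype_card, nsmul_eq_mul, mul_add,
    mul_comm (Nat.card H : ℂ)]
  congr 2
  by_cases h : r⁻¹ * s ∈ H
  · rw [if_pos h, Finset.sum_eq_single (⟨s⁻¹ * r, by simpa using inv_mem h⟩ : H)
      (fun u _ hu => if_neg fun hr => hu (Subtype.ext (by simp [hr])))
      (fun h' => absurd (Finset.mem_univ _) h'), if_pos (mul_inv_cancel_left s r).symm]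
  · rw [if_neg h]
    exact Finset.sum_eq_zero fun u _ => if_neg fun hr => h (by simp [hr])

/-- The rows annihilate the regular values. -/
theorem sum_row_regular [Fintype B] (r : (ZMod p)ˣ) {g : G} (hg : ¬ p ∣ orderOf g) :
    ∑ χ : B, (O.row χ r : ℂ) * ((χ : IrrCharacter G) : G → ℂ) g = 0 := by
  refine mul_left_cancel₀ (Nat.cast_ne_zero.2 hp.out.ne_zero : (p : ℂ) ≠ 0) ?_
  rw [mul_zero, Finset.mul_sum]
  simp only [← mul_assoc, O.mul_row, Finset.sum_mul]
  rw [Finset.sum_comm]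
  refine Finset.sum_eq_zero fun i _ => ?_
  rw [Finset.sum_congr rfl fun (χ : B) _ => mul_right_comm _ _ _, ← Finset.sum_mul,
    O.sum_regular hind i hg, zero_mul]

/-- The degree modulo `p`. -/
theorem charDegree_eq {χ : IrrCharacter G} (hχ : χ ∈ B) :
    ∃ m : ℤ, (charDegree (χ : G → ℂ) : ℤ) = (p : ℤ) * m +
      (∑ v : (ZMod p)ˣ, O.row χ v) *
        ((Subgroup.relIndex O.T O.N * charDegree (O.φ 0 : Cx → ℂ) : ℕ) : ℤ) := by
  obtain ⟨κ, hκ, c, Θ, hcard, hc0, hΘ, hval⟩ := O.exists_values hind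
  obtain ⟨b, hb⟩ := exists_multiplicity O.hxo (CfsgLib.Char.irr_isCharacter χ.2)
    (ZMod.isPrimitive_stdAddChar p)
  refine ⟨b 0, Int.cast_injective (α := ℂ) ?_⟩
  have h1 : ∑ i : ZMod p, (χ : G → ℂ) (O.x ^ i.val) = (p : ℂ) * b 0 := by
    simp only [hb]
    rw [Finset.sum_comm, Finset.sum_eq_single 0]
    · simp [mul_comm]
    · intro s _ hs
      rw [← Finset.mul_sum, Finset.sum_congr rfl fun i _ => congrArg ψ (mul_comm s i),
        AddChar.sum_mulShift s (ZMod.isPrimitive_stdAddChar p), if_neg hs, Nat.cast_zero, mul_zero]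
    · intro h; exact absurd (Finset.mem_univ _) h
  rw [PrimeRows.sum_eq_zero_add_units, ZMod.val_zero, pow_zero,
    ← charDegree_cast (CfsgLib.Char.irr_isCharacter χ.2)] at h1
  have hΘ1 : ∀ q, (Θ q : Cx → ℂ) 1 = (charDegree (O.φ 0 : Cx → ℂ) : ℂ) := fun q => by
    obtain ⟨n, hn, hq, -⟩ := hΘ q
    rw [hq, twist_apply, map_one, charDegree_cast (CfsgLib.Char.irr_isCharacter (O.φ 0).2)]
  have h2 : ∑ i : (ZMod p)ˣ, (χ : G → ℂ) (O.x ^ (i : ZMod p).val) =
      -(((∑ v : (ZMod p)ˣ, O.row χ v : ℤ) : ℂ)) *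
        ((Subgroup.relIndex O.T O.N * charDegree (O.φ 0 : Cx → ℂ) : ℕ) : ℂ) := by
    have hv : ∀ i : (ZMod p)ˣ, (χ : G → ℂ) (O.x ^ (i : ZMod p).val) =
        ∑ q, O.ah χ (c q * i) * (charDegree (O.φ 0 : Cx → ℂ) : ℂ) := fun i => by
      have h := hval χ hχ (i : ZMod p) i.ne_zero 1
        (by rw [orderOf_one]; exact hp.out.not_dvd_one)
      rw [Subgroup.coe_one, mul_one] at h
      simp only [h, hΘ1]
    rw [Finset.sum_congr rfl fun i _ => hv i, Finset.sum_comm,
      Finset.sum_congr rfl (g := fun _ => -(((∑ v : (ZMod p)ˣ, O.row χ v : ℤ) : ℂ)) *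
        (charDegree (O.φ 0 : Cx → ℂ) : ℂ)) fun q _ => ?_,
      Finset.sum_const, Finset.card_univ, ← Nat.card_eq_fintype_card, hcard, nsmul_eq_mul]
    · push_cast; ring
    rw [← Finset.sum_mul, ← O.sum_ah]
    congr 1
    exact Fintype.sum_equiv (Equiv.mulLeft (Units.mk0 (c q) (hc0 q))) _ _ fun i => rfl
  rw [h2] at h1
  push_cast at h1 ⊢
  linear_combination h1

open Classical in
/-- The exceptional family and the signs. -/
theorem exists_families :
    ∃ (X Y : Set (IrrCharacter G)) (δ : IrrCharacter G → ℤ) (w : IrrCharacter G → (ZMod p)ˣ),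
      B = X ∪ Y ∧ Disjoint X Y ∧ Nat.card X = Nat.card O.expSubgroup ∧
      Nat.card Y = O.expSubgroup.index ∧ (∀ χ ∈ B, δ χ = 1 ∨ δ χ = -1) ∧
      (∀ χ ∈ X, ∀ v, O.row χ v = δ χ) ∧
      (∀ θ ∈ Y, ∀ v, O.row θ v = if (w θ)⁻¹ * v ∈ O.expSubgroup then δ θ else 0) ∧
      (∀ v, ∃ θ ∈ Y, (w θ)⁻¹ * v ∈ O.expSubgroup) ∧
      (∀ θ ∈ Y, ∀ θ' ∈ Y, (w θ)⁻¹ * w θ' ∈ O.expSubgroup → θ = θ') ∧
      (∀ θ ∈ Y, ∀ θ' ∈ Y, δ θ = δ θ') ∧
      (∀ θ ∈ Y, ∀ g : G, ¬ p ∣ orderOf g →
        (∑ᶠ χ ∈ X, (δ χ : ℂ) * (χ : G → ℂ) g) + (δ θ : ℂ) * (θ : G → ℂ) g = 0) ∧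
      (∀ θ ∈ Y, ∀ θ' ∈ Y, ∀ g : G, ¬ p ∣ orderOf g → (θ : G → ℂ) g = (θ' : G → ℂ) g) := by
  have := Fintype.ofFinite B
  have := Fintype.ofFinite (IrrCharacter G)
  set H := O.expSubgroup with hH
  have hBcard := (O.natCard_eq_and_extremal hind).1
  have hH0 : 0 < Nat.card H := Nat.card_pos
  -- shapes
  have hdata : ∀ χ : IrrCharacter G, ∃ (c : ℤ) (w : (ZMod p)ˣ), χ ∈ B → (c = 1 ∨ c = -1) ∧
      ((∀ v, O.row χ v = c) ∨ ∀ v, O.row χ v = if w⁻¹ * v ∈ H then c else 0) := by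
    intro χ
    by_cases hχ : χ ∈ B
    · obtain ⟨c, hc, h | ⟨w, h⟩⟩ := O.shape hind hχ
      · exact ⟨c, 1, fun _ => ⟨hc, Or.inl h⟩⟩
      · refine ⟨c, w, fun _ => ⟨hc, Or.inr fun v => ?_⟩⟩
        by_cases hv : w⁻¹ * v ∈ H
        · rw [if_pos hv]; exact (h v).1 hv
        · rw [if_neg hv]; exact (h v).2 hv
    · exact ⟨1, 1, fun h => absurd h hχ⟩
  choose δ w hδw using hdata
  -- the split
  obtain ⟨X, Y, hXY, hdisj, hXcard, hYcard, hX, hY, hsurj, hinj⟩ :
      ∃ X Y : Set (IrrCharacter G), B = X ∪ Y ∧ Disjoint X Y ∧ Nat.card X = Nat.card H ∧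
        Nat.card Y = H.index ∧ (∀ χ ∈ X, ∀ v, O.row χ v = δ χ) ∧
        (∀ θ ∈ Y, ∀ v, O.row θ v = if (w θ)⁻¹ * v ∈ H then δ θ else 0) ∧
        (∀ v, ∃ θ ∈ Y, (w θ)⁻¹ * v ∈ H) ∧
        (∀ θ ∈ Y, ∀ θ' ∈ Y, (w θ)⁻¹ * w θ' ∈ H → θ = θ') := by
    by_cases hH1 : H = ⊤
    · -- a single exceptional character
      have hidx : H.index = 1 := by rw [hH1, Subgroup.index_top]
      have hne : B.Nonempty := by
        obtain ⟨χ, hχ⟩ := hind.2.1
        exact ⟨χ, hχ ▸ mem_blockOf_self χ⟩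
      obtain ⟨θ₀, hθ₀⟩ := hne
      have hall : ∀ χ ∈ B, ∀ v, O.row χ v = δ χ := by
        intro χ hχ v
        rcases (hδw χ hχ).2 with h | h
        · exact h v
        · rw [h v, if_pos (hH1 ▸ Subgroup.mem_top _)]
      refine ⟨B \ {θ₀}, {θ₀}, (Set.sdiff_union_of_subset (by simpa using hθ₀)).symm,
        Set.disjoint_sdiff_left, ?_, ?_, fun χ hχ v => hall χ hχ.1 v, fun θ hθ v => ?_,
        fun v => ⟨θ₀, rfl, hH1 ▸ Subgroup.mem_top _⟩, fun θ hθ θ' hθ' _ => ?_⟩
      · rw [Nat.card_coe_set_eq, Set.ncard_sdiff (by simpa using hθ₀), Set.ncard_singleton,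
          ← Nat.card_coe_set_eq, hBcard, hidx, Nat.add_sub_cancel]
      · rw [Nat.card_coe_set_eq, Set.ncard_singleton, hidx]
      · rw [Set.mem_singleton_iff.1 hθ, hall θ₀ hθ₀, if_pos (hH1 ▸ Subgroup.mem_top _)]
      · exact (Set.mem_singleton_iff.1 hθ).trans (Set.mem_singleton_iff.1 hθ').symm
    · -- several exceptional characters
      obtain ⟨s₀, hs₀⟩ : ∃ s, s ∉ H := by
        by_contra h
        push Not at h
        exact hH1 (eq_top_iff.2 fun s _ => h s)
      let K : Set (IrrCharacter G) := {χ | χ ∈ B ∧ ∀ v, O.row χ v = δ χ}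
      have hI : ∀ χ ∈ B, χ ∉ K → ∀ v, O.row χ v = if (w χ)⁻¹ * v ∈ H then δ χ else 0 :=
        fun χ hχ hK => (hδw χ hχ).2.resolve_left fun h => hK ⟨hχ, h⟩
      have hsq : ∀ χ ∈ B, δ χ * δ χ = 1 := fun χ hχ => by
        rcases (hδw χ hχ).1 with h | h <;> rw [h] <;> norm_num
      have hval : ∀ (χ : B) (r s : (ZMod p)ˣ), O.row χ r * O.row χ s =
          if (χ : IrrCharacter G) ∈ K ∨ ((w χ)⁻¹ * r ∈ H ∧ (w χ)⁻¹ * s ∈ H) then 1 else 0 := by
        intro χ r s
        by_cases hK : (χ : IrrCharacter G) ∈ K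
        · rw [if_pos (Or.inl hK), hK.2, hK.2, hsq χ χ.2]
        · rw [hI χ χ.2 hK, hI χ χ.2 hK]
          simp only [hK, false_or]
          by_cases h1 : (w χ)⁻¹ * r ∈ H <;> by_cases h2 : (w χ)⁻¹ * s ∈ H <;>
            simp [h1, h2, hsq χ χ.2]
      have hcount : ∀ r s : (ZMod p)ˣ, ((Finset.univ.filter fun χ : B => (χ : IrrCharacter G) ∈ K ∨
          ((w χ)⁻¹ * r ∈ H ∧ (w χ)⁻¹ * s ∈ H)).card : ℤ) =
          (if r⁻¹ * s ∈ H then (1 : ℤ) else 0) + Nat.card H := by
        intro r s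
        rw [← O.gram hind, Finset.sum_congr rfl fun χ _ => hval χ r s, Finset.sum_boole]
      set Kf := Finset.univ.filter fun χ : B => (χ : IrrCharacter G) ∈ K with hKf
      have hKc : Kf.card = Nat.card H := by
        have h := hcount 1 s₀
        rw [inv_one, one_mul, if_neg hs₀, zero_add,
          show (Finset.univ.filter fun χ : B => (χ : IrrCharacter G) ∈ K ∨
            ((w χ)⁻¹ * 1 ∈ H ∧ (w χ)⁻¹ * s₀ ∈ H)) = Kf from
          Finset.filter_congr fun χ _ => or_iff_left fun h' => hs₀ (by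
            simpa using mul_mem (inv_mem h'.1) h'.2)] at h
        exact_mod_cast h
      have hone : ∀ v, ∃! χ : B, (χ : IrrCharacter G) ∉ K ∧ (w χ)⁻¹ * v ∈ H := by
        intro v
        have h := hcount v v
        rw [if_pos (by simp)] at h
        have hsplit : (Finset.univ.filter fun χ : B => (χ : IrrCharacter G) ∈ K ∨
            ((w χ)⁻¹ * v ∈ H ∧ (w χ)⁻¹ * v ∈ H)) = Kf ∪ (Finset.univ.filter fun χ : B =>
              (χ : IrrCharacter G) ∉ K ∧ (w χ)⁻¹ * v ∈ H) := by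
          ext χ
          simp only [Finset.mem_filter, Finset.mem_univ, true_and, Finset.mem_union, hKf, and_self]
          tauto
        rw [hsplit, Finset.card_union_of_disjoint (Finset.disjoint_left.2 fun χ h1 h2 =>
          (Finset.mem_filter.1 h2).2.1 (Finset.mem_filter.1 h1).2), hKc] at h
        obtain ⟨χ, hχ⟩ := Finset.card_eq_one.1 (show (Finset.univ.filter fun χ : B =>
          (χ : IrrCharacter G) ∉ K ∧ (w χ)⁻¹ * v ∈ H).card = 1 by push_cast at h; omega)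
        refine ⟨χ, (Finset.mem_filter.1 (hχ ▸ Finset.mem_singleton_self χ : χ ∈ Finset.filter _ _)).2,
          fun χ' hχ' => ?_⟩
        exact Finset.mem_singleton.1 (hχ ▸ Finset.mem_filter.2 ⟨Finset.mem_univ _, hχ'⟩)
      have hKsub : K ⊆ B := fun χ hχ => hχ.1
      have hKn : Nat.card K = Nat.card H := by
        rw [← hKc, hKf, ← Fintype.card_subtype, ← Nat.card_eq_fintype_card]
        exact (Nat.card_congr (Equiv.subtypeSubtypeEquivSubtype fun hx => hKsub hx)).symm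
      refine ⟨K, B \ K, (Set.union_sdiff_cancel hKsub).symm, Set.disjoint_sdiff_right, hKn, ?_,
        fun χ hχ v => hχ.2 v, fun θ hθ v => hI θ hθ.1 hθ.2 v, fun v => ?_,
        fun θ hθ θ' hθ' hww => ?_⟩
      · rw [Nat.card_coe_set_eq, Set.ncard_sdiff hKsub, ← Nat.card_coe_set_eq,
          ← Nat.card_coe_set_eq, hBcard, hKn, Nat.add_sub_cancel_left]
      · obtain ⟨χ, ⟨h1, h2⟩, -⟩ := hone v
        exact ⟨χ, ⟨χ.2, h1⟩, h2⟩
      · exact congrArg Subtype.val ((hone (w θ')).unique (y₁ := ⟨θ, hθ.1⟩) (y₂ := ⟨θ', hθ'.1⟩)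
          ⟨hθ.2, hww⟩ ⟨hθ'.2, by simp⟩)
  have hXB : X ⊆ B := hXY ▸ Set.subset_union_left
  have hYB : Y ⊆ B := hXY ▸ Set.subset_union_right
  have hrel : ∀ θ ∈ Y, ∀ g : G, ¬ p ∣ orderOf g →
      (∑ᶠ χ ∈ X, (δ χ : ℂ) * (χ : G → ℂ) g) + (δ θ : ℂ) * (θ : G → ℂ) g = 0 := by
    intro θ hθ g hg
    rw [finsum_mem_eq_toFinset_sum, ← O.sum_row_regular hind (w θ) hg,
      ← Finset.sum_subtype B.toFinite.toFinset (p := (· ∈ B)) (by simp)
        (fun χ : IrrCharacter G => (O.row χ (w θ) : ℂ) * (χ : G → ℂ) g)]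
    have hdec : B.toFinite.toFinset = X.toFinset ∪ Y.toFinset := by
      ext χ; simp [hXY]
    rw [hdec, Finset.sum_union (by simpa using hdisj), Finset.sum_congr rfl
      (s₁ := X.toFinset) (f := fun χ => (O.row χ (w θ) : ℂ) * (χ : G → ℂ) g)
      (g := fun χ => (δ χ : ℂ) * (χ : G → ℂ) g) fun χ hχ => by rw [hX χ (by simpa using hχ)]]
    congr 1
    rw [Finset.sum_eq_single θ]
    · rw [hY θ hθ, if_pos (by simp)]
    · intro θ' hθ' hne
      rw [hY θ' (by simpa using hθ'), if_neg, Int.cast_zero, zero_mul]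
      exact fun h => hne (hinj θ' (by simpa using hθ') θ hθ h)
    · intro h; exact absurd (by simpa using hθ) h
  have hδ : ∀ χ ∈ B, δ χ = 1 ∨ δ χ = -1 := fun χ hχ => (hδw χ hχ).1
  have hsame : ∀ θ ∈ Y, ∀ θ' ∈ Y, δ θ = δ θ' := by
    intro θ hθ θ' hθ'
    have h := (hrel θ hθ 1 (by rw [orderOf_one]; exact hp.out.not_dvd_one)).trans
      (hrel θ' hθ' 1 (by rw [orderOf_one]; exact hp.out.not_dvd_one)).symm
    rw [add_right_inj, ← charDegree_cast (CfsgLib.Char.irr_isCharacter θ.2),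
      ← charDegree_cast (CfsgLib.Char.irr_isCharacter θ'.2)] at h
    norm_cast at h
    have h1 : (0 : ℤ) < charDegree (θ : G → ℂ) := by
      exact_mod_cast Nat.pos_of_ne_zero (charDegree_ne_zero θ.2)
    have h2 : (0 : ℤ) < charDegree (θ' : G → ℂ) := by
      exact_mod_cast Nat.pos_of_ne_zero (charDegree_ne_zero θ'.2)
    rcases hδ θ (hYB hθ) with e1 | e1 <;> rcases hδ θ' (hYB hθ') with e2 | e2 <;>
      rw [e1, e2] at h ⊢ <;> omega
  refine ⟨X, Y, δ, w, hXY, hdisj, hXcard, hYcard, hδ, hX, hY, hsurj, hinj, hsame, hrel,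
    fun θ hθ θ' hθ' g hg => ?_⟩
  have h := (hrel θ hθ g hg).trans (hrel θ' hθ' g hg).symm
  rw [add_right_inj, hsame θ hθ θ' hθ'] at h
  refine mul_left_cancel₀ ?_ h
  rcases hδ θ' (hYB hθ') with e1 | e1 <;> rw [e1] <;> norm_num

end OneBlock

end CfsgLib.Block
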