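import Cfsg.Agent.Lib.Block.SmallRestriction
import Cfsg.Agent.S0936

/-!
A faithful irreducible character of degree less than `(p - 1) / 2` for a group order divisible by
`p` exactly once: the principal rows of the product with its conjugate give a contradiction.
-/

set_option autoImplicit false
set_option linter.unusedSectionVars false

namespace CfsgLib.Block

open Cfsg
open scoped ComplexConjugate

universe u

namespace DegreeBound

/-- The final count. -/
theorem arith {p f t d J N : ℕ} (hf : 2 ≤ f) (hd : 1 ≤ d) (ht : t * f + 1 = p)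
    (hn : 2 * (f * d) + 3 ≤ p) (h1 : p ≤ t * J + t + N + f)
    (h2 : 1 + (p - f) * (d * J + N) ≤ (f * d) ^ 2) : False := by
  obtain ⟨q, hq⟩ : ∃ q, p = q + f := ⟨p - f, by
    have : f * 1 ≤ f * d := Nat.mul_le_mul_left f hd
    omega⟩
  rw [hq, Nat.add_sub_cancel] at h2
  have ht3 : 2 * d + 1 ≤ t := by
    by_contra h
    have : t * f ≤ 2 * d * f := Nat.mul_le_mul_right f (by omega)
    nlinarith
  zify at hq ht hn h1 h2 hf hd ht3
  rcases eq_or_lt_of_le hd with h | hd2
  · -- degree one constituents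
    obtain rfl : d = 1 := by omega
    push_cast at *
    have hR : (q : ℤ) * ((t - 1) * (f - 1)) ≤ (t : ℤ) * ((f : ℤ) ^ 2 - 1) := by
      have hqR : (q : ℤ) * ((t - 1) * (f - 1)) ≤ (q : ℤ) * (t * J + N) :=
        mul_le_mul_of_nonneg_left (by nlinarith) (Int.natCast_nonneg q)
      have hsw : (q : ℤ) * (t * J + N) ≤ (t : ℤ) * (q * (1 * J + N)) := by
        have : (0 : ℤ) ≤ (q : ℤ) * N * (t - 1) :=
          mul_nonneg (by positivity) (by linarith)
        nlinarith
      have hb : (t : ℤ) * (q * (1 * J + N)) ≤ t * ((f : ℤ) ^ 2 - 1) :=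
        mul_le_mul_of_nonneg_left (by nlinarith) (Int.natCast_nonneg t)
      linarith
    have hq' : (q : ℤ) = (t - 1) * f + 1 := by linarith
    rw [hq'] at hR
    have h3 : ((t - 1) * f + 1) * (t - 1) ≤ (t : ℤ) * (f + 1) := by
      by_contra h
      push Not at h
      have := mul_lt_mul_of_pos_right h (show (0 : ℤ) < f - 1 by linarith)
      nlinarith
    nlinarith [mul_nonneg (show (0 : ℤ) ≤ t - 3 by linarith) (show (0 : ℤ) ≤ t by positivity)]
  · rcases le_or_gt (5 : ℤ) (f : ℤ) with hf5 | hf4
    · have hqR : (q : ℤ) * ((t - 1) * (f - 1)) * d ≤ (q : ℤ) * (t * J + N) * d :=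
        mul_le_mul_of_nonneg_right (mul_le_mul_of_nonneg_left (by nlinarith) (Int.natCast_nonneg q))
          (Int.natCast_nonneg d)
      have hsw : (q : ℤ) * (t * J + N) * d ≤ (t : ℤ) * (q * (d * J + N)) := by
        have : (0 : ℤ) ≤ (q : ℤ) * N * (t - d) :=
          mul_nonneg (by positivity) (by linarith)
        nlinarith
      have hb : (t : ℤ) * (q * (d * J + N)) ≤ t * ((f : ℤ) * d) ^ 2 :=
        mul_le_mul_of_nonneg_left (by linarith) (Int.natCast_nonneg t)
      have h3 : (q : ℤ) * ((t - 1) * (f - 1)) ≤ t * f * ((f : ℤ) * d) := by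
        refine le_of_mul_le_mul_right ?_ (show (0 : ℤ) < d by linarith)
        nlinarith
      have h4 : 2 * ((q : ℤ) * ((t - 1) * (f - 1))) ≤ (t : ℤ) ^ 2 * (f : ℤ) ^ 2 := by
        have h5 : 2 * ((f : ℤ) * d) ≤ t * f := by linarith
        nlinarith [mul_le_mul_of_nonneg_left h5 (show (0 : ℤ) ≤ t * f by positivity)]
      have hq' : (q : ℤ) = (t - 1) * f + 1 := by linarith
      rw [hq'] at h4
      have h6 : 16 * (t : ℤ) ^ 2 ≤ 25 * ((t : ℤ) - 1) ^ 2 := by nlinarith
      have h7 : 4 * (f : ℤ) ≤ 5 * ((f : ℤ) - 1) := by linarith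
      have h8 : 64 * ((t : ℤ) ^ 2 * (f : ℤ) ^ 2) ≤
          125 * (((t : ℤ) - 1) ^ 2 * (f * ((f : ℤ) - 1))) := by
        have := mul_le_mul h6 h7 (by positivity) (by positivity)
        nlinarith [mul_le_mul_of_nonneg_right this (show (0 : ℤ) ≤ f by positivity)]
      nlinarith [mul_nonneg (show (0 : ℤ) ≤ t - 1 by linarith) (show (0 : ℤ) ≤ f - 1 by linarith),
        mul_pos (show (0 : ℤ) < t by linarith) (show (0 : ℤ) < f by linarith)]
    · have hlow : ((f : ℤ) - 1) * d ≤ d * J + N := by
        rcases le_or_gt ((f : ℤ) - 1) (J : ℤ) with hJ | hJ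
        · nlinarith [mul_le_mul_of_nonneg_left hJ (Int.natCast_nonneg d)]
        · have hJ' : (0 : ℤ) ≤ ((f : ℤ) - 2) - J := by linarith
          have := mul_nonneg hJ' (show (0 : ℤ) ≤ t - d by linarith)
          nlinarith
      have h3 : (q : ℤ) * (f - 1) < (f : ℤ) ^ 2 * d := by
        refine lt_of_mul_lt_mul_right ?_ (Int.natCast_nonneg d)
        nlinarith [mul_le_mul_of_nonneg_left hlow (Int.natCast_nonneg q)]
      have h4 : 2 * ((f : ℤ) ^ 2 * d) ≤ f * ((q : ℤ) + f - 3) := by
        nlinarith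
      obtain rfl | rfl | rfl : f = 2 ∨ f = 3 ∨ f = 4 := by omega
      all_goals (push_cast at *; nlinarith)

variable {G : Type u} [Group G] [Fintype G] {p : ℕ} [hp : Fact p.Prime] {M : Ideal AlgInt}
  [M.IsPrime] {x : G}

local notation "C" => Subgroup.centralizer (Singleton.singleton x : Set G)

/-- A character of the centralizer translated by `x` changes by a scalar of norm one. -/
theorem norm_shift (hM : IsPModular p M) (hxo : orderOf x = p) (hsq : ¬ p ^ 2 ∣ Nat.card G)
    (ρ : IrrCharacter C) (c : C) :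
    ‖(ρ : C → ℂ) (⟨x, DefectOne.mem_cen_self⟩ * c)‖ = ‖(ρ : C → ℂ) c‖ := by
  obtain ⟨φ, h1, h2, h3, -⟩ := DefectOne.exists_param hM hxo hsq (isPBlock_blockOf ρ)
  set O : OneBlock G p M := ⟨hM, x, hxo, hsq, _, isPBlock_blockOf ρ, φ, h1, h2, h3⟩
  obtain ⟨s, hs⟩ : ρ ∈ Set.range φ := h2.symm ▸ mem_blockOf_self ρ
  have h : (O.φ s : C → ℂ) (O.z ^ (1 : ZMod p).val * c) =
      ZMod.stdAddChar (s * 1) * (O.φ s : C → ℂ) c := O.phi_shift s 1 c
  rw [ZMod.val_one, pow_one, show O.φ s = ρ from hs] at h
  rw [show (⟨x, DefectOne.mem_cen_self⟩ : C) = O.z from rfl, h, norm_mul, AddChar.norm_apply,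
    one_mul]

theorem faithful_irr_false (hM : IsPModular p M) (hxo : orderOf x = p)
    (hsq : ¬ p ^ 2 ∣ Nat.card G) (ξ : IrrCharacter G)
    (hn : 2 * charDegree (ξ : G → ℂ) + 3 ≤ p)
    (hfaith : ∀ g, (ξ : G → ℂ) g = (ξ : G → ℂ) 1 → g = 1)
    (hgen : ∀ K : Subgroup G, K.Normal → x ∈ K → K = ⊤)
    (hTI : ∀ g u : G, u ∈ C → u ∉ Subgroup.center G → g * u * g⁻¹ ∈ C →
      g ∈ Subgroup.normalizer ((Subgroup.zpowers x : Subgroup G) : Set G))
    (hnot : ¬ (Subgroup.zpowers x).Normal) : False := by
  classical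
  have hxZ : x ∉ Subgroup.center G := fun h => hnot ⟨fun a ha g => by
    obtain ⟨j, rfl⟩ := Subgroup.mem_zpowers_iff.1 ha
    rw [← conj_zpow, Subgroup.mem_center_iff.1 h g, mul_inv_cancel_right]
    exact zpow_mem (Subgroup.mem_zpowers x) j⟩
  have hker : (ξ : G → ℂ) x ≠ (ξ : G → ℂ) 1 := fun h => hxZ (by
    rw [hfaith x h]; exact one_mem _)
  obtain ⟨R, d, hd, hRf, hdeg, hR, hres⟩ := DefectOne.small_restriction hM hxo hsq ξ hn hker
  set N := Subgroup.normalizer ((Subgroup.zpowers x : Subgroup G) : Set G)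
  set f := Subgroup.relIndex C N with hf
  have := Fintype.ofFinite (IrrCharacter C)
  have := Fintype.ofFinite (IrrCharacter G)
  -- the norm of the restriction
  have horth : classInner (fun c : C => (ξ : G → ℂ) c) (fun c : C => (ξ : G → ℂ) c) = (f : ℂ) := by
    have he : (fun c : C => (ξ : G → ℂ) c) = ∑ ρ ∈ R, (ρ : C → ℂ) := funext fun c => by
      rw [hres, Finset.sum_apply]
    rw [he, CfsgLib.Char.classInner_sum_left]
    simp only [CfsgLib.Char.classInner_sum_right, CfsgLib.Char.irr_classInner (Subtype.property _)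
      (Subtype.property _), Subtype.coe_inj, Finset.sum_ite_eq, ← Finset.sum_filter]
    rw [Finset.filter_mem_eq_inter, Finset.inter_self, Finset.sum_const, nsmul_eq_mul, mul_one, hRf]
  -- more than one constituent
  have hf2 : 2 ≤ f := by
    by_contra hf2
    have hf1 : f = 1 := by
      have : 0 < f := by
        rw [← hRf]
        rcases R.eq_empty_or_nonempty with h | h
        · rw [h, Finset.card_empty, Nat.zero_mul] at hdeg
          exact absurd hdeg (charDegree_ne_zero ξ.2)
        · exact h.card_pos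
      omega
    obtain ⟨m, rep, hrep, hξ⟩ := ξ.2
    let σ : Representation ℂ C (Fin m → ℂ) := rep.comp (Subgroup.centralizer ({x} : Set G)).subtype
    have hσ : σ.IsIrreducible := by
      refine CfsgLib.Char.isIrreducible_of_classInner_self σ ?_
      rw [hf1, Nat.cast_one, ← hξ] at horth
      exact horth
    obtain ⟨a, ha⟩ := CfsgLib.Char.exists_scalar_of_commute σ (rep x) fun c => by
      change rep x ∘ₗ rep (c : G) = rep (c : G) ∘ₗ rep x
      rw [← Module.End.mul_eq_comp, ← Module.End.mul_eq_comp, ← map_mul, ← map_mul,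
        Subgroup.mem_centralizer_singleton_iff.1 c.2]
    apply hxZ
    rw [Subgroup.mem_center_iff]
    intro g
    have hcomm : rep g * rep x = rep x * rep g := by
      rw [ha, Module.End.mul_eq_comp, Module.End.mul_eq_comp, LinearMap.comp_smul,
        LinearMap.smul_comp, LinearMap.comp_id, LinearMap.id_comp]
    have h1 : g * x * (x * g)⁻¹ = 1 := by
      refine hfaith _ ?_
      rw [← hξ]
      have hk : (g * x * (x * g)⁻¹) ∈ (MonoidHom.ker rep : Subgroup G) := by
        rw [MonoidHom.mem_ker, map_mul, map_mul, hcomm, ← map_mul, ← map_mul, mul_inv_cancel, map_one]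
      exact (CfsgLib.Char.mem_ker_iff_char rep _).1 hk
    exact mul_inv_eq_one.1 h1
  -- the principal block
  obtain ⟨φ, h1, h2, h3, -⟩ := DefectOne.exists_param (b := principalBlock M C) hM hxo hsq
    isPBlock_principalBlock
  set O : OneBlock G p M := ⟨hM, x, hxo, hsq, principalBlock M C, isPBlock_principalBlock, φ, h1,
    h2, h3⟩ with hO
  have hdef : InducedBlockDefined M C (principalBlock M C) :=
    exists_isInducedBlock_centralizer hM ⟨1, by rw [hxo, pow_one]⟩ isPBlock_principalBlock
  have hind : IsInducedBlock M (Subgroup.centralizer ({O.x} : Set G)) O.b (principalBlock M G) :=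
    (Cfsg.Agent.S0936.result p M hM _ _ hdef).2 rfl
  have hphi0 : (O.φ 0 : C → ℂ) = fun _ => 1 := O.phi0_principal rfl
  have hH : Nat.card O.expSubgroup = f := O.natCard_expSubgroup_principal rfl
  have hT : Subgroup.relIndex O.T O.N = 1 := by
    rw [O.T_principal rfl, Subgroup.relIndex_self]
  have hdphi : charDegree (O.φ 0 : C → ℂ) = 1 := by
    simp [charDegree, hphi0]
  obtain ⟨t, ht⟩ : ∃ t, t * f + 1 = p := ⟨O.expSubgroup.index, by
    have := O.natCard_mul_index
    rw [hH, mul_comm] at this
    have := hp.out.two_le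
    omega⟩
  rw [hdeg, hRf] at hn
  have hfne : ((f : ℕ) : ℤ) ≠ ((p - 1 : ℕ) : ℤ) := by
    have : f * 1 ≤ f * d := Nat.mul_le_mul_left f hd
    intro h
    omega
  -- the product with the conjugate
  set F : G → ℂ := fun g => (ξ : G → ℂ) g * conj ((ξ : G → ℂ) g) with hFdef
  have hFchar : IsCharacter G F := CfsgLib.Char.isCharacter_mul
    (CfsgLib.Char.irr_isCharacter ξ.2) (CfsgLib.Char.isCharacter_conj (CfsgLib.Char.irr_isCharacter ξ.2))
  have hFcl := CfsgLib.Char.isCharacter_isClassFunction hFchar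
  have hknat : ∀ η : IrrCharacter G, ∃ k : ℕ, classInner F (η : G → ℂ) = k := fun η =>
    CfsgLib.Char.classInner_isCharacter_nat hFchar (CfsgLib.Char.irr_isCharacter η.2)
  choose k hk using hknat
  set one : IrrCharacter G := ⟨fun _ => 1, CfsgLib.Char.isIrrCharacter_one⟩ with hone
  have hk1 : k one = 1 := by
    refine Nat.cast_injective (R := ℂ) ?_
    rw [← hk, Nat.cast_one, ← CfsgLib.Char.irr_classInner_self ξ.2, CfsgLib.Char.classInner_def,
      CfsgLib.Char.classInner_def]
    simp [F, one]
  have hmultF : ∀ s, classInner (fun c : C => F c) (O.φ s : C → ℂ) =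
      ∑ η : IrrCharacter G, (k η : ℂ) * (O.multN η s : ℂ) := fun s => by
    rw [classInner_restrict_eq_sum hFcl]
    exact Finset.sum_congr rfl fun η _ => by
      rw [hk, ← OneBlock.mult_eq_multN, O.mult_def]
  have hF0 : classInner (fun c : C => F c) (O.φ 0 : C → ℂ) = (f : ℂ) := by
    rw [← horth, hphi0, CfsgLib.Char.classInner_def, CfsgLib.Char.classInner_def]
    simp [F]
  -- upper bound on the principal part
  obtain ⟨U, hU, hUle⟩ : ∃ U : ℕ,
      (∑ s, classInner (fun c : C => F c) (O.φ s : C → ℂ)) = (U : ℂ) ∧ U ≤ f * f := by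
    refine ⟨∑ s, ∑ η : IrrCharacter G, k η * O.multN η s, ?_, ?_⟩
    · simp only [hmultF]; push_cast; rfl
    have key : ∀ c : C, ∃ i : ZMod p, ∀ s, (O.φ s : C → ℂ) c = ZMod.stdAddChar (s * i) := fun c => by
      obtain ⟨i, y, hy, rfl⟩ := O.exists_split c
      exact ⟨i, fun s => by rw [OneBlock.z, O.hval s i y hy, hphi0, mul_one]⟩
    choose ι hι using key
    let W : C → ℝ := fun c => if ι c = 0 then (p : ℝ) else 0
    have hW : ∀ c, ∑ s, (O.φ s : C → ℂ) c = (W c : ℂ) := fun c => by
      simp only [hι, AddChar.sum_mulShift _ (ZMod.isPrimitive_stdAddChar p), ZMod.card, W]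
      split_ifs <;> simp
    have hρW : ∀ ρ ∈ R, ∑ c, ‖(ρ : C → ℂ) c‖ ^ 2 * W c = (Nat.card C : ℝ) := by
      intro ρ hρ
      refine Complex.ofReal_injective ?_
      push_cast
      simp only [← hW, Finset.mul_sum]
      rw [Finset.sum_comm, Finset.sum_eq_single 0]
      · simp only [hphi0, mul_one]
        exact_mod_cast sum_norm_sq_irr ρ.2
      · intro s _ hs
        set S := ∑ c, ((‖(ρ : C → ℂ) c‖ : ℂ) ^ 2 * (O.φ s : C → ℂ) c)
        have hshift : S = ZMod.stdAddChar s * S := by
          conv_lhs => rw [show S = ∑ c, ((‖(ρ : C → ℂ) (O.z * c)‖ : ℂ) ^ 2 *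
            (O.φ s : C → ℂ) (O.z * c)) from (Fintype.sum_equiv (Equiv.mulLeft O.z) _ _ fun c => rfl).symm]
          rw [Finset.mul_sum]
          refine Finset.sum_congr rfl fun c _ => ?_
          have h := O.phi_shift s 1 c
          rw [ZMod.val_one, pow_one, mul_one] at h
          rw [h, show ‖(ρ : C → ℂ) (O.z * c)‖ = ‖(ρ : C → ℂ) c‖ from norm_shift hM hxo hsq ρ c]
          ring
        by_contra hS
        exact hs (ZMod.injective_stdAddChar (((mul_eq_right₀ hS).1 hshift.symm).trans
          (AddChar.map_zero_eq_one _).symm))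
      · intro h; exact absurd (Finset.mem_univ _) h
    have hsum : ((∑ s, ∑ η : IrrCharacter G, k η * O.multN η s : ℕ) : ℂ) * (Nat.card C : ℂ) =
        ((∑ c : C, ‖(ξ : G → ℂ) c‖ ^ 2 * W c : ℝ) : ℂ) := by
      push_cast
      simp only [← hmultF, CfsgLib.Char.classInner_def, ← Finset.mul_sum]
      rw [mul_comm, ← mul_assoc, mul_inv_cancel₀ CfsgLib.Char.natCard_ne_zero, one_mul,
        Finset.sum_comm]
      refine Finset.sum_congr rfl fun c _ => ?_
      rw [← Finset.mul_sum, ← map_sum, hW, Complex.conj_ofReal]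
      simp only [F, Complex.mul_conj']
    have hle : ∑ c : C, ‖(ξ : G → ℂ) c‖ ^ 2 * W c ≤ (f : ℝ) * ((f : ℝ) * Nat.card C) := by
      calc ∑ c : C, ‖(ξ : G → ℂ) c‖ ^ 2 * W c
          ≤ ∑ c : C, ((f : ℝ) * ∑ ρ ∈ R, ‖(ρ : C → ℂ) c‖ ^ 2) * W c := by
            refine Finset.sum_le_sum fun c _ => mul_le_mul_of_nonneg_right ?_ ?_
            · rw [hres, ← hRf]
              calc ‖∑ ρ ∈ R, (ρ : C → ℂ) c‖ ^ 2 ≤ (∑ ρ ∈ R, ‖(ρ : C → ℂ) c‖) ^ 2 :=
                    pow_le_pow_left₀ (norm_nonneg _) (norm_sum_le _ _) 2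
                _ ≤ _ := sq_sum_le_card_mul_sum_sq
            · simp only [W]; split_ifs <;> simp
        _ = (f : ℝ) * ∑ ρ ∈ R, ∑ c : C, ‖(ρ : C → ℂ) c‖ ^ 2 * W c := by
            rw [Finset.sum_comm, Finset.mul_sum]
            refine Finset.sum_congr rfl fun c _ => ?_
            rw [mul_assoc, Finset.sum_mul]
        _ = _ := by
            rw [Finset.sum_congr rfl hρW, Finset.sum_const, nsmul_eq_mul, hRf]
    have h := (Complex.ofReal_inj.1 (by push_cast at hsum ⊢; exact hsum :
      ((((∑ s, ∑ η : IrrCharacter G, k η * O.multN η s : ℕ) : ℝ) * (Nat.card C : ℝ) : ℝ) : ℂ) = _)).le.trans hle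
    rw [← mul_assoc] at h
    have h' := le_of_mul_le_mul_right h (Nat.cast_pos.2 (Nat.card_pos (α := C)))
    exact_mod_cast h'
  -- the classification of the rows
  set A : IrrCharacter G → ℤ := fun η => ∑ v, O.row η v with hA
  have hA1 : A one = -(((p - 1 : ℕ) : ℤ)) := by
    have hm : ∀ s, O.multN one s = if s = 0 then 1 else 0 := fun s => by
      refine Nat.cast_injective (R := ℂ) ?_
      rw [← OneBlock.mult_eq_multN, O.mult_def]
      change classInner (fun _ : C => (1 : ℂ)) (O.φ s : C → ℂ) = _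
      rw [← hphi0, CfsgLib.Char.irr_classInner (O.φ 0).2 (O.φ s).2]
      by_cases hs : s = 0
      · subst hs; simp
      · rw [if_neg fun h => hs (O.hinj (Subtype.ext h)).symm, if_neg hs, Nat.cast_zero]
    simp [A, O.row_eq_multN, hm, Nat.totient_prime hp.out]
  have hclass : ∀ η : IrrCharacter G, η ≠ one → 0 ≤ A η ∨
      (A η = -(((p - 1 : ℕ) : ℤ)) ∧ (p - f) * d ≤ charDegree (η : G → ℂ)) ∨
      (A η = -((f : ℤ)) ∧ p - f ≤ charDegree (η : G → ℂ)) := by
    intro η hη
    by_cases hB : η ∈ principalBlock M G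
    swap
    · left
      simp only [A, O.row_eq_zero hind hB, Finset.sum_const_zero, le_refl]
    obtain ⟨X, Y, δ, w, hXY, -, -, -, hδ, hX, hY, -, -, -, -, -⟩ := O.exists_families hind
    rcases (hXY ▸ hB : η ∈ X ∪ Y) with hηX | hηY
    · have hAη : A η = ((p - 1 : ℕ) : ℤ) * δ η := by
        simp [A, hX η hηX, Nat.totient_prime hp.out]
      rcases hδ η hB with hpos | hneg
      · left; rw [hAη, hpos, mul_one]; positivity
      right; left
      refine ⟨by rw [hAη, hneg, mul_neg, mul_one], ?_⟩
      -- the restriction has norm at least `p`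
      have hchar := CfsgLib.Char.isCharacter_restrict (CfsgLib.Char.irr_isCharacter η.2) C
      have hnat : ∀ ρ : IrrCharacter C, ∃ k : ℕ,
          classInner (fun c : C => (η : G → ℂ) c) (ρ : C → ℂ) = k := fun ρ =>
        CfsgLib.Char.classInner_isCharacter_nat hchar (CfsgLib.Char.irr_isCharacter ρ.2)
      choose m hm using hnat
      have hηx : (η : G → ℂ) x ≠ (η : G → ℂ) 1 := by
        intro hx
        apply hη
        obtain ⟨l, rep, hrep, hηe⟩ := η.2
        have htop : (MonoidHom.ker rep : Subgroup G) = ⊤ := hgen _ inferInstance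
          ((CfsgLib.Char.mem_ker_iff_char rep x).2 (by rw [hηe]; exact hx))
        have hconst : ∀ g, (η : G → ℂ) g = (η : G → ℂ) 1 := fun g => by
          rw [← hηe]
          exact (CfsgLib.Char.mem_ker_iff_char rep g).1 (htop ▸ Subgroup.mem_top g)
        by_contra hne
        have h := CfsgLib.Char.irr_classInner_ne η.2 one.2 fun h => hne (Subtype.ext h)
        rw [CfsgLib.Char.classInner_def, Finset.sum_congr rfl fun g _ => by
          rw [show (one : G → ℂ) g = 1 from rfl, map_one, mul_one, hconst g], Finset.sum_const,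
          nsmul_eq_mul, Finset.card_univ, ← Nat.card_eq_fintype_card, ← mul_assoc,
          inv_mul_cancel₀ CfsgLib.Char.natCard_ne_zero, one_mul] at h
        exact CfsgLib.Char.irr_apply_one_ne_zero η.2 h
      obtain ⟨ρ, hρm, hρz⟩ : ∃ ρ : IrrCharacter C, m ρ ≠ 0 ∧
          (ρ : C → ℂ) ⟨x, DefectOne.mem_cen_self⟩ ≠ (ρ : C → ℂ) 1 := by
        by_contra h
        push Not at h
        apply hηx
        have e1 : ∀ c : C, (η : G → ℂ) c = ∑ ρ, (m ρ : ℂ) * (ρ : C → ℂ) c := fun c => by
          rw [CfsgLib.Char.classFunction_apply_eq_sum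
            (CfsgLib.Char.isCharacter_isClassFunction hchar) c]
          simp only [hm]
        have e2 := e1 ⟨x, DefectOne.mem_cen_self⟩
        rw [Finset.sum_congr rfl fun ρ _ => show (m ρ : ℂ) * (ρ : C → ℂ) ⟨x, DefectOne.mem_cen_self⟩ =
          (m ρ : ℂ) * (ρ : C → ℂ) 1 by
            by_cases h0 : m ρ = 0
            · simp [h0]
            · rw [h ρ h0], ← e1 1] at e2
        exact e2
      -- at some block all multiplicities add up to at least `p`
      obtain ⟨O', hx', hsum'⟩ : ∃ φ' : ZMod p → IrrCharacter C, Function.Injective φ' ∧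
          p ≤ ∑ s, m (φ' s) := by
        obtain ⟨φ', i1, i2, i3, -⟩ := DefectOne.exists_param hM hxo hsq (isPBlock_blockOf ρ)
        set O' : OneBlock G p M := ⟨hM, x, hxo, hsq, _, isPBlock_blockOf ρ, φ', i1, i2, i3⟩
        obtain ⟨s, hs⟩ : ρ ∈ Set.range φ' := i2.symm ▸ mem_blockOf_self ρ
        by_cases hprin : blockOf M (ρ : C → ℂ) = principalBlock M C
        · have hmO : ∀ s, m (O.φ s) = O.multN η s := fun s => Nat.cast_injective (R := ℂ) (by
            rw [← OneBlock.mult_eq_multN, O.mult_def, hm])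
          obtain ⟨s', hs'⟩ : ρ ∈ Set.range O.φ := by
            rw [O.hrange]
            change ρ ∈ principalBlock M C
            rw [← hprin]
            exact mem_blockOf_self ρ
          refine ⟨φ, h1, ?_⟩
          have hs0 : s' ≠ 0 := fun h => hρz (by rw [← hs', h]; exact O.phi0_z)
          have hrow : ∀ v : (ZMod p)ˣ, (O.multN η v : ℤ) = O.multN η 0 - 1 := fun v => by
            have h := hX η hηX v
            rw [OneBlock.row_eq_multN, hneg] at h
            omega
          have hm1 : 2 ≤ O.multN η 0 := by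
            have h := hrow (Units.mk0 s' hs0)
            rw [Units.val_mk0, ← hmO, hs'] at h
            omega
          change p ≤ ∑ s, m (O.φ s)
          simp only [hmO]
          rw [PrimeRows.sum_eq_zero_add_units]
          have h1' : ∑ v : (ZMod p)ˣ, 1 ≤ ∑ v : (ZMod p)ˣ, O.multN η v :=
            Finset.sum_le_sum fun v _ => by have := hrow v; omega
          rw [Finset.sum_const, Finset.card_univ, ZMod.card_units, smul_eq_mul, mul_one] at h1'
          omega
        · have hmO : ∀ s, m (φ' s) = O'.multN η s := fun s => Nat.cast_injective (R := ℂ) (by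
            rw [← OneBlock.mult_eq_multN, O'.mult_def, hm])
          obtain ⟨B', hB'⟩ := exists_isInducedBlock_centralizer hM (x := x)
            ⟨1, by rw [hxo, pow_one]⟩ (isPBlock_blockOf ρ)
          have hnotB : η ∉ B' := fun h => by
            apply hprin
            refine (Cfsg.Agent.S0936.result p M hM _ _ ⟨B', hB'⟩).1 ?_
            rwa [isPBlock_eq_of_mem hB'.2.1 isPBlock_principalBlock h hB] at hB'
          have hall : ∀ s, O'.multN η s = O'.multN η 0 := fun s => by
            rcases eq_or_ne s 0 with rfl | hs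
            · rfl
            have h := O'.row_eq_zero hB' hnotB (Units.mk0 s hs)
            rw [OneBlock.row_eq_multN, Units.val_mk0] at h
            omega
          refine ⟨φ', i1, ?_⟩
          simp only [hmO, hall, Finset.sum_const, Finset.card_univ, ZMod.card, smul_eq_mul]
          refine Nat.le_mul_of_pos_right _ (Nat.pos_of_ne_zero fun h => hρm ?_)
          rw [← hs, hmO, hall, h]
      have hnormC : (p : ℝ) * Nat.card C ≤ ∑ c : C, ‖(η : G → ℂ) c‖ ^ 2 := by
        have h := sum_norm_sq fun c : C => (η : G → ℂ) c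
        rw [CfsgLib.Char.classInner_eq_sum_mul (CfsgLib.Char.isCharacter_isClassFunction hchar)] at h
        simp only [hm, map_natCast] at h
        have h' : ∑ c : C, ‖(η : G → ℂ) c‖ ^ 2 = (Nat.card C : ℝ) * ((∑ ρ, m ρ * m ρ : ℕ) : ℝ) := by
          refine Complex.ofReal_injective (h.trans ?_)
          push_cast
          rfl
        rw [h', mul_comm]
        refine mul_le_mul_of_nonneg_left (Nat.cast_le.2 (hsum'.trans ?_)) (Nat.cast_nonneg _)
        rw [← Finset.sum_image (f := m) fun a _ b _ h => hx' h]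
        exact (Finset.sum_le_sum fun ρ _ => Nat.le_mul_self _).trans
          (Finset.sum_le_sum_of_subset (Finset.subset_univ _))
      -- the centre
      set Z := Subgroup.center G
      have hti : (Nat.card G : ℝ) *
          ∑ u ∈ Finset.univ.filter (fun u : G => u ∈ C ∧ u ∉ Z), ‖(η : G → ℂ) u‖ ^ 2 ≤
          (Nat.card N : ℝ) * ∑ g, ‖(η : G → ℂ) g‖ ^ 2 :=
        mul_sum_le_of_ti C N Z hTI _ (fun g u => by rw [CfsgLib.Char.irr_isClassFunction η.2])
          fun u => sq_nonneg _
      rw [sum_norm_sq_irr η.2, mul_comm (Nat.card N : ℝ)] at hti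
      have hti' := le_of_mul_le_mul_left hti (Nat.cast_pos.2 Nat.card_pos)
      have hsplit : ∑ c : C, ‖(η : G → ℂ) c‖ ^ 2 ≤ (Nat.card N : ℝ) +
          (Nat.card Z : ℝ) * (charDegree (η : G → ℂ) : ℝ) ^ 2 := by
        rw [← Finset.sum_subtype (Finset.univ.filter fun u : G => u ∈ C) (p := (· ∈ C)) (by simp)
          (fun u : G => ‖(η : G → ℂ) u‖ ^ 2),
          ← Finset.sum_filter_add_sum_filter_not _ (fun u : G => u ∉ Z), Finset.filter_filter,
          Finset.filter_filter]
        refine add_le_add hti' ?_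
        refine (Finset.sum_le_sum fun u _ =>
          pow_le_pow_left₀ (norm_nonneg _) (norm_char_le_degree
            (CfsgLib.Char.irr_isCharacter η.2) u) 2).trans ?_
        rw [Finset.sum_const, nsmul_eq_mul]
        refine mul_le_mul_of_nonneg_right (Nat.cast_le.2 ?_) (sq_nonneg _)
        rw [Nat.card_eq_fintype_card, ← Fintype.card_coe]
        exact Fintype.card_le_of_injective (fun u => (⟨u.1, not_not.1 (Finset.mem_filter.1 u.2).2.2⟩ : Z))
          fun a b h => Subtype.ext (congrArg (fun w : Z => (w : G)) h)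
      have hNC : Nat.card N = f * Nat.card C := by
        refine (Subgroup.card_mul_index ((C).subgroupOf N)).symm.trans ?_
        rw [hf, Subgroup.relIndex, mul_comm]
        congr 1
        exact Nat.card_congr (Subgroup.subgroupOfEquivOfLe O.cen_le_N).toEquiv
      have hmain : p * Nat.card C ≤ f * Nat.card C + Nat.card Z * charDegree (η : G → ℂ) ^ 2 := by
        have := hnormC.trans hsplit
        rw [hNC] at this
        exact_mod_cast this
      obtain ⟨ρ₁, hρ₁⟩ : R.Nonempty := Finset.card_pos.1 (by omega)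
      have hK : d ^ 2 * (p * Nat.card Z) ≤ Nat.card C := by
        have hle : Z ⊔ Subgroup.zpowers x ≤ C :=
          sup_le (fun z hz => Subgroup.mem_centralizer_singleton_iff.2
            ((Subgroup.mem_center_iff.1 hz x).symm)) DefectOne.zpowers_le_cen
        have hcen : (Z ⊔ Subgroup.zpowers x).subgroupOf C ≤ Subgroup.center C := by
          intro u hu
          refine Subgroup.mem_center_iff.2 fun c => Subtype.ext ?_
          have hmem : Z ⊔ Subgroup.zpowers x ≤ Subgroup.centralizer {(c : G)} :=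
            sup_le (fun z hz => Subgroup.mem_centralizer_singleton_iff.2
              ((Subgroup.mem_center_iff.1 hz (c : G)).symm))
              (Subgroup.zpowers_le.2 (Subgroup.mem_centralizer_singleton_iff.2
                (Subgroup.mem_centralizer_singleton_iff.1 c.2).symm))
          exact (Subgroup.mem_centralizer_singleton_iff.1 (hmem (Subgroup.mem_subgroupOf.1 hu))).symm
        have h := sq_mul_card_le ρ₁.2 _ hcen
        rw [(hR ρ₁ hρ₁).1, Nat.card_congr (Subgroup.subgroupOfEquivOfLe hle).toEquiv] at h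
        refine le_trans (Nat.mul_le_mul_left _ ?_) h
        have hinter : ∀ a ∈ Z, a ∈ Subgroup.zpowers x → a = 1 := by
          intro a haZ hax
          by_contra ha
          apply hxZ
          have heq : Subgroup.zpowers a = Subgroup.zpowers x := by
            refine Subgroup.eq_of_le_of_card_ge (Subgroup.zpowers_le.2 hax) ?_
            rw [Nat.card_zpowers, hxo, Nat.card_zpowers]
            refine Nat.le_of_dvd (orderOf_pos a) ?_
            have h := orderOf_dvd_of_mem_zpowers hax
            rw [hxo] at h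
            rcases (Nat.dvd_prime hp.out).1 h with h1 | h1
            · exact absurd (orderOf_eq_one_iff.1 h1) ha
            · rw [h1]
          exact (Subgroup.zpowers_le.2 haZ) (heq ▸ Subgroup.mem_zpowers x)
        calc p * Nat.card Z = Nat.card (Z × Subgroup.zpowers x) := by
              rw [Nat.card_prod, Nat.card_zpowers, hxo, mul_comm]
          _ ≤ _ := Nat.card_le_card_of_injective
              (fun q => (⟨(q.1 : G) * q.2, mul_mem (Subgroup.mem_sup_left q.1.2)
                (Subgroup.mem_sup_right q.2.2)⟩ : ↥(Z ⊔ Subgroup.zpowers x))) fun q q' h => by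
            have h' : (q.1 : G) * q.2 = q'.1 * q'.2 := congrArg Subtype.val h
            have he : ((q'.1 : G))⁻¹ * q.1 = (q'.2 : G) * (q.2 : G)⁻¹ := by
              rw [eq_mul_inv_iff_mul_eq, mul_assoc, h', inv_mul_cancel_left]
            have h1 := hinter _ (mul_mem (inv_mem q'.1.2) q.1.2)
              (by rw [he]; exact mul_mem q'.2.2 (inv_mem q.2.2))
            have e1 : (q'.1 : G) = q.1 := inv_mul_eq_one.1 h1
            rw [e1] at h'
            exact Prod.ext (Subtype.ext e1.symm) (Subtype.ext (mul_left_cancel h'))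
      obtain ⟨q, hq⟩ : ∃ q, p = f + q := ⟨p - f, by
        have : t * f + 1 = p := ht
        rcases Nat.eq_zero_or_pos t with h | h
        · subst h
          have := hp.out.two_le
          omega
        · have := Nat.le_mul_of_pos_left f h
          omega⟩
      rw [hq, Nat.add_sub_cancel_left]
      rw [hq, Nat.add_mul] at hmain
      have h4 : q * Nat.card C ≤ Nat.card Z * charDegree (η : G → ℂ) ^ 2 := by omega
      have h5 : q * (d ^ 2 * (p * Nat.card Z)) ≤ Nat.card Z * charDegree (η : G → ℂ) ^ 2 :=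
        le_trans (Nat.mul_le_mul_left q hK) h4
      have h6 : q * d ^ 2 * p ≤ charDegree (η : G → ℂ) ^ 2 :=
        Nat.le_of_mul_le_mul_left (by rw [show Nat.card Z * (q * d ^ 2 * p) =
          q * (d ^ 2 * (p * Nat.card Z)) by ring]; exact h5) Nat.card_pos
      refine (Nat.pow_le_pow_iff_left (n := 2) two_ne_zero).1 (le_trans ?_ h6)
      rw [mul_pow, show q ^ 2 * d ^ 2 = q * d ^ 2 * q by ring]
      exact Nat.mul_le_mul_left _ (hq ▸ Nat.le_add_left q f)
    · have hAη : A η = (f : ℤ) * δ η := by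
        simp only [A]; rw [O.sum_indicator (w η) (δ η) _ (hY η hηY), hH]
      rcases hδ η hB with hpos | hneg
      · left; rw [hAη, hpos, mul_one]; positivity
      right; right
      refine ⟨by rw [hAη, hneg, mul_neg, mul_one], ?_⟩
      obtain ⟨m, hm⟩ := O.charDegree_eq hind hB
      rw [show (∑ v, O.row η v) = A η from rfl, hAη, hneg, hT, hdphi] at hm
      have hpos : 0 < charDegree (η : G → ℂ) := Nat.pos_of_ne_zero (charDegree_ne_zero η.2)
      push_cast at hm
      have hm0 : 1 ≤ m := by
        by_contra h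
        have : (p : ℤ) * m ≤ 0 :=
          mul_nonpos_of_nonneg_of_nonpos (Int.natCast_nonneg p) (by omega)
        omega
      have : (p : ℤ) ≤ (p : ℤ) * m := le_mul_of_one_le_right (Int.natCast_nonneg p) hm0
      omega
  -- the two counts
  set others := Finset.univ.filter fun η : IrrCharacter G => η ≠ one
  set SJ := others.filter fun η => A η = -(((p - 1 : ℕ) : ℤ))
  set SN := others.filter fun η => A η = -((f : ℤ))
  have hsumA : ∑ η, (k η : ℤ) * A η = (U : ℤ) - (p : ℤ) * f := by
    refine Int.cast_injective (α := ℂ) ?_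
    push_cast
    rw [← hU, PrimeRows.sum_eq_zero_add_units, hF0]
    simp only [A, hmultF, O.row_eq_multN, Finset.mul_sum, Int.cast_sum, Int.cast_sub,
      Int.cast_natCast, mul_sub, Finset.sum_sub_distrib, Finset.sum_const, Finset.card_univ,
      ZMod.card_units, nsmul_eq_mul]
    rw [Finset.sum_comm,
      show (∑ η : IrrCharacter G, (k η : ℂ) * ((((p - 1 : ℕ) : ℤ) * (O.multN η 0 : ℤ) : ℤ) : ℂ)) =
          ((p - 1 : ℕ) : ℂ) * ∑ η : IrrCharacter G, (k η : ℂ) * (O.multN η 0 : ℂ) by
        rw [Finset.mul_sum]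
        exact Finset.sum_congr rfl fun η _ => by push_cast; ring,
      show (∑ η : IrrCharacter G, (k η : ℂ) * (O.multN η 0 : ℂ)) = (f : ℂ) from (hmultF 0).symm.trans hF0,
      Nat.cast_sub hp.out.one_le]
    ring
  have hsplit : ∑ η, (k η : ℤ) * A η = (k one : ℤ) * A one + ∑ η ∈ others, (k η : ℤ) * A η := by
    rw [← Finset.add_sum_erase _ _ (Finset.mem_univ one)]
    congr 1
    refine Finset.sum_congr ?_ fun _ _ => rfl
    ext η
    simp [others]
  have hlow : -(((p - 1 : ℕ) : ℤ)) * (∑ η ∈ SJ, (k η : ℤ)) - (f : ℤ) * (∑ η ∈ SN, (k η : ℤ)) ≤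
      ∑ η ∈ others, (k η : ℤ) * A η := by
    simp only [Finset.mul_sum, SJ, SN, Finset.sum_filter (s := others), ← Finset.sum_sub_distrib]
    refine Finset.sum_le_sum fun η hη => ?_
    rcases hclass η (Finset.mem_filter.1 hη).2 with h | ⟨h, -⟩ | ⟨h, -⟩
    · have h1 : A η ≠ -(((p - 1 : ℕ) : ℤ)) := by
        have := hp.out.two_le
        omega
      have h2 : A η ≠ -((f : ℤ)) := by omega
      rw [if_neg h1, if_neg h2]
      simp only [mul_zero, sub_zero]
      positivity
    · rw [if_pos h, if_neg (fun h' => hfne (by omega)), h, mul_zero, sub_zero, mul_comm]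
    · rw [if_pos h, if_neg (fun h' => hfne (by omega)), h, mul_zero, zero_sub, mul_neg, mul_comm]
  set J := ∑ η ∈ SJ, k η
  set N' := ∑ η ∈ SN, k η
  have hineq : p ≤ t * J + t + N' + f := by
    have h := hsumA.symm.trans hsplit
    rw [hk1, Nat.cast_one, one_mul, hA1] at h
    have hJ : (∑ η ∈ SJ, (k η : ℤ)) = (J : ℤ) := by push_cast [J]; rfl
    have hN : (∑ η ∈ SN, (k η : ℤ)) = (N' : ℤ) := by push_cast [N']; rfl
    rw [hJ, hN] at hlow
    have hUi : (U : ℤ) ≤ (f : ℤ) * f := by exact_mod_cast hUle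
    have htp : ((p - 1 : ℕ) : ℤ) = (t : ℤ) * f := by
      rw [← ht, Nat.add_sub_cancel]; push_cast; rfl
    rw [htp] at h hlow
    have hkey : (f : ℤ) * p ≤ (f : ℤ) * ((t : ℤ) * J + t + N' + f) := by nlinarith
    exact_mod_cast le_of_mul_le_mul_left hkey (by omega)
  have hbudget : 1 + (p - f) * (d * J + N') ≤ (f * d) ^ 2 := by
    have h := CfsgLib.Char.classFunction_apply_eq_sum hFcl (1 : G)
    simp only [hk, charDegree_spec (CfsgLib.Char.irr_isCharacter (Subtype.property _))] at h
    have hF1 : F 1 = (((f * d) ^ 2 : ℕ) : ℂ) := by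
      simp only [F, charDegree_spec (CfsgLib.Char.irr_isCharacter ξ.2), map_natCast, hdeg, hRf]
      push_cast
      ring
    rw [hF1] at h
    have h' : (f * d) ^ 2 = ∑ η, k η * charDegree (η : G → ℂ) := by exact_mod_cast h
    rw [h', ← Finset.add_sum_erase _ _ (Finset.mem_univ one), hk1, one_mul,
      show charDegree (one : G → ℂ) = 1 by simp [charDegree, one]]
    refine Nat.add_le_add_left ?_ 1
    rw [show Finset.univ.erase one = others by ext η; simp [others]]
    simp only [mul_add, ← mul_assoc, J, N', Finset.mul_sum, SJ, SN,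
      Finset.sum_filter (s := others), ← Finset.sum_add_distrib]
    refine Finset.sum_le_sum fun η hη => ?_
    rcases hclass η (Finset.mem_filter.1 hη).2 with h | ⟨h, hb⟩ | ⟨h, hb⟩
    · have h1 : A η ≠ -(((p - 1 : ℕ) : ℤ)) := by
        have := hp.out.two_le
        omega
      have h2 : A η ≠ -((f : ℤ)) := by omega
      rw [if_neg h1, if_neg h2]
      simp
    · rw [if_pos h, if_neg (fun h' => hfne (by omega)), mul_zero, add_zero, mul_comm]
      exact Nat.mul_le_mul_left _ hb
    · rw [if_pos h, if_neg (fun h' => hfne (by omega)), mul_zero, zero_add, mul_comm]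
      exact Nat.mul_le_mul_left _ hb
  exact arith hf2 hd ht hn hineq hbudget

end DegreeBound

end CfsgLib.Block
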