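import Mathlib

/-!
On average, an element of a finite solvable group fixes at most half (in logarithmic measure) of a
non-trivial irreducible module.
-/

set_option autoImplicit false
set_option linter.unusedSectionVars false

namespace CfsgLib.Block.FixedAverage

universe u v

variable {V : Type v} [CommGroup V] [Finite V]

/-- The fixed points of an automorphism. -/
def fixPts (h : MulAut V) : Subgroup V :=
  h.toMonoidHom.eqLocus (MonoidHom.id V)

theorem mem_fixPts {h : MulAut V} {a : V} : a ∈ fixPts h ↔ h a = a := Iff.rfl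

theorem card_le_map_mul_ker (E : V →* V) (C U R : Subgroup V)
    (hU : ∀ x ∈ C, E x ∈ U) (hR : ∀ x ∈ C, E x = 1 → x ∈ R) :
    Nat.card C ≤ Nat.card U * Nat.card R := by
  let f : C →* U := (E.comp C.subtype).codRestrict U fun x => hU x x.2
  rw [Subgroup.card_eq_card_quotient_mul_card_subgroup f.ker,
    Nat.card_congr (QuotientGroup.quotientKerEquivRange f).toEquiv]
  refine Nat.mul_le_mul (Subgroup.card_le_card_group _) ?_
  refine Nat.card_le_card_of_injective
    (fun x => (⟨((x : C) : V), hR _ (x : C).2 (congrArg Subtype.val x.2)⟩ : R)) fun x y h => ?_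
  exact Subtype.ext (Subtype.ext (congrArg Subtype.val h :))

theorem card_mul_card_le (C D X : Subgroup V) (hC : C ≤ X) (hD : D ≤ X)
    (h : ∀ x ∈ C, x ∈ D → x = 1) : Nat.card C * Nat.card D ≤ Nat.card X := by
  rw [← Nat.card_prod]
  refine Nat.card_le_card_of_injective
    (fun cd => (⟨(cd.1 : V) * cd.2, X.mul_mem (hC cd.1.2) (hD cd.2.2)⟩ : X)) ?_
  rintro ⟨⟨a, ha⟩, ⟨b, hb⟩⟩ ⟨⟨a', ha'⟩, ⟨b', hb'⟩⟩ he
  have he' : a * b = a' * b' := congrArg Subtype.val he
  have h1 : a'⁻¹ * a = b' * b⁻¹ := by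
    rw [eq_mul_inv_iff_mul_eq, mul_assoc, he', inv_mul_cancel_left]
  have h2 := h _ (C.mul_mem (C.inv_mem ha') ha) (h1 ▸ D.mul_mem hb' (D.inv_mem hb))
  have haa : a = a' := (inv_mul_eq_one.1 h2).symm
  subst haa
  have hbb : b = b' := mul_left_cancel he'
  subst hbb
  rfl

/-- The product over an abelian coprime group `A` of the fixed points of the elements of `gA`. -/
theorem prod_fix_sq_le (A : Subgroup (MulAut V)) [Fintype A]
    (hAc : ∀ a ∈ A, ∀ b ∈ A, a * b = b * a) (g : MulAut V) (hg : ∀ a ∈ A, g * a * g⁻¹ ∈ A)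
    (hcop : (Nat.card A).Coprime (Nat.card V)) :
    ∀ (n : ℕ) (X : Subgroup V), Nat.card X ≤ n → (∀ a ∈ A, ∀ x ∈ X, a x ∈ X) →
      (∀ x ∈ X, g x ∈ X) → (∀ x ∈ X, (∀ a ∈ A, a x = x) → x = 1) →
      (∏ a : A, Nat.card ↥(X ⊓ fixPts (g * (a : MulAut V)))) ^ 2 ≤
        Nat.card X ^ Nat.card A := by
  classical
  intro n
  induction n with
  | zero => intro X hX _ _ _; exact absurd hX (by simpa using Nat.card_pos.ne')
  | succ n ih =>
    intro X hXn hXA hXg hfree
    rcases eq_or_ne X ⊥ with hX | hX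
    · subst hX
      simp
    let Cfix (K : Subgroup (MulAut V)) : Subgroup V := X ⊓ ⨅ k : K, fixPts (k : MulAut V)
    have hmemC : ∀ (K : Subgroup (MulAut V)) (x : V),
        x ∈ Cfix K ↔ x ∈ X ∧ ∀ k ∈ K, k x = x := fun K x => by
      simp [Cfix, Subgroup.mem_inf, Subgroup.mem_iInf, mem_fixPts]
    obtain ⟨K, ⟨hKA, hKne⟩, hKmax⟩ :=
      (Set.toFinite {K : Subgroup (MulAut V) | K ≤ A ∧ Cfix K ≠ ⊥}).exists_maximal
        ⟨⊥, bot_le, fun h => hX (le_bot_iff.1 fun x hx => h ▸ (hmemC ⊥ x).2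
          ⟨hx, fun k hk => by rw [Subgroup.mem_bot.1 hk]; rfl⟩)⟩
    have hbig : ∀ t ∈ A, t ∉ K → ∀ x ∈ Cfix K, t x = x → x = 1 := by
      intro t ht htK x hx htx
      by_contra h1
      refine htK ((hKmax (y := K ⊔ Subgroup.zpowers t) ⟨sup_le hKA (Subgroup.zpowers_le.2 ht),
        fun h => h1 ?_⟩ le_sup_left) (Subgroup.mem_sup_right (Subgroup.mem_zpowers t)))
      rw [← Subgroup.mem_bot, ← h, hmemC]
      refine ⟨((hmemC K x).1 hx).1, fun k hk => ?_⟩
      let St : Subgroup (MulAut V) := MulAction.stabilizer (MulAut V) x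
      exact (sup_le (a := K) (c := St) (fun k hk => ((hmemC K x).1 hx).2 k hk)
        (Subgroup.zpowers_le.2 (show t ∈ St from htx))) hk
    have := Fintype.ofFinite K
    let E : V →* V := ∏ k : K, (k : MulAut V).toMonoidHom
    have hE : ∀ x, E x = ∏ k : K, (k : MulAut V) x := fun x => by
      simp [E, MonoidHom.finsetProd_apply]
    have hEA : ∀ a ∈ A, ∀ x, E (a x) = a (E x) := fun a ha x => by
      rw [hE, hE, map_prod]
      exact Finset.prod_congr rfl fun k _ =>
        congrArg (fun f : MulAut V => f x) (hAc _ (hKA k.2) a ha)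
    have hEX : ∀ x ∈ X, E x ∈ X := fun x hx => by
      rw [hE]; exact X.prod_mem fun k _ => hXA _ (hKA k.2) x hx
    have hEK : ∀ x, ∀ k ∈ K, k (E x) = E x := fun x k hk => by
      rw [hE, map_prod]
      exact Fintype.prod_equiv (Equiv.mulLeft (⟨k, hk⟩ : K)) _ _ fun j => rfl
    have hEC : ∀ x ∈ X, E x ∈ Cfix K := fun x hx => (hmemC K _).2 ⟨hEX x hx, hEK x⟩
    have hinj : ∀ x : V, x ^ Nat.card K = 1 → x = 1 := fun x hx => by
      refine orderOf_eq_one_iff.1 (Nat.eq_one_of_dvd_coprimes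
        (hcop.coprime_dvd_left (Subgroup.card_dvd_of_le hKA))
        (orderOf_dvd_of_pow_eq_one hx) (orderOf_dvd_natCard x))
    have hEpow : ∀ x ∈ Cfix K, E x = x ^ Nat.card K := fun x hx => by
      rw [hE, Finset.prod_congr rfl (fun (k : K) _ => ((hmemC K x).1 hx).2 k k.2),
        Finset.prod_const, Finset.card_univ, Nat.card_eq_fintype_card]
    -- the complement
    let X' : Subgroup V := X ⊓ ⨅ j : ℕ, (E.comp (g ^ j : MulAut V).toMonoidHom).ker
    have hX' : ∀ x, x ∈ X' ↔ x ∈ X ∧ ∀ j : ℕ, E ((g ^ j : MulAut V) x) = 1 := fun x => by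
      simp only [X', Subgroup.mem_inf, Subgroup.mem_iInf, MonoidHom.mem_ker]
      exact Iff.rfl
    have hgj : ∀ (j : ℕ), ∀ a ∈ A, g ^ j * a * (g ^ j)⁻¹ ∈ A := by
      intro j
      induction j with
      | zero => intro a ha; simpa using ha
      | succ j ihj =>
        intro a ha
        have h := hg _ (ihj a ha)
        convert h using 1
        rw [pow_succ']
        group
    have hX'lt : Nat.card X' ≤ n := by
      have hne : X' ≠ X := fun h => hKne (le_bot_iff.1 fun x hx => by
        have h1 := ((hX' x).1 (h ▸ ((hmemC K x).1 hx).1)).2 0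
        rw [pow_zero, MulAut.one_apply, hEpow x hx] at h1
        exact hinj x h1)
      have hlt : X' < X := lt_of_le_of_ne inf_le_left hne
      have h2 : Nat.card X' ≠ Nat.card X := fun h =>
        hne (Subgroup.eq_of_le_of_card_ge hlt.le h.ge)
      have := Subgroup.card_le_of_le hlt.le
      omega
    have ih' := ih X' hX'lt
      (fun a ha x hx => (hX' _).2 ⟨hXA a ha x ((hX' x).1 hx).1, fun j => by
        have e : (g ^ j : MulAut V) (a x) =
            (g ^ j * a * (g ^ j)⁻¹ : MulAut V) ((g ^ j : MulAut V) x) := by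
          rw [← MulAut.mul_apply, ← MulAut.mul_apply, inv_mul_cancel_right]
        rw [e, hEA _ (hgj j a ha), ((hX' x).1 hx).2 j, map_one]⟩)
      (fun x hx => (hX' _).2 ⟨hXg x ((hX' x).1 hx).1, fun j => by
        rw [← MulAut.mul_apply, ← pow_succ]
        exact ((hX' x).1 hx).2 (j + 1)⟩)
      (fun x hx h => hfree x ((hX' x).1 hx).1 h)
    -- fixed points split
    have hstep : ∀ (a : A) (U : Subgroup V),
        (∀ x ∈ X, (g * (a : MulAut V)) x = x → E x ∈ U) →
        Nat.card ↥(X ⊓ fixPts (g * (a : MulAut V))) ≤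
          Nat.card U * Nat.card ↥(X' ⊓ fixPts (g * (a : MulAut V))) := by
      intro a U hU
      refine card_le_map_mul_ker E _ _ _ (fun x hx => hU x hx.1 hx.2) fun x hx hEx =>
        ⟨(hX' x).2 ⟨hx.1, fun j => ?_⟩, hx.2⟩
      suffices H : ∀ j : ℕ, ∃ b ∈ A, (g ^ j : MulAut V) x = b x by
        obtain ⟨b, hb, e⟩ := H j
        rw [e, hEA b hb, hEx, map_one]
      have hfx : g ((a : MulAut V) x) = x := hx.2
      intro j
      induction j with
      | zero => exact ⟨1, A.one_mem, rfl⟩
      | succ j ihj =>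
        obtain ⟨b, hb, e⟩ := ihj
        have hax : g x = (g * (a : MulAut V)⁻¹ * g⁻¹) x := by
          conv_rhs => rw [← hfx]
          simp [MulAut.mul_apply]
        refine ⟨g * b * g⁻¹ * (g * (a : MulAut V)⁻¹ * g⁻¹),
          A.mul_mem (hg b hb) (hg _ (A.inv_mem a.2)), ?_⟩
        rw [pow_succ', MulAut.mul_apply, e, MulAut.mul_apply, ← hax]
        simp [MulAut.mul_apply]
    set W : Subgroup V := Cfix K with hW
    have hWX : W ≤ X := fun x hx => ((hmemC K x).1 hx).1
    by_cases hst : ∀ k ∈ K, g * k * g⁻¹ ∈ K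
    · -- `g` normalises `K`
      obtain ⟨t, ht, htK⟩ : ∃ t ∈ A, t ∉ K := by
        by_contra h
        push Not at h
        refine hKne (le_bot_iff.1 fun x hx => ?_)
        rw [hmemC] at hx
        exact Subgroup.mem_bot.2 (hfree x hx.1 fun a ha => hx.2 a (h a ha))
      have hconjK : ∀ k ∈ K, g⁻¹ * k * g ∈ K := by
        intro k hk
        let f : K → K := fun k => ⟨g * k * g⁻¹, hst k k.2⟩
        have hf : Function.Injective f := fun a b h => Subtype.ext (by
          simpa [f] using congrArg Subtype.val h)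
        obtain ⟨k', hk'⟩ := (Finite.injective_iff_surjective.1 hf) ⟨k, hk⟩
        have e : g⁻¹ * k * g = (k' : MulAut V) := by
          have e' : g * (k' : MulAut V) * g⁻¹ = k := congrArg Subtype.val hk'
          rw [← e']
          simp [mul_assoc]
        exact e ▸ k'.2
      have hgE : ∀ x, g (E x) = E (g x) := fun x => by
        rw [hE, hE, map_prod]
        refine Fintype.prod_equiv
          { toFun := fun k : K => (⟨g * k * g⁻¹, hst k k.2⟩ : K)
            invFun := fun k : K => ⟨g⁻¹ * k * g, hconjK k k.2⟩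
            left_inv := fun k => Subtype.ext (by group)
            right_inv := fun k => Subtype.ext (by group) } _ _ fun k => ?_
        simp [MulAut.mul_apply]
      have h1 : ∀ a : A, Nat.card ↥(X ⊓ fixPts (g * (a : MulAut V))) ≤
          Nat.card ↥(W ⊓ fixPts (g * (a : MulAut V))) *
            Nat.card ↥(X' ⊓ fixPts (g * (a : MulAut V))) := fun a =>
        hstep a _ fun x hx hfx => ⟨hEC x hx, by
          show (g * (a : MulAut V)) (E x) = E x
          conv_rhs => rw [← hfx]
          rw [MulAut.mul_apply, MulAut.mul_apply, ← hEA _ a.2, hgE]⟩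
      have hpair : ∀ a : A, Nat.card ↥(W ⊓ fixPts (g * (a : MulAut V))) *
          Nat.card ↥(W ⊓ fixPts (g * (((a * ⟨t, ht⟩ : A)) : MulAut V))) ≤ Nat.card W := fun a =>
        card_mul_card_le _ _ W inf_le_left inf_le_left fun x hx hy =>
          hbig t ht htK x hx.1 (by
            have e : g ((a : MulAut V) (t x)) = g ((a : MulAut V) x) :=
              (show g ((a : MulAut V) (t x)) = x from hy.2).trans hx.2.symm
            exact (a : MulAut V).injective (g.injective e))
      have hWsq : (∏ a : A, Nat.card ↥(W ⊓ fixPts (g * (a : MulAut V)))) ^ 2 ≤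
          Nat.card W ^ Nat.card A := by
        rw [sq]
        nth_rewrite 2 [← Equiv.prod_comp (Equiv.mulRight (⟨t, ht⟩ : A))]
        rw [← Finset.prod_mul_distrib, Nat.card_eq_fintype_card (α := A), ← Finset.card_univ,
          ← Finset.prod_const]
        exact Finset.prod_le_prod' fun a _ => hpair a
      have hWX' : Nat.card W * Nat.card X' ≤ Nat.card X :=
        card_mul_card_le W X' X hWX inf_le_left fun x hx hx' => hinj x (by
          rw [← hEpow x hx]; simpa using ((hX' x).1 hx').2 0)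
      calc (∏ a : A, Nat.card ↥(X ⊓ fixPts (g * (a : MulAut V)))) ^ 2
          ≤ (∏ a : A, (Nat.card ↥(W ⊓ fixPts (g * (a : MulAut V))) *
              Nat.card ↥(X' ⊓ fixPts (g * (a : MulAut V))))) ^ 2 :=
            Nat.pow_le_pow_left (Finset.prod_le_prod' fun a _ => h1 a) 2
        _ = (∏ a : A, Nat.card ↥(W ⊓ fixPts (g * (a : MulAut V)))) ^ 2 *
              (∏ a : A, Nat.card ↥(X' ⊓ fixPts (g * (a : MulAut V)))) ^ 2 := by
            rw [Finset.prod_mul_distrib, mul_pow]
        _ ≤ Nat.card W ^ Nat.card A * Nat.card X' ^ Nat.card A := Nat.mul_le_mul hWsq ih'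
        _ ≤ Nat.card X ^ Nat.card A := by
            rw [← mul_pow]; exact Nat.pow_le_pow_left hWX' _
    · -- `g` moves `K`
      push Not at hst
      obtain ⟨k₀, hk₀, hk₀n⟩ := hst
      let gW : Subgroup V := W.map g.toMonoidHom
      have hgW : ∀ w ∈ W, E (g w) = 1 := fun w hw =>
        hbig _ (hg k₀ (hKA hk₀)) hk₀n _ (hEC _ (hXg w (hWX hw))) (by
          rw [← hEA _ (hg k₀ (hKA hk₀))]
          congr 1
          simp only [MulAut.mul_apply, MulAut.inv_apply_self]
          rw [((hmemC K w).1 hw).2 k₀ hk₀])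
      have hd1 : Nat.card gW * Nat.card X' ≤ Nat.card ↥(X ⊓ E.ker) := by
        refine card_mul_card_le gW X' _ ?_ ?_ ?_
        · rintro _ ⟨w, hw, rfl⟩
          exact ⟨hXg w (hWX hw), hgW w hw⟩
        · exact fun x hx => ⟨((hX' x).1 hx).1, by simpa using ((hX' x).1 hx).2 0⟩
        · rintro _ ⟨w, hw, rfl⟩ hx'
          have h := ((hX' _).1 hx').2 (orderOf g - 1)
          rw [show (g ^ (orderOf g - 1) : MulAut V) (g.toMonoidHom w) = w by
            show (g ^ (orderOf g - 1) * g : MulAut V) w = w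
            rw [← pow_succ, Nat.sub_add_cancel (orderOf_pos g), pow_orderOf_eq_one]; rfl,
            hEpow w hw] at h
          rw [hinj w h, map_one]
      have hd2 : Nat.card W * Nat.card ↥(X ⊓ E.ker) ≤ Nat.card X :=
        card_mul_card_le W _ X hWX inf_le_left fun x hx hx' => hinj x (by
          rw [← hEpow x hx]; exact hx'.2)
      have hgWc : Nat.card gW = Nat.card W := Subgroup.card_map_of_injective g.injective
      have hWX' : Nat.card W ^ 2 * Nat.card X' ≤ Nat.card X := by
        rw [hgWc] at hd1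
        calc Nat.card W ^ 2 * Nat.card X' = Nat.card W * (Nat.card W * Nat.card X') := by ring
          _ ≤ Nat.card W * Nat.card ↥(X ⊓ E.ker) := Nat.mul_le_mul_left _ hd1
          _ ≤ Nat.card X := hd2
      calc (∏ a : A, Nat.card ↥(X ⊓ fixPts (g * (a : MulAut V)))) ^ 2
          ≤ (∏ a : A, (Nat.card W * Nat.card ↥(X' ⊓ fixPts (g * (a : MulAut V))))) ^ 2 :=
            Nat.pow_le_pow_left (Finset.prod_le_prod' fun a _ =>
              hstep a W fun x hx _ => hEC x hx) 2
        _ = (Nat.card W ^ 2) ^ Nat.card A *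
              (∏ a : A, Nat.card ↥(X' ⊓ fixPts (g * (a : MulAut V)))) ^ 2 := by
            rw [Finset.prod_mul_distrib, mul_pow, Finset.prod_const, Finset.card_univ,
              Nat.card_eq_fintype_card (α := A), pow_right_comm]
        _ ≤ (Nat.card W ^ 2) ^ Nat.card A * Nat.card X' ^ Nat.card A :=
            Nat.mul_le_mul_left _ ih'
        _ ≤ Nat.card X ^ Nat.card A := by
            rw [← mul_pow]; exact Nat.pow_le_pow_left hWX' _

/-- On average a non-trivial solvable irreducible group fixes at most half. -/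
theorem prod_fix_sq_le_irreducible {G : Type u} [Group G] [Fintype G] [Group.IsSolvable G]
    (φ : G →* MulAut V) {p : ℕ} [hp : Fact p.Prime] (hV : IsPGroup p V)
    (hirr : ∀ U : Subgroup V, (∀ g, ∀ x ∈ U, φ g x ∈ U) → U = ⊥ ∨ U = ⊤)
    (hne : ∃ g, φ g ≠ 1) :
    (∏ g : G, Nat.card (fixPts (φ g))) ^ 2 ≤ Nat.card V ^ Nat.card G := by
  classical
  -- a non-trivial abelian normal subgroup of the image
  obtain ⟨M, hMn, hMc, hMne⟩ : ∃ M : Subgroup G, M.Normal ∧
      (∀ a ∈ M, ∀ b ∈ M, φ a * φ b = φ b * φ a) ∧ ∃ a ∈ M, φ a ≠ 1 := by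
    obtain ⟨n, hn⟩ := (inferInstance : Group.IsSolvable G).solvable
    have hex : ∃ k, ∀ a ∈ derivedSeries G k, φ a = 1 :=
      ⟨n, fun a ha => by rw [hn] at ha; rw [Subgroup.mem_bot.1 ha, map_one]⟩
    have hk := Nat.find_spec hex
    obtain ⟨k, hk'⟩ : ∃ k, Nat.find hex = k + 1 := Nat.exists_eq_succ_of_ne_zero fun h => by
      obtain ⟨g, hg⟩ := hne
      exact hg (hk g (by rw [h, derivedSeries_zero]; trivial))
    have hmin := Nat.find_min hex (m := k) (by omega)
    push Not at hmin
    refine ⟨derivedSeries G k, inferInstance, fun a ha b hb => ?_, hmin⟩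
    have h := hk _ (by rw [hk', derivedSeries_succ]; exact Subgroup.commutator_mem_commutator ha hb)
    rw [map_commutatorElement] at h
    exact commutatorElement_eq_one_iff_mul_comm.1 h
  let A : Subgroup (MulAut V) := M.map φ
  have hAc : ∀ a ∈ A, ∀ b ∈ A, a * b = b * a := by
    rintro _ ⟨a, ha, rfl⟩ _ ⟨b, hb, rfl⟩; exact hMc a ha b hb
  have hgA : ∀ g : G, ∀ a ∈ A, φ g * a * (φ g)⁻¹ ∈ A := by
    rintro g _ ⟨a, ha, rfl⟩
    exact ⟨g * a * g⁻¹, hMn.conj_mem a ha g, by rw [map_mul, map_mul, map_inv]⟩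
  have hV1 : Nontrivial V := by
    by_contra h
    rw [not_nontrivial_iff_subsingleton] at h
    obtain ⟨g, hg⟩ := hne
    exact hg (MulEquiv.ext fun x => Subsingleton.elim _ _)
  have hinv : ∀ U : Subgroup (MulAut V), (∀ g : G, ∀ a ∈ U, φ g * a * (φ g)⁻¹ ∈ U) →
      (∃ x : V, x ≠ 1 ∧ ∀ a ∈ U, a x = x) → U = ⊥ := by
    rintro U hU ⟨x, hx1, hx⟩
    have hst : ∀ g : G, ∀ y ∈ ⨅ a : U, fixPts (a : MulAut V),
        φ g y ∈ ⨅ a : U, fixPts (a : MulAut V) := by
      intro g y hy
      rw [Subgroup.mem_iInf] at hy ⊢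
      rintro ⟨a, ha⟩
      have h := hy ⟨_, hU g⁻¹ a ha⟩
      rw [mem_fixPts] at h ⊢
      simp only [map_inv, inv_inv, MulAut.mul_apply] at h
      have := congrArg (φ g) h
      simpa using this
    rcases hirr _ hst with h | h
    · exact absurd (Subgroup.mem_bot.1 (h.le (Subgroup.mem_iInf.2 fun a => hx a a.2))) hx1
    · refine le_bot_iff.1 fun a ha => Subgroup.mem_bot.2 (MulEquiv.ext fun y => ?_)
      exact (Subgroup.mem_iInf.1 (h.ge (Subgroup.mem_top y)) ⟨a, ha⟩ :)
  -- its order is prime to `p`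
  obtain ⟨n, hn⟩ := hV.exists_card_eq
  have hcop : (Nat.card A).Coprime (Nat.card V) := by
    rw [hn]
    refine Nat.Coprime.pow_right n ((Nat.Prime.coprime_iff_not_dvd hp.out).2 fun hd => ?_).symm
    obtain ⟨a₀, ha₀⟩ := exists_prime_orderOf_dvd_card' p hd
    let P : Subgroup (MulAut V) :=
      { carrier := {a | a ∈ A ∧ ∃ k : ℕ, a ^ p ^ k = 1}
        one_mem' := ⟨A.one_mem, 0, one_pow _⟩
        mul_mem' := fun {a b} ha hb => by
          obtain ⟨i, hi⟩ := ha.2
          obtain ⟨j, hj⟩ := hb.2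
          refine ⟨A.mul_mem ha.1 hb.1, i + j, ?_⟩
          rw [(show Commute a b from hAc a ha.1 b hb.1).mul_pow, pow_add, pow_mul, hi, one_pow,
            one_mul, mul_comm, pow_mul, hj, one_pow]
        inv_mem' := fun {a} ha => ⟨A.inv_mem ha.1, ha.2.imp fun k hk => by
          rw [inv_pow, hk, inv_one]⟩ }
    have hP : IsPGroup p P := fun a => a.2.2.imp fun k hk => Subtype.ext (by simpa using hk)
    have hfixed : ∃ x : V, x ≠ 1 ∧ ∀ a ∈ P, a x = x := by
      have hVp : p ∣ Nat.card V := by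
        rw [hn]
        refine dvd_pow_self p fun h0 => ?_
        rw [h0, pow_zero] at hn
        exact (Finite.one_lt_card (α := V)).ne' hn
      have hmod := hP.card_modEq_card_fixedPoints V
      have hpos : p ∣ Nat.card (MulAction.fixedPoints P V) :=
        (Nat.modEq_zero_iff_dvd).1 (hmod.symm.trans (Nat.modEq_zero_iff_dvd.2 hVp))
      have : Nontrivial (MulAction.fixedPoints P V) := Finite.one_lt_card_iff_nontrivial.1
        (lt_of_lt_of_le hp.out.one_lt (Nat.le_of_dvd (Nat.card_pos_iff.2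
          ⟨⟨⟨1, fun a => map_one (a : MulAut V)⟩⟩, inferInstance⟩) hpos))
      obtain ⟨⟨x, hx⟩, hne'⟩ := exists_ne
        (⟨1, fun a => map_one (a : MulAut V)⟩ : MulAction.fixedPoints P V)
      exact ⟨x, fun h => hne' (Subtype.ext h), fun a ha => hx ⟨a, ha⟩⟩
    have hPb := hinv P (fun g a ha => ⟨hgA g a ha.1, ha.2.imp fun k hk => by
      rw [conj_pow, hk, mul_one, mul_inv_cancel]⟩) hfixed
    have h1 : (a₀ : MulAut V) ∈ P :=
      ⟨a₀.2, 1, by rw [pow_one, ← ha₀, ← Subgroup.orderOf_coe, pow_orderOf_eq_one]⟩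
    rw [hPb, Subgroup.mem_bot] at h1
    rw [show a₀ = 1 from Subtype.ext h1, orderOf_one] at ha₀
    exact hp.out.ne_one ha₀.symm
  have hfree : ∀ x ∈ (⊤ : Subgroup V), (∀ a ∈ A, a x = x) → x = 1 := by
    intro x _ hx
    by_contra h1
    obtain ⟨a, ha, ha1⟩ := hMne
    exact ha1 (Subgroup.mem_bot.1 ((hinv A hgA ⟨x, h1, hx⟩).le ⟨a, ha, rfl⟩))
  have := Fintype.ofFinite A
  -- average over the cosets of `A`
  have hA : ∀ a : A, ∏ g : G, Nat.card (fixPts (φ g * (a : MulAut V))) =
      ∏ g : G, Nat.card (fixPts (φ g)) := by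
    rintro ⟨_, b, hb, rfl⟩
    exact Fintype.prod_equiv (Equiv.mulRight b) _ _ fun g => by simp
  have hall : ((∏ g : G, Nat.card (fixPts (φ g))) ^ 2) ^ Nat.card A ≤
      (Nat.card V ^ Nat.card G) ^ Nat.card A := by
    calc ((∏ g : G, Nat.card (fixPts (φ g))) ^ 2) ^ Nat.card A
        = (∏ a : A, ∏ g : G, Nat.card (fixPts (φ g * (a : MulAut V)))) ^ 2 := by
          rw [Finset.prod_congr rfl fun a _ => hA a, Finset.prod_const, Finset.card_univ,
            Nat.card_eq_fintype_card (α := A), pow_right_comm]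
      _ = ∏ g : G, (∏ a : A, Nat.card (fixPts (φ g * (a : MulAut V)))) ^ 2 := by
          rw [Finset.prod_comm, Finset.prod_pow]
      _ ≤ ∏ _g : G, Nat.card V ^ Nat.card A := Finset.prod_le_prod' fun g _ => by
          have h := prod_fix_sq_le A hAc (φ g) (hgA g) hcop _ ⊤ le_rfl
            (fun _ _ _ _ => trivial) (fun _ _ => trivial) hfree
          simpa [Subgroup.card_top] using h
      _ = (Nat.card V ^ Nat.card G) ^ Nat.card A := by
          rw [Finset.prod_const, Finset.card_univ, Nat.card_eq_fintype_card (α := G),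
            pow_right_comm]
  exact (Nat.pow_le_pow_iff_left Nat.card_pos.ne').1 hall

end CfsgLib.Block.FixedAverage
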