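import Cfsg.Agent.Lib.Block.Transport
import Cfsg.Agent.Lib.Block.Green
import Cfsg.Agent.Lib.Block.LamZero

/-!
Fong: defect groups of blocks covering an invariant block of a normal subgroup.
-/

set_option autoImplicit false
set_option linter.unusedSectionVars false

namespace CfsgLib.Block

open Cfsg MonoidAlgebra
open scoped ComplexConjugate

universe u

variable {G : Type u} [Group G] [Fintype G] {N : Subgroup G} [hN : N.Normal] [Fintype N]
  {p : ℕ} {M : Ideal AlgInt} [M.IsPrime]

theorem conjIrr_eq_pullIrr (θ : IrrCharacter N) (g : G) :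
    conjIrr N θ g = pullIrr (conjEquiv N g) θ := rfl

/-- A class of `G` inside `N` as a union of classes of `N`, for an invariant block. -/
theorem exists_classes_centralChar {b : Set (IrrCharacter N)} (hb : IsPBlock M b)
    (hinv : ∀ θ ∈ b, ∀ g : G, conjIrr N θ g ∈ b) {θ : IrrCharacter N} (hθ : θ ∈ b) (c : N) :
    ∃ m : ℕ, m * (Subgroup.centralizer ({c} : Set N)).index =
        (Subgroup.centralizer ({(c : G)} : Set G)).index ∧
      MemLocalIdeal M (inducedCentralChar N (θ : N → ℂ) (c : G) -
        (m : ℂ) * centralChar (θ : N → ℂ) c) := by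
  classical
  let T := {h : N // IsConj (c : G) ((h : N) : G)}
  have := Fintype.ofFinite T
  let _ : MulAction N T :=
    { smul := fun n h => ⟨n * h.1 * n⁻¹, h.2.trans (isConj_iff.2 ⟨(n : G), by push_cast; rfl⟩)⟩
      one_smul := fun h => Subtype.ext (by change (1 : N) * h.1 * (1 : N)⁻¹ = h.1; simp)
      mul_smul := fun a b h => Subtype.ext (by
        change a * b * h.1 * (a * b)⁻¹ = a * (b * h.1 * b⁻¹) * a⁻¹
        group) }
  have := Fintype.ofFinite (Quotient (MulAction.orbitRel N T))
  refine ⟨Fintype.card (Quotient (MulAction.orbitRel N T)), ?_, ?_⟩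
  all_goals
    have hstab : ∀ h : T, MulAction.stabilizer N h = Subgroup.centralizer ({h.1} : Set N) := by
      intro h
      ext n
      rw [MulAction.mem_stabilizer_iff, Subgroup.mem_centralizer_singleton_iff, Subtype.ext_iff]
      change n * h.1 * n⁻¹ = h.1 ↔ _
      rw [mul_inv_eq_iff_eq_mul]
    have hconj : ∀ h : T, ∃ g : G, h.1 = conjEquiv N g c := fun h => by
      obtain ⟨g, hg⟩ := isConj_iff.1 h.2
      exact ⟨g, Subtype.ext hg.symm⟩
    have hidx : ∀ h : T, (MulAction.stabilizer N h).index =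
        (Subgroup.centralizer ({c} : Set N)).index := by
      intro h
      obtain ⟨g, hg⟩ := hconj h
      rw [hstab, hg, index_centralizer_map]
  · have h1 := sum_eq_sum_orbits (H := N) (α := T) (fun _ => (1 : ℕ)) (fun _ _ => rfl)
    simp only [hidx, smul_eq_mul, mul_one, Finset.sum_const, Finset.card_univ] at h1
    rw [← h1, ← CfsgLib.Char.natCard_carrier_eq_index, ← Nat.card_eq_fintype_card]
    refine Nat.card_congr ?_
    refine Equiv.ofBijective (fun h : T => (⟨(h.1 : G), ?_⟩ : (ConjClasses.mk (c : G)).carrier))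
      ⟨fun a b e => ?_, fun x => ?_⟩
    · exact ConjClasses.mem_carrier_iff_mk_eq.2 (ConjClasses.mk_eq_mk_iff_isConj.2 h.2.symm)
    · exact Subtype.ext (Subtype.ext (congrArg Subtype.val e :))
    · obtain ⟨x, hx⟩ := x
      have hxc : IsConj (c : G) x :=
        (ConjClasses.mk_eq_mk_iff_isConj.1 (ConjClasses.mem_carrier_iff_mk_eq.1 hx)).symm
      have hxN : x ∈ N := by
        obtain ⟨g, rfl⟩ := isConj_iff.1 hxc
        exact hN.conj_mem c c.2 g
      exact ⟨⟨⟨x, hxN⟩, hxc⟩, rfl⟩
  · have hsum : inducedCentralChar N (θ : N → ℂ) (c : G) =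
        ∑ h : T, (θ : N → ℂ) h.1 / (θ : N → ℂ) 1 := by
      rw [inducedCentralChar, finsum_mem_eq_finite_toFinset_sum _ (Set.toFinite _)]
      exact Finset.sum_subtype _ (fun h => by simp) _
    rw [hsum, sum_eq_sum_orbits (H := N) (fun h : T => (θ : N → ℂ) h.1 / (θ : N → ℂ) 1)
      (fun n h => congrArg (· / (θ : N → ℂ) 1) (CfsgLib.Char.irr_isClassFunction θ.2 h.1 n)),
      ← Finset.card_univ, ← nsmul_eq_mul, ← Finset.sum_const, ← Finset.sum_sub_distrib]
    refine memLocalIdeal_sum _ _ fun q _ => ?_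
    obtain ⟨g, hg⟩ := hconj q.out
    have e1 : ((MulAction.stabilizer N q.out).index • ((θ : N → ℂ) q.out.1 / (θ : N → ℂ) 1)) =
        centralChar (conjIrr N θ g : N → ℂ) c := by
      rw [conjIrr_eq_pullIrr, centralChar_pullIrr, ← hg, centralChar, hstab, nsmul_eq_mul]
      ring
    rw [e1]
    exact sameBlock_of_mem hb (hinv θ hθ g) hθ c

/-- Fong's theorem on blocks covering an invariant block. -/
theorem fong_covering (hM : IsPModular p M) {b : Set (IrrCharacter N)} (hb : IsPBlock M b)
    (hinv : ∀ θ ∈ b, ∀ g : G, conjIrr N θ g ∈ b) {B : Set (IrrCharacter G)} (hB : IsPBlock M B)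
    (hcov : ∃ χ ∈ B, ∃ θ ∈ b, classInner (fun n : N => (χ : G → ℂ) n) (θ : N → ℂ) ≠ 0)
    (hmax : ∀ B' : Set (IrrCharacter G), IsPBlock M B' →
      (∃ χ ∈ B', ∃ θ ∈ b, classInner (fun n : N => (χ : G → ℂ) n) (θ : N → ℂ) ≠ 0) →
        blockDefect p B' ≤ blockDefect p B)
    {P : Subgroup G} (hP : IsDefectGroup p M B P) :
    ¬ p ∣ (P ⊔ N).index ∧ IsDefectGroup p M b ((P ⊓ N).subgroupOf N) ∧
      blockDefect p B = blockDefect p b + N.index.factorization p := by
  classical
  have := Fact.mk hM.1
  set w : MonoidAlgebra ℂ G := inclSub N (blockSum b) with hw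
  have hwloc : IsLocalCentral M w :=
    isLocalCentral_inclSub_blockSum hinv (fun n => blockCoeff_memLocalRing hM hb n)
  set z : Subalgebra.center (kres M) (MonoidAlgebra (kres M) G) :=
    ⟨redA M w, isClassCoeff_iff_mem_center.1 (redA_isClassCoeff hwloc.1)⟩ with hz
  obtain ⟨χ, hχ, θ, hθ, hθne⟩ := hcov
  have hzlam : ∀ (ψ : IrrCharacter G) (η : IrrCharacter N),
      classInner (fun n : N => (ψ : G → ℂ) n) (η : N → ℂ) ≠ 0 →
        lam M ψ z = if η ∈ b then 1 else 0 := by
    intro ψ η hη
    rw [lam_apply ψ hwloc z rfl, omegaC_inclSub_blockSum hinv hη]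
    split <;> simp [redC_one, redC_zero]
  obtain ⟨g₀, hgz, hgl⟩ := exists_classSumZ_of_lam_ne_zero hM hB hχ
    (by rw [hzlam χ θ hθne, if_pos hθ]; exact one_ne_zero : lam M χ z ≠ 0)
  obtain ⟨c, rfl⟩ : ∃ c : N, (c : G) = g₀ := by
    by_contra hno
    apply hgz
    change (redA M w).coeff g₀ = 0
    simp only [redA, coeff_mkGA, hw]
    rw [coeff_inclSub_of_not_mem _ _ (fun h => hno ⟨⟨g₀, h⟩, rfl⟩), redC_zero]
  have hcb : redC M (blockCoeff b c) ≠ 0 := by
    intro h0
    apply hgz
    change (redA M w).coeff (c : G) = 0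
    simp only [redA, coeff_mkGA, hw, coeff_inclSub_of_mem, blockSum, h0]
  -- central characters of covering blocks at `c`
  obtain ⟨m, hm, hmw⟩ := exists_classes_centralChar hb hinv hθ c
  have hω : ∀ (ψ : IrrCharacter G) (η : IrrCharacter N), η ∈ b →
      classInner (fun n : N => (ψ : G → ℂ) n) (η : N → ℂ) ≠ 0 →
        redC M (centralChar (ψ : G → ℂ) (c : G)) =
          redC M (m : ℂ) * redC M (centralChar (θ : N → ℂ) c) := by
    intro ψ η hη hne
    obtain ⟨m', hm', hmw'⟩ := exists_classes_centralChar hb hinv hη c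
    have hmm : m' = m :=
      Nat.eq_of_mul_eq_mul_right (Nat.pos_of_ne_zero Subgroup.index_ne_zero_of_finite)
        (hm'.trans hm.symm)
    subst hmm
    have hR1 : MemLocalRing M ((m' : ℂ) * centralChar (η : N → ℂ) c) :=
      memLocalRing_mul (memLocalRing_natCast _) (memLocalRing_centralChar η.2 c)
    rw [← centralChar_eq_of_constituent hne c,
      ← redC_eq_iff (memLocalRing_centralChar ψ.2 _) hR1] at hmw'
    rw [hmw', redC_mul (memLocalRing_natCast _) (memLocalRing_centralChar η.2 c)]
    congr 1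
    rw [redC_eq_iff (memLocalRing_centralChar η.2 c) (memLocalRing_centralChar θ.2 c)]
    exact sameBlock_of_mem hb hη hθ c
  rw [lam_classSumZ, hω χ θ hθ hθne, mul_ne_zero_iff] at hgl
  have hmp : ¬ p ∣ m := by
    intro hd
    apply hgl.1
    rw [redC_natCast]
    have := charP_kres hM
    exact (CharP.cast_eq_zero_iff (kres M) p m).2 hd
  have hcdef : IsDefectClass M b c :=
    (isDefectClass_iff hM hb hθ c).2 ⟨by rw [coeff_blkIdem]; exact hcb,
      by rw [lam_classSumZ]; exact hgl.2⟩
  -- orders of the centralizers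
  have hN' : (Nat.card N).factorization p + N.index.factorization p =
      (Nat.card G).factorization p := by
    rw [← Subgroup.index_mul_card N, Nat.factorization_mul Subgroup.index_ne_zero_of_finite
      Nat.card_pos.ne', Finsupp.add_apply, add_comm]
  have hm0 : m ≠ 0 := fun h => hmp (h ▸ dvd_zero p)
  have hordC : (Nat.card (Subgroup.centralizer ({(c : G)} : Set G))).factorization p =
      (Nat.card (Subgroup.centralizer ({c} : Set N))).factorization p +
        N.index.factorization p := by
    have h1 := factorization_index_add (p := p) (c : G)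
    have h2 := factorization_index_add (p := p) c
    have h3 : (Subgroup.centralizer ({(c : G)} : Set G)).index.factorization p =
        (Subgroup.centralizer ({c} : Set N)).index.factorization p := by
      rw [← hm, Nat.factorization_mul hm0 Subgroup.index_ne_zero_of_finite, Finsupp.add_apply,
        Nat.factorization_eq_zero_of_not_dvd hmp, zero_add]
    omega
  -- a covering block with defect class `c`
  set S := (allBlocks M G).filter
    (fun B' : Set (IrrCharacter G) => ∃ ψ ∈ B', ∃ η ∈ b, classInner (fun n : N => (ψ : G → ℂ) n) (η : N → ℂ) ≠ 0) with hS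
  have hdec : w = ∑ B' ∈ S, blockSum B' := by
    refine eq_of_omegaC_eq hwloc.1 ?_ fun ψ => ?_
    · intro y k
      simp only [coeff_sum, Finset.sum_apply']
      exact Finset.sum_congr rfl fun B' _ => blockSum_isClassCoeff B' y k
    obtain ⟨η, hη⟩ := exists_constituent_res (N := N) ψ
    rw [hw, omegaC_inclSub_blockSum hinv hη, omegaC_sum]
    by_cases hηb : η ∈ b
    · rw [if_pos hηb, Finset.sum_eq_single (blockOf M (ψ : G → ℂ))]
      · rw [omegaC_blockSum, if_pos (mem_blockOf_self ψ)]
      · intro C hC hne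
        rw [hS, Finset.mem_filter, mem_allBlocks] at hC
        rw [omegaC_blockSum, if_neg]
        exact fun h => hne (isPBlock_eq_blockOf hC.1 h)
      · intro hn
        exact absurd (Finset.mem_filter.2 ⟨mem_allBlocks.2 (isPBlock_blockOf ψ),
          ψ, mem_blockOf_self ψ, η, hηb, hη⟩) hn
    · rw [if_neg hηb]
      refine (Finset.sum_eq_zero fun C hC => ?_).symm
      rw [hS, Finset.mem_filter, mem_allBlocks] at hC
      obtain ⟨hC1, φ, hφC, η', hη', hne'⟩ := hC
      rw [omegaC_blockSum, if_neg]
      intro hψC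
      exact hηb ((mem_iff_mem_of_sameBlock hinv (fun n => blockCoeff_memLocalRing hM hb n)
        (sameBlock_of_mem hC1 hφC hψC) hne' hη).1 hη')
  obtain ⟨B₀, hB₀, hB₀c⟩ : ∃ B₀ ∈ S, redC M (blockCoeff B₀ (c : G)) ≠ 0 := by
    by_contra hno
    push Not at hno
    apply hgz
    change (redA M w).coeff (c : G) = 0
    have h1 := congrArg (fun v => v.coeff (c : G)) hdec
    simp only [blockSum, coeff_sum, Finset.sum_apply', coeff_mkGA] at h1
    simp only [redA, coeff_mkGA]
    rw [h1, redC_sum _ _ fun B' hB' =>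
      blockCoeff_memLocalRing hM (mem_allBlocks.1 (Finset.mem_filter.1 hB').1) _]
    exact Finset.sum_eq_zero hno
  rw [hS, Finset.mem_filter, mem_allBlocks] at hB₀
  obtain ⟨hB₀b, ψ₀, hψ₀, η₀, hη₀, hne₀⟩ := hB₀
  have hlam : ∀ (ψ : IrrCharacter G) (η : IrrCharacter N), η ∈ b →
      classInner (fun n : N => (ψ : G → ℂ) n) (η : N → ℂ) ≠ 0 →
        lam M ψ (classSumZ (kres M) (c : G)) ≠ 0 := fun ψ η hη hne => by
    rw [lam_classSumZ, hω ψ η hη hne, mul_ne_zero_iff]
    exact hgl
  have hc₀ : IsDefectClass M B₀ (c : G) :=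
    (isDefectClass_iff hM hB₀b hψ₀ _).2
      ⟨by rwa [coeff_blkIdem], hlam ψ₀ η₀ hη₀ hne₀⟩
  let Q : Sylow p (Subgroup.centralizer ({(c : G)} : Set G)) := Classical.arbitrary _
  have hd₀ : p ^ blockDefect p B₀ =
      p ^ (Nat.card (Subgroup.centralizer ({(c : G)} : Set G))).factorization p := by
    rw [← natCard_defectGroup hM hB₀b ⟨_, hc₀, Q, rfl⟩, ← natCard_cenSub (c : G) Q]
  have hle := hmax B₀ hB₀b ⟨ψ₀, hψ₀, η₀, hη₀, hne₀⟩
  obtain ⟨d, hd, R, hPR⟩ := hP
  obtain ⟨x, hx⟩ := exists_defect_le_conj hM hB hd R hχ (hlam χ θ hθ hθne) Q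
  rw [← show P = cenSub d (R : Subgroup (Subgroup.centralizer ({d} : Set G))) from hPR] at hx
  have hPd : Nat.card P = p ^ blockDefect p B := natCard_defectGroup hM hB ⟨d, hd, R, hPR⟩
  have hPeq : P = (cenSub (c : G) (Q : Subgroup _)).map (MulAut.conj x).toMonoidHom := by
    refine Subgroup.eq_of_le_of_card_ge hx ?_
    rw [natCard_map_conj, natCard_cenSub, hPd, ← hd₀]
    exact Nat.pow_le_pow_right hM.1.pos hle
  have hB0 : blockDefect p B =
      (Nat.card (Subgroup.centralizer ({(c : G)} : Set G))).factorization p := by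
    refine Nat.pow_right_injective hM.1.two_le ?_
    change p ^ blockDefect p B = p ^ _
    rw [← hPd, hPeq, natCard_map_conj, natCard_cenSub]
  -- the conjugate defect class of `b`
  set c' : N := conjEquiv N x c with hc'
  have hc'def : IsDefectClass M b c' := by
    obtain ⟨h1, h2, h3⟩ := hcdef
    have e : blockCoeff b c' = blockCoeff b c := by
      have himg : pullIrr (conjEquiv N x) '' b = b := by
        refine Set.Subset.antisymm ?_ fun η hη => ?_
        · rintro _ ⟨η, hη, rfl⟩
          exact hinv η hη x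
        · refine ⟨conjIrr N η x⁻¹, hinv η hη _, ?_⟩
          rw [← conjIrr_eq_pullIrr, conjIrr_conjIrr, inv_mul_cancel, conjIrr_one]
      conv_rhs => rw [← himg, blockCoeff_pullIrr]
    refine ⟨e ▸ h1, e ▸ h2, fun η hη h => h3 _ (hinv η hη x) ?_⟩
    rw [conjIrr_eq_pullIrr, centralChar_pullIrr]
    exact h
  have hPc' : P ≤ Subgroup.centralizer ({(c' : G)} : Set G) := by
    intro v hv
    rw [hPeq, mem_map_conj_iff] at hv
    have h1 := Subgroup.mem_centralizer_singleton_iff.1 (cenSub_le _ _ hv)
    rw [Subgroup.mem_centralizer_singleton_iff]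
    change v * (x * c * x⁻¹) = x * c * x⁻¹ * v
    calc v * (x * c * x⁻¹) = x * (x⁻¹ * v * x * c) * x⁻¹ := by group
      _ = _ := by rw [h1]; group
  have hcc' : (Nat.card (Subgroup.centralizer ({c'} : Set N))).factorization p =
      (Nat.card (Subgroup.centralizer ({c} : Set N))).factorization p := by
    have h1 := factorization_index_add (p := p) c'
    have h2 := factorization_index_add (p := p) c
    rw [show (Subgroup.centralizer ({c'} : Set N)).index =
      (Subgroup.centralizer ({c} : Set N)).index from index_centralizer_map (conjEquiv N x) c] at h1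
    omega
  set k := (Nat.card (Subgroup.centralizer ({c} : Set N))).factorization p with hk
  -- `P ⊓ N` is a Sylow subgroup of the centralizer in `N`
  have hPp : IsPGroup p P := IsPGroup.of_card hPd
  have hPNp : IsPGroup p ((P ⊓ N).subgroupOf N) :=
    (hPp.to_le inf_le_left).comap_subtype
  have hPNle : (P ⊓ N).subgroupOf N ≤ Subgroup.centralizer ({c'} : Set N) := fun v hv =>
    Subgroup.mem_centralizer_singleton_iff.2
      (Subtype.ext (Subgroup.mem_centralizer_singleton_iff.1 (hPc' (inf_le_left (b := N) hv))))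
  obtain ⟨Q', hQ'⟩ := exists_sylow_cenSub_ge hPNp hPNle
  have hle1 : Nat.card ((P ⊓ N).subgroupOf N) ≤ p ^ k :=
    (Subgroup.card_le_of_le hQ').trans_eq (by rw [natCard_cenSub, hcc'])
  obtain ⟨e, he⟩ := IsPGroup.iff_card.1 hPNp
  have he' : Nat.card (P ⊓ N : Subgroup G) = p ^ e := by
    rw [← he, Nat.card_congr (Subgroup.subgroupOfEquivOfLe (inf_le_right (a := P) (b := N))).toEquiv]
  have hek : e ≤ k := (Nat.pow_le_pow_iff_right hM.1.one_lt).1 (he ▸ hle1)
  have hrel : N.relIndex P * Nat.card (P ⊓ N : Subgroup G) = Nat.card P := by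
    rw [Subgroup.relIndex, ← Subgroup.index_mul_card (N.subgroupOf P)]
    congr 1
    rw [← Subgroup.inf_subgroupOf_left, Nat.card_congr
      (Subgroup.subgroupOfEquivOfLe (inf_le_left (a := P) (b := N))).toEquiv]
  have hrel0 : N.relIndex P ≠ 0 := fun h => by
    rw [h, zero_mul] at hrel
    exact Nat.card_pos.ne' hrel.symm
  have hrelp : (N.relIndex P).factorization p + e =
      (Nat.card (Subgroup.centralizer ({(c : G)} : Set G))).factorization p := by
    have h1 := congrArg (fun v => Nat.factorization v p) hrel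
    rw [hPd, hB0, Nat.factorization_mul hrel0 Nat.card_pos.ne', Finsupp.add_apply, he',
      hM.1.factorization_pow, hM.1.factorization_pow, Finsupp.single_eq_same,
      Finsupp.single_eq_same] at h1
    exact h1
  have hrelle : (N.relIndex P).factorization p ≤ N.index.factorization p :=
    (Nat.factorization_le_iff_dvd hrel0 Subgroup.index_ne_zero_of_finite).2
      (Subgroup.relIndex_dvd_index_of_normal N P) p
  have hek' : e = k := by omega
  have hdefb : IsDefectGroup p M b ((P ⊓ N).subgroupOf N) := by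
    refine ⟨c', hc'def, Q', Subgroup.eq_of_le_of_card_ge hQ' ?_⟩
    rw [he, hek']
    exact le_of_eq (by rw [natCard_cenSub, hcc'])
  refine ⟨?_, hdefb, ?_⟩
  · intro hdvd
    have h1 : (P ⊔ N).index * N.relIndex P = N.index := by
      rw [← Subgroup.relIndex_sup_right P N, mul_comm,
        Subgroup.relIndex_mul_index (le_sup_right : N ≤ P ⊔ N)]
    have h2 := congrArg (fun v => Nat.factorization v p) h1
    rw [Nat.factorization_mul Subgroup.index_ne_zero_of_finite hrel0, Finsupp.add_apply] at h2
    have h3 := hM.1.factorization_pos_of_dvd Subgroup.index_ne_zero_of_finite hdvd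
    omega
  · have h1 := natCard_defectGroup hM hb hdefb
    rw [he, hek'] at h1
    have h2 : k = blockDefect p b := Nat.pow_right_injective hM.1.two_le h1
    omega

end CfsgLib.Block
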