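import Cfsg.Agent.Lib.Block.FourLinear

/-!
A group with a strongly closed `3^3` in `3^3 : S₄` and small centralisers equals it.
-/

set_option autoImplicit false
set_option linter.all false
set_option maxRecDepth 4000

namespace CfsgLib.Block.FourCube

universe u

/-- Transfer into an abelian group detects an element of order three with controlled fusion. -/
theorem transfer_three {X : Type u} [Group X] [Finite X] {K : Subgroup X} {A : Type} [CommGroup A]
    (φ : K →* A) {u : X} (hu : u * u * u = 1) (t : A) (ht3 : t * t * t = 1)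
    (hfus : ∀ (g : X) (h : g⁻¹ * u * g ∈ K), φ ⟨g⁻¹ * u * g, h⟩ = t) :
    MonoidHom.transfer φ u = t ^ K.index := by
  classical
  let _ : Fintype (Quotient (MulAction.orbitRel (Subgroup.zpowers u) (X ⧸ K))) := Fintype.ofFinite _
  rw [MonoidHom.transfer_eq_prod_quotient_orbitRel_zpowers_quot]
  let m : Quotient (MulAction.orbitRel (Subgroup.zpowers u) (X ⧸ K)) → ℕ :=
    fun q => Function.minimalPeriod (u • ·) q.out
  have hu3 : u ^ 3 = 1 := by rw [pow_succ, pow_two]; exact hu
  have hval : ∀ q, φ ⟨q.out.out⁻¹ * u ^ m q * q.out.out,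
      QuotientGroup.out_conj_pow_minimalPeriod_mem _ u q.out⟩ = t ^ m q := by
    intro q
    have hm : m q ∣ 3 := by
      refine Dvd.dvd.trans ?_ (orderOf_dvd_of_pow_eq_one hu3)
      apply Function.IsPeriodicPt.minimalPeriod_dvd
      change ((u • ·)^[orderOf u]) q.out = q.out
      simp only [smul_iterate, pow_orderOf_eq_one, one_smul]
    rcases (Nat.dvd_prime Nat.prime_three).mp hm with h | h
    · have hmem : q.out.out⁻¹ * u * q.out.out ∈ K := by
        have := QuotientGroup.out_conj_pow_minimalPeriod_mem K u q.out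
        rwa [show Function.minimalPeriod (u • ·) q.out = 1 from h, pow_one] at this
      rw [show t ^ m q = t by rw [h, pow_one], ← hfus q.out.out hmem]
      exact congrArg φ (Subtype.ext (by show _ * u ^ m q * _ = _; rw [h, pow_one]))
    · rw [show t ^ m q = 1 by rw [h, pow_succ, pow_two, ht3], ← map_one φ]
      exact congrArg φ (Subtype.ext (by show _ * u ^ m q * _ = 1; rw [h, hu3]; group))
  rw [Finset.prod_congr rfl fun q _ => hval q, Finset.prod_pow_eq_pow_sum]
  congr 1
  exact (Subgroup.index_eq_sum_minimalPeriod K u).symm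

/-- the exponent of the three-cycle part -/
def rix : DihedralGroup 3 → Multiplicative (ZMod 3)
  | .r i => Multiplicative.ofAdd i
  | .sr _ => 1

theorem rix_mul : ∀ x y : DihedralGroup 3, ThreeCube.dsgn x = 1 → ThreeCube.dsgn y = 1 →
    rix (x * y) = rix x * rix y := by
  decide +kernel

theorem rix_facts : rix (1 : DihedralGroup 3) = 1 ∧ rix gt.right = Multiplicative.ofAdd 1 ∧
    (∀ x : DihedralGroup 3, ThreeCube.dsgn x = 1 → rix x = 1 → x = 1) := by
  decide +kernel

theorem a_cube : ∀ a : Multiplicative (ZMod 3), a * a * a = 1 := by decide +kernel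

variable {G : Type u} [Group G] [Finite G]

theorem eq_top {H J : Subgroup G} (D : Setup H J) : H = ⊤ := by
  classical
  cases nonempty_fintype G
  obtain ⟨lam, hlam⟩ := D.exists_linear
  obtain ⟨e1, e2, e3, e4, e5⟩ := gens_ev
  have hsgn : ∀ h : H, (h : G) ∈ lam.ker ↔ ThreeCube.dsgn (D.tr h).right = 1 := fun h => by
    rw [MonoidHom.mem_ker, hlam h, Units.ext_iff, D.epsH_apply, Units.val_one, Int.cast_eq_one]
    rfl
  have hJK : J ≤ lam.ker := fun j hj => (hsgn ⟨j, D.le hj⟩).mpr
    (inJ_ev _ _ ((D.mem_iff' (D.le hj)).mp hj)).2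
  -- the transfer
  let K2 : Subgroup G := lam.ker
  let H2 : Subgroup K2 := H.subgroupOf K2
  let pr : H2 → H := fun x => ⟨((x : K2) : G), Subgroup.mem_subgroupOf.mp x.2⟩
  have hpr : ∀ x, ThreeCube.dsgn (D.tr (pr x)).right = 1 := fun x => (hsgn (pr x)).mp (x : K2).2
  let φ : H2 →* Multiplicative (ZMod 3) :=
    { toFun := fun x => rix (D.tr (pr x)).right
      map_one' := by
        rw [show pr 1 = 1 from rfl, map_one]; exact rix_facts.1
      map_mul' := fun x y => by
        rw [show pr (x * y) = pr x * pr y from rfl, map_mul, SemidirectProduct.mul_right,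
          rix_mul _ _ (hpr x) (hpr y)] }
  set uG : G := D.el gt e3 with huG
  have huH : uG ∈ H := D.el_mem _ _
  have hutr : D.tr ⟨uG, huH⟩ = gt := D.tr_el gt e3 _
  have huK : uG ∈ K2 := (hsgn ⟨uG, huH⟩).mpr (by rw [hutr]; decide +kernel)
  let u : K2 := ⟨uG, huK⟩
  have hu3 : u * u * u = 1 := by
    refine Subtype.ext ?_
    have : (⟨uG, huH⟩ : H) * ⟨uG, huH⟩ * ⟨uG, huH⟩ = 1 := D.tr_injective (by
      rw [map_mul, map_mul, hutr, map_one]; exact gens_rel.2.2.2.1)
    show uG * uG * uG = 1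
    exact congrArg Subtype.val this
  have hzI : InJ1 gz := gens_inJ.2.1
  obtain ⟨hzJ, hz1⟩ := D.el_J hzI
  set zG := D.el gz (inJ_ev gz.left gz.right hzI.1).1
  have hfus : ∀ (g : K2) (h : g⁻¹ * u * g ∈ H2),
      φ ⟨g⁻¹ * u * g, h⟩ = Multiplicative.ofAdd 1 := by
    intro g h
    set b : H := pr ⟨g⁻¹ * u * g, h⟩ with hb
    have hb' : (b : G) = (g : G)⁻¹ * uG * g := rfl
    have hb3 : b * b * b = 1 := by
      refine Subtype.ext ?_
      show (b : G) * b * b = 1
      rw [hb', show (g : G)⁻¹ * uG * g * ((g : G)⁻¹ * uG * g) * ((g : G)⁻¹ * uG * g) =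
        (g : G)⁻¹ * (uG * uG * uG) * g by group,
        show uG * uG * uG = 1 from congrArg Subtype.val hu3]
      group
    have hb3' : D.tr b * D.tr b * D.tr b = 1 := by rw [← map_mul, ← map_mul, hb3, map_one]
    obtain ⟨w, hw, hwb⟩ := three_cent (D.tr b).left (D.tr b).right (D.tr_ev b)
      ((threePow_pow _ _).1 hb3')
    have hwI : InJ1 w := of_decide_eq_true (List.all_eq_true.mp jL_inJ w hw)
    obtain ⟨hwJ, hw1⟩ := D.el_J hwI
    set wG := D.el w (inJ_ev w.left w.right hwI.1).1
    have hwbG : wG * (b : G) = (b : G) * wG := by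
      have : (⟨wG, D.el_mem _ _⟩ : H) * b = b * ⟨wG, D.el_mem _ _⟩ := D.tr_injective (by
        rw [map_mul, map_mul, D.tr_el]; exact hwb)
      exact congrArg Subtype.val this
    have hzu : zG * uG = uG * zG := by
      have : (⟨zG, D.el_mem _ _⟩ : H) * ⟨uG, huH⟩ = ⟨uG, huH⟩ * ⟨zG, D.el_mem _ _⟩ :=
        D.tr_injective (by rw [map_mul, map_mul, D.tr_el, hutr]; exact gens_inJ.2.2.1)
      exact congrArg Subtype.val this
    have hJu : ∀ j ∈ J, j * uG = uG * j → j = 1 ∨ j = zG ∨ j = zG * zG := by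
      intro j hj hju
      have hjI := (D.mem_iff' (D.le hj)).mp hj
      have h := gt_cent (D.tr ⟨j, D.le hj⟩).left (by rwa [← inJ_form hjI]) (by
        rw [← inJ_form hjI, ← hutr, ← map_mul, ← map_mul]
        exact congrArg _ (Subtype.ext hju))
      rw [← inJ_form hjI] at h
      rcases h with h | h | h
      · exact Or.inl (congrArg Subtype.val (D.tr_injective (h.trans (map_one D.tr).symm)))
      · exact Or.inr (Or.inl (congrArg Subtype.val (D.tr_injective (a₁ := ⟨j, D.le hj⟩)
          (a₂ := ⟨zG, D.el_mem _ _⟩) (h.trans (D.tr_el gz _ _).symm))))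
      · exact Or.inr (Or.inr (congrArg Subtype.val (D.tr_injective (a₁ := ⟨j, D.le hj⟩)
          (a₂ := ⟨zG, D.el_mem _ _⟩ * ⟨zG, D.el_mem _ _⟩) (by
            rw [map_mul, D.tr_el]; exact h))))
    obtain ⟨c, hcN, hcu, hcH⟩ := D.three_conj (u := uG) K2 hzJ hz1 (hJK hzJ) hzu hJu
      (w := (g : G) * wG * (g : G)⁻¹) (K2.mul_mem (K2.mul_mem g.2 (hJK hwJ)) (K2.inv_mem g.2))
      (by
        have e : uG = (g : G) * b * (g : G)⁻¹ := by rw [hb']; group
        rw [e]
        calc _ = (g : G) * (wG * b) * (g : G)⁻¹ := by group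
          _ = (g : G) * ((b : G) * wG) * (g : G)⁻¹ := by rw [hwbG]
          _ = _ := by group)
      (by rw [show (g : G) * wG * (g : G)⁻¹ * ((g : G) * wG * (g : G)⁻¹) *
            ((g : G) * wG * (g : G)⁻¹) = (g : G) * (wG * wG * wG) * (g : G)⁻¹ by group,
          D.J_three hwJ]; group)
    have hk : c * (g : G) ∈ H := D.ti_J hwJ hw1 (by
      rw [show c * (g : G) * wG * (c * (g : G))⁻¹ = c * ((g : G) * wG * (g : G)⁻¹) * c⁻¹ by group]
      exact hcH)
    let k : H2 := ⟨⟨c * (g : G), K2.mul_mem hcN g.2⟩, Subgroup.mem_subgroupOf.mpr hk⟩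
    let u2 : H2 := ⟨u, Subgroup.mem_subgroupOf.mpr huH⟩
    have hconj : k * ⟨g⁻¹ * u * g, h⟩ * k⁻¹ = u2 := by
      refine Subtype.ext (Subtype.ext ?_)
      show c * (g : G) * ((g : G)⁻¹ * uG * g) * (c * (g : G))⁻¹ = uG
      rw [show c * (g : G) * ((g : G)⁻¹ * uG * g) * (c * (g : G))⁻¹ = c * uG * c⁻¹ by group, hcu]
      group
    have h2 := congrArg φ hconj
    rw [map_mul, map_mul, map_inv, mul_comm (φ k), mul_inv_cancel_right] at h2
    rw [h2]
    show rix (D.tr ⟨uG, huH⟩).right = _
    rw [hutr]; exact rix_facts.2.1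
  -- the index is prime to three
  have hindex : ¬ 3 ∣ H2.index := by
    have : Fact (Nat.Prime 3) := ⟨Nat.prime_three⟩
    have hJ3 : IsPGroup 3 J := IsPGroup.iff_orderOf.mpr fun j => by
      have h3 : j ^ (3 ^ 1) = 1 := Subtype.ext (by
        simp only [pow_one, Subgroup.coe_pow, Subgroup.coe_one, pow_succ, pow_zero, one_mul]
        exact D.J_three j.2)
      obtain ⟨k, -, hk⟩ := (Nat.dvd_prime_pow Nat.prime_three).mp (orderOf_dvd_of_pow_eq_one h3)
      exact ⟨k, hk⟩
    obtain ⟨P, hP⟩ := hJ3.exists_le_sylow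
    have hPH : (P : Subgroup G) ≤ H := by
      have := P.isPGroup'.isNilpotent
      have htop : H.subgroupOf (P : Subgroup G) = ⊤ := by
        by_contra hne
        obtain ⟨y, hy, hy'⟩ := SetLike.exists_of_lt (normalizerCondition_of_isNilpotent
          (G := (P : Subgroup G)) (H.subgroupOf (P : Subgroup G)) (lt_top_iff_ne_top.mpr hne))
        refine hy' (Subgroup.mem_subgroupOf.mpr (D.norm_le fun j hj => ?_))
        exact D.closed.2 j hj _ (Subgroup.mem_subgroupOf.mp ((Subgroup.mem_normalizer_iff.mp hy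
          ⟨j, hP hj⟩).mp (Subgroup.mem_subgroupOf.mpr (D.le hj))))
      exact Subgroup.subgroupOf_eq_top.mp htop
    have hdiv : Nat.card (P : Subgroup G) ∣ 648 := D.card_H ▸ Subgroup.card_dvd_of_le hPH
    intro h3
    have hG : 3 ^ 5 ∣ Nat.card G := by
      have hH2 : Nat.card H2 = 324 := by
        rw [← card_ev.2.2]
        have e : Nat.card H2 = Nat.card {a : Four // ThreeCube.dsgn (a : Big).right = 1} :=
          Nat.card_congr
            { toFun := fun x => ⟨D.e.symm (pr x), hpr x⟩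
              invFun := fun a => ⟨⟨(D.e a.1 : H), (hsgn _).mpr (by rw [D.tr_apply]; exact a.2)⟩,
                Subgroup.mem_subgroupOf.mpr (D.e a.1).2⟩
              left_inv := fun x => Subtype.ext (Subtype.ext (by simp [pr]))
              right_inv := fun a => Subtype.ext (by simp [pr]) }
        rw [e, Nat.card_eq_fintype_card, Fintype.card_subtype, Finset.card_filter,
          sum_four (fun a => if ThreeCube.dsgn a.right = 1 then 1 else 0)]
        refine Finset.sum_congr rfl fun a _ => Finset.sum_congr rfl fun p _ => ?_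
        by_cases h : Ev (⟨a, p⟩ : Big)
        · simp only [h, true_and, if_true]
        · simp only [h, false_and, if_false]
      have h1 : Nat.card H2 * H2.index = Nat.card K2 := Subgroup.card_mul_index _
      have h2 : Nat.card K2 ∣ Nat.card G := Subgroup.card_subgroup_dvd_card _
      rw [← h1, hH2] at h2
      exact (show 3 ^ 5 ∣ 324 * H2.index from dvd_trans (show 3 ^ 5 ∣ 324 * 3 by norm_num)
        (mul_dvd_mul_left 324 h3)).trans h2
    have h5 : 3 ^ 5 ∣ Nat.card (P : Subgroup G) := by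
      rw [P.card_eq_multiplicity]
      exact pow_dvd_pow 3 ((Nat.Prime.pow_dvd_iff_le_factorization Nat.prime_three
        Nat.card_pos.ne').mp hG)
    have := h5.trans hdiv
    norm_num at this
  let V : K2 →* Multiplicative (ZMod 3) := MonoidHom.transfer φ
  have hVu : V u ≠ 1 := by
    show MonoidHom.transfer φ u ≠ 1
    rw [transfer_three φ hu3 _ (a_cube _) hfus, ← ofAdd_nsmul, ne_eq, ofAdd_eq_one,
      nsmul_eq_mul, mul_one, ZMod.natCast_eq_zero_iff]
    exact_mod_cast hindex
  let K3 : Subgroup G := V.ker.map K2.subtype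
  have hK32 : K3 ≤ K2 := by rintro _ ⟨y, -, rfl⟩; exact y.2
  have hK3mem : ∀ g (hg : g ∈ K2), g ∈ K3 ↔ V ⟨g, hg⟩ = 1 := by
    refine fun g hg => ⟨?_, fun h => ⟨⟨g, hg⟩, h, rfl⟩⟩
    rintro ⟨y, hy, hy'⟩
    rw [show (⟨g, hg⟩ : K2) = y from Subtype.ext hy'.symm]
    exact hy
  -- values on the model
  let F : {a : Four // ThreeCube.dsgn (a : Big).right = 1} → K2 := fun a =>
    ⟨(D.e a.1 : H), (hsgn _).mpr (by rw [D.tr_apply]; exact a.2)⟩
  have hF : ∀ a b c, (a.1 : Four) * b.1 = c.1 → F a * F b = F c := fun a b c h =>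
    Subtype.ext (by show ((D.e a.1 : H) : G) * (D.e b.1 : H) = _; rw [← Subgroup.coe_mul, ← map_mul, h])
  obtain ⟨r1, r2, r3', r4, r5, r6⟩ := gens_rel
  let C : {a : Four // ThreeCube.dsgn (a : Big).right = 1} := ⟨⟨gc, e1⟩, gens_sign.1⟩
  let Dd : {a : Four // ThreeCube.dsgn (a : Big).right = 1} := ⟨⟨gd, e2⟩, gens_sign.2.1⟩
  let T : {a : Four // ThreeCube.dsgn (a : Big).right = 1} := ⟨⟨gt, e3⟩, gens_sign.2.2.1⟩
  let One : {a : Four // ThreeCube.dsgn (a : Big).right = 1} := ⟨1, by decide +kernel⟩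
  have hFone : F One = 1 := Subtype.ext (by simp [F, One])
  have hVd : V (F Dd) = 1 := by
    have h := congrArg V (hF Dd Dd One (Subtype.ext r2))
    rw [map_mul, hFone, map_one] at h
    have h3 := a_cube (V (F Dd))
    rwa [h, one_mul] at h3
  have hVc : V (F C) = 1 := by
    have m1 : ThreeCube.dsgn (gd * gc).right = 1 ∧ ThreeCube.dsgn (gc * gc).right = 1 := by
      decide +kernel
    let DC : {a : Four // ThreeCube.dsgn (a : Big).right = 1} := ⟨⟨gd, e2⟩ * ⟨gc, e1⟩, m1.1⟩
    let CC : {a : Four // ThreeCube.dsgn (a : Big).right = 1} := ⟨⟨gc, e1⟩ * ⟨gc, e1⟩, m1.2⟩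
    have h := congrArg V (hF DC Dd CC (Subtype.ext r1))
    rw [← hF Dd C DC rfl, ← hF C C CC rfl, map_mul, map_mul, map_mul, hVd, one_mul, mul_one] at h
    exact left_eq_mul.mp h
  have hVT : F T = u := rfl
  have hK3H : ∀ h : H, (h : G) ∈ K3 ↔ (D.tr h).right = 1 := by
    -- the transfer composed with the inclusion of the model
    let E : Subgroup Four :=
      { carrier := {a | ThreeCube.dsgn (a : Big).right = 1}
        one_mem' := One.2
        mul_mem' := fun {a b} ha hb => by
          show ThreeCube.dsgn ((a : Big).right * (b : Big).right) = 1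
          rw [dsgn_mul, ha, hb, one_mul]
        inv_mem' := fun {a} ha => by
          show ThreeCube.dsgn ((a : Big).right)⁻¹ = 1
          have h := dsgn_mul (a : Big).right ((a : Big).right)⁻¹
          rw [mul_inv_cancel, show ThreeCube.dsgn (a : Big).right = 1 from ha, one_mul] at h
          exact h.symm }
    let W : E →* Multiplicative (ZMod 3) :=
      MonoidHom.mk' (fun a => V (F ⟨a.1, a.2⟩)) fun a b => by
        rw [← map_mul]
        exact congrArg V (hF ⟨a.1, a.2⟩ ⟨b.1, b.2⟩ ⟨(a * b).1, (a * b).2⟩ rfl).symm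
    let CE : E := ⟨C.1, C.2⟩
    let DE : E := ⟨Dd.1, Dd.2⟩
    let TE : E := ⟨T.1, T.2⟩
    intro h
    obtain ⟨a, rfl⟩ := D.e.surjective h
    rw [D.tr_apply]
    have hW : ∀ hs : ThreeCube.dsgn (a : Big).right = 1,
        W ⟨a, hs⟩ = V u ^ rotPart (a : Big).right := by
      intro hs
      let tail := gt ^ rotPart (a : Big).right * gs ^ fl (a : Big).right
      let hb := (a : Big) * tail⁻¹
      let v := (gt * gd * gt⁻¹) ^ fl hb.left.2.2 * gd ^ fl hb.left.2.1
      let j := hb * v⁻¹
      have hfl : fl (a : Big).right = 0 := by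
        have h : ∀ p : DihedralGroup 3, ThreeCube.dsgn p = 1 → fl p = 0 := by decide +kernel
        exact h _ hs
      have ha : (⟨a, hs⟩ : E) = CE ^ rnum j.left.1 * (TE * TE * CE * (TE * TE)⁻¹) ^ rnum j.left.2.1 *
          (TE * CE * TE⁻¹) ^ rnum j.left.2.2 *
          ((TE * DE * TE⁻¹) ^ fl hb.left.2.2 * DE ^ fl hb.left.2.1) *
          TE ^ rotPart (a : Big).right := by
        refine Subtype.ext (Subtype.ext ?_)
        have hw := (word_eq (a : Big).left (a : Big).right a.2).symm
        have hgs : gs ^ fl (a : Big).right = 1 := by rw [hfl, pow_zero]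
        simp only [word, hgs, mul_one] at hw
        simp only [j, hb, v, tail, hgs, mul_one]
        exact hw
      have hWc : W CE = 1 := hVc
      have hWd : W DE = 1 := hVd
      have hWt : W TE = V u := rfl
      rw [ha]
      simp only [map_mul, map_pow, map_inv, hWc, hWd, mul_one, one_pow, one_mul, mul_inv_cancel]
      rw [hWt]
    constructor
    · intro hk
      have hs : ThreeCube.dsgn (a : Big).right = 1 := D.tr_apply a ▸ (hsgn _).mp (hK32 hk)
      have h1 : W ⟨a, hs⟩ = 1 := (hK3mem _ _).mp hk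
      rw [hW hs] at h1
      have key : ∀ (p : DihedralGroup 3) (x : Multiplicative (ZMod 3)), ThreeCube.dsgn p = 1 →
          x ≠ 1 → x ^ rotPart p = 1 → p = 1 := by
        have key' : ∀ (p : DihedralGroup 3), ThreeCube.dsgn p = 1 → rotPart p = 0 → p = 1 := by
          decide +kernel
        intro p x hp hx hpow
        refine key' p hp ?_
        have hlt : rotPart p < 3 := by
          have h : ∀ p, rotPart p < 3 := by decide +kernel
          exact h p
        have h3 : ∀ x : Multiplicative (ZMod 3), x ≠ 1 → x * x ≠ 1 := by decide +kernel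
        rcases (show rotPart p = 0 ∨ rotPart p = 1 ∨ rotPart p = 2 by omega) with h | h | h
        · exact h
        · rw [h, pow_one] at hpow; exact absurd hpow hx
        · rw [h, pow_two] at hpow; exact absurd hpow (h3 x hx)
      exact key _ _ hs hVu h1
    · intro hr
      have hs : ThreeCube.dsgn (a : Big).right = 1 := by rw [hr]; rfl
      refine (hK3mem _ ((hsgn _).mpr (by rw [D.tr_apply]; exact hs))).mpr ?_
      show W ⟨a, hs⟩ = 1
      rw [hW hs, hr]
      exact pow_zero _
  -- the smaller case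
  have htopK : H.subgroupOf K3 = ⊤ := by
    let Je : ThreeCube.Mdl ≃* H.subgroupOf K3 :=
      MulEquiv.ofBijective
        (MonoidHom.mk'
          (fun a : ThreeCube.Mdl => (⟨⟨(D.e ⟨⟨(a : ThreeCube.Tri), 1⟩, (inl_evn _).1.mpr a.2⟩ : H),
              (hK3H _).mpr (by rw [D.tr_apply])⟩,
            Subgroup.mem_subgroupOf.mpr (D.e _).2⟩ : H.subgroupOf K3))
          (fun a b => Subtype.ext (Subtype.ext (by
            show ((D.e _ : H) : G) = (D.e _ : H) * (D.e _ : H)
            rw [← Subgroup.coe_mul, ← map_mul]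
            exact congrArg (fun x : Four => ((D.e x : H) : G)) (Subtype.ext (SemidirectProduct.ext
              (by simp) (by simp)))))))
        ⟨fun a b hab => by
          have h1 : (D.e ⟨⟨(a : ThreeCube.Tri), 1⟩, (inl_evn _).1.mpr a.2⟩) =
              D.e ⟨⟨(b : ThreeCube.Tri), 1⟩, (inl_evn _).1.mpr b.2⟩ :=
            Subtype.ext (congrArg (fun x : H.subgroupOf K3 => ((x : K3) : G)) hab)
          exact Subtype.ext (congrArg (fun x : Four => (x : Big).left) (D.e.injective h1)),
         fun x => by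
          have hx : ((x : K3) : G) ∈ H := Subgroup.mem_subgroupOf.mp x.2
          have hr : (D.tr ⟨_, hx⟩).right = 1 := (hK3H ⟨_, hx⟩).mp (x : K3).2
          have hform : D.tr ⟨_, hx⟩ = ⟨(D.tr ⟨_, hx⟩).left, 1⟩ := SemidirectProduct.ext rfl hr
          refine ⟨⟨(D.tr ⟨_, hx⟩).left, (inl_evn _).1.mp (hform ▸ D.tr_ev _)⟩, ?_⟩
          have h1 : D.e ⟨⟨(D.tr ⟨_, hx⟩).left, 1⟩, hform ▸ D.tr_ev _⟩ = ⟨_, hx⟩ :=
            D.tr_injective (by rw [D.tr_apply]; exact hform.symm)
          apply Subtype.ext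
          apply Subtype.ext
          show ((D.e ⟨⟨(D.tr ⟨_, hx⟩).left, 1⟩, _⟩ : H) : G) = ((x : K3) : G)
          rw [h1]⟩
    have hJK3 : J ≤ K3 := fun j hj =>
      (hK3H ⟨j, D.le hj⟩).mpr ((D.mem_iff' (D.le hj)).mp hj).1
    refine ThreeCube.eq_top (H.subgroupOf K3) (J.subgroupOf K3) ⟨Je⟩
      (fun x hx => Subgroup.mem_subgroupOf.mpr (D.le (Subgroup.mem_subgroupOf.mp hx))) ?_ ?_ ?_
    · rw [Nat.card_congr (Subgroup.subgroupOfEquivOfLe hJK3).toEquiv, ← card_ev.2.1]
      have e : Nat.card J = Nat.card {a : Four // InJ (a : Big)} := Nat.card_congr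
        { toFun := fun j => ⟨D.e.symm ⟨j.1, D.le j.2⟩, (D.mem_iff' (D.le j.2)).mp j.2⟩
          invFun := fun a => ⟨(D.e a.1 : H), (D.mem_J a.1).mpr a.2⟩
          left_inv := fun j => Subtype.ext (by simp)
          right_inv := fun a => Subtype.ext (by simp) }
      rw [e, Nat.card_eq_fintype_card, Fintype.card_subtype, Finset.card_filter,
        sum_four (fun a => if InJ a then 1 else 0)]
      refine Finset.sum_congr rfl fun a _ => Finset.sum_congr rfl fun p _ => ?_
      by_cases h : InJ (⟨a, p⟩ : Big)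
      · simp only [(inJ_ev a p h).1, h, if_true]
      · simp only [h, if_false, ite_self]
    · refine le_antisymm (fun x hx => Subgroup.mem_subgroupOf.mpr (D.norm_le fun j hj => ?_))
        (fun x hx => Subgroup.mem_normalizer_iff.mpr fun s => ?_)
      · exact Subgroup.mem_subgroupOf.mp ((Subgroup.mem_normalizer_iff.mp hx ⟨j, hJK3 hj⟩).mp
          (Subgroup.mem_subgroupOf.mpr hj))
      · have hxH := Subgroup.mem_subgroupOf.mp hx
        simp only [Subgroup.mem_subgroupOf, Subgroup.coe_mul, Subgroup.coe_inv]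
        refine ⟨fun hs => D.closed.2 _ hs _ (H.mul_mem (H.mul_mem hxH (D.le hs)) (H.inv_mem hxH)),
          fun hs => ?_⟩
        have := D.closed.2 _ hs ((x : G)⁻¹) (by
          rw [inv_inv]; exact H.mul_mem (H.mul_mem (H.inv_mem hxH) (D.le hs)) hxH)
        rwa [inv_inv, show (x : G)⁻¹ * ((x : G) * (s : G) * (x : G)⁻¹) * (x : G) = (s : G) by group]
          at this
    · intro t ht ht1 x hx
      refine Subgroup.mem_subgroupOf.mpr (D.cent _ (Subgroup.mem_subgroupOf.mp ht)
        (fun h => ht1 (Subtype.ext h)) (Subgroup.mem_centralizer_singleton_iff.mpr ?_))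
      exact congrArg Subtype.val (Subgroup.mem_centralizer_singleton_iff.mp hx)
  have hK3le : K3 ≤ H := Subgroup.subgroupOf_eq_top.mp htopK
  -- the second kernel lies in `H`
  have hK2le : K2 ≤ H := by
    intro g hg
    obtain ⟨k, hk⟩ : ∃ k : ℕ, V ⟨g, hg⟩ = V u ^ k := by
      have h : ∀ a b : Multiplicative (ZMod 3), b ≠ 1 → a = 1 ∨ a = b ∨ a = b * b := by
        decide +kernel
      rcases h (V ⟨g, hg⟩) (V u) hVu with h | h | h
      · exact ⟨0, by rw [h, pow_zero]⟩
      · exact ⟨1, by rw [h, pow_one]⟩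
      · exact ⟨2, by rw [h, pow_two]⟩
    have hm : g * (uG ^ k)⁻¹ ∈ K3 := by
      refine (hK3mem _ (K2.mul_mem hg (K2.inv_mem (K2.pow_mem huK k)))).mpr ?_
      rw [show (⟨g * (uG ^ k)⁻¹, _⟩ : K2) = ⟨g, hg⟩ * (u ^ k)⁻¹ from rfl, map_mul, map_inv, map_pow,
        hk, mul_inv_cancel]
    simpa using H.mul_mem (hK3le hm) (H.pow_mem huH k)
  rw [Subgroup.eq_top_iff']
  exact fun g => D.norm_le fun j hj =>
    D.closed.2 j hj g (hK2le ((MonoidHom.normal_ker lam).conj_mem j (hJK hj) g))

end CfsgLib.Block.FourCube
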