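import Cfsg.Agent.Lib.Char.TI
import Cfsg.Agent.Lib.BlockB.ClassMul

/-!
Induction from a subgroup of functions supported on a TI set, and the sum over pairs of involutions.
-/

set_option autoImplicit false

namespace CfsgLib.Block.PairTrick

open CfsgLib.Char
open scoped ComplexConjugate

universe u

variable {G : Type u} [Group G] [Fintype G]

open scoped Classical in
theorem indFun_apply_of_ti (H : Subgroup G) {S : H → Prop} {w : H → ℂ}
    (hw : ∀ a b : H, w (b * a * b⁻¹) = w a) (hwS : ∀ a, ¬ S a → w a = 0)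
    (hTI : ∀ (x : G) (a b : H), S a → S b → x * (a : G) * x⁻¹ = b → x ∈ H)
    (a : H) (ha : S a) : Cfsg.indFun H w a = w a := by
  have hterm : ∀ x : G, Cfsg.extendByZero H w (x⁻¹ * (a : G) * x) =
      if x ∈ H then w a else 0 := by
    intro x
    split_ifs with hx
    · rw [show x⁻¹ * (a : G) * x = ((⟨x, hx⟩⁻¹ * a * ⟨x, hx⟩ : H) : G) from rfl, extendByZero_coe]
      have h := hw a (⟨x, hx⟩ : H)⁻¹
      rwa [inv_inv] at h
    · by_cases hm : x⁻¹ * (a : G) * x ∈ H
      · rw [extendByZero_of_mem _ hm]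
        refine hwS _ fun hS => hx ?_
        have := hTI x⁻¹ a ⟨_, hm⟩ ha hS (by simp)
        simpa using H.inv_mem this
      · exact extendByZero_of_not_mem _ hm
  rw [indFun_def, Finset.sum_congr rfl fun x _ => hterm x, ← Finset.sum_filter, Finset.sum_const,
    nsmul_eq_mul, ← Fintype.card_subtype, ← Nat.card_eq_fintype_card,
    inv_mul_cancel_left₀ (by exact_mod_cast Nat.card_pos.ne')]

theorem isometry (H : Subgroup G) [Fintype H] {S : H → Prop} {v w : H → ℂ}
    (hw : ∀ a b : H, w (b * a * b⁻¹) = w a) (hvS : ∀ a, ¬ S a → v a = 0)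
    (hwS : ∀ a, ¬ S a → w a = 0)
    (hTI : ∀ (x : G) (a b : H), S a → S b → x * (a : G) * x⁻¹ = b → x ∈ H) :
    Cfsg.classInner (Cfsg.indFun H v) (Cfsg.indFun H w) = Cfsg.classInner v w := by
  rw [frobenius_reciprocity _ v _ (indFun_isClassFunction _ w), classInner_def, classInner_def]
  congr 1
  refine Finset.sum_congr rfl fun a _ => ?_
  by_cases ha : S a
  · rw [indFun_apply_of_ti H hw hwS hTI a ha]
  · rw [hvS a ha, zero_mul, zero_mul]

variable (G) in
open scoped Classical in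
/-- the involutions of `G` -/
noncomputable def invol : Finset G := Finset.univ.filter fun s => s ≠ 1 ∧ s * s = 1

theorem mem_invol {s : G} : s ∈ invol G ↔ s ≠ 1 ∧ s * s = 1 := by simp [invol]

theorem conj_mem_invol {s : G} (hs : s ∈ invol G) (x : G) : x * s * x⁻¹ ∈ invol G := by
  rw [mem_invol] at hs ⊢
  refine ⟨fun h => hs.1 ?_, ?_⟩
  · rw [show s = x⁻¹ * (x * s * x⁻¹) * x by group, h]; group
  · rw [show x * s * x⁻¹ * (x * s * x⁻¹) = x * (s * s) * x⁻¹ by group, hs.2]; group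

theorem sum_invol_conj {M : Type*} [AddCommMonoid M] (f : G → M) (x : G) :
    ∑ t ∈ invol G, f (x * t * x⁻¹) = ∑ t ∈ invol G, f t := by
  refine Finset.sum_nbij' (fun t => x * t * x⁻¹) (fun t => x⁻¹ * t * x)
    (fun t ht => conj_mem_invol ht x) (fun t ht => ?_) (fun t _ => by group) (fun t _ => by group)
    (fun t _ => rfl)
  have := conj_mem_invol ht x⁻¹
  simpa using this

/-- `Z`, the sum of a function over the involutions -/
noncomputable def invSum (f : G → ℂ) : ℂ := ∑ t ∈ invol G, f t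

/-- the sum over pairs of involutions -/
noncomputable def pairSum (f : G → ℂ) : ℂ := ∑ s ∈ invol G, ∑ t ∈ invol G, f (s * t)

theorem pairSum_irr (χ : Cfsg.IrrCharacter G) :
    pairSum (χ : G → ℂ) = invSum (χ : G → ℂ) ^ 2 / (χ : G → ℂ) 1 := by
  have hG : (Nat.card G : ℂ) ≠ 0 := natCard_ne_zero
  refine mul_left_cancel₀ hG ?_
  have h1 : (Nat.card G : ℂ) * pairSum (χ : G → ℂ) =
      ∑ s ∈ invol G, ∑ t ∈ invol G, ∑ x : G, (χ : G → ℂ) (s * (x * t * x⁻¹)) := by
    rw [pairSum, Finset.mul_sum]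
    refine Finset.sum_congr rfl fun s _ => ?_
    rw [Finset.sum_comm]
    simp_rw [fun x : G => sum_invol_conj (fun t => (χ : G → ℂ) (s * t)) x]
    rw [Finset.sum_const, Finset.card_univ, nsmul_eq_mul, Nat.card_eq_fintype_card]
  rw [h1]
  simp_rw [BlockB.sum_irr_mul_conj χ, invSum, sq, Finset.sum_mul_sum, mul_div_assoc',
    Finset.mul_sum, Finset.sum_div]
  exact Finset.sum_congr rfl fun s _ => Finset.sum_congr rfl fun t _ => by ring

theorem pairSum_sum {ι : Type*} (s : Finset ι) (c : ι → ℂ) (f : ι → G → ℂ) :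
    pairSum (∑ i ∈ s, c i • f i) = ∑ i ∈ s, c i * pairSum (f i) := by
  simp only [pairSum, Finset.mul_sum, Finset.sum_apply, Pi.smul_apply, smul_eq_mul]
  rw [eq_comm, Finset.sum_comm]
  refine Finset.sum_congr rfl fun a _ => ?_
  rw [Finset.sum_comm]

theorem invSum_sum {ι : Type*} (s : Finset ι) (c : ι → ℂ) (f : ι → G → ℂ) :
    invSum (∑ i ∈ s, c i • f i) = ∑ i ∈ s, c i * invSum (f i) := by
  simp only [invSum, Finset.mul_sum, Finset.sum_apply, Pi.smul_apply, smul_eq_mul]
  rw [eq_comm, Finset.sum_comm]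

theorem invSum_indFun (H : Subgroup G) [Fintype H] (v : H → ℂ)
    (hv : ∀ a : H, a * a = 1 → v a = 0) : invSum (Cfsg.indFun H v) = 0 := by
  refine Finset.sum_eq_zero fun t ht => ?_
  rw [indFun_def, Finset.sum_eq_zero, mul_zero]
  intro x _
  by_cases hm : x⁻¹ * t * x ∈ H
  · rw [extendByZero_of_mem _ hm]
    refine hv _ (Subtype.ext ?_)
    have h := (mem_invol.mp ht).2
    rw [Subgroup.coe_mul, Subgroup.coe_one, show (x⁻¹ * t * x) * (x⁻¹ * t * x) =
      x⁻¹ * (t * t) * x by group, h]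
    group
  · exact extendByZero_of_not_mem _ hm

open scoped Classical in
theorem pairSum_indFun (H : Subgroup G) [Fintype H] (v : H → ℂ)
    (hloc : ∀ s ∈ invol G, ∀ t ∈ invol G, ∀ h : s * t ∈ H, v ⟨s * t, h⟩ ≠ 0 → s ∈ H) :
    pairSum (Cfsg.indFun H v) = (Nat.card G : ℂ) / (Nat.card H : ℂ) *
      ∑ s ∈ invol H, ∑ t ∈ invol H, v (s * t) := by
  have hH : (Nat.card H : ℂ) ≠ 0 := natCard_ne_zero
  have hx : ∀ x : G, ∑ s ∈ invol G, ∑ t ∈ invol G, Cfsg.extendByZero H v (x⁻¹ * (s * t) * x) =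
      ∑ s ∈ invol G, ∑ t ∈ invol G, Cfsg.extendByZero H v (s * t) := by
    intro x
    rw [← sum_invol_conj _ x]
    refine Finset.sum_congr rfl fun s _ => ?_
    rw [← sum_invol_conj _ x]
    refine Finset.sum_congr rfl fun t _ => ?_
    congr 1
    group
  have h1 : pairSum (Cfsg.indFun H v) = (Nat.card H : ℂ)⁻¹ * ∑ x : G,
      ∑ s ∈ invol G, ∑ t ∈ invol G, Cfsg.extendByZero H v (x⁻¹ * (s * t) * x) := by
    simp only [pairSum, indFun_def, Finset.mul_sum]
    rw [eq_comm, Finset.sum_comm]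
    exact Finset.sum_congr rfl fun s _ => Finset.sum_comm
  have hS : ∀ s : H, s ∈ invol H ↔ (s : G) ∈ invol G := fun s => by
    simp only [mem_invol, ne_eq, Subtype.ext_iff, Subgroup.coe_mul, Subgroup.coe_one]
  have h2 : ∑ s ∈ invol G, ∑ t ∈ invol G, Cfsg.extendByZero H v (s * t) =
      ∑ s ∈ invol H, ∑ t ∈ invol H, v (s * t) := by
    have hmap : (invol G).filter (· ∈ H) = (invol H).map ⟨Subtype.val, Subtype.val_injective⟩ := by
      ext x
      simp only [Finset.mem_filter, Finset.mem_map, Function.Embedding.coeFn_mk, hS]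
      exact ⟨fun h => ⟨⟨x, h.2⟩, h.1, rfl⟩, fun ⟨a, ha, hax⟩ => hax ▸ ⟨ha, a.2⟩⟩
    have hz : ∀ s ∈ invol G, ∀ t ∈ invol G, (s ∉ H ∨ t ∉ H) →
        Cfsg.extendByZero H v (s * t) = 0 := by
      intro s hs t ht hst
      by_cases hm : s * t ∈ H
      · rw [extendByZero_of_mem _ hm]
        by_contra h0
        have hsH := hloc s hs t ht hm h0
        rcases hst with h | h
        · exact h hsH
        · exact h (by simpa using H.mul_mem (H.inv_mem hsH) hm)
      · exact extendByZero_of_not_mem _ hm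
    rw [← Finset.sum_filter_of_ne (p := (· ∈ H)) (fun s hs hne => by_contra fun h =>
      hne (Finset.sum_eq_zero fun t ht => hz s hs t ht (Or.inl h))), hmap, Finset.sum_map]
    refine Finset.sum_congr rfl fun s hs => ?_
    show ∑ t ∈ invol G, Cfsg.extendByZero H v ((s : G) * t) = _
    rw [← Finset.sum_filter_of_ne (p := (· ∈ H)) (fun t ht hne => by_contra fun h =>
      hne (hz _ ((hS s).mp hs) t ht (Or.inr h))), hmap, Finset.sum_map]
    refine Finset.sum_congr rfl fun t _ => ?_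
    exact extendByZero_coe H v (s * t)
  rw [h1, Finset.sum_congr rfl fun x _ => hx x, Finset.sum_const, Finset.card_univ, nsmul_eq_mul,
    h2, Nat.card_eq_fintype_card (α := G)]
  field_simp

/-- coefficient vector of a generalized character of given degree and norm -/
theorem exists_coeff [Fintype (Cfsg.IrrCharacter G)] {τ : G → ℂ}
    (hgen : Cfsg.IsGeneralizedCharacter G τ) :
    ∃ m : Cfsg.IrrCharacter G → ℤ, τ = ∑ χ : Cfsg.IrrCharacter G, (m χ : ℂ) • (χ : G → ℂ) ∧
      ∀ χ : Cfsg.IrrCharacter G, Cfsg.classInner τ (χ : G → ℂ) = m χ := by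
  have hcl := isGeneralized_isClassFunction hgen
  choose m hm using fun χ : Cfsg.IrrCharacter G =>
    classInner_isGeneralized_int hgen (isGeneralized_of_isCharacter (irr_isCharacter χ.2))
  refine ⟨m, ?_, hm⟩
  conv_lhs => rw [classFunction_eq_sum hcl]
  simp only [hm]

theorem classInner_eq_sum [Fintype (Cfsg.IrrCharacter G)] {σ τ : G → ℂ}
    (hσ : Cfsg.IsClassFunction G σ) {m n : Cfsg.IrrCharacter G → ℤ}
    (hm : ∀ χ : Cfsg.IrrCharacter G, Cfsg.classInner σ (χ : G → ℂ) = m χ)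
    (hn : ∀ χ : Cfsg.IrrCharacter G, Cfsg.classInner τ (χ : G → ℂ) = n χ) :
    Cfsg.classInner σ τ = ((∑ χ, m χ * n χ : ℤ) : ℂ) := by
  rw [classInner_eq_sum_mul hσ]
  push_cast
  exact Finset.sum_congr rfl fun χ _ => by rw [hm, hn, map_intCast]

end CfsgLib.Block.PairTrick
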