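import Cfsg.Agent.Lib.Block.ThreeCubeCore
import Cfsg.Agent.Lib.Block.PairTrick
import Cfsg.Agent.Lib.Char.Linear
import Cfsg.Agent.Lib.Perm.PermChar
import Cfsg.Agent.Lib.Transfer.Frobenius
import Cfsg.Agent.Lib.Coprime.Generation

/-!
A finite group with a strongly embedded 3-local subgroup of shape `3^3 : 2^2` equals it.
-/

set_option autoImplicit false
set_option linter.all false

namespace CfsgLib.Block.ThreeCube

open CfsgLib.Char CfsgLib.Block

universe u

/-- projection to a component -/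
def compHom (i : Fin 3) : Tri →* DihedralGroup 3 where
  toFun := comp i
  map_one' := by fin_cases i <;> rfl
  map_mul' a b := by fin_cases i <;> rfl

/-- the action on three points -/
def dPermFun : DihedralGroup 3 → Equiv.Perm (Fin 3)
  | .r i => Equiv.addRight (-i : Fin 3)
  | .sr i => (Equiv.neg (Fin 3)).trans (Equiv.addRight (i : Fin 3))

theorem dPermFun_mul : ∀ a b, dPermFun (a * b) = dPermFun a * dPermFun b := by decide +kernel

/-- the action on three points as a homomorphism -/
def dPerm : DihedralGroup 3 →* Equiv.Perm (Fin 3) := MonoidHom.mk' dPermFun dPermFun_mul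

theorem dtwo_eq : ∀ a : DihedralGroup 3,
    dtwo a = ((Finset.univ.filter fun x => dPermFun a x = x).card : ℤ) - 1 := by decide +kernel

theorem tri_six : ∀ a : Tri, (a * a * a) * (a * a * a) = 1 := by decide +kernel

theorem plus_iff_pow {a : Tri} (h : a ^ 27 = 1) : Plus a := by
  refine plus_of_cube a ?_
  have h6 : a ^ 6 = 1 := by simpa [pow_succ, mul_assoc] using tri_six a
  rw [show (27 : ℕ) = 6 * 4 + 3 from rfl, pow_add, pow_mul, h6, one_pow, one_mul] at h
  simpa [pow_succ, mul_assoc] using h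

section Local

variable {G : Type u} [Group G] {H : Subgroup G} [Fintype H] (e : Mdl ≃* H)

/-- the coordinates of an element of `H` -/
noncomputable def tr : H →* Tri := Mdl.subtype.comp e.symm.toMonoidHom

theorem evn_tr (h : H) : Evn (tr e h) := (e.symm h).2

theorem tr_injective : Function.Injective (tr e) :=
  fun a b hab => e.symm.injective (Subtype.ext hab)

theorem tr_apply (a : Mdl) : tr e (e a) = (a : Tri) := by simp [tr]

open scoped Classical in
theorem sum_tr (F : Tri → ℤ) :
    ∑ h : H, (F (tr e h) : ℂ) = ((∑ a : Tri, if Evn a then F a else 0 : ℤ) : ℂ) := by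
  rw [← Finset.sum_filter, Finset.sum_subtype (Finset.univ.filter Evn) (p := (· ∈ Mdl))
    (fun a => by rw [Finset.mem_filter]; exact ⟨fun h => h.2, fun h => ⟨Finset.mem_univ _, h⟩⟩),
    Int.cast_sum]
  refine (Fintype.sum_equiv e.toEquiv (fun a : Mdl => (F (a : Tri) : ℂ))
    (fun h : H => (F (tr e h) : ℂ)) fun a => ?_).symm
  exact congrArg (fun x => (F x : ℂ)) (tr_apply e a).symm

theorem card_H (e : Mdl ≃* H) : Nat.card H = 108 := by
  rw [← Nat.card_congr e.toEquiv, ← card_evn, Nat.card_eq_fintype_card]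
  exact Fintype.card_subtype _

/-- the class functions on `H` -/
noncomputable def vC (j : Fin 7) (h : H) : ℂ := (vec j (tr e h) : ℂ)

/-- the linear characters on `H` -/
noncomputable def epsC (i : Fin 3) : H →* ℂˣ :=
  MonoidHom.toHomUnits
    { toFun := fun h => (eps i (tr e h) : ℂ)
      map_one' := by simp [eps_one]
      map_mul' := fun a b => by simp [eps_mul] }

theorem epsC_apply (i : Fin 3) (h : H) : (epsC e i h : ℂ) = (eps i (tr e h) : ℂ) := rfl

theorem gen_eps (i : Fin 3) :
    Cfsg.IsGeneralizedCharacter H fun h => (eps i (tr e h) : ℂ) :=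
  isGeneralized_of_isCharacter (irr_isCharacter (isIrrCharacter_linear (epsC e i)))

theorem gen_two (i : Fin 3) :
    Cfsg.IsGeneralizedCharacter H fun h => (two i (tr e h) : ℂ) := by
  have h := isGeneralized_sub (isGeneralized_of_isCharacter (isCharacter_comp
    (Perm.isCharacter_permChar (G := Equiv.Perm (Fin 3)) (Ω := Fin 3))
    (dPerm.comp ((compHom i).comp (tr e))))) (isGeneralized_of_isCharacter (isCharacter_one (G := H)))
  convert h using 1
  funext h
  simp only [two, dtwo_eq, Pi.sub_apply, Function.comp_apply, Perm.permChar]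
  push_cast
  rw [Nat.card_eq_fintype_card]
  congr 2
  rw [Fintype.card_subtype]
  rfl

theorem gen_vC (j : Fin 7) : Cfsg.IsGeneralizedCharacter H (vC e j) := by
  have one := isGeneralized_of_isCharacter (isCharacter_one (G := H))
  have hv : ∀ i, Cfsg.IsGeneralizedCharacter H fun h => (vv i (tr e h) : ℂ) := fun i => by
    convert isGeneralized_sub (isGeneralized_sub (gen_two e i) one) (gen_eps e i) using 1
    funext h; simp [vv]
  have hu : ∀ i, Cfsg.IsGeneralizedCharacter H fun h => (uu i (tr e h) : ℂ) := fun i => by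
    convert isGeneralized_sub (isGeneralized_sub (isGeneralized_mul (gen_two e i)
      (gen_eps e (nxt i))) (gen_eps e (nxt i))) (gen_eps e (nxt (nxt i))) using 1
    funext h; simp [uu]
  fin_cases j
  exacts [hv 0, hv 1, hv 2, hu 0, hu 1, hu 2, by
    convert isGeneralized_sub (isGeneralized_sub (isGeneralized_sub (isGeneralized_sub
      (isGeneralized_mul (gen_two e 0) (gen_two e 1)) one) (gen_eps e 0)) (gen_eps e 1))
      (gen_eps e 2) using 1
    funext h; simp [vC, vec, ww]]

theorem vC_zero (j : Fin 7) (h : H) (hh : ¬ Sing (tr e h)) : vC e j h = 0 := by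
  simp [vC, vec_eq_zero _ (evn_tr e h) hh j]

theorem classInner_vC (j k : Fin 7) :
    Cfsg.classInner (vC e j) (vC e k) = (gram j k : ℂ) := by
  have h1 : ∀ h : H, vC e j h * (starRingEnd ℂ) (vC e k h) =
      (((fun a => vec j a * vec k a) (tr e h) : ℤ) : ℂ) := fun h => by simp [vC, map_intCast]
  rw [classInner_def, (Finset.sum_congr rfl fun h _ => h1 h).trans (sum_tr e fun a => vec j a * vec k a),
    sum_gram, card_H e]
  push_cast; field_simp

theorem classInner_vC_one (j : Fin 7) :
    Cfsg.classInner (vC e j) (fun _ => 1) = (vecOne j : ℂ) := by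
  simp only [classInner_def, map_one, mul_one, vC]
  rw [sum_tr, sum_vecOne, card_H e]
  push_cast; field_simp

theorem classInner_vC_eps (i k : Fin 3) :
    Cfsg.classInner (vC e (iv i)) (fun h => (epsC e k h : ℂ)) = if i = k then -1 else 0 := by
  have h0 : ∀ a, vec (iv i) a = vv i a := fun a => by fin_cases i <;> rfl
  have h1 : ∀ h : H, vC e (iv i) h * (starRingEnd ℂ) (epsC e k h : ℂ) =
      (((fun a => vv i a * eps k a) (tr e h) : ℤ) : ℂ) := fun h => by
    simp [vC, epsC_apply, h0, map_intCast]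
  rw [classInner_def, (Finset.sum_congr rfl fun h _ => h1 h).trans (sum_tr e fun a => vv i a * eps k a),
    sum_eps, card_H e]
  split_ifs <;> simp

open scoped Classical in
theorem sum_invol_tr (F : Tri → ℤ) :
    ∑ h ∈ PairTrick.invol H, (F (tr e h) : ℂ) =
      ((∑ a : Tri, if Inv2 a then F a else 0 : ℤ) : ℂ) := by
  have h1 : ∀ h : H, h ∈ PairTrick.invol H ↔ Inv2 (tr e h) := fun h => by
    simp [PairTrick.mem_invol, Inv2, evn_tr e h, ← map_mul, map_eq_one_iff _ (tr_injective e)]
  have h2 : PairTrick.invol H = Finset.univ.filter fun h => Inv2 (tr e h) := by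
    ext h; simp [h1]
  rw [h2, Finset.sum_filter]
  have h3 : ∀ h : H, (if Inv2 (tr e h) then (F (tr e h) : ℂ) else 0) =
      (((fun a => if Inv2 a then F a else 0) (tr e h) : ℤ) : ℂ) := fun h => by
    dsimp only; split_ifs <;> simp
  rw [(Finset.sum_congr rfl fun h _ => h3 h).trans (sum_tr e fun a => if Inv2 a then F a else 0)]
  congr 1

theorem pair_vC (j : Fin 7) :
    ∑ s ∈ PairTrick.invol H, ∑ t ∈ PairTrick.invol H, vC e j (s * t) =
      (108 * vecPair j : ℤ) := by
  have h1 : ∀ s : H, ∑ t ∈ PairTrick.invol H, vC e j (s * t) =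
      (((fun a => ∑ t : Tri, if Inv2 t then vec j (a * t) else 0) (tr e s) : ℤ) : ℂ) := fun s => by
    simp only [vC, map_mul]
    exact sum_invol_tr e fun t => vec j (tr e s * t)
  rw [(Finset.sum_congr rfl fun s _ => h1 s).trans
    (sum_invol_tr e fun a => ∑ t : Tri, if Inv2 t then vec j (a * t) else 0)]
  exact congrArg _ (sum_pair j)

/-- generators in `H` -/
theorem hom_ext {M : Type*} [CommMonoid M] (f g : H →* M)
    (h : ∀ a : Mdl, (a : Tri) = i₁ ∨ (a : Tri) = i₂ ∨ (a : Tri) = c₁ ∨ (a : Tri) = c₂ ∨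
      (a : Tri) = c₃ → f (e a) = g (e a)) : f = g := by
  obtain ⟨g1, g2, g3, g4, g5⟩ := gens_evn
  ext x
  obtain ⟨a, rfl⟩ := e.surjective x
  let b : Tri := (a : Tri) * (i₁ ^ (fidx (a : Tri).2.1).val * i₂ ^ (fidx (a : Tri).2.2).val)⁻¹
  have ha : a = (⟨c₁, g3⟩ : Mdl) ^ (ridx b.1).val * (⟨c₂, g4⟩ : Mdl) ^ (ridx b.2.1).val *
      (⟨c₃, g5⟩ : Mdl) ^ (ridx b.2.2).val * ((⟨i₁, g1⟩ : Mdl) ^ (fidx (a : Tri).2.1).val *
        (⟨i₂, g2⟩ : Mdl) ^ (fidx (a : Tri).2.2).val) :=
    Subtype.ext (word_eq (a : Tri) a.2).symm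
  rw [ha]
  simp only [map_mul, map_pow]
  rw [h ⟨c₁, g3⟩ (by simp), h ⟨c₂, g4⟩ (by simp), h ⟨c₃, g5⟩ (by simp), h ⟨i₁, g1⟩ (by simp),
    h ⟨i₂, g2⟩ (by simp)]

theorem gens_eps : ∀ i, eps i i₁ = ![-1, -1, 1] i ∧ eps i i₂ = ![-1, 1, -1] i ∧
    eps i c₁ = 1 ∧ eps i c₂ = 1 ∧ eps i c₃ = 1 := by decide +kernel

theorem linear_cases (l : H →* ℂˣ) : l = 1 ∨ ∃ k, l = epsC e k := by
  obtain ⟨g1, g2, g3, g4, g5⟩ := gens_evn
  obtain ⟨r1, r2, r3⟩ := gens_invert
  obtain ⟨s1, s2⟩ := gens_sq
  have hsq : ∀ (a : Mdl), (a : Tri) * a = 1 → (l (e a) : ℂ) = 1 ∨ (l (e a) : ℂ) = -1 := fun a ha => by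
    have h : e a * e a = 1 := by rw [← map_mul, ← map_one e]; congr 1; exact Subtype.ext ha
    have h2 := congrArg (fun x => (l x : ℂ)) h
    simp only [map_mul, map_one, Units.val_mul, Units.val_one] at h2
    exact mul_self_eq_one_iff.mp h2
  have hinv : ∀ i c : Mdl, (i : Tri) * c * i = (c : Tri) * c → (i : Tri) * i = 1 →
      (l (e c) : ℂ) = 1 := fun i c hic hi => by
    have h : e i * e c * e i = e c * e c := by
      simp only [← map_mul]; congr 1; exact Subtype.ext hic
    have h2 := congrArg (fun x => (l x : ℂ)) h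
    simp only [map_mul, Units.val_mul] at h2
    have hii : (l (e i) : ℂ) * l (e i) = 1 := by
      rcases hsq i hi with h | h <;> rw [h] <;> norm_num
    refine mul_right_cancel₀ (l (e c)).ne_zero ?_
    rw [one_mul, ← h2]
    linear_combination (l (e c) : ℂ) * hii
  have k1 := hinv ⟨i₁, g1⟩ ⟨c₁, g3⟩ r1 s1
  have k2 := hinv ⟨i₁, g1⟩ ⟨c₂, g4⟩ r2 s1
  have k3 := hinv ⟨i₂, g2⟩ ⟨c₃, g5⟩ r3 s2
  have heps : ∀ k (a : Mdl), (epsC e k (e a) : ℂ) = (eps k (a : Tri) : ℂ) := fun k a => by
    rw [epsC_apply, tr_apply]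
  rcases hsq ⟨i₁, g1⟩ s1 with p | p <;> rcases hsq ⟨i₂, g2⟩ s2 with q | q
  case inl.inl =>
    refine Or.inl (hom_ext e l 1 ?_)
    rintro ⟨a, ha'⟩ ha
    rcases ha with rfl | rfl | rfl | rfl | rfl
    exacts [Units.ext (p.trans (by simp [heps, gens_eps])),
      Units.ext (q.trans (by simp [heps, gens_eps])), Units.ext (k1.trans (by simp [heps, gens_eps])),
      Units.ext (k2.trans (by simp [heps, gens_eps])), Units.ext (k3.trans (by simp [heps, gens_eps]))]
  case inl.inr =>
    refine Or.inr ⟨2, hom_ext e l _ ?_⟩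
    rintro ⟨a, ha'⟩ ha
    rcases ha with rfl | rfl | rfl | rfl | rfl
    exacts [Units.ext (p.trans (by simp [heps, gens_eps])),
      Units.ext (q.trans (by simp [heps, gens_eps])), Units.ext (k1.trans (by simp [heps, gens_eps])),
      Units.ext (k2.trans (by simp [heps, gens_eps])), Units.ext (k3.trans (by simp [heps, gens_eps]))]
  case inr.inl =>
    refine Or.inr ⟨1, hom_ext e l _ ?_⟩
    rintro ⟨a, ha'⟩ ha
    rcases ha with rfl | rfl | rfl | rfl | rfl
    exacts [Units.ext (p.trans (by simp [heps, gens_eps])),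
      Units.ext (q.trans (by simp [heps, gens_eps])), Units.ext (k1.trans (by simp [heps, gens_eps])),
      Units.ext (k2.trans (by simp [heps, gens_eps])), Units.ext (k3.trans (by simp [heps, gens_eps]))]
  case inr.inr =>
    refine Or.inr ⟨0, hom_ext e l _ ?_⟩
    rintro ⟨a, ha'⟩ ha
    rcases ha with rfl | rfl | rfl | rfl | rfl
    exacts [Units.ext (p.trans (by simp [heps, gens_eps])),
      Units.ext (q.trans (by simp [heps, gens_eps])), Units.ext (k1.trans (by simp [heps, gens_eps])),
      Units.ext (k2.trans (by simp [heps, gens_eps])), Units.ext (k3.trans (by simp [heps, gens_eps]))]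

end Local

open scoped Classical in
/-- The group theoretic statement. -/
theorem eq_top {G : Type u} [Group G] [Finite G] (H T : Subgroup G) (hH : Nonempty (Mdl ≃* H))
    (hTH : T ≤ H) (hT : Nat.card T = 27) (hN : Subgroup.normalizer (T : Set G) = H)
    (hC : ∀ t ∈ T, t ≠ 1 → Subgroup.centralizer ({t} : Set G) ≤ H) : H = ⊤ := by
  obtain ⟨e⟩ := hH
  cases nonempty_fintype G
  have := Fintype.ofFinite (Cfsg.IrrCharacter G)
  -- `T` is the positive part
  have hTplus : ∀ h : H, (h : G) ∈ T ↔ Plus (tr e h) := by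
    have hsub : ∀ h : H, (h : G) ∈ T → Plus (tr e h) := fun h hh => by
      refine plus_iff_pow ?_
      have h1 := congrArg Subtype.val (pow_card_eq_one' (G := T) (x := ⟨(h : G), hh⟩))
      rw [hT] at h1
      rw [← map_pow, show h ^ 27 = 1 from Subtype.ext h1, map_one]
    have hcard : (Finset.univ.filter fun h : H => (h : G) ∈ T).card =
        (Finset.univ.filter fun h : H => Plus (tr e h)).card := by
      have h1 : (Finset.univ.filter fun h : H => (h : G) ∈ T).card = 27 := by
        rw [← hT, ← Nat.card_congr (Subgroup.subgroupOfEquivOfLe hTH).toEquiv,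
          Nat.card_eq_fintype_card, ← Fintype.card_subtype]
        rfl
      have h2 : (Finset.univ.filter fun h : H => Plus (tr e h)).card = 27 := by
        rw [← card_plus]
        refine Finset.card_bij (fun h _ => tr e h) (fun h hh => ?_)
          (fun a _ b _ hab => tr_injective e hab) (fun a ha => ?_)
        · simpa using hh
        · have ha' : Plus a := by simpa using ha
          exact ⟨e ⟨a, plus_evn a ha'⟩, by simp [tr_apply, ha'], tr_apply e _⟩
      rw [h1, h2]
    intro h
    refine ⟨hsub h, fun hp => ?_⟩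
    have := Finset.eq_of_subset_of_card_le
      (fun x hx => by simpa using hsub x (by simpa using hx) :
        (Finset.univ.filter fun h : H => (h : G) ∈ T) ⊆
          Finset.univ.filter fun h : H => Plus (tr e h)) hcard.ge
    have hm : h ∈ Finset.univ.filter fun h : H => Plus (tr e h) := by simpa using hp
    rw [← this] at hm
    simpa using hm
  have hTcube : ∀ g ∈ H, g * g * g = 1 → g ∈ T := fun g hg h3 => by
    refine (hTplus ⟨g, hg⟩).mpr (plus_of_cube _ ?_)
    rw [← map_mul, ← map_mul, ← map_one (tr e)]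
    exact congrArg _ (Subtype.ext h3)
  have hTcomm : ∀ a ∈ T, ∀ b ∈ T, a * b = b * a := fun a ha b hb => by
    have h : (⟨a, hTH ha⟩ : H) * ⟨b, hTH hb⟩ = ⟨b, hTH hb⟩ * ⟨a, hTH ha⟩ := tr_injective e (by
      rw [map_mul, map_mul]
      exact plus_comm _ _ ((hTplus _).mp ha) ((hTplus _).mp hb))
    exact congrArg Subtype.val h
  have hT3 : ∀ a ∈ T, a * a * a = 1 := fun a ha => by
    have h : (⟨a, hTH ha⟩ : H) * ⟨a, hTH ha⟩ * ⟨a, hTH ha⟩ = 1 := tr_injective e (by
      rw [map_mul, map_mul, map_one]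
      exact plus_cube _ ((hTplus _).mp ha))
    exact congrArg Subtype.val h
  -- trivial intersections
  let S : H → Prop := fun h => Sing (tr e h)
  have hsq : ∀ h : H, S h → (h : G) * h ∈ T ∧ (h : G) * h ≠ 1 := fun h hh => by
    have h2 := sq_of_sing _ hh
    rw [← map_mul] at h2
    refine ⟨(hTplus (h * h)).mpr h2.2, fun h1 => h2.1 ?_⟩
    rw [show h * h = 1 from Subtype.ext h1, map_one]
  have hTI : ∀ (x : G) (a b : H), S a → S b → x * (a : G) * x⁻¹ = b → x ∈ H := by
    intro x a b ha hb hxab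
    obtain ⟨ta, ta1⟩ := hsq a ha
    obtain ⟨tb, tb1⟩ := hsq b hb
    have hconj : x * ((a : G) * a) * x⁻¹ = (b : G) * b := by rw [← hxab]; group
    have hmap : ∀ s ∈ T, x * s * x⁻¹ ∈ T := by
      intro s hs
      refine hTcube _ (hC _ tb tb1 (Subgroup.mem_centralizer_singleton_iff.mpr ?_)) ?_
      · rw [← hconj, show x * s * x⁻¹ * (x * ((a : G) * a) * x⁻¹) =
          x * (s * ((a : G) * a)) * x⁻¹ by group, hTcomm _ hs _ ta]
        group
      · rw [show x * s * x⁻¹ * (x * s * x⁻¹) * (x * s * x⁻¹) = x * (s * s * s) * x⁻¹ by group,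
          hT3 s hs]
        group
    rw [← hN]
    exact Subgroup.mem_normalizer_iff.mpr fun s => ⟨hmap s, fun hs => by
      have hle : T.map (MulAut.conj x).toMonoidHom ≤ T := by
        rintro _ ⟨y, hy, rfl⟩; exact hmap y hy
      have heq := Subgroup.eq_of_le_of_card_ge hle
        (Nat.card_congr (T.equivMapOfInjective _ (MulAut.conj x).injective).toEquiv).le
      rw [← heq] at hs
      obtain ⟨y, hy, hyeq⟩ := hs
      simpa [(mul_left_cancel (mul_right_cancel hyeq) : y = s)] using hy⟩
  have hvS : ∀ j (a : H), ¬ S a → vC e j a = 0 := fun j a ha => vC_zero e j a ha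
  have hvcl : ∀ j (a b : H), vC e j (b * a * b⁻¹) = vC e j a := fun j =>
    isGeneralized_isClassFunction (gen_vC e j)
  have hloc : ∀ j, ∀ s ∈ PairTrick.invol G, ∀ t ∈ PairTrick.invol G, ∀ h : s * t ∈ H,
      vC e j ⟨s * t, h⟩ ≠ 0 → s ∈ H := by
    intro j s hs t ht h h0
    have hS : S ⟨s * t, h⟩ := by_contra fun hc => h0 (hvS j _ hc)
    refine hTI s ⟨s * t, h⟩ ⟨s * t, h⟩⁻¹ hS ?_ ?_
    · show Sing (tr e _)
      rw [map_inv]
      exact sing_inv _ hS
    · show s * (s * t) * s⁻¹ = (s * t)⁻¹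
      rw [← mul_assoc, (PairTrick.mem_invol.mp hs).2, one_mul, mul_inv_rev,
        inv_eq_of_mul_eq_one_right (PairTrick.mem_invol.mp ht).2]
  -- the induced vectors
  choose m hm hmχ using fun j => PairTrick.exists_coeff (isGeneralized_indFun H (gen_vC e j))
  choose d hd hd1 using fun χ : Cfsg.IrrCharacter G => irr_apply_one_pos χ.2
  let o : Cfsg.IrrCharacter G := ⟨_, isIrrCharacter_one⟩
  have ho : (d o : ℤ) = 1 := by
    have h := hd1 o
    have h' : (1 : ℂ) = (d o : ℂ) := h
    exact_mod_cast h'.symm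
  have hg : (Nat.card G : ℂ) ≠ 0 := natCard_ne_zero
  have hcl : ∀ j, Cfsg.IsClassFunction G (Cfsg.indFun H (vC e j)) := fun j =>
    indFun_isClassFunction _ _
  obtain ⟨L, hL⟩ := arith_core (fun χ => (d χ : ℤ)) (fun χ => by exact_mod_cast hd χ) o ho
    (fun χ => PairTrick.invSum (χ : G → ℂ)) (Nat.card G : ℂ) hg m
    (fun j k => by
      have h := PairTrick.classInner_eq_sum (hcl j) (hmχ j) (hmχ k)
      rw [PairTrick.isometry H (hvcl k) (hvS j) (hvS k) hTI, classInner_vC] at h
      exact_mod_cast h.symm)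
    (fun j => by
      have h := hmχ j o
      rw [show ((o : Cfsg.IrrCharacter G) : G → ℂ) = fun _ => (1 : ℂ) from rfl,
        frobenius_reciprocity _ _ _ (isGeneralized_isClassFunction
          (isGeneralized_of_isCharacter isCharacter_one)), classInner_vC_one] at h
      exact_mod_cast h.symm)
    (fun j => by
      have h : Cfsg.indFun H (vC e j) 1 = ∑ χ : Cfsg.IrrCharacter G, (m j χ : ℂ) * (d χ : ℂ) := by
        conv_lhs => rw [hm j]
        simp [Finset.sum_apply, hd1]
      rw [indFun_apply_one, hvS j 1 (not_sing_of_sq _ (by simp)), mul_zero] at h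
      exact_mod_cast h.symm)
    (fun j => by
      have h := PairTrick.invSum_indFun (G := G) H (vC e j) fun a ha =>
        hvS j a (not_sing_of_sq _ (by rw [← map_mul, ha, map_one]))
      rwa [hm j, PairTrick.invSum_sum] at h)
    (fun j => by
      have h := PairTrick.pairSum_indFun (G := G) H (vC e j) (hloc j)
      rw [hm j, PairTrick.pairSum_sum, pair_vC, card_H e] at h
      simp only [PairTrick.pairSum_irr, hd1] at h
      push_cast at h ⊢
      rw [h]
      field_simp)
  -- three linear characters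
  have hlam : ∀ i, ∃ lam : G →* ℂˣ, ∀ h : H, lam h = epsC e i h := by
    intro i
    obtain ⟨hdi, hmi⟩ := hL i
    obtain ⟨lam, hlam⟩ := exists_hom_of_degree_one (irr_isCharacter (L i).2) (by
      rw [hd1]; exact_mod_cast hdi)
    refine ⟨lam, ?_⟩
    have hin : ∀ j, Cfsg.classInner (vC e (iv j)) (fun h => ((lam.comp H.subtype) h : ℂ)) =
        if j = i then -1 else 0 := fun j => by
      have h := hmχ (iv j) (L i)
      rw [frobenius_reciprocity _ _ _ (irr_isClassFunction (L i).2), hlam, hmi j] at h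
      refine Eq.trans h ?_
      split_ifs <;> simp
    rcases linear_cases e (lam.comp H.subtype) with hl | ⟨k, hl⟩
    · exfalso
      obtain ⟨j, hj⟩ : ∃ j, j ≠ i := exists_ne i
      have h := hin j
      rw [hl, if_neg hj] at h
      have h2 := classInner_vC_one e (iv j)
      rw [gram_val.2.2.2.2.2.2.2.1 j |>.1] at h2
      have h3 : ((-1 : ℤ) : ℂ) = 0 := by
        rw [← h2, ← h]
        rfl
      norm_num at h3
    · have h := hin i
      rw [hl, classInner_vC_eps, if_pos rfl] at h
      split_ifs at h with hik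
      · subst hik
        exact fun x => DFunLike.congr_fun hl x
      · norm_num at h
  choose lam hlam using hlam
  let N : Subgroup G := ⨅ i, (lam i).ker
  have hNn : N.Normal := Subgroup.normal_iInf_normal fun i => inferInstance
  have hNH : ∀ g ∈ H, g ∈ N ↔ g ∈ T := by
    intro g hg
    rw [hTplus ⟨g, hg⟩]
    simp only [N, Subgroup.mem_iInf, MonoidHom.mem_ker, Plus]
    refine forall_congr' fun i => ?_
    rw [show lam i g = epsC e i ⟨g, hg⟩ from hlam i ⟨g, hg⟩, Units.ext_iff, epsC_apply,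
      Units.val_one, Int.cast_eq_one]
  have hTN : T ≤ N := fun g hg => (hNH g (hTH hg)).mpr hg
  have : Fact (Nat.Prime 3) := ⟨Nat.prime_three⟩
  let P₀ : Subgroup N := T.subgroupOf N
  have hP₀ : Nat.card P₀ = 3 ^ 3 := by
    rw [Nat.card_congr (Subgroup.subgroupOfEquivOfLe hTN).toEquiv, hT]; rfl
  have hnorm : Subgroup.normalizer (P₀ : Set N) = P₀ := by
    refine le_antisymm (fun x hx => ?_) Subgroup.le_normalizer
    refine Subgroup.mem_subgroupOf.mpr ((hNH _ ?_).mp x.2)
    rw [← hN]
    refine Subgroup.mem_normalizer_iff.mpr fun s => ?_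
    constructor
    · intro hs
      have h := (Subgroup.mem_normalizer_iff.mp hx ⟨s, hTN hs⟩).mp (Subgroup.mem_subgroupOf.mpr hs)
      exact Subgroup.mem_subgroupOf.mp h
    · intro hs
      have hsN : s ∈ N := by
        have h := hNn.conj_mem _ (hTN hs) (x : G)⁻¹
        simpa [mul_assoc] using h
      exact Subgroup.mem_subgroupOf.mp ((Subgroup.mem_normalizer_iff.mp hx ⟨s, hsN⟩).mpr
        (Subgroup.mem_subgroupOf.mpr (by simpa using hs)))
  have hfac : (Nat.card N).factorization 3 = 3 := by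
    have h1 : 3 ^ 3 ∣ Nat.card N := hP₀ ▸ Subgroup.card_subgroup_dvd_card P₀
    have h2 : ¬ 3 ^ (3 + 1) ∣ Nat.card N := fun hdvd => by
      have h := Sylow.prime_dvd_card_quotient_normalizer hdvd hP₀
      rw [← Subgroup.index_eq_card] at h
      have htop : Subgroup.comap (Subgroup.normalizer (P₀ : Set N)).subtype P₀ = ⊤ := by
        rw [Subgroup.eq_top_iff']; intro y; rw [Subgroup.mem_comap]
        exact hnorm.le y.2
      rw [htop, Subgroup.index_top] at h
      norm_num at h
    have hne : Nat.card N ≠ 0 := Nat.card_pos.ne'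
    have a := (Nat.Prime.pow_dvd_iff_le_factorization Nat.prime_three hne).mp h1
    have b := mt (Nat.Prime.pow_dvd_iff_le_factorization Nat.prime_three hne).mpr h2
    omega
  let P : Sylow 3 N := Sylow.ofCard P₀ (by rw [hfac]; exact hP₀)
  have hPcomm : ∀ a ∈ P₀, ∀ b ∈ P₀, a * b = b * a := fun a ha b hb =>
    Subtype.ext (hTcomm _ (Subgroup.mem_subgroupOf.mp ha) _ (Subgroup.mem_subgroupOf.mp hb))
  obtain ⟨P', O, hOn, hcompl⟩ :=
    CfsgLib.Transfer.hasNormalPComplement_of_normalizer_le_centralizer P (by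
      show Subgroup.normalizer (P₀ : Set N) ≤ Subgroup.centralizer (P₀ : Set N)
      rw [hnorm]
      exact fun a ha => Subgroup.mem_centralizer_iff.mpr fun b hb => hPcomm b hb a ha)
  have hcardP' : Nat.card (P' : Subgroup N) = 3 ^ 3 := by
    rw [P'.card_eq_multiplicity, hfac]
  have hOcard : Nat.card O * 3 ^ 3 = Nat.card N := by rw [← hcardP']; exact hcompl.card_mul
  have hcop : Nat.Coprime (3 ^ 3) (Nat.card O) := by
    refine Nat.Coprime.pow_left _ (Nat.prime_three.coprime_iff_not_dvd.mpr fun hdvd => ?_)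
    have h : 3 ^ (3 + 1) ∣ Nat.card N := by
      rw [← hOcard, pow_succ, mul_comm]; exact mul_dvd_mul_right hdvd _
    have := (Nat.Prime.pow_dvd_iff_le_factorization Nat.prime_three Nat.card_pos.ne').mp h
    omega
  have hnc : ¬ IsCyclic P₀ := fun hc => by
    obtain ⟨g, hg⟩ := IsCyclic.exists_ofOrder_eq_natCard (α := P₀)
    have h3 : g ^ 3 = 1 := Subtype.ext (Subtype.ext (by
      simpa [pow_succ, mul_assoc] using hT3 _ (Subgroup.mem_subgroupOf.mp g.2)))
    have h27 := orderOf_dvd_of_pow_eq_one h3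
    rw [hg, hP₀] at h27
    norm_num at h27
  have hO : O = ⊥ := by
    have hgen := CfsgLib.Coprime.iSup_centralizer_eq (A := P₀) (G := O)
      ⟨⟨fun a b => Subtype.ext (hPcomm _ a.2 _ b.2)⟩⟩ hnc
      (by rw [Subgroup.normalizer_eq_top_iff.mpr hOn]; exact le_top) (by rw [hP₀]; exact hcop)
    rw [← hgen, iSup_eq_bot]
    rintro ⟨a, ha, ha1⟩
    rw [Subgroup.eq_bot_iff_forall]
    intro c hc
    obtain ⟨hcO, hcC⟩ := Subgroup.mem_inf.mp hc
    have hcH : (c : G) ∈ H := hC (a : G) (Subgroup.mem_subgroupOf.mp ha)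
      (fun h => ha1 (Subtype.ext h)) (Subgroup.mem_centralizer_singleton_iff.mpr
        (congrArg Subtype.val (Subgroup.mem_centralizer_singleton_iff.mp hcC)))
    have hcP : c ∈ P₀ := Subgroup.mem_subgroupOf.mpr ((hNH _ hcH).mp c.2)
    exact Subgroup.disjoint_def.mp (Subgroup.disjoint_of_coprime_natCard (hP₀.symm ▸ hcop)) hcP hcO
  have hNT : N = T := by
    refine (Subgroup.eq_of_le_of_card_ge hTN ?_).symm
    rw [← hOcard, hO, Subgroup.card_bot, one_mul, hT]; norm_num
  rw [← hN, ← hNT]
  exact Subgroup.normalizer_eq_top_iff.mpr hNn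

end CfsgLib.Block.ThreeCube
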