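import Cfsg.Agent.Lib.Block.FourModel
import Cfsg.Agent.Lib.Block.ThreeCube

/-!
The eight class functions of the group of order 648 are generalized characters.
-/

set_option autoImplicit false
set_option linter.all false
set_option maxRecDepth 4000

namespace CfsgLib.Block.FourCube

open CfsgLib.Char

/-- the square root of three -/
noncomputable def r3 : ℂ := (Real.sqrt 3 : ℂ)

theorem r3_sq : r3 * r3 = 3 := by
  rw [r3, ← Complex.ofReal_mul, Real.mul_self_sqrt (by norm_num)]; norm_num

/-- four integers as a complex number, doubled -/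
noncomputable def ev4 : (ℤ × ℤ) × (ℤ × ℤ) →+ ℂ where
  toFun z := ((z.1.1 : ℂ) + r3 * z.1.2 + Complex.I * ((z.2.1 : ℂ) + r3 * z.2.2)) / 2
  map_zero' := by simp
  map_add' a b := by simp only [Prod.fst_add, Prod.snd_add, Int.cast_add]; ring

theorem ev4_apply (z : (ℤ × ℤ) × (ℤ × ℤ)) :
    ev4 z = ((z.1.1 : ℂ) + r3 * z.1.2 + Complex.I * ((z.2.1 : ℂ) + r3 * z.2.2)) / 2 := rfl

/-- product of two numbers in the basis `1, √3, i, i√3` -/
def mul4 (x y : (ℤ × ℤ) × (ℤ × ℤ)) : (ℤ × ℤ) × (ℤ × ℤ) :=
  ((x.1.1 * y.1.1 + 3 * (x.1.2 * y.1.2) - x.2.1 * y.2.1 - 3 * (x.2.2 * y.2.2),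
      x.1.1 * y.1.2 + x.1.2 * y.1.1 - x.2.1 * y.2.2 - x.2.2 * y.2.1),
    (x.1.1 * y.2.1 + x.2.1 * y.1.1 + 3 * (x.1.2 * y.2.2) + 3 * (x.2.2 * y.1.2),
      x.1.1 * y.2.2 + x.2.2 * y.1.1 + x.1.2 * y.2.1 + x.2.1 * y.1.2))

theorem ev4_mul (x y : (ℤ × ℤ) × (ℤ × ℤ)) : ev4 (mul4 x y) = 2 * (ev4 x * ev4 y) := by
  simp only [ev4_apply, mul4]
  push_cast
  linear_combination (-((x.2.1 : ℂ) * y.2.1 + r3 * ((x.2.1 : ℂ) * y.2.2 + x.2.2 * y.2.1) +
    r3 * r3 * (x.2.2 * y.2.2))) / 2 * Complex.I_mul_I +
    (-((x.1.2 : ℂ) * y.1.2) + (x.2.2 : ℂ) * y.2.2 -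
      Complex.I * ((x.1.2 : ℂ) * y.2.2 + x.2.2 * y.1.2)) / 2 * r3_sq

/-- a twelfth root of one -/
def z12 (k : Fin 12) : (ℤ × ℤ) × (ℤ × ℤ) := (cosTab k, sinTab k)

theorem z12_mul : ∀ a b, mul4 (z12 a) (z12 b) =
    z12 (a + b) + z12 (a + b) := by
  decide +kernel

theorem ev4_z12 (a b : Fin 12) : ev4 (z12 (a + b)) = ev4 (z12 a) * ev4 (z12 b) := by
  have h := ev4_mul (z12 a) (z12 b)
  rw [z12_mul, map_add] at h
  linear_combination h / 2

theorem ev4_z12_zero : ev4 (z12 0) = 1 := by
  simp [ev4_apply, z12, cosTab, sinTab]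

theorem mem_one : ∀ t, Mem t 1 ∧ expo t 1 = 0 := by decide +kernel

theorem mem_mul (t : Fin 6) {x y : Big} (hx : Mem t x) (hy : Mem t y) :
    Mem t (x * y) ∧ expo t (x * y) = (expo t x + expo t y) % 12 := by
  have h := subList_mul t x (mem_subList t x.left x.right hx) y (mem_subList t y.left y.right hy)
  exact ⟨⟨Four.mul_mem hx.1 hy.1, by rw [h]; exact Nat.mod_lt _ (by norm_num)⟩, h⟩

theorem sum_ev : (∑ a : ThreeCube.Tri, ∑ p : DihedralGroup 3,
    if Ev (⟨a, p⟩ : Big) then 1 else 0 : ℕ) = 648 := by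
  decide +kernel

/-- a sum over the group as a double sum -/
theorem sum_four {M : Type*} [AddCommMonoid M] [Fintype Four] (F : Big → M) :
    ∑ g : Four, F (g : Big) =
      ∑ a : ThreeCube.Tri, ∑ p : DihedralGroup 3, if Ev (⟨a, p⟩ : Big) then F ⟨a, p⟩ else 0 := by
  rw [← Fintype.sum_prod_type' (f := fun a p => if Ev (⟨a, p⟩ : Big) then F ⟨a, p⟩ else 0),
    ← Finset.sum_filter]
  refine Finset.sum_bij (fun g _ => ((g : Big).left, (g : Big).right)) (fun g _ => ?_)
    (fun a _ b _ h => ?_) (fun b hb => ?_) (fun g _ => rfl)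
  · exact Finset.mem_filter.mpr ⟨Finset.mem_univ _, g.2⟩
  · exact Subtype.ext (SemidirectProduct.ext (congrArg Prod.fst h) (congrArg Prod.snd h))
  · exact ⟨⟨⟨b.1, b.2⟩, (Finset.mem_filter.mp hb).2⟩, Finset.mem_univ _, rfl⟩

instance : Fintype Four :=
  Fintype.ofEquiv {x : ThreeCube.Tri × DihedralGroup 3 // Ev (⟨x.1, x.2⟩ : Big)}
    { toFun := fun x => ⟨⟨x.1.1, x.1.2⟩, x.2⟩
      invFun := fun g => ⟨((g : Big).left, (g : Big).right), g.2⟩
      left_inv := fun x => rfl
      right_inv := fun g => rfl }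

/-- the monomial subgroup -/
def Sb (t : Fin 6) : Subgroup Four :=
  { ({ carrier := {g | Mem t (g : Big)}
       one_mem' := (mem_one t).1
       mul_mem' := fun {a b} ha hb => (mem_mul t ha hb).1 } : Submonoid Four) with
    inv_mem' := fun {a} ha => by
      have h := (({ carrier := {g | Mem t (g : Big)}
                    one_mem' := (mem_one t).1
                    mul_mem' := fun {a b} ha hb => (mem_mul t ha hb).1 } : Submonoid Four)).pow_mem ha
        (orderOf a - 1)
      have he : a ^ (orderOf a - 1) = a⁻¹ := eq_inv_of_mul_eq_one_left (by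
        rw [← pow_succ, Nat.sub_add_cancel (orderOf_pos a), pow_orderOf_eq_one])
      rwa [he] at h }

theorem mem_Sb (t : Fin 6) (g : Four) : g ∈ Sb t ↔ Mem t (g : Big) := Iff.rfl

instance (t : Fin 6) : DecidablePred (· ∈ Sb t) := fun g =>
  inferInstanceAs (Decidable (Mem t (g : Big)))

/-- its linear character -/
noncomputable def lam (t : Fin 6) : Sb t →* ℂˣ :=
  MonoidHom.toHomUnits
    { toFun := fun g => ev4 (z12 (Fin.ofNat 12 (expo t ((g : Four) : Big))))
      map_one' := by
        rw [show ((((1 : Sb t) : Four) : Big)) = 1 from rfl, (mem_one t).2]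
        exact ev4_z12_zero
      map_mul' := fun a b => by
        rw [← ev4_z12]
        congr 2
        show Fin.ofNat 12 (expo t (((a : Four) : Big) * ((b : Four) : Big))) = _
        rw [(mem_mul t a.2 b.2).2]
        ext
        simp [Fin.val_add, Nat.add_mod] }

theorem extendByZero_lam (t : Fin 6) (y : Four) :
    Cfsg.extendByZero (Sb t) (fun s => (lam t s : ℂ)) y = ev4 (term t (y : Big)) := by
  by_cases h : Mem t (y : Big)
  · rw [extendByZero_of_mem _ ((mem_Sb t y).mpr h), term, if_pos h]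
    rfl
  · rw [extendByZero_of_not_mem _ (mt (mem_Sb t y).mp h), term, if_neg h]
    exact ev4.map_zero.symm

theorem card_Sb (t : Fin 6) : Nat.card (Sb t) = (subList t).length := by
  obtain ⟨-, -, -, -, hnd, hall⟩ := trList_facts t
  rw [← List.toFinset_card_of_nodup hnd, Nat.card_eq_fintype_card]
  refine Finset.card_bij (fun g _ => ((g : Four) : Big)) (fun g _ => ?_) (fun a _ b _ h => ?_)
    (fun b hb => ?_)
  · exact List.mem_toFinset.mpr (mem_subList t _ _ g.2)
  · exact Subtype.ext (Subtype.ext h)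
  · have hb' : Mem t b := by simpa using List.all_eq_true.mp hall b (List.mem_toFinset.mp hb)
    exact ⟨⟨⟨b, hb'.1⟩, hb'⟩, Finset.mem_univ _, rfl⟩

theorem card_four : Nat.card Four = 648 := by
  rw [← sum_ev, Nat.card_eq_fintype_card, ← sum_four (fun _ => (1 : ℕ)), Finset.sum_const,
    Finset.card_univ, smul_eq_mul, mul_one]

theorem indFun_lam (t : Fin 6) (g : Four) :
    Cfsg.indFun (Sb t) (fun s => (lam t s : ℂ)) g =
      (rat t (g : Big) : ℂ) + r3 * (irrOf t (g : Big) : ℂ) := by
  classical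
  obtain ⟨hnd, hev, hlen, hpair, -, -⟩ := trList_facts t
  let x : Fin (trList t).length → Four := fun i =>
    ⟨(trList t).get i, of_decide_eq_true (List.all_eq_true.mp hev _ (List.get_mem _ _))⟩
  let Φ : Fin (trList t).length × Sb t → Four := fun p => x p.1 * (p.2 : Four)
  have hinj : Function.Injective Φ := by
    rintro ⟨i, a⟩ ⟨j, b⟩ hab
    have hm : (x i)⁻¹ * x j ∈ Sb t := by
      have h : (x i)⁻¹ * x j = (a : Four) * (b : Four)⁻¹ := by
        rw [eq_mul_inv_iff_mul_eq, mul_assoc, inv_mul_eq_iff_eq_mul]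
        exact hab.symm
      rw [h]
      exact (Sb t).mul_mem a.2 ((Sb t).inv_mem b.2)
    have hij : i = j := by
      by_contra hne
      rcases lt_or_gt_of_ne hne with h | h
      · exact List.pairwise_iff_get.mp hpair i j h hm
      · have hm' := (Sb t).inv_mem hm
        rw [mul_inv_rev, inv_inv] at hm'
        exact List.pairwise_iff_get.mp hpair j i h hm'
    subst hij
    exact Prod.ext rfl (Subtype.ext (mul_left_cancel hab))
  have hbij : Function.Bijective Φ := by
    refine (Fintype.bijective_iff_injective_and_card Φ).mpr ⟨hinj, ?_⟩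
    rw [Fintype.card_prod, Fintype.card_fin, ← Nat.card_eq_fintype_card (α := Sb t), card_Sb,
      ← Nat.card_eq_fintype_card, card_four, mul_comm, hlen]
  have hcl : ∀ (s : Sb t) (z : Four),
      Cfsg.extendByZero (Sb t) (fun s => (lam t s : ℂ)) ((s : Four)⁻¹ * z * s) =
        Cfsg.extendByZero (Sb t) (fun s => (lam t s : ℂ)) z := by
    intro s z
    by_cases hz : z ∈ Sb t
    · have hm : (s : Four)⁻¹ * z * s ∈ Sb t := (Sb t).mul_mem ((Sb t).mul_mem ((Sb t).inv_mem s.2) hz) s.2
      rw [extendByZero_of_mem _ hm, extendByZero_of_mem _ hz,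
        show (⟨_, hm⟩ : Sb t) = s⁻¹ * ⟨z, hz⟩ * s from rfl, map_mul, map_mul, map_inv,
        mul_comm ((lam t s)⁻¹), inv_mul_cancel_right]
    · rw [extendByZero_of_not_mem _ hz, extendByZero_of_not_mem _ fun hm => hz ?_]
      have := (Sb t).mul_mem ((Sb t).mul_mem s.2 hm) ((Sb t).inv_mem s.2)
      simpa [mul_assoc] using this
  have hterm : ∀ i, Cfsg.extendByZero (Sb t) (fun s => (lam t s : ℂ)) ((x i)⁻¹ * g * x i) =
      ev4 (term t (((trList t).get i)⁻¹ * (g : Big) * (trList t).get i)) := fun i => by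
    rw [extendByZero_lam]; rfl
  have hsum : ∑ y : Four, Cfsg.extendByZero (Sb t) (fun s => (lam t s : ℂ)) (y⁻¹ * g * y) =
      (Nat.card (Sb t) : ℂ) *
        ev4 (((trList t).map fun x => term t (x⁻¹ * (g : Big) * x)).sum) := by
    rw [← Fintype.sum_bijective Φ hbij _ _ (fun _ => rfl), Fintype.sum_prod_type]
    simp only [Φ, mul_inv_rev]
    have h1 : ∀ i (s : Sb t), (s : Four)⁻¹ * (x i)⁻¹ * g * (x i * (s : Four)) =
        (s : Four)⁻¹ * ((x i)⁻¹ * g * x i) * s := fun i s => by group
    simp only [h1, hcl, hterm, Finset.sum_const, Finset.card_univ, nsmul_eq_mul,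
      ← Finset.mul_sum, Nat.card_eq_fintype_card]
    congr 1
    rw [map_list_sum, List.map_map, ← List.sum_ofFn]
    congr 1
    conv_rhs => rw [← List.ofFn_get (trList t), List.map_ofFn]
    rfl
  rw [indFun_def, hsum, inv_mul_cancel_left₀ natCard_ne_zero]
  have h := ind_table t (g : Big).left (g : Big).right g.2
  rw [show (⟨(g : Big).left, (g : Big).right⟩ : Big) = (g : Big) from rfl] at h
  rw [h, ev4_apply]
  push_cast
  ring

theorem gen_mono (t : Fin 6) : Cfsg.IsGeneralizedCharacter Four fun g =>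
    (rat t (g : Big) : ℂ) + r3 * (irrOf t (g : Big) : ℂ) := by
  have h := isGeneralized_indFun (Sb t)
    (isGeneralized_of_isCharacter (irr_isCharacter (isIrrCharacter_linear (lam t))))
  convert h using 1
  funext g
  exact (indFun_lam t g).symm

/-- the sign as a linear character -/
noncomputable def epsHom : Four →* ℂˣ :=
  MonoidHom.toHomUnits
    { toFun := fun g => (epsP (g : Big) : ℂ)
      map_one' := by
        show ((ThreeCube.dsgn (1 : DihedralGroup 3) : ℤ) : ℂ) = 1
        rw [show ThreeCube.dsgn (1 : DihedralGroup 3) = 1 from rfl, Int.cast_one]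
      map_mul' := fun a b => by
        show ((ThreeCube.dsgn ((a : Big).right * (b : Big).right) : ℤ) : ℂ) = _
        rw [dsgn_mul]; push_cast; rfl }

theorem gen_epsP : Cfsg.IsGeneralizedCharacter Four fun g => (epsP (g : Big) : ℂ) :=
  isGeneralized_of_isCharacter (irr_isCharacter (isIrrCharacter_linear epsHom))

theorem gen_sig : Cfsg.IsGeneralizedCharacter Four fun g => (sig (g : Big).right : ℂ) := by
  have h := isGeneralized_sub (isGeneralized_of_isCharacter (isCharacter_comp
    (Perm.isCharacter_permChar (G := Equiv.Perm (Fin 3)) (Ω := Fin 3))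
    (ThreeCube.dPerm.comp (SemidirectProduct.rightHom.comp Four.subtype))))
    (isGeneralized_of_isCharacter (isCharacter_one (G := Four)))
  convert h using 1
  funext g
  simp only [show ∀ p, sig p = ThreeCube.dtwo p from by decide +kernel, ThreeCube.dtwo_eq,
    Pi.sub_apply, Function.comp_apply, Perm.permChar]
  push_cast
  rw [Nat.card_eq_fintype_card]
  congr 2
  rw [Fintype.card_subtype]
  rfl

/-- the eight class functions -/
noncomputable def theta (j : Fin 8) (g : Four) : ℂ :=
  (vecA j (g : Big) : ℂ) + r3 * (vecB j (g : Big) : ℂ)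

theorem gen_theta (j : Fin 8) : Cfsg.IsGeneralizedCharacter Four (theta j) := by
  have one := isGeneralized_of_isCharacter (isCharacter_one (G := Four))
  have hq := gen_epsP
  have hs := gen_sig
  have hp := isGeneralized_sub (gen_mono 5) one
  have hqq := isGeneralized_mul hp hq
  fin_cases j
  · convert isGeneralized_sub (gen_mono 2) (gen_mono 3) using 1
    funext g; simp [theta, vecA, vecB, irrOf]
  · convert isGeneralized_sub (gen_mono 1) (isGeneralized_mul (gen_mono 1) hq) using 1
    funext g; simp [theta, vecA, vecB, irrOf]; ring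
  · convert isGeneralized_sub (isGeneralized_sub (gen_mono 2) (gen_mono 1)) hs using 1
    funext g; simp [theta, vecA, vecB, irrOf]; ring
  · convert isGeneralized_sub (isGeneralized_sub (gen_mono 1) hp) hqq using 1
    funext g; simp [theta, vecA, vecB, irrOf, chP, chQ]; ring
  · convert isGeneralized_add (isGeneralized_sub (isGeneralized_sub (gen_mono 0) (gen_mono 2)) one)
      hp using 1
    funext g; simp [theta, vecA, vecB, irrOf, chP]
  · convert isGeneralized_sub (isGeneralized_sub (isGeneralized_sub (gen_mono 4) (gen_mono 2)) one)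
      hp using 1
    funext g; simp [theta, vecA, vecB, irrOf, chP]
  · convert isGeneralized_add (isGeneralized_sub (isGeneralized_sub
      (isGeneralized_mul (gen_mono 0) hq) (gen_mono 2)) hq) hqq using 1
    funext g; simp [theta, vecA, vecB, irrOf, chP, chQ]
  · convert isGeneralized_sub (isGeneralized_sub (isGeneralized_sub
      (isGeneralized_mul (gen_mono 4) hq) (gen_mono 2)) hq) hqq using 1
    funext g; simp [theta, vecA, vecB, irrOf, chP, chQ]

end CfsgLib.Block.FourCube
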