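import Cfsg.Agent.Lib.Block.FourModel

/-!
Finite facts about the group of order 648.
-/

set_option autoImplicit false
set_option linter.all false
set_option maxRecDepth 4000

namespace CfsgLib.Block.FourCube

open ThreeCube (Tri eps comp dsgn)

def gc : Big := ⟨(.r 1, .r 0, .r 0), .r 0⟩
def gd : Big := ⟨(.sr 0, .sr 0, .r 0), .r 0⟩
def gt : Big := ⟨(.r 0, .r 0, .r 0), .r 1⟩
def gs : Big := ⟨(.sr 0, .r 0, .r 0), .sr 0⟩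
def gz : Big := ⟨(.r 1, .r 1, .r 1), .r 0⟩

theorem gens_ev : Ev gc ∧ Ev gd ∧ Ev gt ∧ Ev gs ∧ Ev gz := by decide +kernel

theorem gens_rel : gd * gc * gd = gc * gc ∧ gd * gd = 1 ∧ gs * gs = 1 ∧ gt * gt * gt = 1 ∧
    gt * gt * gd * (gt * gt)⁻¹ = gd * (gt * gd * gt⁻¹) ∧ gs * gt * gs = gd * (gt * gt) := by
  decide +kernel

theorem gens_inJ : InJ gc ∧ InJ1 gz ∧ gz * gt = gt * gz ∧ gd.right = 1 ∧ gt.right = .r 1 ∧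
    dsgn gs.right = -1 := by
  decide +kernel

/-- conjugating elements for the weight one rotations -/
def conjL : List Big := [1, gt, gt * gt, gd, gt * gd, gt * gt * gd]

theorem conjL_ev : conjL.all (fun x => decide (Ev x)) = true := by decide +kernel

/-- the six rotations of weight one -/
def sixL : List Big := conjL.map fun x => x * gc * x⁻¹

/-- one rotation for each cyclic subgroup -/
def jL : List Big := [⟨(.r 1, .r 0, .r 0), .r 0⟩, ⟨(.r 0, .r 1, .r 0), .r 0⟩,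
  ⟨(.r 0, .r 0, .r 1), .r 0⟩, ⟨(.r 1, .r 1, .r 0), .r 0⟩, ⟨(.r 1, .r 2, .r 0), .r 0⟩,
  ⟨(.r 1, .r 0, .r 1), .r 0⟩, ⟨(.r 1, .r 0, .r 2), .r 0⟩, ⟨(.r 0, .r 1, .r 1), .r 0⟩,
  ⟨(.r 0, .r 1, .r 2), .r 0⟩, ⟨(.r 1, .r 1, .r 1), .r 0⟩, ⟨(.r 1, .r 1, .r 2), .r 0⟩,
  ⟨(.r 1, .r 2, .r 1), .r 0⟩, ⟨(.r 1, .r 2, .r 2), .r 0⟩]

theorem jL_inJ : jL.all (fun z => decide (InJ1 z)) = true := by decide +kernel

/-- the centraliser order in the group -/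
def cc (g : Big) : ℕ :=
  ∑ a : Tri, ∑ p : DihedralGroup 3,
    if Ev (⟨a, p⟩ : Big) ∧ g * ⟨a, p⟩ = (⟨a, p⟩ : Big) * g then 1 else 0

theorem cc_weight : ∀ a : Tri, InJ (⟨a, 1⟩ : Big) → cc ⟨a, 1⟩ = cc gc →
    (⟨a, 1⟩ : Big) ∈ sixL := by
  decide +kernel

theorem inv₂_six : ∀ s ∈ invL₂, ∃ z ∈ sixL, z * s = s * z := by decide +kernel

set_option synthInstance.maxSize 4096 in
theorem inv₆_cent : ∀ s ∈ invL₆, ∃ z ∈ jL, z * s = s * z ∧ z ∉ sixL ∧ z * z ∉ sixL ∧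
    ∀ a : Tri, InJ (⟨a, 1⟩ : Big) → (⟨a, 1⟩ : Big) * s = s * ⟨a, 1⟩ →
      (⟨a, 1⟩ : Big) = 1 ∨ (⟨a, 1⟩ : Big) = z ∨ (⟨a, 1⟩ : Big) = z * z := by
  decide +kernel

theorem gt_cent : ∀ a : Tri, InJ (⟨a, 1⟩ : Big) → (⟨a, 1⟩ : Big) * gt = gt * ⟨a, 1⟩ →
    (⟨a, 1⟩ : Big) = 1 ∨ (⟨a, 1⟩ : Big) = gz ∨ (⟨a, 1⟩ : Big) = gz * gz := by
  decide +kernel

/-- the ninth power is one -/
def ThreePow (g : Big) : Prop := g * g * g * (g * g * g) * (g * g * g) = 1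

instance : DecidablePred ThreePow := fun g => inferInstanceAs (Decidable (_ = _))

theorem threePow_pow : ∀ a p, ((⟨a, p⟩ : Big) * ⟨a, p⟩ * ⟨a, p⟩ = 1 → ThreePow (⟨a, p⟩ : Big)) ∧
    (Ev (⟨a, p⟩ : Big) → (let c := fun g : Big => g * g * g;
      c (c (c (c (⟨a, p⟩ : Big)))) = 1) → ThreePow (⟨a, p⟩ : Big)) := by
  decide +kernel

theorem three_cent : ∀ a p, Ev (⟨a, p⟩ : Big) → ThreePow (⟨a, p⟩ : Big) →
    ∃ z ∈ jL, z * ⟨a, p⟩ = (⟨a, p⟩ : Big) * z := by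
  decide +kernel

theorem notJ_witness : ∀ a p, Ev (⟨a, p⟩ : Big) → ¬ InJ (⟨a, p⟩ : Big) →
    ¬ ThreePow (⟨a, p⟩ : Big) ∨ ∃ x ∈ [gc, gd, gt, gs],
      ¬ ThreePow ((⟨a, p⟩ : Big) * (x * (⟨a, p⟩ : Big)⁻¹ * x⁻¹)) := by
  decide +kernel

theorem inJ_mul : ∀ a b : Tri, InJ (⟨a, 1⟩ : Big) → InJ (⟨b, 1⟩ : Big) →
    InJ ((⟨a, 1⟩ : Big) * ⟨b, 1⟩) ∧ (⟨a, 1⟩ : Big) * ⟨b, 1⟩ = (⟨b, 1⟩ : Big) * ⟨a, 1⟩ ∧
    (⟨a, 1⟩ : Big) * ⟨a, 1⟩ * ⟨a, 1⟩ = 1 ∧ InJ (⟨a, 1⟩ : Big)⁻¹ := by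
  decide +kernel

theorem inJ_conj : ∀ x ∈ [gc, gd, gt, gs], ∀ a : Tri, InJ (⟨a, 1⟩ : Big) →
    InJ (x * ⟨a, 1⟩ * x⁻¹) := by
  decide +kernel

theorem card_ev : (∑ a : Tri, ∑ p : DihedralGroup 3,
    if Ev (⟨a, p⟩ : Big) then 1 else 0 : ℕ) = 648 ∧
    (∑ a : Tri, ∑ p : DihedralGroup 3, if InJ (⟨a, p⟩ : Big) then 1 else 0 : ℕ) = 27 ∧
    (∑ a : Tri, ∑ p : DihedralGroup 3,
      if Ev (⟨a, p⟩ : Big) ∧ dsgn p = 1 then 1 else 0 : ℕ) = 324 := by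
  decide +kernel

theorem inJ_ev : ∀ a p, InJ (⟨a, p⟩ : Big) → Ev (⟨a, p⟩ : Big) ∧ dsgn p = 1 := by decide +kernel

def rnum : DihedralGroup 3 → ℕ
  | .r i => i.val
  | .sr i => i.val

def rotPart : DihedralGroup 3 → ℕ
  | .r i => i.val
  | .sr i => (-i : ZMod 3).val

def fl : DihedralGroup 3 → ℕ
  | .r _ => 0
  | .sr _ => 1

/-- a word in the generators -/
def word (g : Big) : Big :=
  let tail := gt ^ rotPart g.right * gs ^ fl g.right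
  let h := g * tail⁻¹
  let v := (gt * gd * gt⁻¹) ^ fl h.left.2.2 * gd ^ fl h.left.2.1
  let j := h * v⁻¹
  gc ^ rnum j.left.1 * (gt * gt * gc * (gt * gt)⁻¹) ^ rnum j.left.2.1 *
    (gt * gc * gt⁻¹) ^ rnum j.left.2.2 * v * tail

theorem word_eq : ∀ a p, Ev (⟨a, p⟩ : Big) → word (⟨a, p⟩ : Big) = ⟨a, p⟩ := by decide +kernel

theorem right_even : ∀ p : DihedralGroup 3, dsgn p = 1 → p = .r 0 ∨ p = .r 1 ∨ p = .r 1 * .r 1 := by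
  decide +kernel

theorem inl_evn : ∀ a : Tri, (Ev (⟨a, 1⟩ : Big) ↔ ThreeCube.Evn a) ∧
    (InJ (⟨a, 1⟩ : Big) ↔ ThreeCube.Plus a) := by
  decide +kernel

end CfsgLib.Block.FourCube
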