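import Cfsg.Agent.Lib.Block.PairTrick

/-!
Sums over pairs drawn from two conjugation invariant sets of involutions.
-/

set_option autoImplicit false
set_option linter.all false

namespace CfsgLib.Block.PairSets

open CfsgLib.Char

universe u

variable {G : Type u} [Group G] [Fintype G]

theorem sum_conj {M : Type*} [AddCommMonoid M] {S : Finset G}
    (hS : ∀ s ∈ S, ∀ x : G, x * s * x⁻¹ ∈ S) (f : G → M) (x : G) :
    ∑ t ∈ S, f (x * t * x⁻¹) = ∑ t ∈ S, f t := by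
  refine Finset.sum_nbij' (fun t => x * t * x⁻¹) (fun t => x⁻¹ * t * x)
    (fun t ht => hS t ht x) (fun t ht => ?_) (fun t _ => by group) (fun t _ => by group)
    (fun t _ => rfl)
  simpa using hS t ht x⁻¹

theorem pairs_irr {S : Finset G} (hS : ∀ s ∈ S, ∀ x : G, x * s * x⁻¹ ∈ S) (T : Finset G)
    (χ : Cfsg.IrrCharacter G) :
    ∑ t ∈ T, ∑ s ∈ S, (χ : G → ℂ) (t * s) =
      (∑ t ∈ T, (χ : G → ℂ) t) * (∑ s ∈ S, (χ : G → ℂ) s) / (χ : G → ℂ) 1 := by
  refine mul_left_cancel₀ (natCard_ne_zero (G := G)) ?_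
  have h1 : (Nat.card G : ℂ) * ∑ t ∈ T, ∑ s ∈ S, (χ : G → ℂ) (t * s) =
      ∑ t ∈ T, ∑ s ∈ S, ∑ x : G, (χ : G → ℂ) (t * (x * s * x⁻¹)) := by
    rw [Finset.mul_sum]
    refine Finset.sum_congr rfl fun t _ => ?_
    rw [Finset.sum_comm]
    simp_rw [fun x : G => sum_conj hS (fun s => (χ : G → ℂ) (t * s)) x]
    rw [Finset.sum_const, Finset.card_univ, nsmul_eq_mul, Nat.card_eq_fintype_card]
  rw [h1]
  simp_rw [BlockB.sum_irr_mul_conj χ, Finset.sum_mul_sum, mul_div_assoc', Finset.mul_sum,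
    Finset.sum_div]
  exact Finset.sum_congr rfl fun s _ => Finset.sum_congr rfl fun t _ => by ring

theorem sum_indFun (H : Subgroup G) (S : Finset G) (hS : ∀ s ∈ S, s * s = 1) (v : H → ℂ)
    (hv : ∀ a : H, a * a = 1 → v a = 0) : ∑ t ∈ S, Cfsg.indFun H v t = 0 := by
  refine Finset.sum_eq_zero fun t ht => ?_
  rw [indFun_def, Finset.sum_eq_zero, mul_zero]
  intro x _
  by_cases hm : x⁻¹ * t * x ∈ H
  · rw [extendByZero_of_mem _ hm]
    refine hv _ (Subtype.ext ?_)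
    rw [Subgroup.coe_mul, Subgroup.coe_one, show (x⁻¹ * t * x) * (x⁻¹ * t * x) =
      x⁻¹ * (t * t) * x by group, hS t ht]
    group
  · exact extendByZero_of_not_mem _ hm

open scoped Classical in
theorem pairs_indFun (H : Subgroup G) [Fintype H] (S T : Finset G)
    (hS : ∀ s ∈ S, ∀ x : G, x * s * x⁻¹ ∈ S) (hT : ∀ s ∈ T, ∀ x : G, x * s * x⁻¹ ∈ T)
    (v : H → ℂ) (hloc : ∀ s ∈ S, ∀ t ∈ T, ∀ h : s * t ∈ H, v ⟨s * t, h⟩ ≠ 0 → s ∈ H) :
    ∑ s ∈ S, ∑ t ∈ T, Cfsg.indFun H v (s * t) = (Nat.card G : ℂ) / (Nat.card H : ℂ) *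
      ∑ s ∈ Finset.univ.filter (fun s : H => (s : G) ∈ S),
        ∑ t ∈ Finset.univ.filter (fun t : H => (t : G) ∈ T), v (s * t) := by
  have hx : ∀ x : G, ∑ s ∈ S, ∑ t ∈ T, Cfsg.extendByZero H v (x⁻¹ * (s * t) * x) =
      ∑ s ∈ S, ∑ t ∈ T, Cfsg.extendByZero H v (s * t) := by
    intro x
    rw [← sum_conj hS _ x]
    refine Finset.sum_congr rfl fun s _ => ?_
    rw [← sum_conj hT _ x]
    refine Finset.sum_congr rfl fun t _ => ?_
    congr 1
    group
  have hmap : ∀ U : Finset G, (Finset.univ.filter fun s : H => (s : G) ∈ U).map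
      ⟨Subtype.val, Subtype.val_injective⟩ = U.filter (· ∈ H) := fun U => by
    ext x
    simp only [Finset.mem_filter, Finset.mem_map, Function.Embedding.coeFn_mk, Finset.mem_univ,
      true_and]
    exact ⟨fun ⟨a, ha, hax⟩ => hax ▸ ⟨ha, a.2⟩, fun h => ⟨⟨x, h.2⟩, h.1, rfl⟩⟩
  have hz : ∀ s ∈ S, ∀ t ∈ T, (s ∉ H ∨ t ∉ H) → Cfsg.extendByZero H v (s * t) = 0 := by
    intro s hs t ht hst
    by_cases hm : s * t ∈ H
    · rw [extendByZero_of_mem _ hm]
      by_contra h0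
      have hsH := hloc s hs t ht hm h0
      rcases hst with h | h
      · exact h hsH
      · exact h (by simpa using H.mul_mem (H.inv_mem hsH) hm)
    · exact extendByZero_of_not_mem _ hm
  have h2 : ∑ s ∈ S, ∑ t ∈ T, Cfsg.extendByZero H v (s * t) =
      ∑ s ∈ Finset.univ.filter (fun s : H => (s : G) ∈ S),
        ∑ t ∈ Finset.univ.filter (fun t : H => (t : G) ∈ T), v (s * t) := by
    rw [← Finset.sum_filter_of_ne (p := (· ∈ H)) (fun s hs hne => by_contra fun h =>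
      hne (Finset.sum_eq_zero fun t ht => hz s hs t ht (Or.inl h))), ← hmap, Finset.sum_map]
    refine Finset.sum_congr rfl fun s hs => ?_
    show ∑ t ∈ T, Cfsg.extendByZero H v ((s : G) * t) = _
    rw [← Finset.sum_filter_of_ne (p := (· ∈ H)) (fun t ht hne => by_contra fun h =>
      hne (hz _ (Finset.mem_filter.mp hs).2 t ht (Or.inr h))), ← hmap, Finset.sum_map]
    exact Finset.sum_congr rfl fun t _ => extendByZero_coe H v (s * t)
  have h1 : ∑ s ∈ S, ∑ t ∈ T, Cfsg.indFun H v (s * t) = (Nat.card H : ℂ)⁻¹ * ∑ x : G,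
      ∑ s ∈ S, ∑ t ∈ T, Cfsg.extendByZero H v (x⁻¹ * (s * t) * x) := by
    simp only [indFun_def, Finset.mul_sum]
    rw [eq_comm, Finset.sum_comm]
    exact Finset.sum_congr rfl fun s _ => Finset.sum_comm
  rw [h1, Finset.sum_congr rfl fun x _ => hx x, Finset.sum_const, Finset.card_univ, nsmul_eq_mul,
    h2, Nat.card_eq_fintype_card (α := G)]
  field_simp

end CfsgLib.Block.PairSets
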