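import Cfsg.Agent.Lib.Block.Four
import Cfsg.Prelude.Def_Solvable

/-!
The model of order 648 inside `Sym(9)` and its 3-core.
-/

set_option autoImplicit false
set_option linter.all false
set_option maxRecDepth 4000

namespace CfsgLib.Block.FourCube

open ThreeCube (Tri comp dPermFun dPermFun_mul compHom)

def blockFun (a : Tri) : Equiv.Perm (Fin 9) :=
  finProdFinEquiv.permCongr (Equiv.prodCongrRight fun i : Fin 3 => dPermFun (comp i a))

def moveFun (p : DihedralGroup 3) : Equiv.Perm (Fin 9) :=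
  finProdFinEquiv.permCongr (Equiv.prodCongrLeft fun _ : Fin 3 => dPermFun p)

theorem blockFun_mul (a b : Tri) : blockFun (a * b) = blockFun a * blockFun b := by
  ext x
  obtain ⟨p, rfl⟩ := (finProdFinEquiv : Fin 3 × Fin 3 ≃ Fin 9).surjective x
  have h : ∀ i, comp i (a * b) = comp i a * comp i b := fun i => (compHom i).map_mul a b
  simp [blockFun, Equiv.prodCongrRight, h, dPermFun_mul]

theorem moveFun_mul : ∀ p q, moveFun (p * q) = moveFun p * moveFun q := by decide +kernel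

theorem move_block : ∀ p a, blockFun (permTri p a) = moveFun p * blockFun a * (moveFun p)⁻¹ := by
  decide +kernel

/-- the action on nine points -/
def toNine : Big →* Equiv.Perm (Fin 9) :=
  SemidirectProduct.lift (MonoidHom.mk' blockFun blockFun_mul) (MonoidHom.mk' moveFun moveFun_mul)
    fun p => MonoidHom.ext fun a => move_block p a

theorem toNine_ker : ∀ a p, blockFun a * moveFun p = 1 → (⟨a, p⟩ : Big) = 1 := by decide +kernel

theorem toNine_injective : Function.Injective toNine :=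
  (injective_iff_map_eq_one toNine).mpr fun g h => toNine_ker g.left g.right h

abbrev k₁ : Equiv.Perm (Fin 9) := Equiv.swap 0 1 * Equiv.swap 1 2
abbrev k₂ : Equiv.Perm (Fin 9) :=
  Equiv.swap 0 3 * Equiv.swap 3 6 * (Equiv.swap 1 4 * Equiv.swap 4 7) * (Equiv.swap 2 5 * Equiv.swap 5 8)
abbrev k₃ : Equiv.Perm (Fin 9) := Equiv.swap 0 1 * Equiv.swap 3 4
abbrev k₄ : Equiv.Perm (Fin 9) :=
  Equiv.swap 0 3 * Equiv.swap 1 4 * Equiv.swap 2 5 * Equiv.swap 6 7

def m₁ : Big := ⟨(.r 2, .r 0, .r 0), .r 0⟩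
def m₂ : Big := ⟨(.r 0, .r 0, .r 0), .r 2⟩
def m₃ : Big := ⟨(.sr 1, .sr 1, .r 0), .r 0⟩
def m₄ : Big := ⟨(.r 0, .r 0, .sr 1), .sr 1⟩

theorem m_facts : Ev m₁ ∧ Ev m₂ ∧ Ev m₃ ∧ Ev m₄ ∧
    blockFun m₁.left * moveFun m₁.right = k₁ ∧ blockFun m₂.left * moveFun m₂.right = k₂ ∧
    blockFun m₃.left * moveFun m₃.right = k₃ ∧ blockFun m₄.left * moveFun m₄.right = k₄ ∧
    gc = m₁ * m₁ ∧ gt = m₂ * m₂ ∧ gd = m₃ * m₁ * (m₂ * m₁ * m₂⁻¹) ∧
    gs = m₄ * m₂ * gd * (m₂ * m₁ * m₂⁻¹ * (m₂ * m₁ * m₂⁻¹)) := by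
  decide +kernel

theorem map_toNine :
    Four.map toNine = Subgroup.closure ({k₁, k₂, k₃, k₄} : Set (Equiv.Perm (Fin 9))) := by
  obtain ⟨v1, v2, v3, v4, a1, a2, a3, a4, b1, b2, b3, b4⟩ := m_facts
  refine le_antisymm ?_ ((Subgroup.closure_le _).mpr ?_)
  · rintro _ ⟨a, ha, rfl⟩
    set C := Subgroup.closure ({k₁, k₂, k₃, k₄} : Set (Equiv.Perm (Fin 9))) with hC
    have n1 : toNine m₁ ∈ C := by show blockFun _ * moveFun _ ∈ C; rw [a1]; exact Subgroup.subset_closure (by simp)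
    have n2 : toNine m₂ ∈ C := by show blockFun _ * moveFun _ ∈ C; rw [a2]; exact Subgroup.subset_closure (by simp)
    have n3 : toNine m₃ ∈ C := by show blockFun _ * moveFun _ ∈ C; rw [a3]; exact Subgroup.subset_closure (by simp)
    have n4 : toNine m₄ ∈ C := by show blockFun _ * moveFun _ ∈ C; rw [a4]; exact Subgroup.subset_closure (by simp)
    have nc : toNine gc ∈ C := by rw [b1, map_mul]; exact mul_mem n1 n1
    have nt : toNine gt ∈ C := by rw [b2, map_mul]; exact mul_mem n2 n2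
    have nd : toNine gd ∈ C := by
      rw [b3]; simp only [map_mul, map_inv]
      exact mul_mem (mul_mem n3 n1) (mul_mem (mul_mem n2 n1) (inv_mem n2))
    have ns : toNine gs ∈ C := by
      rw [b4]; simp only [map_mul, map_inv]
      exact mul_mem (mul_mem (mul_mem n4 n2) nd)
        (mul_mem (mul_mem (mul_mem n2 n1) (inv_mem n2)) (mul_mem (mul_mem n2 n1) (inv_mem n2)))
    have hw := word_eq a.left a.right ha
    rw [show (⟨a.left, a.right⟩ : Big) = a from rfl] at hw
    rw [← hw]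
    simp only [word, map_mul, map_pow, map_inv]
    exact mul_mem (mul_mem (mul_mem (mul_mem (pow_mem nc _)
      (pow_mem (mul_mem (mul_mem (mul_mem nt nt) nc) (inv_mem (mul_mem nt nt))) _))
      (pow_mem (mul_mem (mul_mem nt nc) (inv_mem nt)) _))
      (mul_mem (pow_mem (mul_mem (mul_mem nt nd) (inv_mem nt)) _) (pow_mem nd _)))
      (mul_mem (pow_mem nt _) (pow_mem ns _))
  · rintro x (rfl | rfl | rfl | rfl)
    exacts [⟨m₁, v1, a1⟩, ⟨m₂, v2, a2⟩, ⟨m₃, v3, a3⟩, ⟨m₄, v4, a4⟩]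

/-- the model is the given permutation group -/
noncomputable def fourEquiv :
    Four ≃* Subgroup.closure ({k₁, k₂, k₃, k₄} : Set (Equiv.Perm (Fin 9))) :=
  (Four.equivMapOfInjective toNine toNine_injective).trans (MulEquiv.subgroupCongr map_toNine)

theorem inJ_normal : ∀ a p, Ev (⟨a, p⟩ : Big) → ∀ b : Tri, InJ (⟨b, 1⟩ : Big) →
    InJ ((⟨a, p⟩ : Big) * ⟨b, 1⟩ * (⟨a, p⟩ : Big)⁻¹) := by
  decide +kernel

theorem mem_pCore {H : Type*} [Group H] [Finite H] (e : Four ≃* H) (h : H) :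
    h ∈ Cfsg.pCore 3 H ↔ InJ ((e.symm h : Four) : Big) := by
  have : Fact (Nat.Prime 3) := ⟨Nat.prime_three⟩
  let tr : H →* Big := Four.subtype.comp e.symm.toMonoidHom
  have htr : Function.Injective tr := fun a b hab => e.symm.injective (Subtype.ext hab)
  let N : Subgroup H :=
    { carrier := {x | InJ (tr x)}
      one_mem' := by show InJ (tr 1); rw [map_one]; decide +kernel
      mul_mem' := fun {a b} ha hb => by
        show InJ (tr (a * b))
        rw [map_mul, inJ_form ha, inJ_form hb]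
        exact (inJ_mul _ _ (by rwa [← inJ_form ha]) (by rwa [← inJ_form hb])).1
      inv_mem' := fun {a} ha => by
        show InJ (tr a⁻¹)
        rw [map_inv, inJ_form ha]
        exact (inJ_mul _ _ (by rwa [← inJ_form ha]) (by rwa [← inJ_form ha])).2.2.2 }
  have hN : N.Normal := ⟨fun n hn g => by
    show InJ (tr (g * n * g⁻¹))
    rw [map_mul, map_mul, map_inv, inJ_form hn]
    exact inJ_normal (tr g).left (tr g).right (e.symm g).2 _ (by rwa [← inJ_form hn])⟩
  have hN3 : IsPGroup 3 N := IsPGroup.iff_orderOf.mpr fun x => by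
    have h3 : x ^ (3 ^ 1) = 1 := Subtype.ext (htr (by
      rw [Subgroup.coe_pow, map_pow, Subgroup.coe_one, map_one, pow_one, pow_succ, pow_two]
      have hx : InJ (tr x) := x.2
      rw [inJ_form hx]
      exact (inJ_mul _ _ (by rwa [← inJ_form hx]) (by rwa [← inJ_form hx])).2.2.1))
    obtain ⟨k, -, hk⟩ := (Nat.dvd_prime_pow Nat.prime_three).mp (orderOf_dvd_of_pow_eq_one h3)
    exact ⟨k, hk⟩
  suffices hEq : Cfsg.pCore 3 H = N by rw [hEq]; exact Iff.rfl
  refine le_antisymm (sSup_le ?_) (le_sSup ⟨hN, hN3⟩)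
  rintro M ⟨hM, hM3⟩ x hx
  have hthree : ∀ y ∈ M, ThreePow (tr y) := fun y hy => by
    obtain ⟨k, hk⟩ := hM3 ⟨y, hy⟩
    have h648 : orderOf y ∣ 648 := by
      rw [← card_four, Nat.card_congr e.toEquiv]
      exact orderOf_dvd_natCard y
    have hk' : orderOf y ∣ 3 ^ k :=
      orderOf_dvd_of_pow_eq_one (congrArg Subtype.val hk)
    obtain ⟨i, -, hi⟩ := (Nat.dvd_prime_pow Nat.prime_three).mp hk'
    have hi4 : i ≤ 4 := by
      by_contra hc
      have := (pow_dvd_pow 3 (show 5 ≤ i by omega)).trans (hi ▸ h648)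
      norm_num at this
    have h81 : y ^ 81 = 1 := orderOf_dvd_iff_pow_eq_one.mp (hi ▸ pow_dvd_pow 3 hi4)
    refine (threePow_pow (tr y).left (tr y).right).2 (e.symm y).2 ?_
    show _ = (1 : Big)
    have hc : ∀ g : Big, g * g * g = g ^ 3 := fun g => by rw [pow_succ, pow_two]
    simp only [hc, ← pow_mul]
    rw [show (⟨(tr y).left, (tr y).right⟩ : Big) = tr y from rfl, ← map_pow, h81, map_one]
  by_contra hxN
  rcases notJ_witness (tr x).left (tr x).right (e.symm x).2 hxN with hw | ⟨g, hg, hw⟩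
  · exact hw (hthree x hx)
  · have hge : Ev g := by
      obtain ⟨e1, e2, e3, e4, -⟩ := gens_ev
      simp only [List.mem_cons, List.not_mem_nil, or_false] at hg
      rcases hg with rfl | rfl | rfl | rfl <;> assumption
    have hm := hthree _ (M.mul_mem hx (hM.conj_mem x⁻¹ (M.inv_mem hx) (e ⟨g, hge⟩)))
    refine hw ?_
    rw [map_mul, map_mul, map_mul, map_inv, map_inv, show tr (e ⟨g, hge⟩) = g by simp [tr]] at hm
    exact hm

end CfsgLib.Block.FourCube
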