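import Cfsg.Agent.Lib.Block.FourFacts
import Cfsg.Agent.Lib.Block.FourChar
import Cfsg.Prelude.Def_TwoFusion

/-!
Fusion in a group with a strongly closed `3^3` whose nontrivial centralisers lie in `3^3 : S₄`.
-/

set_option autoImplicit false
set_option linter.all false
set_option maxRecDepth 4000

namespace CfsgLib.Block.FourCube

universe u

variable {G : Type u} [Group G]

/-- the hypotheses -/
structure Setup (H J : Subgroup G) where
  e : Four ≃* H
  mem_J : ∀ a : Four, ((e a : H) : G) ∈ J ↔ InJ (a : Big)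
  cent : ∀ j ∈ J, j ≠ 1 → Subgroup.centralizer ({j} : Set G) ≤ H
  closed : Cfsg.IsStronglyClosed J H

variable {H J : Subgroup G} (D : Setup H J)
include D

/-- coordinates -/
noncomputable def Setup.tr : H →* Big := Four.subtype.comp D.e.symm.toMonoidHom

theorem Setup.tr_apply (a : Four) : D.tr (D.e a) = (a : Big) := by simp [Setup.tr]

theorem Setup.tr_ev (h : H) : Ev (D.tr h) := (D.e.symm h).2

theorem Setup.tr_injective : Function.Injective D.tr :=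
  fun a b hab => D.e.symm.injective (Subtype.ext hab)

theorem Setup.le : J ≤ H := D.closed.1

theorem Setup.mem_iff (h : H) : (h : G) ∈ J ↔ InJ (D.tr h) := by
  obtain ⟨a, rfl⟩ := D.e.surjective h
  rw [D.tr_apply]; exact D.mem_J a

theorem Setup.mem_iff' {g : G} (hg : g ∈ H) : g ∈ J ↔ InJ (D.tr ⟨g, hg⟩) := D.mem_iff ⟨g, hg⟩

/-- an element of the group, inside `G` -/
noncomputable def Setup.el (g : Big) (h : Ev g) : G := ((D.e ⟨g, h⟩ : H) : G)

theorem Setup.el_mem (g : Big) (h : Ev g) : D.el g h ∈ H := (D.e ⟨g, h⟩).2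

theorem Setup.tr_el (g : Big) (h : Ev g) (hm : D.el g h ∈ H) : D.tr ⟨D.el g h, hm⟩ = g :=
  D.tr_apply ⟨g, h⟩

omit D in
theorem inJ_form {g : Big} (h : InJ g) : g = (⟨g.left, 1⟩ : Big) :=
  SemidirectProduct.ext rfl h.1

theorem Setup.J_three {j : G} (hj : j ∈ J) : j * j * j = 1 := by
  have h := (D.mem_iff' (D.le hj)).mp hj
  have h3 := (inJ_mul _ _ ((inJ_form h) ▸ h) ((inJ_form h) ▸ h)).2.2.1
  rw [← inJ_form h] at h3
  have : (⟨j, D.le hj⟩ : H) * ⟨j, D.le hj⟩ * ⟨j, D.le hj⟩ = 1 := D.tr_injective (by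
    rw [map_mul, map_mul, map_one]; exact h3)
  exact congrArg Subtype.val this

theorem Setup.J_comm {i j : G} (hi : i ∈ J) (hj : j ∈ J) : i * j = j * i := by
  have h := (D.mem_iff' (D.le hi)).mp hi
  have h' := (D.mem_iff' (D.le hj)).mp hj
  have h3 := (inJ_mul _ _ ((inJ_form h) ▸ h) ((inJ_form h') ▸ h')).2.1
  rw [← inJ_form h, ← inJ_form h'] at h3
  have : (⟨i, D.le hi⟩ : H) * ⟨j, D.le hj⟩ = ⟨j, D.le hj⟩ * ⟨i, D.le hi⟩ := D.tr_injective (by
    rw [map_mul, map_mul]; exact h3)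
  exact congrArg Subtype.val this

variable [Finite G]

/-- the number of elements commuting with `t` -/
noncomputable def cn (t : G) : ℕ := Nat.card {g : G // g * t = t * g}

omit D in
theorem cn_conj (x t : G) : cn (x * t * x⁻¹) = cn t := by
  refine Nat.card_congr
    { toFun := fun g => ⟨x⁻¹ * g.1 * x, ?_⟩
      invFun := fun g => ⟨x * g.1 * x⁻¹, ?_⟩
      left_inv := fun g => Subtype.ext (by group)
      right_inv := fun g => Subtype.ext (by group) }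
  · have h := congrArg (fun y => x⁻¹ * y * x) g.2
    simpa [mul_assoc] using h
  · have h := congrArg (fun y => x * y * x⁻¹) g.2
    simpa [mul_assoc] using h

open scoped Classical in
theorem Setup.cn_eq {t : G} (ht : t ∈ J) (ht1 : t ≠ 1) : cn t = cc (D.tr ⟨t, D.le ht⟩) := by
  have h1 : cn t = Nat.card {h : H // D.tr ⟨t, D.le ht⟩ * D.tr h = D.tr h * D.tr ⟨t, D.le ht⟩} := by
    refine Nat.card_congr
      { toFun := fun g => ⟨⟨g.1, D.cent t ht ht1 (Subgroup.mem_centralizer_singleton_iff.mpr g.2)⟩, ?_⟩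
        invFun := fun h => ⟨(h.1 : G), ?_⟩
        left_inv := fun g => rfl
        right_inv := fun h => rfl }
    · rw [← map_mul, ← map_mul]
      exact congrArg _ (Subtype.ext g.2.symm)
    · have h2 := h.2
      rw [← map_mul, ← map_mul] at h2
      exact (congrArg Subtype.val (D.tr_injective h2)).symm
  have h2 : Nat.card {h : H // D.tr ⟨t, D.le ht⟩ * D.tr h = D.tr h * D.tr ⟨t, D.le ht⟩} =
      Nat.card {a : Four // D.tr ⟨t, D.le ht⟩ * (a : Big) = (a : Big) * D.tr ⟨t, D.le ht⟩} :=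
    (Nat.card_congr (Equiv.subtypeEquiv D.e.toEquiv fun a => by
      show _ ↔ D.tr ⟨t, D.le ht⟩ * D.tr (D.e a) = D.tr (D.e a) * D.tr ⟨t, D.le ht⟩
      rw [D.tr_apply])).symm
  rw [h1, h2, Nat.card_eq_fintype_card, Fintype.card_subtype, Finset.card_filter,
    sum_four (fun g => if D.tr ⟨t, D.le ht⟩ * g = g * D.tr ⟨t, D.le ht⟩ then 1 else 0), cc]
  refine Finset.sum_congr rfl fun a _ => Finset.sum_congr rfl fun p _ => ?_
  by_cases h : Ev (⟨a, p⟩ : Big)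
  · simp only [h, true_and, if_true]
  · simp only [h, false_and, if_false]

/-- the rotation of weight one -/
noncomputable def Setup.c : G := D.el gc gens_ev.1

theorem Setup.c_mem : D.c ∈ J ∧ D.c ≠ 1 := by
  refine ⟨(D.mem_iff' (D.el_mem _ _)).mpr ((D.tr_el gc gens_ev.1 _).symm ▸ gens_inJ.1), fun h => ?_⟩
  have h2 : D.tr ⟨D.c, D.el_mem _ _⟩ = 1 := by
    rw [show (⟨D.c, D.el_mem _ _⟩ : H) = 1 from Subtype.ext h, map_one]
  rw [show D.tr ⟨D.c, D.el_mem _ _⟩ = gc from D.tr_el gc gens_ev.1 _] at h2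
  exact absurd h2 (by decide +kernel)

theorem Setup.six_of_cn {t : G} (ht : t ∈ J) (ht1 : t ≠ 1) (hn : cn t = cn D.c) :
    D.tr ⟨t, D.le ht⟩ ∈ sixL := by
  have h := (D.mem_iff' (D.le ht)).mp ht
  rw [D.cn_eq ht ht1, D.cn_eq D.c_mem.1 D.c_mem.2] at hn
  rw [show D.tr ⟨D.c, D.le D.c_mem.1⟩ = gc from D.tr_el gc gens_ev.1 _] at hn
  have h' := cc_weight _ (by rwa [← inJ_form h]) (by rwa [← inJ_form h])
  rwa [← inJ_form h] at h'

theorem Setup.six_conj {t : G} (htH : t ∈ H) (hs : D.tr ⟨t, htH⟩ ∈ sixL) :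
    ∃ h ∈ H, h * D.c * h⁻¹ = t := by
  obtain ⟨x, hx, hxt⟩ := List.mem_map.mp hs
  have hxe : Ev x := of_decide_eq_true (List.all_eq_true.mp conjL_ev x hx)
  refine ⟨D.el x hxe, D.el_mem _ _, ?_⟩
  have : (⟨D.el x hxe, D.el_mem _ _⟩ : H) * ⟨D.c, D.el_mem _ _⟩ * (⟨D.el x hxe, D.el_mem _ _⟩ : H)⁻¹ =
      ⟨t, htH⟩ := D.tr_injective (by
    rw [map_mul, map_mul, map_inv, D.tr_el x hxe, show D.tr ⟨D.c, D.el_mem _ _⟩ = gc from
      D.tr_el gc gens_ev.1 _]
    exact hxt)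
  exact congrArg Subtype.val this

theorem Setup.norm_le {x : G} (hx : ∀ j ∈ J, x * j * x⁻¹ ∈ J) : x ∈ H := by
  obtain ⟨hc, hc1⟩ := D.c_mem
  have ht1 : x * D.c * x⁻¹ ≠ 1 := fun h => hc1 (by
    rw [show D.c = x⁻¹ * (x * D.c * x⁻¹) * x by group, h]; group)
  obtain ⟨h, hh, heq⟩ := D.six_conj (D.le (hx _ hc)) (D.six_of_cn (hx _ hc) ht1 (cn_conj _ _))
  have hm : h⁻¹ * x ∈ H := D.cent _ hc hc1 (Subgroup.mem_centralizer_singleton_iff.mpr (by
    calc h⁻¹ * x * D.c = h⁻¹ * (x * D.c * x⁻¹) * x := by group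
      _ = h⁻¹ * (h * D.c * h⁻¹) * x := by rw [heq]
      _ = D.c * (h⁻¹ * x) := by group))
  simpa using H.mul_mem hh hm

theorem Setup.sing_pow {a : H} (ha : Sing4 (D.tr a)) :
    ∃ k : ℕ, ((a : G)) ^ k ∈ J ∧ (a : G) ^ k ≠ 1 := by
  have key : ∀ k : ℕ, InJ1 (D.tr a ^ k) → (a : G) ^ k ∈ J ∧ (a : G) ^ k ≠ 1 := fun k hk => by
    rw [← map_pow] at hk
    refine ⟨(D.mem_iff (a ^ k)).mpr hk.1, fun h => hk.2 ?_⟩
    rw [show a ^ k = 1 from Subtype.ext h, map_one]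
  rcases ha with h | h | h | h
  · exact ⟨1, key 1 (by rwa [pow_one])⟩
  · exact ⟨2, key 2 (by rwa [pow_two])⟩
  · exact ⟨3, key 3 (by rwa [pow_succ, pow_two])⟩
  · exact ⟨4, key 4 (by rwa [show 4 = 2 + 2 from rfl, pow_add, pow_two])⟩

theorem Setup.ti {x : G} {a : H} (ha : Sing4 (D.tr a)) (hb : x * (a : G) * x⁻¹ ∈ H) : x ∈ H := by
  obtain ⟨k, hk, hk1⟩ := D.sing_pow ha
  have ht : x * (a : G) ^ k * x⁻¹ ∈ J := D.closed.2 _ hk x (by
    rw [← conj_pow]; exact H.pow_mem hb k)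
  have ht1 : x * (a : G) ^ k * x⁻¹ ≠ 1 := fun h => hk1 (by
    rw [show (a : G) ^ k = x⁻¹ * (x * (a : G) ^ k * x⁻¹) * x by group, h]; group)
  refine D.norm_le fun j hj => D.closed.2 j hj x (D.cent _ ht ht1
    (Subgroup.mem_centralizer_singleton_iff.mpr ?_))
  calc x * j * x⁻¹ * (x * (a : G) ^ k * x⁻¹) = x * (j * (a : G) ^ k) * x⁻¹ := by group
    _ = x * ((a : G) ^ k * j) * x⁻¹ := by rw [D.J_comm hj hk]
    _ = _ := by group

theorem Setup.ti_J {x z : G} (hz : z ∈ J) (hz1 : z ≠ 1) (hb : x * z * x⁻¹ ∈ H) : x ∈ H :=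
  D.ti (a := ⟨z, D.le hz⟩) (Or.inl ⟨(D.mem_iff' (D.le hz)).mp hz, fun h => hz1 (congrArg
    Subtype.val (D.tr_injective (h.trans (map_one D.tr).symm)))⟩) hb

theorem Setup.three_le {P : Subgroup G} (hP : IsPGroup 3 P) {z : G} (hzJ : z ∈ J) (hz1 : z ≠ 1)
    (hzP : z ∈ P) (hJP : ∀ j ∈ J, j ∈ P → j = 1 ∨ j = z ∨ j = z * z) : P ≤ H := by
  have : Fact (Nat.Prime 3) := ⟨Nat.prime_three⟩
  have := hP.isNilpotent
  have htop : H.subgroupOf P = ⊤ := by
    by_contra hne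
    obtain ⟨y, hy, hy'⟩ := SetLike.exists_of_lt
      (normalizerCondition_of_isNilpotent (G := P) (H.subgroupOf P) (lt_top_iff_ne_top.mpr hne))
    refine hy' (Subgroup.mem_subgroupOf.mpr ?_)
    have h1 : (⟨z, hzP⟩ : P) ∈ H.subgroupOf P := Subgroup.mem_subgroupOf.mpr (D.le hzJ)
    have h2 := Subgroup.mem_subgroupOf.mp ((Subgroup.mem_normalizer_iff.mp hy _).mp h1)
    exact D.ti_J hzJ hz1 h2
  exact Subgroup.subgroupOf_eq_top.mp htop

open scoped Pointwise in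
theorem Setup.three_conj {u z : G} (N : Subgroup G) (hzJ : z ∈ J) (hz1 : z ≠ 1) (hzN : z ∈ N)
    (hzu : z * u = u * z) (hJu : ∀ j ∈ J, j * u = u * j → j = 1 ∨ j = z ∨ j = z * z) {w : G}
    (hwN : w ∈ N) (hwu : w * u = u * w) (hw : w * w * w = 1) :
    ∃ c ∈ N, c * u = u * c ∧ c * w * c⁻¹ ∈ H := by
  have : Fact (Nat.Prime 3) := ⟨Nat.prime_three⟩
  set C : Subgroup G := N ⊓ Subgroup.centralizer ({u} : Set G) with hC
  have hz : z ∈ C := ⟨hzN, Subgroup.mem_centralizer_singleton_iff.mpr hzu⟩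
  have hwC : w ∈ C := ⟨hwN, Subgroup.mem_centralizer_singleton_iff.mpr hwu⟩
  have hpg : ∀ y : C, y * y * y = 1 → IsPGroup 3 (Subgroup.zpowers y) := fun y hy => by
    have h3 : y ^ (3 ^ 1) = 1 := by rw [pow_one, pow_succ, pow_two]; exact hy
    obtain ⟨k, -, hk⟩ := (Nat.dvd_prime_pow Nat.prime_three).mp (orderOf_dvd_of_pow_eq_one h3)
    exact IsPGroup.of_card (n := k) (by rw [Nat.card_zpowers, hk])
  obtain ⟨P, hP⟩ := (hpg ⟨z, hz⟩ (Subtype.ext (D.J_three hzJ))).exists_le_sylow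
  obtain ⟨P', hP'⟩ := (hpg ⟨w, hwC⟩ (Subtype.ext hw)).exists_le_sylow
  have hPH : (P : Subgroup C).map C.subtype ≤ H := by
    refine D.three_le (P.isPGroup'.map _) hzJ hz1 ⟨⟨z, hz⟩, hP (Subgroup.mem_zpowers _), rfl⟩ ?_
    intro j hj hjP
    refine hJu j hj ?_
    obtain ⟨y, -, rfl⟩ := hjP
    exact Subgroup.mem_centralizer_singleton_iff.mp y.2.2
  obtain ⟨g, hg⟩ := MulAction.exists_smul_eq C P' P
  refine ⟨(g : G), g.2.1, Subgroup.mem_centralizer_singleton_iff.mp g.2.2, ?_⟩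
  refine hPH ⟨g * ⟨w, hwC⟩ * g⁻¹, ?_, rfl⟩
  rw [← hg]
  show _ ∈ (MulAut.conj g • (P' : Subgroup C) : Subgroup C)
  rw [Subgroup.mem_pointwise_smul_iff_inv_smul_mem]
  have : (MulAut.conj g)⁻¹ • (g * ⟨w, hwC⟩ * g⁻¹ : C) = ⟨w, hwC⟩ := by
    rw [MulAut.smul_def, MulAut.conj_inv_apply]; group
  rw [this]
  exact hP' (Subgroup.mem_zpowers _)

theorem Setup.el_J {g : Big} (h : InJ1 g) :
    D.el g (inJ_ev g.left g.right h.1).1 ∈ J ∧ D.el g (inJ_ev g.left g.right h.1).1 ≠ 1 := by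
  refine ⟨(D.mem_iff' (D.el_mem _ _)).mpr ((D.tr_el g _ _).symm ▸ h.1), fun h1 => h.2 ?_⟩
  have h2 : D.tr ⟨D.el g (inJ_ev g.left g.right h.1).1, D.el_mem _ _⟩ = 1 := by
    rw [show (⟨D.el g _, D.el_mem _ _⟩ : H) = 1 from Subtype.ext h1, map_one]
  rwa [D.tr_el] at h2

omit D in
theorem sixL_ev : sixL.all (fun z => decide (InJ1 z)) = true := by decide +kernel

/-- the two classes of involutions are not fused -/
theorem Setup.separated {s s' : H} (hs : D.tr s ∈ invL₂) (hs' : D.tr s' ∈ invL₆) (x : G) :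
    x * (s : G) * x⁻¹ ≠ (s' : G) := by
  intro hx
  obtain ⟨z, hz, hzs⟩ := inv₂_six _ hs
  have hz1 : InJ1 z := of_decide_eq_true (List.all_eq_true.mp sixL_ev z hz)
  obtain ⟨w, hw, hws, hw6, hww6, hcent⟩ := inv₆_cent _ hs'
  have hw1 : InJ1 w := of_decide_eq_true (List.all_eq_true.mp jL_inJ w hw)
  obtain ⟨zJ, zne⟩ := D.el_J hz1
  obtain ⟨wJ, wne⟩ := D.el_J hw1
  set zG := D.el z (inJ_ev z.left z.right hz1.1).1
  set wG := D.el w (inJ_ev w.left w.right hw1.1).1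
  have hzsG : zG * (s : G) = (s : G) * zG := by
    have : (⟨zG, D.el_mem _ _⟩ : H) * s = s * ⟨zG, D.el_mem _ _⟩ := D.tr_injective (by
      rw [map_mul, map_mul, D.tr_el]; exact hzs)
    exact congrArg Subtype.val this
  have hwsG : wG * (s' : G) = (s' : G) * wG := by
    have : (⟨wG, D.el_mem _ _⟩ : H) * s' = s' * ⟨wG, D.el_mem _ _⟩ := D.tr_injective (by
      rw [map_mul, map_mul, D.tr_el]; exact hws)
    exact congrArg Subtype.val this
  obtain ⟨c, -, hcs, hcH⟩ := D.three_conj (u := (s' : G)) (w := x * zG * x⁻¹) ⊤ wJ wne trivial hwsG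
    (fun j hj hju => by
      have hjI := (D.mem_iff' (D.le hj)).mp hj
      have h := hcent (D.tr ⟨j, D.le hj⟩).left (by rwa [← inJ_form hjI]) (by
        rw [← inJ_form hjI, ← map_mul, ← map_mul]
        exact congrArg _ (Subtype.ext hju))
      rw [← inJ_form hjI] at h
      rcases h with h | h | h
      · exact Or.inl (congrArg Subtype.val (D.tr_injective (h.trans (map_one D.tr).symm)))
      · exact Or.inr (Or.inl (congrArg Subtype.val (D.tr_injective (a₁ := ⟨j, D.le hj⟩) (a₂ := ⟨wG, D.el_mem _ _⟩)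
          (h.trans (D.tr_el w _ _).symm))))
      · exact Or.inr (Or.inr (congrArg Subtype.val (D.tr_injective
          (a₁ := ⟨j, D.le hj⟩) (a₂ := ⟨wG, D.el_mem _ _⟩ * ⟨wG, D.el_mem _ _⟩) (by
            rw [map_mul, D.tr_el]; exact h)))))
    trivial (by rw [← hx]; calc x * zG * x⁻¹ * (x * (s : G) * x⁻¹) = x * (zG * s) * x⁻¹ := by group
                  _ = x * ((s : G) * zG) * x⁻¹ := by rw [hzsG]
                  _ = _ := by group)
    (by rw [show x * zG * x⁻¹ * (x * zG * x⁻¹) * (x * zG * x⁻¹) = x * (zG * zG * zG) * x⁻¹ by group,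
      D.J_three zJ]; group)
  have hq : c * (x * zG * x⁻¹) * c⁻¹ = (c * x) * zG * (c * x)⁻¹ := by group
  rw [hq] at hcH
  have hqJ := D.closed.2 zG zJ (c * x) hcH
  have hq1 : (c * x) * zG * (c * x)⁻¹ ≠ 1 := fun h => zne (by
    rw [show zG = (c * x)⁻¹ * ((c * x) * zG * (c * x)⁻¹) * (c * x) by group, h]; group)
  obtain ⟨h₀, hh₀, hz0⟩ := D.six_conj (D.el_mem z (inJ_ev z.left z.right hz1.1).1)
    (by rw [D.tr_el]; exact hz)
  have h6 := D.six_of_cn hqJ hq1 (by rw [cn_conj, show zG = h₀ * D.c * h₀⁻¹ from hz0.symm, cn_conj])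
  have hqs : (c * x) * zG * (c * x)⁻¹ * (s' : G) = (s' : G) * ((c * x) * zG * (c * x)⁻¹) := by
    have e1 : (c * x) * (s : G) * (c * x)⁻¹ = (s' : G) := by
      rw [show (c * x) * (s : G) * (c * x)⁻¹ = c * (x * (s : G) * x⁻¹) * c⁻¹ by group, hx, hcs]
      group
    rw [← e1]
    calc _ = (c * x) * (zG * s) * (c * x)⁻¹ := by group
      _ = (c * x) * ((s : G) * zG) * (c * x)⁻¹ := by rw [hzsG]
      _ = _ := by group
  have hqI := (D.mem_iff' (D.le hqJ)).mp hqJ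
  have h := hcent (D.tr ⟨_, D.le hqJ⟩).left (by rwa [← inJ_form hqI]) (by
    rw [← inJ_form hqI, ← map_mul, ← map_mul]
    exact congrArg _ (Subtype.ext hqs))
  rw [← inJ_form hqI] at h
  rcases h with h | h | h
  · exact hq1 (congrArg Subtype.val (D.tr_injective (h.trans (map_one D.tr).symm)))
  · exact hw6 (h ▸ h6)
  · exact hww6 (h ▸ h6)

end CfsgLib.Block.FourCube
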