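import Mathlib

/-!
The equations for the degrees of five rows of a group containing `3^3 : S₄`.
-/

set_option autoImplicit false
set_option linter.all false

namespace CfsgLib.Block.FourCube

theorem degrees_of_squares {s p q : ℤ} {μ t : ℂ} (hs : s ≠ 0) (hp : p ≠ 0) (hq : q ≠ 0)
    (hx : p + q ≠ 0) (hy : s + p + q ≠ 0) (hW : 1 + s + q + 2 * p ≠ 0)
    (h1 : (q : ℂ) * t ^ 2 = (s : ℂ) * (s + p + q) * p)
    (h2 : (q : ℂ) * μ * ((s + p + q : ℂ) - t) = q * t + p * (p + q - s))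
    (h3 : (q : ℂ) * (2 * t * μ - ((s : ℂ) + q) * μ ^ 2) = s * p * (1 - p))
    (h4 : 2 * (q : ℂ) * t * (1 + (s + p + q : ℂ)) =
      ((s + p + q : ℂ) + 1) * (q * (s + p + q : ℂ) + p * s) - 3 * p * (p + q))
    (h5 : 4 * (q : ℂ) * (μ + t) ^ 2 = (1 + s + q : ℂ) * (1 + s + q + 2 * p) * (p + q)) :
    s = 2 ∧ p = 3 ∧ q = 3 ∧ t = 4 ∧ μ = 2 := by
  have hp' : (p : ℂ) ≠ 0 := Int.cast_ne_zero.mpr hp
  have hq' : (q : ℂ) ≠ 0 := Int.cast_ne_zero.mpr hq
  have hx' : (p + q : ℂ) ≠ 0 := by exact_mod_cast hx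
  have hy' : (s + p + q : ℂ) ≠ 0 := by exact_mod_cast hy
  set y : ℂ := s + p + q with hydef
  set T : ℂ := 2 * q * t with hT
  have hy1 : y + 1 ≠ 0 := fun h => by
    have : (3 : ℂ) * p * (p + q) = 0 := by linear_combination h4 - (T - q * y - p * s) * h
    simp [hp', hx'] at this
  set E : ℂ := q * y + p * s - T with hE
  have hE1 : E * (y + 1) = 3 * p * (p + q) := by linear_combination -h4
  have g3 : T ^ 2 = 4 * q * s * p * y := by linear_combination 4 * (q : ℂ) * h1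
  set f : ℂ := 2 * q * y - T with hf
  set N : ℂ := T + 2 * p * (p + q - s) with hN
  have g2 : μ * f = N := by linear_combination 2 * h2
  have g1 : T * μ - q * (s + q) * μ ^ 2 = s * p * (1 - p) := by linear_combination h3
  have gf : f ^ 2 = 4 * q * y * E := by linear_combination g3
  have gTf : T * f = 2 * q * y * (T - 2 * p * s) := by linear_combination -g3
  have hG : 2 * q * (2 * y * (T - 2 * p * s) * N - (y - p) * N ^ 2 -
      4 * s * p * (1 - p) * y * E) = 0 := by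
    linear_combination 2 * f ^ 2 * g1 - 2 * (T * f - q * (s + q) * (μ * f + N)) * g2 -
      2 * N * gTf + 2 * (s * p * (1 - p) : ℂ) * gf
  have hG' : (4 : ℂ) * p ^ 2 * (E * (s * (1 + y) - (p + q)) - 2 * p * s * (p + q)) = 0 := by
    have h := (mul_eq_zero.mp hG).resolve_left (mul_ne_zero two_ne_zero hq')
    linear_combination h - (2 * y - (y - p)) * g3
  have h6 : (s : ℂ) * (1 + y) = 3 * (p + q) := by
    have h := (mul_eq_zero.mp hG').resolve_left (mul_ne_zero (by norm_num) (pow_ne_zero 2 hp'))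
    have : (p : ℂ) * (p + q) * (s * (1 + y) - 3 * (p + q)) = 0 := by
      linear_combination (y + 1) * h - (s * (1 + y) - (p + q) : ℂ) * hE1
    simpa [hp', hx', sub_eq_zero] using this
  have hEps : E = p * s := mul_right_cancel₀ hy1 (by linear_combination hE1 - (p : ℂ) * h6)
  have hTy : T = q * y := by linear_combination hE - hEps
  have h7 : (q : ℂ) * y = 4 * p * s := by
    refine mul_left_cancel₀ (mul_ne_zero hq' hy') ?_
    linear_combination g3 - (T + q * y) * hTy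
  have i6 : s * (1 + (s + p + q)) = 3 * (p + q) := by rw [hydef] at h6; exact_mod_cast h6
  have i7 : q * (s + p + q) = 4 * p * s := by rw [hydef] at h7; exact_mod_cast h7
  have hs3 : s ≠ 3 := fun h => by subst h; linarith
  have hdvd : 3 - s ∣ 12 := by
    refine ⟨p + q + s + 4, ?_⟩
    linear_combination i6
  have hu := Int.le_of_dvd (by norm_num) hdvd
  have hl := Int.le_of_dvd (by norm_num) ((Int.neg_dvd).mpr hdvd)
  have ht2 : 2 * t = y := mul_left_cancel₀ hq' (by linear_combination hTy)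
  have i8 : (p + q) * (3 - s) = s * (s + 1) := by linear_combination -i6
  have i9 : q * (5 * s + (p + q)) = 4 * s * (p + q) := by linear_combination i7
  have hs' : s = 2 ∨ s = 5 ∨ s = 6 ∨ s = 9 := by
    have hl' : -9 ≤ s := by linarith
    have hu' : s ≤ 15 := by linarith
    have i10 : q * (5 * s * (3 - s) + s * (s + 1)) = 4 * s * (s * (s + 1)) := by
      linear_combination (3 - s) * i9 + (4 * s - q) * i8
    clear hdvd hu hl
    interval_cases s <;> first | omega | (norm_num at i10 <;> omega) | (norm_num at i8 <;> omega)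
  rcases hs' with rfl | rfl | rfl | rfl
  · obtain rfl : q = 3 := by
      have : p + q = 6 := by linarith
      rw [this] at i9; linarith
    obtain rfl : p = 3 := by linarith
    norm_num [hydef] at ht2 g2 hTy hf hN ⊢
    have hT4 : t = 4 := by linear_combination ht2 / 2
    refine ⟨hT4, ?_⟩
    rw [hf, hN, hT, hT4] at g2
    linear_combination g2 / 24
  · obtain rfl : q = -30 := by
      have : p + q = -15 := by linarith
      rw [this] at i9; linarith
    obtain rfl : p = 15 := by linarith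
    exfalso
    norm_num [hydef] at ht2 g2 h5
    have hT4 : t = -5 := by linear_combination ht2 / 2
    rw [hf, hN, hT, hT4] at g2
    norm_num [hydef] at g2
    have hμ : μ = -1 := by linear_combination g2 / 300
    rw [hT4, hμ] at h5
    norm_num at h5
  · obtain rfl : q = -21 := by
      have : p + q = -14 := by linarith
      rw [this] at i9; linarith
    obtain rfl : p = 7 := by linarith
    exact absurd rfl hW
  · obtain rfl : q = -18 := by
      have : p + q = -15 := by linarith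
      rw [this] at i9; linarith
    obtain rfl : p = 3 := by linarith
    exfalso
    norm_num [hydef] at ht2 g2 h5
    have hT4 : t = -3 := by linear_combination ht2 / 2
    rw [hf, hN, hT, hT4] at g2
    norm_num [hydef] at g2
    have hμ : μ = -1 / 3 := by linear_combination g2 / 108
    rw [hT4, hμ] at h5
    norm_num at h5

/-- The equations in one set of six: `N, S, P, Q` are the class two sums, `N', S', P', Q'` the
class six ones. -/
theorem p_system {g : ℂ} (hg : g ≠ 0) {s p q : ℤ} (hs : s ≠ 0) (hp : p ≠ 0) (hq : q ≠ 0)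
    (hx : p + q ≠ 0) (hy : s + (p + q) ≠ 0) (hU : 1 + s + q ≠ 0) (hW : 1 + s + q + 2 * p ≠ 0)
    {N S P Q N' S' P' Q' : ℂ}
    (R22 : (P + Q) ^ 2 / (p + q : ℂ) - P ^ 2 / p - Q ^ 2 / q = 0)
    (R66 : (P' + Q') ^ 2 / (p + q : ℂ) - P' ^ 2 / p - Q' ^ 2 / q = -3 * g)
    (C22 : (S + (P + Q)) ^ 2 / (s + (p + q) : ℂ) - S ^ 2 / s - (P + Q) ^ 2 / (p + q : ℂ) = -3 * g)
    (C66 : (S' + (P' + Q')) ^ 2 / (s + (p + q) : ℂ) - S' ^ 2 / s - (P' + Q') ^ 2 / (p + q : ℂ) = 0)
    (P22 : (N + S + Q) ^ 2 / (1 + s + q : ℂ) - N ^ 2 - S ^ 2 / s - Q ^ 2 / q = -3 * g)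
    (P26 : (N + S + Q) * (N' + S' + Q') / (1 + s + q : ℂ) - N * N' - S * S' / s - Q * Q' / q =
      -3 * g)
    (P66 : (N' + S' + Q') ^ 2 / (1 + s + q : ℂ) - N' ^ 2 - S' ^ 2 / s - Q' ^ 2 / q = -6 * g)
    (W22 : (N + S + Q + 2 * P) ^ 2 / (1 + s + q + 2 * p : ℂ) - N ^ 2 - S ^ 2 / s -
      2 * (P ^ 2 / p) - Q ^ 2 / q = -(9 / 2) * g)
    (W26 : (N + S + Q + 2 * P) * (N' + S' + Q' + 2 * P') / (1 + s + q + 2 * p : ℂ) - N * N' -
      S * S' / s - 2 * (P * P' / p) - Q * Q' / q = -(3 / 2) * g) :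
    s = 2 ∧ p = 3 ∧ q = 3 ∧ ∃ r δ : ℂ, δ ^ 2 = 2 * g ∧ P = 3 * r ∧ Q = 3 * r ∧
      S = 2 * (δ + r) ∧ N = δ + r := by
  have cs : (s : ℂ) ≠ 0 := by exact_mod_cast hs
  have cp : (p : ℂ) ≠ 0 := by exact_mod_cast hp
  have cq : (q : ℂ) ≠ 0 := by exact_mod_cast hq
  have cx : (p + q : ℂ) ≠ 0 := by exact_mod_cast hx
  have cy : (s + (p + q) : ℂ) ≠ 0 := by exact_mod_cast hy
  have cU : (1 + s + q : ℂ) ≠ 0 := by exact_mod_cast hU
  have cW : (1 + s + q + 2 * p : ℂ) ≠ 0 := by exact_mod_cast hW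
  obtain ⟨r, rfl⟩ : ∃ r : ℂ, P = p * r := ⟨P / p, by field_simp⟩
  obtain rfl : Q = q * r := by
    have h0 : (p : ℂ) * (Q - q * r) ^ 2 = 0 := by field_simp at R22; linear_combination -R22
    have h := (mul_eq_zero.mp h0).resolve_left cp
    exact sub_eq_zero.mp (pow_eq_zero_iff two_ne_zero |>.mp h)
  obtain ⟨v, rfl⟩ : ∃ v : ℂ, S' = s * v := ⟨S' / s, by field_simp⟩
  have hPQ : P' + Q' = (p + q : ℂ) * v := by
    have h0 : (s : ℂ) * ((p + q : ℂ) * v - (P' + Q')) ^ 2 = 0 := by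
      field_simp at C66; linear_combination -C66
    have h := (mul_eq_zero.mp h0).resolve_left cs
    exact (sub_eq_zero.mp (pow_eq_zero_iff two_ne_zero |>.mp h)).symm
  obtain rfl : Q' = (p + q : ℂ) * v - P' := by linear_combination hPQ
  obtain ⟨η, rfl⟩ : ∃ η : ℂ, P' = p * (η + v) := ⟨P' / p - v, by field_simp; ring⟩
  obtain ⟨δ, rfl⟩ : ∃ δ : ℂ, S = s * (δ + r) := ⟨S / s - r, by field_simp; ring⟩
  obtain ⟨M, rfl⟩ : ∃ M : ℂ, N = M + r := ⟨N - r, by ring⟩
  obtain ⟨M', rfl⟩ : ∃ M' : ℂ, N' = M' + v := ⟨N' - v, by ring⟩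
  have eR : (p : ℂ) * η ^ 2 * (p + q) = 3 * g * q := by
    refine mul_left_cancel₀ cx ?_
    field_simp at R66; linear_combination -R66
  have eC : (s : ℂ) * δ ^ 2 * (p + q) = 3 * g * (s + (p + q)) := by
    field_simp at C22; linear_combination -C22
  set a := M + s * δ with ha
  have e22 : a ^ 2 - (1 + s + q) * (M ^ 2 + s * δ ^ 2) = -3 * g * (1 + s + q : ℂ) := by
    field_simp at P22; linear_combination P22
  have e26 : a * (M' - p * η) - (1 + s + q) * M * M' = -3 * g * (1 + s + q : ℂ) := by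
    field_simp at P26; linear_combination P26
  have e66 : (q : ℂ) * (M' - p * η) ^ 2 - (1 + s + q) * (q * M' ^ 2 + p ^ 2 * η ^ 2) =
      -6 * g * (1 + s + q : ℂ) * q := by
    field_simp at P66; linear_combination P66
  have f22 : a ^ 2 - (1 + s + q + 2 * p) * (M ^ 2 + s * δ ^ 2) =
      -(9 / 2) * g * (1 + s + q + 2 * p : ℂ) := by
    field_simp at W22; linear_combination W22 / 2
  have f26 : a * (M' + p * η) - (1 + s + q + 2 * p) * M * M' =
      -(3 / 2) * g * (1 + s + q + 2 * p : ℂ) := by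
    field_simp at W26; linear_combination W26 / 2
  have hW1 : 4 * (p : ℂ) * a ^ 2 = 3 * g * (1 + s + q) * (1 + s + q + 2 * p) := by
    linear_combination 2 * (1 + s + q + 2 * p : ℂ) * e22 - 2 * (1 + s + q : ℂ) * f22
  have hη : η ≠ 0 := fun h => by
    rw [h] at eR
    simp [hg, cq] at eR
  have ha0 : a ≠ 0 := fun h => by
    rw [h] at hW1
    simp [hg, cU, cW] at hW1
  have hE1 : M' = η * (1 + s + q + p : ℂ) - a := by
    refine mul_left_cancel₀ (mul_ne_zero cp ha0) ?_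
    linear_combination ((1 + s + q + 2 * p : ℂ) * e26 - (1 + s + q : ℂ) * f26) / 2 + hW1 / 4
  obtain ⟨μ, rfl⟩ : ∃ μ : ℂ, M = μ * η := ⟨M / η, by field_simp⟩
  obtain ⟨t, rfl⟩ : ∃ t : ℂ, δ = t * η / s := ⟨δ * s / η, by field_simp⟩
  have haη : a = (μ + t) * η := by rw [ha]; field_simp
  clear_value a
  subst haη
  subst hE1
  have hη2 : η ^ 2 ≠ 0 := pow_ne_zero 2 hη
  have h1 : (q : ℂ) * t ^ 2 = (s : ℂ) * (s + p + q) * p := by
    refine mul_left_cancel₀ (mul_ne_zero hη2 cx) ?_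
    field_simp at eC
    linear_combination (q : ℂ) * eC - (s : ℂ) * (s + (p + q)) * eR
  have k22 : (q : ℂ) * ((μ + t) ^ 2 - (1 + s + q) * μ ^ 2) -
      (1 + s + q) * (s + p + q) * p + (1 + s + q) * p * (p + q) = 0 := by
    refine ((mul_eq_zero (a := η ^ 2 * (s : ℂ))).mp ?_).resolve_left (mul_ne_zero hη2 cs)
    field_simp at e22
    linear_combination (q : ℂ) * e22 + (1 + s + q : ℂ) * (s : ℂ) * eR +
      (1 + s + q : ℂ) * η ^ 2 * h1
  have k26 : (q : ℂ) * ((μ + t) * (1 + s + q - (μ + t)) -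
      (1 + s + q) * μ * (1 + s + q + p - (μ + t))) + (1 + s + q) * p * (p + q) = 0 := by
    refine ((mul_eq_zero (a := η ^ 2)).mp ?_).resolve_left hη2
    linear_combination (q : ℂ) * e26 + (1 + s + q : ℂ) * eR
  have k66 : (q : ℂ) * (1 + s + q - (μ + t)) ^ 2 - (1 + s + q) * (q * (1 + s + q + p - (μ + t)) ^ 2
      + p ^ 2) + 2 * (1 + s + q) * p * (p + q) = 0 := by
    refine ((mul_eq_zero (a := η ^ 2)).mp ?_).resolve_left hη2
    linear_combination e66 + 2 * (1 + s + q : ℂ) * eR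
  have h3 : (q : ℂ) * (2 * t * μ - ((s : ℂ) + q) * μ ^ 2) = s * p * (1 - p) := by
    linear_combination k22 - h1
  have h2 : (q : ℂ) * μ * ((s + p + q : ℂ) - t) = q * t + p * (p + q - s) := by
    refine mul_left_cancel₀ cU ?_
    linear_combination -k26 - k22
  have h4 : 2 * (q : ℂ) * t * (1 + (s + p + q : ℂ)) =
      ((s + p + q : ℂ) + 1) * (q * (s + p + q : ℂ) + p * s) - 3 * p * (p + q) := by
    refine mul_left_cancel₀ cU ?_
    linear_combination k66 - k22 - 2 * (1 + s + q : ℂ) * h2 + (1 + s + q : ℂ) * h1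
  have h5 : 4 * (q : ℂ) * (μ + t) ^ 2 = (1 + s + q : ℂ) * (1 + s + q + 2 * p) * (p + q) := by
    refine mul_left_cancel₀ (mul_ne_zero hη2 cp) ?_
    linear_combination (q : ℂ) * hW1 - (1 + s + q : ℂ) * (1 + s + q + 2 * p) * eR
  obtain ⟨rfl, rfl, rfl, rfl, rfl⟩ :=
    degrees_of_squares hs hp hq hx (by rwa [add_assoc]) hW h1 h2 h3 h4 h5
  refine ⟨rfl, rfl, rfl, r, 2 * η, ?_, by norm_num, by norm_num, by push_cast; ring,
    by push_cast; ring⟩
  push_cast at eR
  linear_combination 2 / 9 * eR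

/-- The last equation: a row of degree `e`, with `b` and `b'` the two sums containing it. -/
theorem e_system {g δ k : ℂ} (hg : g ≠ 0) {e : ℤ} (he : e ≠ 0) (h5 : e + 5 ≠ 0)
    (h11 : e + 11 ≠ 0) (hδ : δ ^ 2 = 2 * g)
    (q22 : (k + 2 * δ) ^ 2 / (e + 5 : ℂ) - k ^ 2 / e - 2 * δ ^ 2 = -3 * g)
    (w22 : (k + 2 * δ) ^ 2 / (e + 11 : ℂ) - k ^ 2 / e - 2 * δ ^ 2 = -(9 / 2) * g) : e = 1 := by
  have ce : (e : ℂ) ≠ 0 := by exact_mod_cast he
  have c5 : (e + 5 : ℂ) ≠ 0 := by exact_mod_cast h5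
  have c11 : (e + 11 : ℂ) ≠ 0 := by exact_mod_cast h11
  set b := k + 2 * δ with hb
  have hb2 : 4 * b ^ 2 = g * (e + 5) * (e + 11) := by
    have h : b ^ 2 / (e + 5 : ℂ) - b ^ 2 / (e + 11 : ℂ) = 3 / 2 * g := by
      linear_combination q22 - w22
    field_simp at h
    linear_combination h / 3
  have hk : 4 * k ^ 2 = g * e * (e + 7) := by
    have h : (e + 5 : ℂ) * (4 * k ^ 2 - g * e * (e + 7)) = 0 := by
      field_simp at q22
      linear_combination -4 * q22 + (e : ℂ) * hb2 - 8 * (e : ℂ) * (e + 5) * hδ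
    exact sub_eq_zero.mp ((mul_eq_zero.mp h).resolve_left c5)
  have hlin : 16 * b * δ = g * (9 * e + 87) := by
    rw [hb] at hb2 ⊢
    linear_combination hb2 - hk + 16 * hδ
  have hq : g ^ 2 * ((47 : ℂ) * e ^ 2 + 482 * e - 529) = 0 := by
    linear_combination (16 * b * δ + g * (9 * e + 87)) * hlin - 64 * δ ^ 2 * hb2 -
      64 * g * ((e : ℂ) + 5) * (e + 11) * hδ
  have h0 : (47 : ℤ) * e ^ 2 + 482 * e - 529 = 0 := by
    have := (mul_eq_zero.mp hq).resolve_left (pow_ne_zero 2 hg)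
    exact_mod_cast this
  have h : (e - 1) * (47 * e + 529) = 0 := by linear_combination h0
  rcases mul_eq_zero.mp h with h | h <;> omega

end CfsgLib.Block.FourCube
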