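import Cfsg.Agent.Lib.Block.OrthoRows
import Cfsg.Agent.Lib.Block.FourSystem

/-!
Eight integer vectors with the Gram matrix of the group `3^3 : S₄`.
-/

set_option autoImplicit false
set_option linter.all false
set_option maxHeartbeats 1000000

namespace CfsgLib.Block.FourCube

open OrthoRows

attribute [-simp] zsmul_eq_mul

variable {ι : Type*} [Fintype ι]

/-- the Gram matrix -/
def gram : Fin 8 → Fin 8 → ℤ :=
  ![![2, 0, 1, 0, -1, -1, -1, -1], ![0, 2, -1, 1, 0, 0, 0, 0], ![1, -1, 3, -1, -1, -1, -1, -1],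
    ![0, 1, -1, 3, -1, 1, -1, 1], ![-1, 0, -1, -1, 4, 1, 1, 1], ![-1, 0, -1, 1, 1, 4, 1, 1],
    ![-1, 0, -1, -1, 1, 1, 4, 1], ![-1, 0, -1, 1, 1, 1, 1, 4]]

/-- inner products with the trivial character -/
def vecOne : Fin 8 → ℤ := ![0, 0, 0, 0, -1, -1, 0, 0]

/-- twice the pair sums for the classes `(2, 2)`, `(2, 6)`, `(6, 6)`, divided by the group order -/
def pr22 : Fin 8 → ℤ := ![0, 0, -6, 0, 0, -3, 0, -3]
def pr26 : Fin 8 → ℤ := ![0, 0, 0, 0, -6, -3, 6, 3]
def pr66 : Fin 8 → ℤ := ![0, 0, 0, -6, -6, -9, -6, -9]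

/-- the data of the problem -/
structure Data (ι : Type*) [Fintype ι] where
  d : ι → ℤ
  dpos : ∀ χ, 0 < d χ
  o : ι
  d_o : d o = 1
  Z : ι → ℂ
  W : ι → ℂ
  g : ℂ
  g0 : g ≠ 0
  m : Fin 8 → ι → ℤ
  hgram : ∀ j k, ip (m j) (m k) = gram j k
  hone : ∀ j, m j o = vecOne j
  hdeg : ∀ j, ip (m j) d = 0
  hZ : ∀ j, ev Z (m j) = 0
  hW : ∀ j, ev W (m j) = 0
  h22 : ∀ j, ev (qf d Z Z) (m j) = g * (pr22 j : ℂ) / 2
  h26 : ∀ j, ev (qf d Z W) (m j) = g * (pr26 j : ℂ) / 2
  h66 : ∀ j, ev (qf d W W) (m j) = g * (pr66 j : ℂ) / 2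

variable (D : Data ι)

/-- the trivial row -/
noncomputable def Data.one : ι → ℤ := dl D.o

theorem Data.one_facts : ip D.one D.one = 1 ∧ ip D.one D.d = 1 ∧
    ev D.Z D.one = D.Z D.o ∧ ev D.W D.one = D.W D.o ∧
    ∀ j, ip (D.m j) D.one = vecOne j := by
  refine ⟨ip_dl_self _, ?_, ev_dl _ _, ev_dl _ _, fun j => ?_⟩
  · rw [ip_comm, Data.one, ip_dl, D.d_o]
  · rw [Data.one, ip_dl, D.hone]

theorem stage_C : ∃ Y Y' X X' S : ι → ℤ, ON ![S, X', X, Y', Y, D.one] ∧
    D.m 0 = Y - Y' ∧ D.m 1 = X - X' ∧ D.m 2 = Y - X - S := by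
  obtain ⟨ho1, -, -, -, hmo⟩ := D.one_facts
  have G := D.hgram
  have hb : ∀ v : ι → ℤ, ip v v = 2 → ∀ c : ℤ, (c = 1 ∨ c = -1) → ip (D.m 2) v = c →
      ∃ A B : ι → ℤ, v = A - B ∧ ip A A = 1 ∧ ip B B = 1 ∧ ip A B = 0 ∧
        ip (D.m 2) A = c ∧ ip (D.m 2) B = 0 := by
    intro v hv c hc hvc
    obtain ⟨a, b, rfl, ha, hb, hab⟩ := exists_two hv
    obtain ⟨r, hr, -, hn⟩ := ((ON.single hb).cons ha (fun i => by fin_cases i; simpa using hab)).split
      (D.m 2)
    have hg : ip (D.m 2) (D.m 2) = 3 := G 2 2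
    simp [Fin.sum_univ_succ, hg] at hn
    have := ip_self_nonneg r
    rw [ip_add_right] at hvc
    set p := ip (D.m 2) a with hp
    set q := ip (D.m 2) b with hq
    have hq2 : q * q ≤ 3 := by nlinarith
    have hq1 : -1 ≤ q ∧ q ≤ 1 := ⟨by nlinarith, by nlinarith⟩
    have hp2 : -1 ≤ p ∧ p ≤ 1 := ⟨by nlinarith, by nlinarith⟩
    have : (p = c ∧ q = 0) ∨ (p = 0 ∧ q = c) := by omega
    rcases this with ⟨h1, h2⟩ | ⟨h1, h2⟩
    · exact ⟨a, -b, by simp, ha, by simpa using hb, by simpa using hab, h1,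
        by simp [← hq, h2]⟩
    · exact ⟨b, -a, by simp [add_comm], hb, by simpa using ha, by simpa [ip_comm b a] using hab, h2,
        by simp [← hp, h1]⟩
  obtain ⟨Y, Y', hy, hY, hY', hYY', cY, cY'⟩ := hb (D.m 0) (G 0 0) 1 (Or.inl rfl) (G 2 0)
  obtain ⟨X, X', hx, hX, hX', hXX', cX, cX'⟩ := hb (D.m 1) (G 1 1) (-1) (Or.inr rfl) (G 2 1)
  have hxy : ip (Y - Y') (X - X') = 0 := by rw [← hy, ← hx]; exact G 0 1
  simp only [ip_sub_left, ip_sub_right] at hxy
  have dy : ip Y D.d = ip Y' D.d := by have := D.hdeg 0; rw [hy, ip_sub_left] at this; omega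
  have dx : ip X D.d = ip X' D.d := by have := D.hdeg 1; rw [hx, ip_sub_left] at this; omega
  have nX : ip X D.d ≠ 0 := unit_deg hX D.dpos
  have e1 : ip Y X' = 0 := by
    rcases unit_ip_cases hY hX' with h | ⟨h, rfl⟩ | ⟨h, rfl⟩
    · exact h
    · omega
    · simp at cY; omega
  have e2 : ip Y' X = 0 := by
    rcases unit_ip_cases hY' hX with h | ⟨h, rfl⟩ | ⟨h, rfl⟩
    · exact h
    · omega
    · simp at cY'; omega
  have e3 : ip Y X = 0 ∧ ip Y' X' = 0 := by
    rcases unit_ip_cases hY hX with h | ⟨h, rfl⟩ | ⟨h, rfl⟩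
    · exact ⟨h, by omega⟩
    · omega
    · exfalso
      rcases unit_ip_cases hY' hX' with k | ⟨k, rfl⟩ | ⟨k, rfl⟩
      · omega
      · simp at dy; omega
      · omega
  have hYo : ∀ {U V : ι → ℤ}, ip U U = 1 → ip V V = 1 → ip U V = 0 →
      ∀ j, D.m j = U - V → vecOne j = 0 → ip U D.one = 0 ∧ ip V D.one = 0 := by
    intro U V hU hV hUV j hj hj0
    have h := hmo j
    rw [hj, hj0, ip_sub_left] at h
    rcases unit_ip_cases hU ho1 with k | ⟨k, rfl⟩ | ⟨k, rfl⟩
    · exact ⟨k, by omega⟩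
    · rw [ip_comm D.one V] at hUV; omega
    · simp at hUV; rw [ip_comm D.one V] at hUV; omega
  obtain ⟨oY, oY'⟩ := hYo hY hY' hYY' 0 hy rfl
  obtain ⟨oX, oX'⟩ := hYo hX hX' hXX' 1 hx rfl
  have h1 : ON ![Y, D.one] := (ON.single ho1).cons hY fun i => by fin_cases i; simpa using oY
  have h2 : ON ![Y', Y, D.one] := h1.cons hY' fun i => by
    fin_cases i <;> simp [ip_comm Y' Y, hYY', oY']
  have h3 : ON ![X, Y', Y, D.one] := h2.cons hX fun i => by
    fin_cases i <;> simp [ip_comm X Y, ip_comm X Y', e2, e3.1, oX]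
  have h4 : ON ![X', X, Y', Y, D.one] := h3.cons hX' fun i => by
    fin_cases i <;> simp [ip_comm X' X, ip_comm X' Y, ip_comm X' Y', hXX', e1, e3.2, oX']
  obtain ⟨r, hr, hre, hn⟩ := h4.split (D.m 2)
  simp [Fin.sum_univ_succ, hmo, vecOne, cY, cY', cX, cX', G, gram] at hr hn
  have hS : ip (-r) (-r) = 1 := by simp; omega
  refine ⟨Y, Y', X, X', -r, h4.cons hS fun i => by simp [hre i], hy, hx, ?_⟩
  rw [hr]; abel

theorem alt_p {g : ℂ} (hg : g ≠ 0) {p q x s y : ℤ} (hp : p ≠ 0) (hq : q ≠ 0) (hx : x ≠ 0)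
    (hs : s ≠ 0) (hy : y ≠ 0) (e1 : x = p + q) (e2 : y = x + s) (e3 : y + s + p = 1)
    {v wX wS wY wP wQ wO zY' zY zX zS zP zQ zO : ℂ} (hvX : wX = (x : ℂ) * v)
    (hvS : wS = (s : ℂ) * v) (hw2 : wY = wX + wS) (hwR : wX - wP - wQ = 0)
    (hwA : -wO + wY + wS + wP = 0)
    (R66 : wX * wX / (x : ℂ) - wP * wP / p - wQ * wQ / q = -3 * g)
    (A66 : -(wO * wO) + wY * wY / (y : ℂ) + wS * wS / s + wP * wP / p = -3 * g)
    (hz0 : zY = zY') (hz2 : zY - zX - zS = 0) (hz3 : zX - zP - zQ = 0)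
    (hz4 : -zO + zY' + zS + zP = 0)
    (R22 : zX * zX / (x : ℂ) - zP * zP / p - zQ * zQ / q = 0)
    (C22 : zY * zY / (y : ℂ) - zX * zX / x - zS * zS / s = -3 * g)
    (A22 : -(zO * zO) + zY' * zY' / (y : ℂ) + zS * zS / s + zP * zP / p = 0) : False := by
  have cx : (x : ℂ) ≠ 0 := by exact_mod_cast hx
  have cp : (p : ℂ) ≠ 0 := by exact_mod_cast hp
  have cq : (q : ℂ) ≠ 0 := by exact_mod_cast hq
  have cs : (s : ℂ) ≠ 0 := by exact_mod_cast hs
  have cy : (y : ℂ) ≠ 0 := by exact_mod_cast hy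
  have f1 : (x : ℂ) = p + q := by exact_mod_cast e1
  have f2 : (y : ℂ) = x + s := by exact_mod_cast e2
  have f3 : (y : ℂ) + s + p = 1 := by exact_mod_cast e3
  subst hvX hvS hw2 hz0
  obtain ⟨η, rfl⟩ : ∃ η : ℂ, wP = p * (η + v) := ⟨wP / p - v, by field_simp; ring⟩
  obtain rfl : wQ = q * v - p * η := by linear_combination -hwR + v * f1
  obtain rfl : wO = v + p * η := by linear_combination -hwA - v * f2 + v * f3
  have r : (p : ℂ) * η ^ 2 * x = 3 * g * q := by
    rw [f1] at R66 cx ⊢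
    field_simp at R66
    linear_combination -R66
  have a : (p : ℂ) * η ^ 2 * (1 - p) = -3 * g := by
    rw [show (x : ℂ) * v + s * v = y * v by rw [f2]; ring] at A66
    field_simp at A66
    linear_combination A66 - v ^ 2 * f3
  have k : ((p : ℂ) - 1) * q = x := by
    refine mul_left_cancel₀ (mul_ne_zero (by norm_num : (3 : ℂ) ≠ 0) hg) ?_
    linear_combination -(x : ℂ) * a + (1 - (p : ℂ)) * r
  have k' : (p - 1) * q = x := by exact_mod_cast k
  have hk : (q - 1) * (p - 2) = 2 := by linear_combination k' + e1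
  have hdvd : q - 1 ∣ 2 := ⟨p - 2, hk.symm⟩
  have hu := Int.le_of_dvd (by norm_num) hdvd
  have hl := Int.le_of_dvd (by norm_num) ((Int.neg_dvd).mpr hdvd)
  have hl' : -1 ≤ q := by omega
  have hu' : q ≤ 3 := by omega
  clear hu hl hdvd
  have hq3 : q = 3 := by interval_cases q <;> omega
  subst hq3
  obtain rfl : p = 3 := by omega
  obtain rfl : x = 6 := by omega
  obtain rfl : s = -4 := by omega
  obtain rfl : y = 2 := by omega
  norm_num at R22 C22 A22
  obtain rfl : zX = zP + zQ := by linear_combination hz3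
  obtain rfl : zY = zP + zQ + zS := by linear_combination hz2
  obtain rfl : zO = zP + zQ + zS + zS + zP := by linear_combination -hz4
  obtain rfl : zQ = zP := by
    have h : (zQ - zP) ^ 2 = 0 := by linear_combination -6 * R22
    exact sub_eq_zero.mp (pow_eq_zero_iff two_ne_zero |>.mp h)
  have h : (60 : ℂ) * g = 0 := by linear_combination A22 * 4 + 20 * C22
  exact hg (by simpa using h)

theorem alt_q {g : ℂ} (hg : g ≠ 0) {p q x s y : ℤ} (hp : p ≠ 0) (hq : q ≠ 0) (hx : x ≠ 0)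
    (hs : s ≠ 0) (hy : y ≠ 0) (e1 : x = p + q) (e2 : y = x + s) (e3 : y + s - q = 1)
    {v wX wS wY wP wQ wO zY' zY zX zS zP zQ zO : ℂ} (hvX : wX = (x : ℂ) * v)
    (hvS : wS = (s : ℂ) * v) (hw2 : wY = wX + wS) (hwR : wX - wP - wQ = 0)
    (hwA : -wO + wY + wS - wQ = 0)
    (R66 : wX * wX / (x : ℂ) - wP * wP / p - wQ * wQ / q = -3 * g)
    (A66 : -(wO * wO) + wY * wY / (y : ℂ) + wS * wS / s - wQ * wQ / q = -(9 / 2) * g)
    (hz0 : zY = zY') (hz2 : zY - zX - zS = 0) (hz3 : zX - zP - zQ = 0)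
    (hz4 : -zO + zY' + zS - zQ = 0)
    (R22 : zX * zX / (x : ℂ) - zP * zP / p - zQ * zQ / q = 0)
    (C22 : zY * zY / (y : ℂ) - zX * zX / x - zS * zS / s = -3 * g)
    (A22 : -(zO * zO) + zY' * zY' / (y : ℂ) + zS * zS / s - zQ * zQ / q = -(3 / 2) * g) :
    False := by
  have cx : (x : ℂ) ≠ 0 := by exact_mod_cast hx
  have cp : (p : ℂ) ≠ 0 := by exact_mod_cast hp
  have cq : (q : ℂ) ≠ 0 := by exact_mod_cast hq
  have cs : (s : ℂ) ≠ 0 := by exact_mod_cast hs
  have cy : (y : ℂ) ≠ 0 := by exact_mod_cast hy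
  have f1 : (x : ℂ) = p + q := by exact_mod_cast e1
  have f2 : (y : ℂ) = x + s := by exact_mod_cast e2
  have f3 : (y : ℂ) + s - q = 1 := by exact_mod_cast e3
  subst hvX hvS hw2 hz0
  obtain ⟨η, rfl⟩ : ∃ η : ℂ, wP = p * (η + v) := ⟨wP / p - v, by field_simp; ring⟩
  obtain rfl : wQ = q * v - p * η := by linear_combination -hwR + v * f1
  obtain rfl : wO = v + p * η := by linear_combination -hwA - v * f2 + v * f3
  have r : (p : ℂ) * η ^ 2 * x = 3 * g * q := by
    rw [f1] at R66 cx ⊢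
    field_simp at R66
    linear_combination -R66
  have a : (p : ℂ) ^ 2 * η ^ 2 * (q + 1) = 9 / 2 * g * q := by
    rw [show (x : ℂ) * v + s * v = y * v by rw [f2]; ring] at A66
    field_simp at A66
    linear_combination -A66 / 2 + q * v ^ 2 * f3
  have k : 2 * (p : ℂ) * (q + 1) = 3 * x := by
    refine mul_left_cancel₀ (mul_ne_zero hg cq) ?_
    linear_combination 2 / 3 * (x : ℂ) * a - 2 / 3 * (p : ℂ) * (q + 1) * r
  have k' : 2 * p * (q + 1) = 3 * x := by exact_mod_cast k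
  have hk : (2 * q - 1) * (2 * p - 3) = 3 := by linear_combination 2 * k' + 6 * e1
  have hdvd : 2 * p - 3 ∣ 3 := ⟨2 * q - 1, by linear_combination -hk⟩
  have hu := Int.le_of_dvd (by norm_num) hdvd
  have hl := Int.le_of_dvd (by norm_num) ((Int.neg_dvd).mpr hdvd)
  have hl' : 0 ≤ p := by omega
  have hu' : p ≤ 3 := by omega
  clear hu hl hdvd
  have hp3 : p = 3 := by interval_cases p <;> omega
  subst hp3
  obtain rfl : q = 1 := by omega
  obtain rfl : x = 4 := by omega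
  obtain rfl : s = -1 := by omega
  obtain rfl : y = 3 := by omega
  norm_num at R22 C22 A22
  obtain rfl : zX = zP + zQ := by linear_combination hz3
  obtain rfl : zY = zP + zQ + zS := by linear_combination hz2
  obtain rfl : zO = zP + zQ + zS + zS - zQ := by linear_combination -hz4
  obtain rfl : zP = 3 * zQ := by
    have h : (zP - 3 * zQ) ^ 2 = 0 := by linear_combination -12 * R22
    exact sub_eq_zero.mp (pow_eq_zero_iff two_ne_zero |>.mp h)
  have h : (12 : ℂ) * g = 0 := by linear_combination A22 + 7 / 2 * C22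
  exact hg (by simpa using h)

theorem alt_x {g : ℂ} (hg : g ≠ 0) {x s y : ℤ} (hx : x ≠ 0) (hy : y ≠ 0) (e2 : y = x + s)
    (e3 : y + 2 * x = 1) {v wX wS wY wO : ℂ} (hvX : wX = (x : ℂ) * v)
    (hvS : wS = (s : ℂ) * v) (hw2 : wY = wX + wS) (hwA : -wO + wY + 2 * wX = 0)
    (A66 : -(wO * wO) + wY * wY / (y : ℂ) + 2 * (wX * wX / x) = -(9 / 2) * g) : False := by
  have cx : (x : ℂ) ≠ 0 := by exact_mod_cast hx
  have cy : (y : ℂ) ≠ 0 := by exact_mod_cast hy
  have f2 : (y : ℂ) = x + s := by exact_mod_cast e2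
  have f3 : (y : ℂ) + 2 * x = 1 := by exact_mod_cast e3
  subst hvX hvS hw2
  obtain rfl : wO = v := by linear_combination -hwA - v * f2 + v * f3
  rw [show (x : ℂ) * wO + s * wO = y * wO by rw [f2]; ring] at A66
  field_simp at A66
  exact hg (by linear_combination A66 / 9 - 2 / 9 * wO ^ 2 * f3)

theorem alt_u {g : ℂ} (hg : g ≠ 0) {p q x s y u : ℤ} (hp : p ≠ 0) (hq : q ≠ 0) (hx : x ≠ 0)
    (hy : y ≠ 0) (hu0 : u ≠ 0) (e1 : x = p + q) (e2 : y = x + s) (e3 : p + u = 1 + y)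
    (e4 : -q - u = 1 + y)
    {v wX wS wY wP wQ wU wO : ℂ} (hvX : wX = (x : ℂ) * v)
    (hvS : wS = (s : ℂ) * v) (hw2 : wY = wX + wS) (hwR : wX - wP - wQ = 0)
    (hwA : -wO - wY + wP + wU = 0) (hwA' : -wO - wY - wQ - wU = 0)
    (R66 : wX * wX / (x : ℂ) - wP * wP / p - wQ * wQ / q = -3 * g)
    (A66 : -(wO * wO) - wY * wY / (y : ℂ) + wP * wP / p + wU * wU / u = -3 * g)
    (A66' : -(wO * wO) - wY * wY / (y : ℂ) - wQ * wQ / q - wU * wU / u = -(9 / 2) * g) :
    False := by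
  have cx : (x : ℂ) ≠ 0 := by exact_mod_cast hx
  have cp : (p : ℂ) ≠ 0 := by exact_mod_cast hp
  have cq : (q : ℂ) ≠ 0 := by exact_mod_cast hq
  have cy : (y : ℂ) ≠ 0 := by exact_mod_cast hy
  have cu : (u : ℂ) ≠ 0 := by exact_mod_cast hu0
  have f1 : (x : ℂ) = p + q := by exact_mod_cast e1
  have f2 : (y : ℂ) = x + s := by exact_mod_cast e2
  have f3 : (p : ℂ) + u = 1 + y := by exact_mod_cast e3
  have f4 : -(q : ℂ) - u = 1 + y := by exact_mod_cast e4
  subst hvX hvS hw2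
  obtain ⟨η, rfl⟩ : ∃ η : ℂ, wP = p * (η + v) := ⟨wP / p - v, by field_simp; ring⟩
  obtain rfl : wQ = q * v - p * η := by linear_combination -hwR + v * f1
  obtain rfl : wU = u * v := by
    linear_combination (hwA - hwA') / 2 - v / 2 * (f3 - f4)
  obtain rfl : wO = v + p * η := by linear_combination -hwA - v * f2 * (-1) + v * f3
  rw [show (x : ℂ) * v + s * v = y * v by rw [f2]; ring] at A66 A66'
  have r : (p : ℂ) * η ^ 2 * x = 3 * g * q := by
    rw [f1] at R66 cx ⊢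
    field_simp at R66
    linear_combination -R66
  have a : (p : ℂ) * η ^ 2 * (1 - p) = -3 * g := by
    field_simp at A66
    linear_combination A66 - v ^ 2 * f3
  have b : (p : ℂ) ^ 2 * η ^ 2 * (q + 1) = 9 / 2 * g * q := by
    field_simp at A66'
    linear_combination -A66' / 2 + q * v ^ 2 * f4
  have k1 : ((p : ℂ) - 1) * q = x := by
    refine mul_left_cancel₀ (mul_ne_zero (by norm_num : (3 : ℂ) ≠ 0) hg) ?_
    linear_combination -(x : ℂ) * a + (1 - (p : ℂ)) * r
  have k2 : 2 * (p : ℂ) * (q + 1) = 3 * x := by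
    refine mul_left_cancel₀ (mul_ne_zero hg cq) ?_
    linear_combination 2 / 3 * (x : ℂ) * b - 2 / 3 * (p : ℂ) * (q + 1) * r
  have k1' : (p - 1) * q = x := by exact_mod_cast k1
  have k2' : 2 * p * (q + 1) = 3 * x := by exact_mod_cast k2
  have hlin : 2 * p = 3 * x - 2 * x - 2 * q := by linear_combination k2' - 2 * k1'
  omega

theorem rcases_A {a b α m t₁ t₂ : ℤ} (c : ℤ) (hc : c = 1 ∨ c = -1) (h1 : a - b = -1)
    (h2 : a - α - m = -1) (h3 : α - t₁ - t₂ = c)
    (hn : a * a + b * b + 2 * (α * α) + m * m + t₁ * t₁ + t₂ * t₂ ≤ 3) :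
    (a = -1 ∧ α = 0 ∧ m = 0 ∧ ((t₁ = -c ∧ t₂ = 0) ∨ (t₁ = 0 ∧ t₂ = -c))) ∨
    (a = 0 ∧ α = 0 ∧ m = 1 ∧ ((t₁ = -c ∧ t₂ = 0) ∨ (t₁ = 0 ∧ t₂ = -c))) ∨
    (c = 1 ∧ a = 0 ∧ α = 1 ∧ m = 0 ∧ t₁ = 0 ∧ t₂ = 0) := by
  obtain rfl : b = a + 1 := by omega
  obtain rfl : m = a - α + 1 := by omega
  obtain rfl : t₂ = α - c - t₁ := by omega
  have hα1 : -1 ≤ α := by nlinarith
  have hα2 : α ≤ 1 := by nlinarith
  have ha1 : -1 ≤ a := by nlinarith
  have ha2 : a ≤ 0 := by nlinarith
  have ht1 : -1 ≤ t₁ := by nlinarith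
  have ht2 : t₁ ≤ 1 := by nlinarith
  rcases hc with rfl | rfl <;> interval_cases a <;> interval_cases α <;> interval_cases t₁ <;>
    first | omega | norm_num at hn | norm_num

/-- degrees and both kinds of sums on three rows in proportion -/
theorem stage_A : ∃ Y Y' X X' S P Q U : ι → ℤ, ON ![U, Q, P, S, X', X, Y', Y, D.one] ∧
    D.m 0 = Y - Y' ∧ D.m 1 = X - X' ∧ D.m 2 = Y - X - S ∧ D.m 3 = X - P - Q ∧
    D.m 4 = -D.one - Y + P + U := by
  obtain ⟨Y, Y', X, X', S, hON, hy, hx, hC⟩ := stage_C D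
  obtain ⟨ho1, hod, -, -, hmo⟩ := D.one_facts
  have G := D.hgram
  have u1 : ∀ i, ip (![S, X', X, Y', Y, D.one] i) (![S, X', X, Y', Y, D.one] i) = 1 := fun i => by
    simpa using hON i i
  have qY := fun Z' W' => unit_qf (by simpa using u1 4) D.dpos Z' W'
  have qY' := fun Z' W' => unit_qf (by simpa using u1 3) D.dpos Z' W'
  have qX := fun Z' W' => unit_qf (by simpa using u1 2) D.dpos Z' W'
  have qX' := fun Z' W' => unit_qf (by simpa using u1 1) D.dpos Z' W'
  have qS := fun Z' W' => unit_qf (by simpa using u1 0) D.dpos Z' W'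
  have qo := fun Z' W' => unit_qf ho1 D.dpos Z' W'
  have ny := unit_deg (by simpa using u1 4) D.dpos
  have nx := unit_deg (by simpa using u1 2) D.dpos
  have ns := unit_deg (by simpa using u1 0) D.dpos
  have d0 : ip Y D.d = ip Y' D.d := by have := D.hdeg 0; rw [hy, ip_sub_left] at this; omega
  have d1 : ip X D.d = ip X' D.d := by have := D.hdeg 1; rw [hx, ip_sub_left] at this; omega
  have d2 : ip Y D.d = ip X D.d + ip S D.d := by
    have := D.hdeg 2; simp only [hC, ip_sub_left] at this; omega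
  have w0 : ev D.W Y = ev D.W Y' := by have := D.hW 0; rwa [hy, ev_sub, sub_eq_zero] at this
  have w1 : ev D.W X = ev D.W X' := by have := D.hW 1; rwa [hx, ev_sub, sub_eq_zero] at this
  have w2 : ev D.W Y = ev D.W X + ev D.W S := by
    have := D.hW 2; simp only [hC, ev_sub] at this; linear_combination this
  -- proportional class six values
  obtain ⟨v, hvX, hvS⟩ : ∃ v : ℂ, ev D.W X = (ip X D.d : ℂ) * v ∧ ev D.W S = (ip S D.d : ℂ) * v := by
    have h := D.h66 2
    simp [hC, qY, qX, qS, pr66] at h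
    have c1 : (ip X D.d : ℂ) ≠ 0 := by exact_mod_cast nx
    have c2 : (ip S D.d : ℂ) ≠ 0 := by exact_mod_cast ns
    have c3 : (ip X D.d + ip S D.d : ℂ) ≠ 0 := by exact_mod_cast d2 ▸ ny
    rw [w2, show (ip Y D.d : ℂ) = ip X D.d + ip S D.d by exact_mod_cast d2] at h
    refine ⟨ev D.W X / (ip X D.d : ℂ), by field_simp, ?_⟩
    field_simp at h ⊢
    have h' : ((ip X D.d : ℂ) * ev D.W S - ev D.W X * (ip S D.d : ℂ)) ^ 2 = 0 := by
      linear_combination -h
    linear_combination pow_eq_zero_iff two_ne_zero |>.mp h'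
  obtain ⟨r, hr, hre, hn⟩ := hON.split (D.m 3)
  have hRy : ip (D.m 3) Y - ip (D.m 3) Y' = 0 := by rw [← ip_sub_right, ← hy, G]; rfl
  have hRx : ip (D.m 3) X - ip (D.m 3) X' = 1 := by rw [← ip_sub_right, ← hx, G]; rfl
  have hRC : ip (D.m 3) Y - ip (D.m 3) X - ip (D.m 3) S = -1 := by
    rw [← ip_sub_right, ← ip_sub_right, ← hC, G]; rfl
  simp [Fin.sum_univ_succ, hmo, vecOne, G, gram] at hr hn
  set a := ip (D.m 3) Y
  set b := ip (D.m 3) Y'
  set α := ip (D.m 3) X
  set β := ip (D.m 3) X'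
  set k := ip (D.m 3) S
  have rfl' : b = a := by omega
  have hr0 := ip_self_nonneg r
  have hcases : (α = 1 ∧ a = 0 ∧ k = 0) ∨ (α = 0 ∧ ip r r ≤ 1) := by
    have hα1 : -1 ≤ α := by nlinarith
    have hα2 : α ≤ 1 := by nlinarith
    have hα : α = 0 ∨ α = 1 := by
      have : β = α - 1 := by omega
      rw [this] at hn
      rcases (show α = -1 ∨ α = 0 ∨ α = 1 by omega) with h | h | h
      · rw [h] at hn; nlinarith
      · exact Or.inl h
      · exact Or.inr h
    have hk : k = a - α + 1 := by omega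
    have hβ : β = α - 1 := by omega
    rw [hk, hβ, rfl'] at hn
    rcases hα with h | h <;> rw [h] at hn
    · refine Or.inr ⟨h, ?_⟩
      have : -1 ≤ a := by nlinarith
      have : a ≤ 1 := by nlinarith
      interval_cases a <;> omega
    · have ha : a = 0 := by nlinarith
      exact Or.inl ⟨h, ha, by omega⟩
  rcases hcases with ⟨hα, ha, hk⟩ | ⟨hα, hr1⟩
  swap
  · exfalso
    have hrq : ev (qf D.d D.W D.W) r = v * ev D.W r ∧ ev D.W r = v * (ip r D.d : ℂ) := by
      have hd := D.hdeg 3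
      have hw := D.hW 3
      rw [hr] at hd hw
      simp at hd hw
      have hp : ev D.W r = v * (ip r D.d : ℂ) := by
        have hd' : ((_ : ℤ) : ℂ) = ((0 : ℤ) : ℂ) := congrArg Int.cast hd
        push_cast at hd'
        rw [← d0, ← d1, show (ip Y D.d : ℂ) = ip X D.d + ip S D.d by exact_mod_cast d2] at hd'
        rw [← w0, ← w1, w2, hvX, hvS] at hw
        linear_combination hw - v * hd'
      refine ⟨?_, hp⟩
      rcases (show ip r r = 0 ∨ ip r r = 1 by omega) with h | h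
      · simp [eq_zero_of_ip_self h]
      · have : (ip r D.d : ℂ) ≠ 0 := by exact_mod_cast unit_deg h D.dpos
        rw [unit_qf h D.dpos, hp]; field_simp
    have hw := D.hW 3
    have h := D.h66 3
    rw [hr] at h hw
    simp [qY, qY', qX, qX', qS, qo, pr66, hrq.1] at h hw
    have c1 : (ip X D.d : ℂ) ≠ 0 := by exact_mod_cast nx
    have c2 : (ip S D.d : ℂ) ≠ 0 := by exact_mod_cast ns
    have c3 : (ip X D.d + ip S D.d : ℂ) ≠ 0 := by exact_mod_cast d2 ▸ ny
    rw [← w0, ← w1, w2, hvX, hvS] at hw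
    rw [← w0, ← w1, w2, hvX, hvS, ← d0, ← d1,
      show (ip Y D.d : ℂ) = ip X D.d + ip S D.d by exact_mod_cast d2] at h
    field_simp at h
    have : (3 : ℂ) * D.g = 0 := by linear_combination h / 2 - v * hw
    exact D.g0 (by simpa using this)
  have hb0 : b = 0 := by omega
  have hβ0 : β = 0 := by omega
  simp [hα, ha, hb0, hβ0, hk] at hr hn
  obtain ⟨p, q, rfl, hp, hq, hpq⟩ := exists_two (v := r) (by omega)
  have hpe : ∀ i, ip p (![S, X', X, Y', Y, D.one] i) = 0 ∧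
      ip q (![S, X', X, Y', Y, D.one] i) = 0 := fun i => by
    have h := hre i
    rw [ip_add_left] at h
    rcases unit_ip_cases hp (u1 i) with e | ⟨e, rfl⟩ | ⟨e, rfl⟩
    · exact ⟨e, by omega⟩
    · rw [ip_comm q] at h; omega
    · simp at hpq; rw [ip_comm _ q] at hpq; omega
  -- both orientations
  have key : ∀ P Q : ι → ℤ, ip P P = 1 → ip Q Q = 1 → ip Q P = 0 →
      (∀ i, ip P (![S, X', X, Y', Y, D.one] i) = 0) →
      (∀ i, ip Q (![S, X', X, Y', Y, D.one] i) = 0) → D.m 3 = X - P - Q →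
      ip (D.m 4) P = 1 → ip (D.m 4) Q = 0 →
      ∃ U, ON ![U, Q, P, S, X', X, Y', Y, D.one] ∧ D.m 4 = -D.one - Y + P + U := by
    intro P Q hP hQ hQP hPe hQe hR hAP hAQ
    have h7 : ON ![P, S, X', X, Y', Y, D.one] := hON.cons hP hPe
    have h8 : ON ![Q, P, S, X', X, Y', Y, D.one] := h7.cons hQ (Fin.cases (by simpa using hQP)
      fun i => by simpa using hQe i)
    obtain ⟨u, hu, hue, hun⟩ := h8.split (D.m 4)
    have hAy : ip (D.m 4) Y - ip (D.m 4) Y' = -1 := by rw [← ip_sub_right, ← hy, G]; rfl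
    have hAx : ip (D.m 4) X - ip (D.m 4) X' = 0 := by rw [← ip_sub_right, ← hx, G]; rfl
    have hAC : ip (D.m 4) Y - ip (D.m 4) X - ip (D.m 4) S = -1 := by
      rw [← ip_sub_right, ← ip_sub_right, ← hC, G]; rfl
    have hAR : ip (D.m 4) X - ip (D.m 4) P - ip (D.m 4) Q = -1 := by
      rw [← ip_sub_right, ← ip_sub_right, ← hR, G]; rfl
    simp [Fin.sum_univ_succ, hmo, vecOne, G, gram, hAP, hAQ] at hu hun
    have hu0 := ip_self_nonneg u
    have hβ : ip (D.m 4) X' = ip (D.m 4) X := by omega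
    rw [hβ] at hu hun
    rcases rcases_A (-1) (Or.inr rfl) hAy hAC hAR (by rw [hAP, hAQ]; nlinarith) with
      ⟨ea, eα, em, -⟩ | ⟨ea, eα, em, -⟩ | ⟨ec, -⟩
    · have eb : ip (D.m 4) Y' = 0 := by omega
      simp [ea, eα, em, eb] at hu hun
      refine ⟨u, h8.cons (by omega) hue, ?_⟩
      rw [hu]; abel
    · exfalso
      have eb : ip (D.m 4) Y' = 1 := by omega
      simp [ea, eα, em, eb] at hu hun
      have hu1 : u = 0 := eq_zero_of_ip_self (by omega)
      subst hu1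
      have qP := fun Z' W' => unit_qf hP D.dpos Z' W'
      have qQ := fun Z' W' => unit_qf hQ D.dpos Z' W'
      have dA := D.hdeg 4
      have dR := D.hdeg 3
      rw [hu] at dA
      rw [hR] at dR
      simp [hod, ← d0] at dA dR
      have wR := D.hW 3
      rw [hR] at wR
      simp at wR
      have wA := D.hW 4
      rw [hu] at wA
      simp [← w0] at wA
      have h66R := D.h66 3
      rw [hR] at h66R
      simp [qX, qP, qQ, pr66] at h66R
      have h66A := D.h66 4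
      rw [hu] at h66A
      simp [qY', qS, qP, qo, pr66, ← w0, ← d0, hod] at h66A
      have h22C := D.h22 2
      rw [hC] at h22C
      simp [qX, qY, qS, pr22] at h22C
      have h22A := D.h22 4
      rw [hu] at h22A
      simp [qY', qS, qP, qo, pr22, ← d0, hod] at h22A
      have h22R := D.h22 3
      rw [hR] at h22R
      simp [qX, qP, qQ, pr22] at h22R
      have z0 := D.hZ 0
      rw [hy] at z0
      simp at z0
      have z2 := D.hZ 2
      rw [hC] at z2
      simp at z2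
      have z3 := D.hZ 3
      rw [hR] at z3
      simp at z3
      have z4 := D.hZ 4
      rw [hu] at z4
      simp at z4
      exact alt_p (wP := ev D.W P) (wQ := ev D.W Q) (wO := ev D.W D.one) (zY' := ev D.Z Y')
        (zY := ev D.Z Y) (zX := ev D.Z X) (zS := ev D.Z S) (zP := ev D.Z P) (zQ := ev D.Z Q)
        (zO := ev D.Z D.one) D.g0 (unit_deg hP D.dpos) (unit_deg hQ D.dpos) nx (unit_deg (by simpa using u1 0)
        D.dpos) ny (by omega) d2 (by omega) hvX hvS w2 (by linear_combination wR)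
        (by linear_combination wA) (by linear_combination h66R) (by linear_combination h66A)
        (sub_eq_zero.mp z0) (by linear_combination z2) (by linear_combination z3)
        (by linear_combination z4) (by linear_combination h22R) (by linear_combination h22C)
        (by linear_combination h22A)
    · omega
  have h3 : D.m 3 = X - (-p) - (-q) := by rw [hr]; abel
  have hAR : ip (D.m 4) X + ip (D.m 4) p + ip (D.m 4) q = -1 := by
    have h : ip (D.m 4) (X - (-p) - (-q)) = -1 := by rw [← h3, G]; rfl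
    simp at h; linarith
  obtain ⟨u, hu, hue, hun⟩ := (hON.cons hp fun i => (hpe i).1).cons hq
    (Fin.cases (by simpa [ip_comm q p] using hpq) fun i => by simpa using (hpe i).2) |>.split (D.m 4)
  simp [Fin.sum_univ_succ, hmo, vecOne, G, gram] at hun
  have hu0 := ip_self_nonneg u
  have hAy : ip (D.m 4) Y - ip (D.m 4) Y' = -1 := by rw [← ip_sub_right, ← hy, G]; rfl
  have hAx : ip (D.m 4) X - ip (D.m 4) X' = 0 := by rw [← ip_sub_right, ← hx, G]; rfl
  have hAC : ip (D.m 4) Y - ip (D.m 4) X - ip (D.m 4) S = -1 := by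
    rw [← ip_sub_right, ← ip_sub_right, ← hC, G]; rfl
  have hβ : ip (D.m 4) X' = ip (D.m 4) X := by omega
  rw [hβ] at hun
  have hor : (ip (D.m 4) (-p) = 1 ∧ ip (D.m 4) (-q) = 0) ∨
      (ip (D.m 4) (-q) = 1 ∧ ip (D.m 4) (-p) = 0) := by
    rcases rcases_A (t₁ := -ip (D.m 4) p) (t₂ := -ip (D.m 4) q) (-1) (Or.inr rfl) hAy hAC
      (by linarith) (by nlinarith) with ⟨-, -, -, h⟩ | ⟨-, -, -, h⟩ | ⟨h, -⟩
    · simp; omega
    · simp; omega
    · omega
  rcases hor with ⟨e1, e2⟩ | ⟨e1, e2⟩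
  · obtain ⟨U, hU, hA⟩ := key (-p) (-q) (by simpa) (by simpa) (by simpa [ip_comm q p] using hpq)
      (fun i => by simp [(hpe i).1]) (fun i => by simp [(hpe i).2]) h3 e1 e2
    exact ⟨Y, Y', X, X', S, -p, -q, U, hU, hy, hx, hC, h3, hA⟩
  · obtain ⟨U, hU, hA⟩ := key (-q) (-p) (by simpa) (by simpa) (by simpa using hpq)
      (fun i => by simp [(hpe i).2]) (fun i => by simp [(hpe i).1]) (by rw [h3]; abel) e1 e2
    exact ⟨Y, Y', X, X', S, -q, -p, U, hU, hy, hx, hC, by rw [h3]; abel, hA⟩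

theorem stage_V : ∃ Y Y' X X' S P Q U V : ι → ℤ,
    ON ![V, U, Q, P, S, X', X, Y', Y, D.one] ∧
    D.m 0 = Y - Y' ∧ D.m 1 = X - X' ∧ D.m 2 = Y - X - S ∧ D.m 3 = X - P - Q ∧
    D.m 4 = -D.one - Y + P + U ∧ D.m 5 = -D.one - Y - P + V := by
  obtain ⟨Y, Y', X, X', S, P, Q, U, hON, hy, hx, hC, hR, hA⟩ := stage_A D
  obtain ⟨ho1, hod, -, -, hmo⟩ := D.one_facts
  have G := D.hgram
  have u1 : ∀ i, ip (![U, Q, P, S, X', X, Y', Y, D.one] i)
      (![U, Q, P, S, X', X, Y', Y, D.one] i) = 1 := fun i => by simpa using hON i i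
  have hU : ip U U = 1 := u1 0
  have hQ : ip Q Q = 1 := u1 1
  have hP : ip P P = 1 := u1 2
  have hS : ip S S = 1 := u1 3
  have hX' : ip X' X' = 1 := u1 4
  have hX : ip X X = 1 := u1 5
  have hY' : ip Y' Y' = 1 := u1 6
  have hY : ip Y Y = 1 := u1 7
  obtain ⟨r, hr, hre, hn⟩ := hON.split (D.m 5)
  have hy' : ip (D.m 5) Y - ip (D.m 5) Y' = -1 := by rw [← ip_sub_right, ← hy, G]; rfl
  have hx' : ip (D.m 5) X - ip (D.m 5) X' = 0 := by rw [← ip_sub_right, ← hx, G]; rfl
  have hC' : ip (D.m 5) Y - ip (D.m 5) X - ip (D.m 5) S = -1 := by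
    rw [← ip_sub_right, ← ip_sub_right, ← hC, G]; rfl
  have hR' : ip (D.m 5) X - ip (D.m 5) P - ip (D.m 5) Q = 1 := by
    rw [← ip_sub_right, ← ip_sub_right, ← hR, G]; rfl
  have hA' : 1 - ip (D.m 5) Y + ip (D.m 5) P + ip (D.m 5) U = 1 := by
    have h : ip (D.m 5) (-D.one - Y + P + U) = 1 := by rw [← hA, G]; rfl
    simpa [hmo, vecOne] using h
  simp [Fin.sum_univ_succ, hmo, vecOne, G, gram] at hr hn
  have hr0 := ip_self_nonneg r
  have hβ : ip (D.m 5) X' = ip (D.m 5) X := by omega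
  rw [hβ] at hr hn
  have q0 := fun Z' W' => unit_qf ho1 D.dpos Z' W'
  have qY := fun Z' W' => unit_qf hY D.dpos Z' W'
  have qY' := fun Z' W' => unit_qf hY' D.dpos Z' W'
  have qX := fun Z' W' => unit_qf hX D.dpos Z' W'
  have qX' := fun Z' W' => unit_qf hX' D.dpos Z' W'
  have qS := fun Z' W' => unit_qf hS D.dpos Z' W'
  have qP := fun Z' W' => unit_qf hP D.dpos Z' W'
  have qQ := fun Z' W' => unit_qf hQ D.dpos Z' W'
  have qU := fun Z' W' => unit_qf hU D.dpos Z' W'
  have d0 : ip Y D.d = ip Y' D.d := by have := D.hdeg 0; rw [hy, ip_sub_left] at this; omega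
  have d1 : ip X D.d = ip X' D.d := by have := D.hdeg 1; rw [hx, ip_sub_left] at this; omega
  have d2 : ip Y D.d = ip X D.d + ip S D.d := by
    have := D.hdeg 2; simp only [hC, ip_sub_left] at this; omega
  have d3 : ip X D.d = ip P D.d + ip Q D.d := by
    have := D.hdeg 3; simp only [hR, ip_sub_left] at this; omega
  have w0 : ev D.W Y = ev D.W Y' := by have := D.hW 0; rwa [hy, ev_sub, sub_eq_zero] at this
  have w1 : ev D.W X = ev D.W X' := by have := D.hW 1; rwa [hx, ev_sub, sub_eq_zero] at this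
  have w2 : ev D.W Y = ev D.W X + ev D.W S := by
    have := D.hW 2; simp only [hC, ev_sub] at this; linear_combination this
  have w3 : ev D.W X - ev D.W P - ev D.W Q = 0 := by
    have := D.hW 3; simpa only [hR, ev_sub] using this
  obtain ⟨v, hvX, hvS⟩ : ∃ v : ℂ, ev D.W X = (ip X D.d : ℂ) * v ∧ ev D.W S = (ip S D.d : ℂ) * v := by
    have h := D.h66 2
    simp [hC, qY, qX, qS, pr66] at h
    have c1 : (ip X D.d : ℂ) ≠ 0 := by exact_mod_cast unit_deg hX D.dpos
    have c2 : (ip S D.d : ℂ) ≠ 0 := by exact_mod_cast unit_deg hS D.dpos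
    have c3 : (ip X D.d + ip S D.d : ℂ) ≠ 0 := by exact_mod_cast d2 ▸ unit_deg hY D.dpos
    rw [w2, show (ip Y D.d : ℂ) = ip X D.d + ip S D.d by exact_mod_cast d2] at h
    refine ⟨ev D.W X / (ip X D.d : ℂ), by field_simp, ?_⟩
    field_simp at h ⊢
    have h' : ((ip X D.d : ℂ) * ev D.W S - ev D.W X * (ip S D.d : ℂ)) ^ 2 = 0 := by
      linear_combination -h
    linear_combination pow_eq_zero_iff two_ne_zero |>.mp h'
  have h66R := D.h66 3
  rw [hR] at h66R
  simp [qX, qP, qQ, pr66] at h66R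
  have hcases := rcases_A (t₁ := ip (D.m 5) P) (t₂ := ip (D.m 5) Q) 1 (Or.inl rfl) hy' hC'
    (by linarith) (by nlinarith [mul_self_nonneg (ip (D.m 5) U)])
  rcases hcases with ⟨ea, eα, em, ht⟩ | ⟨ea, eα, em, ht⟩ | ⟨-, ea, eα, em, etp, etq⟩
  · have eb : ip (D.m 5) Y' = 0 := by omega
    rcases ht with ⟨etp, etq⟩ | ⟨etp, etq⟩
    · have eu : ip (D.m 5) U = 0 := by omega
      simp [ea, eα, em, eb, etp, etq, eu] at hr hn
      exact ⟨Y, Y', X, X', S, P, Q, U, r, hON.cons (by omega) hre, hy, hx, hC, hR, hA,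
        by rw [hr]; abel⟩
    · exfalso
      have eu : ip (D.m 5) U = -1 := by omega
      simp [ea, eα, em, eb, etp, etq, eu] at hr hn
      obtain rfl : r = 0 := eq_zero_of_ip_self (by omega)
      have dA := D.hdeg 4
      rw [hA] at dA
      simp [hod] at dA
      have dA' := D.hdeg 5
      rw [hr] at dA'
      simp [hod] at dA'
      have wA := D.hW 4
      rw [hA] at wA
      simp at wA
      have wA' := D.hW 5
      rw [hr] at wA'
      simp at wA'
      have a66 := D.h66 4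
      rw [hA] at a66
      simp [q0, qY, qP, qU, pr66, hod] at a66
      have a66' := D.h66 5
      rw [hr] at a66'
      simp [q0, qY, qQ, qU, pr66, hod] at a66'
      exact alt_u (wP := ev D.W P) (wQ := ev D.W Q) (wU := ev D.W U) (wO := ev D.W D.one)
        (p := ip P D.d) (q := ip Q D.d) (u := ip U D.d) D.g0
        (unit_deg hP D.dpos) (unit_deg hQ D.dpos) (unit_deg hX D.dpos)
        (unit_deg hY D.dpos) (unit_deg hU D.dpos) d3 d2 (by omega) (by omega) hvX hvS w2 w3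
        (by linear_combination wA) (by linear_combination wA') (by linear_combination h66R)
        (by linear_combination a66) (by linear_combination a66')
  · exfalso
    have eb : ip (D.m 5) Y' = 1 := by omega
    rcases ht with ⟨etp, etq⟩ | ⟨etp, etq⟩
    · have eu : ip (D.m 5) U = 1 := by omega
      simp [ea, eα, em, eb, etp, etq, eu] at hn
      omega
    · have eu : ip (D.m 5) U = 0 := by omega
      simp [ea, eα, em, eb, etp, etq, eu] at hr hn
      obtain rfl : r = 0 := eq_zero_of_ip_self (by omega)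
      have dA' := D.hdeg 5
      rw [hr] at dA'
      simp [hod, ← d0] at dA'
      have wA' := D.hW 5
      rw [hr] at wA'
      simp [← w0] at wA'
      have a66' := D.h66 5
      rw [hr] at a66'
      simp [q0, qY', qS, qQ, pr66, hod, ← d0, ← w0] at a66'
      have c22 := D.h22 2
      rw [hC] at c22
      simp [qX, qY, qS, pr22] at c22
      have a22' := D.h22 5
      rw [hr] at a22'
      simp [q0, qY', qS, qQ, pr22, hod, ← d0] at a22'
      have r22 := D.h22 3
      rw [hR] at r22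
      simp [qX, qP, qQ, pr22] at r22
      have z0 := D.hZ 0
      rw [hy] at z0
      simp at z0
      have z2 := D.hZ 2
      rw [hC] at z2
      simp at z2
      have z3 := D.hZ 3
      rw [hR] at z3
      simp at z3
      have z4 := D.hZ 5
      rw [hr] at z4
      simp at z4
      exact alt_q (wP := ev D.W P) (wQ := ev D.W Q) (wO := ev D.W D.one) (zY' := ev D.Z Y')
        (zY := ev D.Z Y) (zX := ev D.Z X) (zS := ev D.Z S) (zP := ev D.Z P) (zQ := ev D.Z Q)
        (zO := ev D.Z D.one) (p := ip P D.d) (q := ip Q D.d) D.g0 (unit_deg hP D.dpos) (unit_deg hQ D.dpos) (unit_deg hX D.dpos)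
        (unit_deg hS D.dpos) (unit_deg hY D.dpos) d3 d2 (by omega) hvX hvS w2 w3
        (by linear_combination wA') (by linear_combination h66R) (by linear_combination a66')
        (sub_eq_zero.mp z0) (by linear_combination z2) (by linear_combination z3)
        (by linear_combination z4) (by linear_combination r22) (by linear_combination c22)
        (by linear_combination a22')
  · exfalso
    have eb : ip (D.m 5) Y' = 1 := by omega
    have eu : ip (D.m 5) U = 0 := by omega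
    simp [ea, eα, em, eb, etp, etq, eu] at hr hn
    obtain rfl : r = 0 := eq_zero_of_ip_self (by omega)
    have dA' := D.hdeg 5
    rw [hr] at dA'
    simp [hod, ← d0, ← d1] at dA'
    have wA' := D.hW 5
    rw [hr] at wA'
    simp [← w0, ← w1] at wA'
    have a66' := D.h66 5
    rw [hr] at a66'
    simp [q0, qY', qX, qX', pr66, hod, ← d0, ← d1, ← w0, ← w1] at a66'
    exact alt_x (wO := ev D.W D.one) D.g0 (unit_deg hX D.dpos) (unit_deg hY D.dpos) d2 (by omega)
      hvX hvS w2 (by linear_combination wA') (by linear_combination a66')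

theorem rcases_B {a b α m tp tq u v dg rn c : ℤ} (hc : c = 1 ∨ c = -1) (h1 : a - b = -1)
    (h2 : a - α - m = -1) (h3 : α - tp - tq = c) (h4 : -a + tp + u = 1) (h5 : -a - tp + v = 1)
    (hn : a * a + b * b + 2 * (α * α) + m * m + tp * tp + tq * tq + u * u + v * v + rn = 4)
    (hrn : 0 ≤ rn) (hr0 : rn = 0 → dg = 0)
    (hdg : 8 * a + 8 * b + 12 * α + 2 * m + 3 * tp + 3 * tq + 6 * u + 12 * v + dg = 0) :
    a = -1 ∧ b = 0 ∧ α = 0 ∧ m = 0 ∧ tp = 0 ∧ tq = -c ∧ u = 0 ∧ v = 0 ∧ rn = 2 := by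
  obtain rfl : b = a + 1 := by omega
  obtain rfl : m = a - α + 1 := by omega
  obtain rfl : tq = α - c - tp := by omega
  obtain rfl : u = 1 + a - tp := by omega
  obtain rfl : v = 1 + a + tp := by omega
  have : -1 ≤ α := by nlinarith
  have : α ≤ 1 := by nlinarith
  have : -2 ≤ a := by nlinarith
  have : a ≤ 1 := by nlinarith
  have : -2 ≤ tp := by nlinarith
  have : tp ≤ 2 := by nlinarith
  rcases hc with rfl | rfl <;> interval_cases a <;> interval_cases α <;> interval_cases tp <;>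
    simp at hn hdg ⊢ <;> omega

theorem last_step {g δ r k kG zY zQ zG : ℂ} (hg : g ≠ 0) (hδ : δ ^ 2 = 2 * g) {e G y q : ℤ}
    (hy : y = 8) (hq : q = 3) (he : e ≠ 0) (hG : G ≠ 0) (eq1 : G = e + 5)
    (hzY : zY = 2 * δ + 8 * r) (hzQ : zQ = 3 * r) (hzG : zG = zY - zQ + k) (hk : kG = k - e * r)
    (B22 : -(zY * zY / (y : ℂ)) + zQ * zQ / q + zG * zG / G - k * k / e = 0) :
    (kG + 2 * δ) ^ 2 / (e + 5 : ℂ) - kG ^ 2 / e - 2 * δ ^ 2 = -3 * g := by
  have c1 : (e : ℂ) ≠ 0 := by exact_mod_cast he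
  have c2 : (e + 5 : ℂ) ≠ 0 := by exact_mod_cast eq1 ▸ hG
  subst hy hq eq1 hzY hzQ hzG hk
  push_cast at B22
  field_simp at B22 ⊢
  linear_combination B22 / 8 - 3 / 2 * (e : ℂ) * (e + 5) * hδ

theorem last_step' {g δ r k kG zY zQ zG : ℂ} (hg : g ≠ 0) (hδ : δ ^ 2 = 2 * g) {e G y q : ℤ}
    (hy : y = 8) (hq : q = 3) (he : e ≠ 0) (hG : G ≠ 0) (eq1 : G = e + 11)
    (hzY : zY = 2 * δ + 8 * r) (hzQ : zQ = 3 * r) (hzG : zG = zY + zQ + k) (hk : kG = k - e * r)
    (B22 : -(zY * zY / (y : ℂ)) - zQ * zQ / q + zG * zG / G - k * k / e = -(3 / 2) * g) :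
    (kG + 2 * δ) ^ 2 / (e + 11 : ℂ) - kG ^ 2 / e - 2 * δ ^ 2 = -(9 / 2) * g := by
  have c1 : (e : ℂ) ≠ 0 := by exact_mod_cast he
  have c2 : (e + 11 : ℂ) ≠ 0 := by exact_mod_cast eq1 ▸ hG
  subst hy hq eq1 hzY hzQ hzG hk
  push_cast at B22
  field_simp at B22 ⊢
  linear_combination B22 / 8 - 3 * (e : ℂ) * (e + 11) * hδ

/-- A row of degree one with coefficient `-1` in the seventh vector. -/
theorem four_core : ∃ L, D.d L = 1 ∧ D.m 6 L = -1 := by
  obtain ⟨Y, Y', X, X', S, P, Q, U, V, hON, hy, hx, hC, hR, hA, hA'⟩ := stage_V D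
  obtain ⟨ho1, hod, -, -, hmo⟩ := D.one_facts
  have G := D.hgram
  have u1 : ∀ i, ip (![V, U, Q, P, S, X', X, Y', Y, D.one] i)
      (![V, U, Q, P, S, X', X, Y', Y, D.one] i) = 1 := fun i => by simpa using hON i i
  have hV : ip V V = 1 := u1 0
  have hU : ip U U = 1 := u1 1
  have hQ : ip Q Q = 1 := u1 2
  have hP : ip P P = 1 := u1 3
  have hS : ip S S = 1 := u1 4
  have hX : ip X X = 1 := u1 6
  have hY : ip Y Y = 1 := u1 8
  have q0 := fun Z' W' => unit_qf ho1 D.dpos Z' W'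
  have qY := fun Z' W' => unit_qf hY D.dpos Z' W'
  have qX := fun Z' W' => unit_qf hX D.dpos Z' W'
  have qS := fun Z' W' => unit_qf hS D.dpos Z' W'
  have qP := fun Z' W' => unit_qf hP D.dpos Z' W'
  have qQ := fun Z' W' => unit_qf hQ D.dpos Z' W'
  have qU := fun Z' W' => unit_qf hU D.dpos Z' W'
  have qV := fun Z' W' => unit_qf hV D.dpos Z' W'
  have dY' := D.hdeg 0
  have dX' := D.hdeg 1
  have dC := D.hdeg 2
  have dR := D.hdeg 3
  have dA := D.hdeg 4
  have dA' := D.hdeg 5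
  simp [hy, hx, hC, hR, hA, hA', hod] at dY' dX' dC dR dA dA'
  have zC := D.hZ 2
  have zR := D.hZ 3
  have zA := D.hZ 4
  have zA' := D.hZ 5
  have wC := D.hW 2
  have wR := D.hW 3
  have wA := D.hW 4
  have wA' := D.hW 5
  simp [hC, hR, hA, hA'] at zC zR zA zA' wC wR wA wA'
  set y := ip Y D.d with hyd
  set x := ip X D.d with hxd
  set s := ip S D.d with hsd
  set p := ip P D.d with hpd
  set q := ip Q D.d with hqd
  set du := ip U D.d with hud
  set dv := ip V D.d with hvd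
  have ex : x = p + q := by omega
  have ey : y = s + (p + q) := by omega
  have eu : du = 1 + s + q := by omega
  have ev' : dv = 1 + s + q + 2 * p := by omega
  have cy : y ≠ 0 := unit_deg hY D.dpos
  have cx : x ≠ 0 := unit_deg hX D.dpos
  have cu : du ≠ 0 := unit_deg hU D.dpos
  have cv : dv ≠ 0 := unit_deg hV D.dpos
  have exC : (x : ℂ) = p + q := by exact_mod_cast ex
  have eyC : (y : ℂ) = s + (p + q) := by exact_mod_cast ey
  have euC : (du : ℂ) = 1 + s + q := by exact_mod_cast eu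
  have evC : (dv : ℂ) = 1 + s + q + 2 * p := by exact_mod_cast ev'
  have C22 := D.h22 2
  have C26 := D.h26 2
  have C66 := D.h66 2
  have R22 := D.h22 3
  have R26 := D.h26 3
  have R66 := D.h66 3
  have A22 := D.h22 4
  have A26 := D.h26 4
  have A66 := D.h66 4
  have A22' := D.h22 5
  have A26' := D.h26 5
  simp [hC, hR, hA, hA', q0, qY, qX, qS, qP, qQ, qU, qV, hod, ← hyd, ← hxd, ← hsd, ← hpd, ← hqd,
    ← hud, ← hvd, pr22, pr26, pr66] at C22 C26 C66 R22 R26 R66 A22 A26 A66 A22' A26'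
  have zX : ev D.Z X = ev D.Z P + ev D.Z Q := by linear_combination zR
  have zY : ev D.Z Y = ev D.Z S + (ev D.Z P + ev D.Z Q) := by linear_combination zC + zR
  have zU : ev D.Z U = ev D.Z D.one + ev D.Z S + ev D.Z Q := by linear_combination zA + zC + zR
  have zV : ev D.Z V = ev D.Z D.one + ev D.Z S + ev D.Z Q + 2 * ev D.Z P := by
    linear_combination zA' + zC + zR
  have wX : ev D.W X = ev D.W P + ev D.W Q := by linear_combination wR
  have wY : ev D.W Y = ev D.W S + (ev D.W P + ev D.W Q) := by linear_combination wC + wR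
  have wU : ev D.W U = ev D.W D.one + ev D.W S + ev D.W Q := by linear_combination wA + wC + wR
  have wV : ev D.W V = ev D.W D.one + ev D.W S + ev D.W Q + 2 * ev D.W P := by
    linear_combination wA' + wC + wR
  simp only [zX, zY, zU, zV, wX, wY, wU, wV, exC, eyC, euC, evC]
    at C22 C26 C66 R22 R26 R66 A22 A26 A66 A22' A26'
  obtain ⟨hs2, hp3, hq3, r, δ, hδ, hPr, hQr, hSr, hNr⟩ := p_system D.g0 (unit_deg hS D.dpos)
    (unit_deg hP D.dpos) (unit_deg hQ D.dpos) (ex ▸ cx) (ey ▸ cy) (eu ▸ cu) (ev' ▸ cv)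
    (N := ev D.Z D.one) (S := ev D.Z S) (P := ev D.Z P) (Q := ev D.Z Q)
    (N' := ev D.W D.one) (S' := ev D.W S) (P' := ev D.W P) (Q' := ev D.W Q)
    (by linear_combination R22) (by linear_combination R66) (by linear_combination C22)
    (by linear_combination C66) (by linear_combination A22 + C22 + R22)
    (by linear_combination A26 + C26 + R26) (by linear_combination A66 + C66 + R66)
    (by linear_combination A22' + C22 + R22) (by linear_combination A26' + C26 + R26)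
  replace hs2 : s = 2 := hs2
  replace hp3 : p = 3 := hp3
  replace hq3 : q = 3 := hq3
  have vx : x = 6 := by omega
  have vy : y = 8 := by omega
  have vu : du = 6 := by omega
  have vv : dv = 12 := by omega
  -- the last two vectors
  have step : ∀ j : Fin 8, ∀ c : ℤ, (c = 1 ∨ c = -1) → vecOne j = 0 → gram j j = 4 →
      gram j 0 = -1 → gram j 1 = 0 → gram j 2 = -1 → gram j 3 = c → gram j 4 = 1 → gram j 5 = 1 →
      ∃ r₀, D.m j = -Y + (-c) • Q + r₀ ∧ ip r₀ r₀ = 2 ∧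
        ∀ i, ip r₀ (![V, U, Q, P, S, X', X, Y', Y, D.one] i) = 0 := by
    intro j c hc hj0 hjj k0 k1 k2 k3 k4 k5
    obtain ⟨r₀, hr, hre, hn⟩ := hON.split (D.m j)
    have h0 : ip (D.m j) Y - ip (D.m j) Y' = -1 := by rw [← ip_sub_right, ← hy, G, k0]
    have h1 : ip (D.m j) X - ip (D.m j) X' = 0 := by rw [← ip_sub_right, ← hx, G, k1]
    have h2 : ip (D.m j) Y - ip (D.m j) X - ip (D.m j) S = -1 := by
      rw [← ip_sub_right, ← ip_sub_right, ← hC, G, k2]
    have h3 : ip (D.m j) X - ip (D.m j) P - ip (D.m j) Q = c := by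
      rw [← ip_sub_right, ← ip_sub_right, ← hR, G, k3]
    have h4 : -ip (D.m j) Y + ip (D.m j) P + ip (D.m j) U = 1 := by
      have h : ip (D.m j) (-D.one - Y + P + U) = 1 := by rw [← hA, G, k4]
      simpa [hmo, hj0] using h
    have h5 : -ip (D.m j) Y - ip (D.m j) P + ip (D.m j) V = 1 := by
      have h : ip (D.m j) (-D.one - Y - P + V) = 1 := by rw [← hA', G, k5]
      simpa [hmo, hj0] using h
    have hd := D.hdeg j
    rw [hr] at hd
    simp [Fin.sum_univ_succ, hmo, hj0, G, hjj, ← hyd, ← hxd, ← hsd, ← hpd, ← hqd, ← hud, ← hvd]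
      at hr hn hd
    have hx'd : ip X' D.d = 6 := by omega
    have hy'd : ip Y' D.d = 8 := by omega
    simp only [hx'd, hy'd, hs2, hp3, hq3, vu, vv, vy, vx] at hd
    have hβ : ip (D.m j) X' = ip (D.m j) X := by omega
    rw [hβ] at hr hn hd
    obtain ⟨ea, eb, eα, em, etp, etq, eu', ev'', ern⟩ := rcases_B hc h0 h2 h3 h4 h5
      (rn := ip r₀ r₀) (dg := ip r₀ D.d) (by linarith) (ip_self_nonneg _)
      (fun h => by simp [eq_zero_of_ip_self h]) (by linarith)
    refine ⟨r₀, ?_, ern, hre⟩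
    simp [ea, eb, eα, em, etp, etq, eu', ev''] at hr
    rw [hr]; simp; abel
  obtain ⟨r₁, hB, hr1, hre1⟩ := step 6 (-1) (Or.inr rfl) rfl rfl rfl rfl rfl rfl rfl rfl
  obtain ⟨r₂, hB', hr2, hre2⟩ := step 7 1 (Or.inl rfl) rfl rfl rfl rfl rfl rfl rfl rfl
  simp at hB hB'
  have hQ1 : ip r₁ Q = 0 := hre1 2
  have hY1 : ip r₁ Y = 0 := hre1 8
  have hQ2 : ip r₂ Q = 0 := hre2 2
  have hY2 : ip r₂ Y = 0 := hre2 8
  have hQY : ip Q Y = 0 := by simpa using hON 2 8
  have hprod : ip r₁ r₂ = 1 := by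
    have h : ip (D.m 6) (D.m 7) = 1 := G 6 7
    simp [hB, hB', hY, hQ, hQ1, hY1, ip_comm Q r₂, ip_comm Y r₂, hQ2, hY2, hQY,
      ip_comm Y Q] at h
    linarith
  obtain ⟨a, b, hab, ha, hb, habo⟩ := exists_two hr1
  obtain ⟨a', b', hab', ha', hb', habo'⟩ := exists_two hr2
  -- the common row
  obtain ⟨E, G₁, G₂, hE, hG1, hG2, hEG1, hEG2, e1, e2⟩ : ∃ E G₁ G₂ : ι → ℤ, ip E E = 1 ∧
      ip G₁ G₁ = 1 ∧ ip G₂ G₂ = 1 ∧ ip E G₁ = 0 ∧ ip E G₂ = 0 ∧ r₁ = G₁ + E ∧ r₂ = G₂ + E := by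
    rw [hab, hab'] at hprod
    simp at hprod
    rcases unit_ip_cases ha ha' with h1 | ⟨-, rfl⟩ | ⟨h1, -⟩
    swap
    · exact ⟨a, b, b', ha, hb, hb', habo, habo', by rw [hab, add_comm], by rw [hab', add_comm]⟩
    all_goals
      rcases unit_ip_cases ha hb' with h2 | ⟨-, rfl⟩ | ⟨h2, -⟩
      swap
      · exact ⟨a, b, a', ha, hb, ha', habo, by rw [ip_comm]; exact habo', by rw [hab, add_comm],
          by rw [hab']⟩
      all_goals
        rcases unit_ip_cases hb ha' with h3 | ⟨-, rfl⟩ | ⟨h3, -⟩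
        swap
        · exact ⟨b, a, b', hb, ha, hb', by rw [ip_comm]; exact habo, habo', hab,
            by rw [hab', add_comm]⟩
        all_goals
          rcases unit_ip_cases hb hb' with h4 | ⟨-, rfl⟩ | ⟨h4, -⟩
          swap
          · exact ⟨b, a, a', hb, ha, ha', by rw [ip_comm]; exact habo,
              by rw [ip_comm]; exact habo', hab, hab'⟩
          all_goals omega
  have qE := fun Z' W' => unit_qf hE D.dpos Z' W'
  have qG1 := fun Z' W' => unit_qf hG1 D.dpos Z' W'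
  have qG2 := fun Z' W' => unit_qf hG2 D.dpos Z' W'
  have dB := D.hdeg 6
  have dB' := D.hdeg 7
  simp [hB, hB', e1, e2, ← hyd, ← hqd] at dB dB'
  have zB := D.hZ 6
  have zB' := D.hZ 7
  simp [hB, hB', e1, e2] at zB zB'
  have B22 := D.h22 6
  have B22' := D.h22 7
  simp [hB, hB', e1, e2, qY, qQ, qE, qG1, qG2, ← hyd, ← hqd, pr22] at B22 B22'
  set dE := ip E D.d with hEd
  have he : -dE ≠ 0 := neg_ne_zero.mpr (unit_deg hE D.dpos)
  have hzY : ev D.Z Y = 2 * δ + 8 * r := by rw [zY, hPr, hQr, hSr]; ring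
  have hzE : (((-dE) : ℤ) : ℂ) = -(dE : ℂ) := Int.cast_neg _
  have h1 : -dE = 1 := by
    refine e_system D.g0 he ?_ ?_ hδ
      (last_step (k := -ev D.Z E) (zG := ev D.Z G₁) (zY := ev D.Z Y) (zQ := ev D.Z Q)
        (G := ip G₁ D.d) (y := y) (q := q) D.g0 hδ vy hq3 he (unit_deg hG1 D.dpos) (by omega)
        hzY hQr (by linear_combination zB) rfl
        (by rw [hzE]; linear_combination B22))
      (last_step' (k := -ev D.Z E) (zG := ev D.Z G₂) (zY := ev D.Z Y) (zQ := ev D.Z Q)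
        (G := ip G₂ D.d) (y := y) (q := q) D.g0 hδ vy hq3 he (unit_deg hG2 D.dpos) (by omega)
        hzY hQr (by linear_combination zB') rfl
        (by rw [hzE]; linear_combination B22'))
    · have := unit_deg hG1 D.dpos; omega
    · have := unit_deg hG2 D.dpos; omega
  have hEY : ip E Y = 0 ∧ ip E Q = 0 := by
    have i1 : ip r₁ E = 1 := by
      rw [e1]; simp [hE, ip_comm G₁ E, hEG1]
    refine ⟨?_, ?_⟩
    · rcases unit_ip_cases hE hY with h | ⟨-, rfl⟩ | ⟨-, rfl⟩
      · exact h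
      · omega
      · simp at i1; omega
    · rcases unit_ip_cases hE hQ with h | ⟨-, rfl⟩ | ⟨-, rfl⟩
      · exact h
      · omega
      · simp at i1; omega
  have hBE : ip (D.m 6) E = 1 := by
    simp [hB, e1, ip_comm Y E, ip_comm Q E, ip_comm G₁ E, hEY, hEG1, hE]
  obtain ⟨L, σ, hσ, rfl⟩ := unit_eq hE
  rw [ip_comm, ip_smul_left, ip_comm, ip_dl] at hBE
  rw [hEd, ip_smul_left, ip_comm, ip_dl] at h1
  refine ⟨L, ?_⟩
  rcases mul_self_eq_one_iff.mp hσ with rfl | rfl
  · exfalso; have := D.dpos L; omega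
  · exact ⟨by omega, by omega⟩

end CfsgLib.Block.FourCube
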