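import Mathlib

/-!
The group of order 108: even triples in `D₆^3`, with the integer valued class functions
supported on its 3-singular elements and their tabulated sums.
-/

set_option autoImplicit false

namespace CfsgLib.Block.ThreeCube

/-- `D₆^3`. -/
abbrev Tri := DihedralGroup 3 × DihedralGroup 3 × DihedralGroup 3

/-- the sign on the dihedral group of order 6 -/
def dsgn : DihedralGroup 3 → ℤ
  | .r _ => 1
  | .sr _ => -1

/-- its character of degree two -/
def dtwo : DihedralGroup 3 → ℤ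
  | .r i => if i = 0 then 2 else -1
  | .sr _ => 0

/-- the components -/
def comp : Fin 3 → Tri → DihedralGroup 3
  | 0, a => a.1
  | 1, a => a.2.1
  | 2, a => a.2.2

/-- sign of the `i`-th component -/
def eps (i : Fin 3) (a : Tri) : ℤ := dsgn (comp i a)

/-- degree two character of the `i`-th component -/
def two (i : Fin 3) (a : Tri) : ℤ := dtwo (comp i a)

/-- even triples -/
def Evn (a : Tri) : Prop := eps 0 a * eps 1 a * eps 2 a = 1

instance : DecidablePred Evn := fun a => inferInstanceAs (Decidable (_ = _))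

/-- involutions among the even triples -/
def Inv2 (a : Tri) : Prop := Evn a ∧ a ≠ 1 ∧ a * a = 1

instance : DecidablePred Inv2 := fun a => inferInstanceAs (Decidable (_ ∧ _))

def nxt : Fin 3 → Fin 3 := ![1, 2, 0]

def vv (i : Fin 3) (a : Tri) : ℤ := two i a - 1 - eps i a
def uu (i : Fin 3) (a : Tri) : ℤ := two i a * eps (nxt i) a - eps (nxt i) a - eps (nxt (nxt i)) a
def ww (a : Tri) : ℤ := two 0 a * two 1 a - 1 - eps 0 a - eps 1 a - eps 2 a

/-- the seven class functions -/
def vec : Fin 7 → Tri → ℤ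
  | 0 => vv 0 | 1 => vv 1 | 2 => vv 2 | 3 => uu 0 | 4 => uu 1 | 5 => uu 2 | 6 => ww

/-- their Gram matrix -/
def gram : Fin 7 → Fin 7 → ℤ :=
  ![![3, 1, 1, 0, 1, 1, 2], ![1, 3, 1, 1, 0, 1, 2], ![1, 1, 3, 1, 1, 0, 2],
    ![0, 1, 1, 3, 1, 1, 2], ![1, 0, 1, 1, 3, 1, 2], ![1, 1, 0, 1, 1, 3, 2],
    ![2, 2, 2, 2, 2, 2, 5]]

/-- inner products with the trivial character -/
def vecOne : Fin 7 → ℤ := ![-1, -1, -1, 0, 0, 0, -1]

/-- sums over pairs of involutions, divided by the group order -/
def vecPair : Fin 7 → ℤ := ![-6, -6, -6, 0, 0, 0, -9]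

theorem sum_gram : ∀ j k,
    (∑ a : Tri, if Evn a then vec j a * vec k a else 0) = 108 * gram j k := by
  decide +kernel

theorem sum_vecOne : ∀ j, (∑ a : Tri, if Evn a then vec j a else 0) = 108 * vecOne j := by
  decide +kernel

theorem sum_eps : ∀ i k : Fin 3,
    (∑ a : Tri, if Evn a then vv i a * eps k a else 0) = if i = k then -108 else 0 := by
  decide +kernel

theorem sum_pair : ∀ j,
    (∑ s : Tri, if Inv2 s then ∑ t : Tri, (if Inv2 t then vec j (s * t) else 0) else 0) =
      108 * vecPair j := by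
  decide +kernel

/-- 3-singular triples -/
def Sing (a : Tri) : Prop := ∃ i, eps i a = 1 ∧ comp i a ≠ 1

instance : DecidablePred Sing := fun a => inferInstanceAs (Decidable (∃ i, _))

/-- all three signs positive -/
def Plus (a : Tri) : Prop := ∀ i, eps i a = 1

instance : DecidablePred Plus := fun a => inferInstanceAs (Decidable (∀ i, _))

theorem eps_mul : ∀ i, ∀ a b : Tri, eps i (a * b) = eps i a * eps i b := by
  have h : ∀ x y : DihedralGroup 3, dsgn (x * y) = dsgn x * dsgn y := by decide +kernel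
  intro i a b
  fin_cases i <;> exact h _ _

theorem eps_one : ∀ i, eps i 1 = 1 := by decide +kernel

/-- the subgroup of even triples -/
def Mdl : Subgroup Tri where
  carrier := {a | Evn a}
  one_mem' := by simp only [Set.mem_setOf_eq, Evn, eps_one, mul_one]
  mul_mem' {a b} ha hb := by
    simp only [Set.mem_setOf_eq, Evn, eps_mul] at ha hb ⊢
    calc _ = (eps 0 a * eps 1 a * eps 2 a) * (eps 0 b * eps 1 b * eps 2 b) := by ring
      _ = 1 := by rw [ha, hb, mul_one]
  inv_mem' {a} ha := by
    have h : ∀ a : Tri, Evn a → Evn a⁻¹ := by decide +kernel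
    exact h a ha

instance : DecidablePred (· ∈ Mdl) := fun a => inferInstanceAs (Decidable (Evn a))

theorem vec_eq_zero : ∀ a : Tri, Evn a → ¬ Sing a → ∀ j, vec j a = 0 := by decide +kernel

theorem not_sing_of_sq : ∀ a : Tri, a * a = 1 → ¬ Sing a := by decide +kernel

theorem sing_inv : ∀ a : Tri, Sing a → Sing a⁻¹ := by decide +kernel

theorem sq_of_sing : ∀ a : Tri, Sing a → a * a ≠ 1 ∧ Plus (a * a) := by decide +kernel

theorem card_evn : (Finset.univ.filter Evn).card = 108 := by decide +kernel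

theorem card_plus : (Finset.univ.filter Plus).card = 27 := by decide +kernel

theorem plus_evn : ∀ a : Tri, Plus a → Evn a := by decide +kernel

theorem plus_comm (a b : Tri) (ha : Plus a) (hb : Plus b) : a * b = b * a := by
  have h : ∀ x y : DihedralGroup 3, dsgn x = 1 → dsgn y = 1 → x * y = y * x := by decide +kernel
  refine Prod.ext (h _ _ (ha 0) (hb 0)) (Prod.ext (h _ _ (ha 1) (hb 1)) (h _ _ (ha 2) (hb 2)))

theorem plus_cube : ∀ a : Tri, Plus a → a * a * a = 1 := by decide +kernel

theorem plus_of_cube : ∀ a : Tri, a * a * a = 1 → Plus a := by decide +kernel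

/-- two generators modulo the positive part -/
def i₁ : Tri := (.sr 0, .sr 0, .r 0)
def i₂ : Tri := (.sr 0, .r 0, .sr 0)
/-- generators of the positive part -/
def c₁ : Tri := (.r 1, .r 0, .r 0)
def c₂ : Tri := (.r 0, .r 1, .r 0)
def c₃ : Tri := (.r 0, .r 0, .r 1)

theorem gens_evn : Evn i₁ ∧ Evn i₂ ∧ Evn c₁ ∧ Evn c₂ ∧ Evn c₃ := by decide +kernel

theorem gens_sq : i₁ * i₁ = 1 ∧ i₂ * i₂ = 1 := by decide +kernel

theorem gens_invert : i₁ * c₁ * i₁ = c₁ * c₁ ∧ i₁ * c₂ * i₁ = c₂ * c₂ ∧
    i₂ * c₃ * i₂ = c₃ * c₃ := by decide +kernel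

/-- index of a component -/
def ridx : DihedralGroup 3 → Fin 3
  | .r i => i
  | .sr i => i

/-- `0` for a rotation, `1` for a reflection -/
def fidx : DihedralGroup 3 → Fin 2
  | .r _ => 0
  | .sr _ => 1

/-- a word in the five generators for an even triple -/
def word (a : Tri) : Tri :=
  let b := a * (i₁ ^ (fidx a.2.1).val * i₂ ^ (fidx a.2.2).val)⁻¹
  c₁ ^ (ridx b.1).val * c₂ ^ (ridx b.2.1).val * c₃ ^ (ridx b.2.2).val *
    (i₁ ^ (fidx a.2.1).val * i₂ ^ (fidx a.2.2).val)

theorem word_eq : ∀ a : Tri, Evn a → word a = a := by decide +kernel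

end CfsgLib.Block.ThreeCube
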