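import Cfsg.Agent.Lib.Block.FourTables
import Cfsg.Agent.Lib.Block.FourShape
import Cfsg.Agent.Lib.Block.ThreeCubeModel

/-!
The group of order 648: even elements of `D₆ ≀ S₃`, with eight integral combinations of monomial
characters vanishing off its 3-singular part.
-/

set_option autoImplicit false
set_option linter.all false
set_option maxRecDepth 4000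

namespace CfsgLib.Block.FourCube

open ThreeCube (Tri eps comp dsgn Sing)

/-- the action on components -/
def permTri (p : DihedralGroup 3) : Tri → Tri :=
  let f : Fin 3 → Fin 3 := match p with
    | .r i => fun x => x + (show Fin 3 from i)
    | .sr i => fun x => (show Fin 3 from i) - x
  fun a => (comp (f 0) a, comp (f 1) a, comp (f 2) a)

theorem permTri_mul : ∀ p q : DihedralGroup 3, ∀ a, permTri (p * q) a = permTri p (permTri q a) := by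
  decide +kernel

theorem permTri_one : ∀ a, permTri 1 a = a := by decide +kernel

theorem permTri_hom (p : DihedralGroup 3) (a b : Tri) :
    permTri p (a * b) = permTri p a * permTri p b := by
  have h : ∀ i, comp i (a * b) = comp i a * comp i b := fun i => by fin_cases i <;> rfl
  simp [permTri, h]

/-- the action as a homomorphism -/
def phi : DihedralGroup 3 →* MulAut Tri where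
  toFun p :=
    { toFun := permTri p
      invFun := permTri p⁻¹
      left_inv := fun a => by rw [← permTri_mul, inv_mul_cancel, permTri_one]
      right_inv := fun a => by rw [← permTri_mul, mul_inv_cancel, permTri_one]
      map_mul' := permTri_hom p }
  map_one' := MulEquiv.ext fun a => permTri_one a
  map_mul' p q := MulEquiv.ext fun a => permTri_mul p q a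

/-- the wreath product of order 1296 -/
abbrev Big := Tri ⋊[phi] DihedralGroup 3

/-- the product of all four signs -/
def sign4 (g : Big) : ℤ := eps 0 g.left * eps 1 g.left * eps 2 g.left * dsgn g.right

/-- even elements -/
def Ev (g : Big) : Prop := sign4 g = 1

instance : DecidablePred Ev := fun g => inferInstanceAs (Decidable (_ = _))

theorem sign4_left : ∀ p : DihedralGroup 3, ∀ a,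
    eps 0 (permTri p a) * eps 1 (permTri p a) * eps 2 (permTri p a) =
      eps 0 a * eps 1 a * eps 2 a := by
  decide +kernel

theorem dsgn_mul : ∀ x y : DihedralGroup 3, dsgn (x * y) = dsgn x * dsgn y := by decide +kernel

theorem sign4_mul (g h : Big) : sign4 (g * h) = sign4 g * sign4 h := by
  have := sign4_left g.right h.left
  simp only [sign4, SemidirectProduct.mul_left, SemidirectProduct.mul_right, dsgn_mul,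
    ThreeCube.eps_mul]
  show _ * eps 0 (permTri g.right h.left) * (_ * eps 1 (permTri g.right h.left)) *
    (_ * eps 2 (permTri g.right h.left)) * _ = _
  calc _ = (eps 0 g.left * eps 1 g.left * eps 2 g.left * dsgn g.right) *
        ((eps 0 (permTri g.right h.left) * eps 1 (permTri g.right h.left) *
          eps 2 (permTri g.right h.left)) * dsgn h.right) := by ring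
    _ = _ := by rw [this]

theorem sign4_sq : ∀ a p, sign4 (⟨a, p⟩ : Big) * sign4 ⟨a, p⟩ = 1 := by decide +kernel

/-- the group of order 648 -/
def Four : Subgroup Big where
  carrier := {g | Ev g}
  one_mem' := by decide +kernel
  mul_mem' {a b} ha hb := by
    simp only [Set.mem_setOf_eq, Ev, sign4_mul] at ha hb ⊢
    rw [ha, hb, mul_one]
  inv_mem' {a} ha := by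
    have h := sign4_mul a a⁻¹
    simp only [Set.mem_setOf_eq, Ev] at ha ⊢
    rw [mul_inv_cancel, ha, one_mul] at h
    rw [← h]; rfl

instance : DecidablePred (· ∈ Four) := fun g => inferInstanceAs (Decidable (Ev g))

def dnum : DihedralGroup 3 → ℕ
  | .r i => i.val
  | .sr i => i.val + 3

/-- position in the tables -/
def code (g : Big) : ℕ :=
  ((dnum g.right * 6 + dnum g.left.1) * 6 + dnum g.left.2.1) * 6 + dnum g.left.2.2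

def expo (t : Fin 6) (g : Big) : ℕ := (expTab t >>> (4 * code g)) % 16

def rat (t : Fin 6) (g : Big) : ℤ := ((ratTab t >>> (5 * code g)) % 32 : ℕ) - (16 : ℤ)

def irrl (g : Big) : ℤ := ((irrTab >>> (5 * code g)) % 32 : ℕ) - (16 : ℤ)

/-- members of the monomial subgroups -/
def Mem (t : Fin 6) (g : Big) : Prop := Ev g ∧ expo t g < 12

instance (t : Fin 6) : DecidablePred (Mem t) := fun g => inferInstanceAs (Decidable (_ ∧ _))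

/-- the monomial subgroups as lists -/
def subList : Fin 6 → List Big
  | 0 => [
    ⟨(.r 0, .r 0, .r 0), .r 0⟩,
    ⟨(.r 0, .r 0, .r 1), .r 0⟩,
    ⟨(.r 0, .r 0, .r 2), .r 0⟩,
    ⟨(.r 0, .r 1, .r 0), .r 0⟩,
    ⟨(.r 0, .r 1, .r 1), .r 0⟩,
    ⟨(.r 0, .r 1, .r 2), .r 0⟩,
    ⟨(.r 0, .r 2, .r 0), .r 0⟩,
    ⟨(.r 0, .r 2, .r 1), .r 0⟩,
    ⟨(.r 0, .r 2, .r 2), .r 0⟩,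
    ⟨(.r 0, .sr 0, .sr 0), .r 0⟩,
    ⟨(.r 0, .sr 0, .sr 1), .r 0⟩,
    ⟨(.r 0, .sr 0, .sr 2), .r 0⟩,
    ⟨(.r 0, .sr 1, .sr 0), .r 0⟩,
    ⟨(.r 0, .sr 1, .sr 1), .r 0⟩,
    ⟨(.r 0, .sr 1, .sr 2), .r 0⟩,
    ⟨(.r 0, .sr 2, .sr 0), .r 0⟩,
    ⟨(.r 0, .sr 2, .sr 1), .r 0⟩,
    ⟨(.r 0, .sr 2, .sr 2), .r 0⟩,
    ⟨(.r 1, .r 0, .r 0), .r 0⟩,
    ⟨(.r 1, .r 0, .r 1), .r 0⟩,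
    ⟨(.r 1, .r 0, .r 2), .r 0⟩,
    ⟨(.r 1, .r 1, .r 0), .r 0⟩,
    ⟨(.r 1, .r 1, .r 1), .r 0⟩,
    ⟨(.r 1, .r 1, .r 2), .r 0⟩,
    ⟨(.r 1, .r 2, .r 0), .r 0⟩,
    ⟨(.r 1, .r 2, .r 1), .r 0⟩,
    ⟨(.r 1, .r 2, .r 2), .r 0⟩,
    ⟨(.r 1, .sr 0, .sr 0), .r 0⟩,
    ⟨(.r 1, .sr 0, .sr 1), .r 0⟩,
    ⟨(.r 1, .sr 0, .sr 2), .r 0⟩,
    ⟨(.r 1, .sr 1, .sr 0), .r 0⟩,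
    ⟨(.r 1, .sr 1, .sr 1), .r 0⟩,
    ⟨(.r 1, .sr 1, .sr 2), .r 0⟩,
    ⟨(.r 1, .sr 2, .sr 0), .r 0⟩,
    ⟨(.r 1, .sr 2, .sr 1), .r 0⟩,
    ⟨(.r 1, .sr 2, .sr 2), .r 0⟩,
    ⟨(.r 2, .r 0, .r 0), .r 0⟩,
    ⟨(.r 2, .r 0, .r 1), .r 0⟩,
    ⟨(.r 2, .r 0, .r 2), .r 0⟩,
    ⟨(.r 2, .r 1, .r 0), .r 0⟩,
    ⟨(.r 2, .r 1, .r 1), .r 0⟩,
    ⟨(.r 2, .r 1, .r 2), .r 0⟩,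
    ⟨(.r 2, .r 2, .r 0), .r 0⟩,
    ⟨(.r 2, .r 2, .r 1), .r 0⟩,
    ⟨(.r 2, .r 2, .r 2), .r 0⟩,
    ⟨(.r 2, .sr 0, .sr 0), .r 0⟩,
    ⟨(.r 2, .sr 0, .sr 1), .r 0⟩,
    ⟨(.r 2, .sr 0, .sr 2), .r 0⟩,
    ⟨(.r 2, .sr 1, .sr 0), .r 0⟩,
    ⟨(.r 2, .sr 1, .sr 1), .r 0⟩,
    ⟨(.r 2, .sr 1, .sr 2), .r 0⟩,
    ⟨(.r 2, .sr 2, .sr 0), .r 0⟩,
    ⟨(.r 2, .sr 2, .sr 1), .r 0⟩,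
    ⟨(.r 2, .sr 2, .sr 2), .r 0⟩,
    ⟨(.r 0, .r 0, .sr 0), .sr 0⟩,
    ⟨(.r 0, .r 0, .sr 1), .sr 0⟩,
    ⟨(.r 0, .r 0, .sr 2), .sr 0⟩,
    ⟨(.r 0, .r 1, .sr 0), .sr 0⟩,
    ⟨(.r 0, .r 1, .sr 1), .sr 0⟩,
    ⟨(.r 0, .r 1, .sr 2), .sr 0⟩,
    ⟨(.r 0, .r 2, .sr 0), .sr 0⟩,
    ⟨(.r 0, .r 2, .sr 1), .sr 0⟩,
    ⟨(.r 0, .r 2, .sr 2), .sr 0⟩,
    ⟨(.r 0, .sr 0, .r 0), .sr 0⟩,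
    ⟨(.r 0, .sr 0, .r 1), .sr 0⟩,
    ⟨(.r 0, .sr 0, .r 2), .sr 0⟩,
    ⟨(.r 0, .sr 1, .r 0), .sr 0⟩,
    ⟨(.r 0, .sr 1, .r 1), .sr 0⟩,
    ⟨(.r 0, .sr 1, .r 2), .sr 0⟩,
    ⟨(.r 0, .sr 2, .r 0), .sr 0⟩,
    ⟨(.r 0, .sr 2, .r 1), .sr 0⟩,
    ⟨(.r 0, .sr 2, .r 2), .sr 0⟩,
    ⟨(.r 1, .r 0, .sr 0), .sr 0⟩,
    ⟨(.r 1, .r 0, .sr 1), .sr 0⟩,
    ⟨(.r 1, .r 0, .sr 2), .sr 0⟩,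
    ⟨(.r 1, .r 1, .sr 0), .sr 0⟩,
    ⟨(.r 1, .r 1, .sr 1), .sr 0⟩,
    ⟨(.r 1, .r 1, .sr 2), .sr 0⟩,
    ⟨(.r 1, .r 2, .sr 0), .sr 0⟩,
    ⟨(.r 1, .r 2, .sr 1), .sr 0⟩,
    ⟨(.r 1, .r 2, .sr 2), .sr 0⟩,
    ⟨(.r 1, .sr 0, .r 0), .sr 0⟩,
    ⟨(.r 1, .sr 0, .r 1), .sr 0⟩,
    ⟨(.r 1, .sr 0, .r 2), .sr 0⟩,
    ⟨(.r 1, .sr 1, .r 0), .sr 0⟩,
    ⟨(.r 1, .sr 1, .r 1), .sr 0⟩,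
    ⟨(.r 1, .sr 1, .r 2), .sr 0⟩,
    ⟨(.r 1, .sr 2, .r 0), .sr 0⟩,
    ⟨(.r 1, .sr 2, .r 1), .sr 0⟩,
    ⟨(.r 1, .sr 2, .r 2), .sr 0⟩,
    ⟨(.r 2, .r 0, .sr 0), .sr 0⟩,
    ⟨(.r 2, .r 0, .sr 1), .sr 0⟩,
    ⟨(.r 2, .r 0, .sr 2), .sr 0⟩,
    ⟨(.r 2, .r 1, .sr 0), .sr 0⟩,
    ⟨(.r 2, .r 1, .sr 1), .sr 0⟩,
    ⟨(.r 2, .r 1, .sr 2), .sr 0⟩,
    ⟨(.r 2, .r 2, .sr 0), .sr 0⟩,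
    ⟨(.r 2, .r 2, .sr 1), .sr 0⟩,
    ⟨(.r 2, .r 2, .sr 2), .sr 0⟩,
    ⟨(.r 2, .sr 0, .r 0), .sr 0⟩,
    ⟨(.r 2, .sr 0, .r 1), .sr 0⟩,
    ⟨(.r 2, .sr 0, .r 2), .sr 0⟩,
    ⟨(.r 2, .sr 1, .r 0), .sr 0⟩,
    ⟨(.r 2, .sr 1, .r 1), .sr 0⟩,
    ⟨(.r 2, .sr 1, .r 2), .sr 0⟩,
    ⟨(.r 2, .sr 2, .r 0), .sr 0⟩,
    ⟨(.r 2, .sr 2, .r 1), .sr 0⟩,
    ⟨(.r 2, .sr 2, .r 2), .sr 0⟩]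
  | 1 => [
    ⟨(.r 0, .r 0, .r 0), .r 0⟩,
    ⟨(.r 0, .r 0, .r 1), .r 0⟩,
    ⟨(.r 0, .r 0, .r 2), .r 0⟩,
    ⟨(.r 0, .r 1, .r 0), .r 0⟩,
    ⟨(.r 0, .r 1, .r 1), .r 0⟩,
    ⟨(.r 0, .r 1, .r 2), .r 0⟩,
    ⟨(.r 0, .r 2, .r 0), .r 0⟩,
    ⟨(.r 0, .r 2, .r 1), .r 0⟩,
    ⟨(.r 0, .r 2, .r 2), .r 0⟩,
    ⟨(.r 0, .sr 0, .sr 0), .r 0⟩,
    ⟨(.r 0, .sr 0, .sr 1), .r 0⟩,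
    ⟨(.r 0, .sr 0, .sr 2), .r 0⟩,
    ⟨(.r 0, .sr 1, .sr 0), .r 0⟩,
    ⟨(.r 0, .sr 1, .sr 1), .r 0⟩,
    ⟨(.r 0, .sr 1, .sr 2), .r 0⟩,
    ⟨(.r 0, .sr 2, .sr 0), .r 0⟩,
    ⟨(.r 0, .sr 2, .sr 1), .r 0⟩,
    ⟨(.r 0, .sr 2, .sr 2), .r 0⟩,
    ⟨(.r 1, .r 0, .r 0), .r 0⟩,
    ⟨(.r 1, .r 0, .r 1), .r 0⟩,
    ⟨(.r 1, .r 0, .r 2), .r 0⟩,
    ⟨(.r 1, .r 1, .r 0), .r 0⟩,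
    ⟨(.r 1, .r 1, .r 1), .r 0⟩,
    ⟨(.r 1, .r 1, .r 2), .r 0⟩,
    ⟨(.r 1, .r 2, .r 0), .r 0⟩,
    ⟨(.r 1, .r 2, .r 1), .r 0⟩,
    ⟨(.r 1, .r 2, .r 2), .r 0⟩,
    ⟨(.r 1, .sr 0, .sr 0), .r 0⟩,
    ⟨(.r 1, .sr 0, .sr 1), .r 0⟩,
    ⟨(.r 1, .sr 0, .sr 2), .r 0⟩,
    ⟨(.r 1, .sr 1, .sr 0), .r 0⟩,
    ⟨(.r 1, .sr 1, .sr 1), .r 0⟩,
    ⟨(.r 1, .sr 1, .sr 2), .r 0⟩,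
    ⟨(.r 1, .sr 2, .sr 0), .r 0⟩,
    ⟨(.r 1, .sr 2, .sr 1), .r 0⟩,
    ⟨(.r 1, .sr 2, .sr 2), .r 0⟩,
    ⟨(.r 2, .r 0, .r 0), .r 0⟩,
    ⟨(.r 2, .r 0, .r 1), .r 0⟩,
    ⟨(.r 2, .r 0, .r 2), .r 0⟩,
    ⟨(.r 2, .r 1, .r 0), .r 0⟩,
    ⟨(.r 2, .r 1, .r 1), .r 0⟩,
    ⟨(.r 2, .r 1, .r 2), .r 0⟩,
    ⟨(.r 2, .r 2, .r 0), .r 0⟩,
    ⟨(.r 2, .r 2, .r 1), .r 0⟩,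
    ⟨(.r 2, .r 2, .r 2), .r 0⟩,
    ⟨(.r 2, .sr 0, .sr 0), .r 0⟩,
    ⟨(.r 2, .sr 0, .sr 1), .r 0⟩,
    ⟨(.r 2, .sr 0, .sr 2), .r 0⟩,
    ⟨(.r 2, .sr 1, .sr 0), .r 0⟩,
    ⟨(.r 2, .sr 1, .sr 1), .r 0⟩,
    ⟨(.r 2, .sr 1, .sr 2), .r 0⟩,
    ⟨(.r 2, .sr 2, .sr 0), .r 0⟩,
    ⟨(.r 2, .sr 2, .sr 1), .r 0⟩,
    ⟨(.r 2, .sr 2, .sr 2), .r 0⟩,
    ⟨(.r 0, .r 0, .sr 0), .sr 0⟩,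
    ⟨(.r 0, .r 0, .sr 1), .sr 0⟩,
    ⟨(.r 0, .r 0, .sr 2), .sr 0⟩,
    ⟨(.r 0, .r 1, .sr 0), .sr 0⟩,
    ⟨(.r 0, .r 1, .sr 1), .sr 0⟩,
    ⟨(.r 0, .r 1, .sr 2), .sr 0⟩,
    ⟨(.r 0, .r 2, .sr 0), .sr 0⟩,
    ⟨(.r 0, .r 2, .sr 1), .sr 0⟩,
    ⟨(.r 0, .r 2, .sr 2), .sr 0⟩,
    ⟨(.r 0, .sr 0, .r 0), .sr 0⟩,
    ⟨(.r 0, .sr 0, .r 1), .sr 0⟩,
    ⟨(.r 0, .sr 0, .r 2), .sr 0⟩,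
    ⟨(.r 0, .sr 1, .r 0), .sr 0⟩,
    ⟨(.r 0, .sr 1, .r 1), .sr 0⟩,
    ⟨(.r 0, .sr 1, .r 2), .sr 0⟩,
    ⟨(.r 0, .sr 2, .r 0), .sr 0⟩,
    ⟨(.r 0, .sr 2, .r 1), .sr 0⟩,
    ⟨(.r 0, .sr 2, .r 2), .sr 0⟩,
    ⟨(.r 1, .r 0, .sr 0), .sr 0⟩,
    ⟨(.r 1, .r 0, .sr 1), .sr 0⟩,
    ⟨(.r 1, .r 0, .sr 2), .sr 0⟩,
    ⟨(.r 1, .r 1, .sr 0), .sr 0⟩,
    ⟨(.r 1, .r 1, .sr 1), .sr 0⟩,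
    ⟨(.r 1, .r 1, .sr 2), .sr 0⟩,
    ⟨(.r 1, .r 2, .sr 0), .sr 0⟩,
    ⟨(.r 1, .r 2, .sr 1), .sr 0⟩,
    ⟨(.r 1, .r 2, .sr 2), .sr 0⟩,
    ⟨(.r 1, .sr 0, .r 0), .sr 0⟩,
    ⟨(.r 1, .sr 0, .r 1), .sr 0⟩,
    ⟨(.r 1, .sr 0, .r 2), .sr 0⟩,
    ⟨(.r 1, .sr 1, .r 0), .sr 0⟩,
    ⟨(.r 1, .sr 1, .r 1), .sr 0⟩,
    ⟨(.r 1, .sr 1, .r 2), .sr 0⟩,
    ⟨(.r 1, .sr 2, .r 0), .sr 0⟩,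
    ⟨(.r 1, .sr 2, .r 1), .sr 0⟩,
    ⟨(.r 1, .sr 2, .r 2), .sr 0⟩,
    ⟨(.r 2, .r 0, .sr 0), .sr 0⟩,
    ⟨(.r 2, .r 0, .sr 1), .sr 0⟩,
    ⟨(.r 2, .r 0, .sr 2), .sr 0⟩,
    ⟨(.r 2, .r 1, .sr 0), .sr 0⟩,
    ⟨(.r 2, .r 1, .sr 1), .sr 0⟩,
    ⟨(.r 2, .r 1, .sr 2), .sr 0⟩,
    ⟨(.r 2, .r 2, .sr 0), .sr 0⟩,
    ⟨(.r 2, .r 2, .sr 1), .sr 0⟩,
    ⟨(.r 2, .r 2, .sr 2), .sr 0⟩,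
    ⟨(.r 2, .sr 0, .r 0), .sr 0⟩,
    ⟨(.r 2, .sr 0, .r 1), .sr 0⟩,
    ⟨(.r 2, .sr 0, .r 2), .sr 0⟩,
    ⟨(.r 2, .sr 1, .r 0), .sr 0⟩,
    ⟨(.r 2, .sr 1, .r 1), .sr 0⟩,
    ⟨(.r 2, .sr 1, .r 2), .sr 0⟩,
    ⟨(.r 2, .sr 2, .r 0), .sr 0⟩,
    ⟨(.r 2, .sr 2, .r 1), .sr 0⟩,
    ⟨(.r 2, .sr 2, .r 2), .sr 0⟩]
  | 2 => [
    ⟨(.r 0, .r 0, .r 0), .r 0⟩,
    ⟨(.r 0, .r 0, .r 1), .r 0⟩,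
    ⟨(.r 0, .r 0, .r 2), .r 0⟩,
    ⟨(.r 0, .r 1, .r 0), .r 0⟩,
    ⟨(.r 0, .r 1, .r 1), .r 0⟩,
    ⟨(.r 0, .r 1, .r 2), .r 0⟩,
    ⟨(.r 0, .r 2, .r 0), .r 0⟩,
    ⟨(.r 0, .r 2, .r 1), .r 0⟩,
    ⟨(.r 0, .r 2, .r 2), .r 0⟩,
    ⟨(.r 1, .r 0, .r 0), .r 0⟩,
    ⟨(.r 1, .r 0, .r 1), .r 0⟩,
    ⟨(.r 1, .r 0, .r 2), .r 0⟩,
    ⟨(.r 1, .r 1, .r 0), .r 0⟩,
    ⟨(.r 1, .r 1, .r 1), .r 0⟩,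
    ⟨(.r 1, .r 1, .r 2), .r 0⟩,
    ⟨(.r 1, .r 2, .r 0), .r 0⟩,
    ⟨(.r 1, .r 2, .r 1), .r 0⟩,
    ⟨(.r 1, .r 2, .r 2), .r 0⟩,
    ⟨(.r 2, .r 0, .r 0), .r 0⟩,
    ⟨(.r 2, .r 0, .r 1), .r 0⟩,
    ⟨(.r 2, .r 0, .r 2), .r 0⟩,
    ⟨(.r 2, .r 1, .r 0), .r 0⟩,
    ⟨(.r 2, .r 1, .r 1), .r 0⟩,
    ⟨(.r 2, .r 1, .r 2), .r 0⟩,
    ⟨(.r 2, .r 2, .r 0), .r 0⟩,
    ⟨(.r 2, .r 2, .r 1), .r 0⟩,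
    ⟨(.r 2, .r 2, .r 2), .r 0⟩,
    ⟨(.r 0, .r 0, .r 0), .r 1⟩,
    ⟨(.r 0, .r 0, .r 1), .r 1⟩,
    ⟨(.r 0, .r 0, .r 2), .r 1⟩,
    ⟨(.r 0, .r 1, .r 0), .r 1⟩,
    ⟨(.r 0, .r 1, .r 1), .r 1⟩,
    ⟨(.r 0, .r 1, .r 2), .r 1⟩,
    ⟨(.r 0, .r 2, .r 0), .r 1⟩,
    ⟨(.r 0, .r 2, .r 1), .r 1⟩,
    ⟨(.r 0, .r 2, .r 2), .r 1⟩,
    ⟨(.r 1, .r 0, .r 0), .r 1⟩,
    ⟨(.r 1, .r 0, .r 1), .r 1⟩,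
    ⟨(.r 1, .r 0, .r 2), .r 1⟩,
    ⟨(.r 1, .r 1, .r 0), .r 1⟩,
    ⟨(.r 1, .r 1, .r 1), .r 1⟩,
    ⟨(.r 1, .r 1, .r 2), .r 1⟩,
    ⟨(.r 1, .r 2, .r 0), .r 1⟩,
    ⟨(.r 1, .r 2, .r 1), .r 1⟩,
    ⟨(.r 1, .r 2, .r 2), .r 1⟩,
    ⟨(.r 2, .r 0, .r 0), .r 1⟩,
    ⟨(.r 2, .r 0, .r 1), .r 1⟩,
    ⟨(.r 2, .r 0, .r 2), .r 1⟩,
    ⟨(.r 2, .r 1, .r 0), .r 1⟩,
    ⟨(.r 2, .r 1, .r 1), .r 1⟩,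
    ⟨(.r 2, .r 1, .r 2), .r 1⟩,
    ⟨(.r 2, .r 2, .r 0), .r 1⟩,
    ⟨(.r 2, .r 2, .r 1), .r 1⟩,
    ⟨(.r 2, .r 2, .r 2), .r 1⟩,
    ⟨(.r 0, .r 0, .r 0), .r 2⟩,
    ⟨(.r 0, .r 0, .r 1), .r 2⟩,
    ⟨(.r 0, .r 0, .r 2), .r 2⟩,
    ⟨(.r 0, .r 1, .r 0), .r 2⟩,
    ⟨(.r 0, .r 1, .r 1), .r 2⟩,
    ⟨(.r 0, .r 1, .r 2), .r 2⟩,
    ⟨(.r 0, .r 2, .r 0), .r 2⟩,
    ⟨(.r 0, .r 2, .r 1), .r 2⟩,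
    ⟨(.r 0, .r 2, .r 2), .r 2⟩,
    ⟨(.r 1, .r 0, .r 0), .r 2⟩,
    ⟨(.r 1, .r 0, .r 1), .r 2⟩,
    ⟨(.r 1, .r 0, .r 2), .r 2⟩,
    ⟨(.r 1, .r 1, .r 0), .r 2⟩,
    ⟨(.r 1, .r 1, .r 1), .r 2⟩,
    ⟨(.r 1, .r 1, .r 2), .r 2⟩,
    ⟨(.r 1, .r 2, .r 0), .r 2⟩,
    ⟨(.r 1, .r 2, .r 1), .r 2⟩,
    ⟨(.r 1, .r 2, .r 2), .r 2⟩,
    ⟨(.r 2, .r 0, .r 0), .r 2⟩,
    ⟨(.r 2, .r 0, .r 1), .r 2⟩,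
    ⟨(.r 2, .r 0, .r 2), .r 2⟩,
    ⟨(.r 2, .r 1, .r 0), .r 2⟩,
    ⟨(.r 2, .r 1, .r 1), .r 2⟩,
    ⟨(.r 2, .r 1, .r 2), .r 2⟩,
    ⟨(.r 2, .r 2, .r 0), .r 2⟩,
    ⟨(.r 2, .r 2, .r 1), .r 2⟩,
    ⟨(.r 2, .r 2, .r 2), .r 2⟩]
  | 3 => [
    ⟨(.r 0, .r 0, .r 0), .r 0⟩,
    ⟨(.r 0, .r 0, .r 1), .r 0⟩,
    ⟨(.r 0, .r 0, .r 2), .r 0⟩,
    ⟨(.r 0, .r 1, .r 0), .r 0⟩,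
    ⟨(.r 0, .r 1, .r 1), .r 0⟩,
    ⟨(.r 0, .r 1, .r 2), .r 0⟩,
    ⟨(.r 0, .r 2, .r 0), .r 0⟩,
    ⟨(.r 0, .r 2, .r 1), .r 0⟩,
    ⟨(.r 0, .r 2, .r 2), .r 0⟩,
    ⟨(.r 1, .r 0, .r 0), .r 0⟩,
    ⟨(.r 1, .r 0, .r 1), .r 0⟩,
    ⟨(.r 1, .r 0, .r 2), .r 0⟩,
    ⟨(.r 1, .r 1, .r 0), .r 0⟩,
    ⟨(.r 1, .r 1, .r 1), .r 0⟩,
    ⟨(.r 1, .r 1, .r 2), .r 0⟩,
    ⟨(.r 1, .r 2, .r 0), .r 0⟩,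
    ⟨(.r 1, .r 2, .r 1), .r 0⟩,
    ⟨(.r 1, .r 2, .r 2), .r 0⟩,
    ⟨(.r 2, .r 0, .r 0), .r 0⟩,
    ⟨(.r 2, .r 0, .r 1), .r 0⟩,
    ⟨(.r 2, .r 0, .r 2), .r 0⟩,
    ⟨(.r 2, .r 1, .r 0), .r 0⟩,
    ⟨(.r 2, .r 1, .r 1), .r 0⟩,
    ⟨(.r 2, .r 1, .r 2), .r 0⟩,
    ⟨(.r 2, .r 2, .r 0), .r 0⟩,
    ⟨(.r 2, .r 2, .r 1), .r 0⟩,
    ⟨(.r 2, .r 2, .r 2), .r 0⟩,
    ⟨(.r 0, .r 0, .r 0), .r 1⟩,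
    ⟨(.r 0, .r 0, .r 1), .r 1⟩,
    ⟨(.r 0, .r 0, .r 2), .r 1⟩,
    ⟨(.r 0, .r 1, .r 0), .r 1⟩,
    ⟨(.r 0, .r 1, .r 1), .r 1⟩,
    ⟨(.r 0, .r 1, .r 2), .r 1⟩,
    ⟨(.r 0, .r 2, .r 0), .r 1⟩,
    ⟨(.r 0, .r 2, .r 1), .r 1⟩,
    ⟨(.r 0, .r 2, .r 2), .r 1⟩,
    ⟨(.r 1, .r 0, .r 0), .r 1⟩,
    ⟨(.r 1, .r 0, .r 1), .r 1⟩,
    ⟨(.r 1, .r 0, .r 2), .r 1⟩,
    ⟨(.r 1, .r 1, .r 0), .r 1⟩,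
    ⟨(.r 1, .r 1, .r 1), .r 1⟩,
    ⟨(.r 1, .r 1, .r 2), .r 1⟩,
    ⟨(.r 1, .r 2, .r 0), .r 1⟩,
    ⟨(.r 1, .r 2, .r 1), .r 1⟩,
    ⟨(.r 1, .r 2, .r 2), .r 1⟩,
    ⟨(.r 2, .r 0, .r 0), .r 1⟩,
    ⟨(.r 2, .r 0, .r 1), .r 1⟩,
    ⟨(.r 2, .r 0, .r 2), .r 1⟩,
    ⟨(.r 2, .r 1, .r 0), .r 1⟩,
    ⟨(.r 2, .r 1, .r 1), .r 1⟩,
    ⟨(.r 2, .r 1, .r 2), .r 1⟩,
    ⟨(.r 2, .r 2, .r 0), .r 1⟩,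
    ⟨(.r 2, .r 2, .r 1), .r 1⟩,
    ⟨(.r 2, .r 2, .r 2), .r 1⟩,
    ⟨(.r 0, .r 0, .r 0), .r 2⟩,
    ⟨(.r 0, .r 0, .r 1), .r 2⟩,
    ⟨(.r 0, .r 0, .r 2), .r 2⟩,
    ⟨(.r 0, .r 1, .r 0), .r 2⟩,
    ⟨(.r 0, .r 1, .r 1), .r 2⟩,
    ⟨(.r 0, .r 1, .r 2), .r 2⟩,
    ⟨(.r 0, .r 2, .r 0), .r 2⟩,
    ⟨(.r 0, .r 2, .r 1), .r 2⟩,
    ⟨(.r 0, .r 2, .r 2), .r 2⟩,
    ⟨(.r 1, .r 0, .r 0), .r 2⟩,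
    ⟨(.r 1, .r 0, .r 1), .r 2⟩,
    ⟨(.r 1, .r 0, .r 2), .r 2⟩,
    ⟨(.r 1, .r 1, .r 0), .r 2⟩,
    ⟨(.r 1, .r 1, .r 1), .r 2⟩,
    ⟨(.r 1, .r 1, .r 2), .r 2⟩,
    ⟨(.r 1, .r 2, .r 0), .r 2⟩,
    ⟨(.r 1, .r 2, .r 1), .r 2⟩,
    ⟨(.r 1, .r 2, .r 2), .r 2⟩,
    ⟨(.r 2, .r 0, .r 0), .r 2⟩,
    ⟨(.r 2, .r 0, .r 1), .r 2⟩,
    ⟨(.r 2, .r 0, .r 2), .r 2⟩,
    ⟨(.r 2, .r 1, .r 0), .r 2⟩,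
    ⟨(.r 2, .r 1, .r 1), .r 2⟩,
    ⟨(.r 2, .r 1, .r 2), .r 2⟩,
    ⟨(.r 2, .r 2, .r 0), .r 2⟩,
    ⟨(.r 2, .r 2, .r 1), .r 2⟩,
    ⟨(.r 2, .r 2, .r 2), .r 2⟩]
  | 4 => [
    ⟨(.r 0, .r 0, .r 0), .r 0⟩,
    ⟨(.r 0, .r 0, .r 1), .r 0⟩,
    ⟨(.r 0, .r 0, .r 2), .r 0⟩,
    ⟨(.r 0, .r 1, .r 0), .r 0⟩,
    ⟨(.r 0, .r 1, .r 1), .r 0⟩,
    ⟨(.r 0, .r 1, .r 2), .r 0⟩,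
    ⟨(.r 0, .r 2, .r 0), .r 0⟩,
    ⟨(.r 0, .r 2, .r 1), .r 0⟩,
    ⟨(.r 0, .r 2, .r 2), .r 0⟩,
    ⟨(.r 1, .r 0, .r 0), .r 0⟩,
    ⟨(.r 1, .r 0, .r 1), .r 0⟩,
    ⟨(.r 1, .r 0, .r 2), .r 0⟩,
    ⟨(.r 1, .r 1, .r 0), .r 0⟩,
    ⟨(.r 1, .r 1, .r 1), .r 0⟩,
    ⟨(.r 1, .r 1, .r 2), .r 0⟩,
    ⟨(.r 1, .r 2, .r 0), .r 0⟩,
    ⟨(.r 1, .r 2, .r 1), .r 0⟩,
    ⟨(.r 1, .r 2, .r 2), .r 0⟩,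
    ⟨(.r 2, .r 0, .r 0), .r 0⟩,
    ⟨(.r 2, .r 0, .r 1), .r 0⟩,
    ⟨(.r 2, .r 0, .r 2), .r 0⟩,
    ⟨(.r 2, .r 1, .r 0), .r 0⟩,
    ⟨(.r 2, .r 1, .r 1), .r 0⟩,
    ⟨(.r 2, .r 1, .r 2), .r 0⟩,
    ⟨(.r 2, .r 2, .r 0), .r 0⟩,
    ⟨(.r 2, .r 2, .r 1), .r 0⟩,
    ⟨(.r 2, .r 2, .r 2), .r 0⟩,
    ⟨(.r 0, .r 0, .sr 0), .sr 1⟩,
    ⟨(.r 0, .r 0, .sr 1), .sr 1⟩,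
    ⟨(.r 0, .r 0, .sr 2), .sr 1⟩,
    ⟨(.r 0, .r 1, .sr 0), .sr 1⟩,
    ⟨(.r 0, .r 1, .sr 1), .sr 1⟩,
    ⟨(.r 0, .r 1, .sr 2), .sr 1⟩,
    ⟨(.r 0, .r 2, .sr 0), .sr 1⟩,
    ⟨(.r 0, .r 2, .sr 1), .sr 1⟩,
    ⟨(.r 0, .r 2, .sr 2), .sr 1⟩,
    ⟨(.r 1, .r 0, .sr 0), .sr 1⟩,
    ⟨(.r 1, .r 0, .sr 1), .sr 1⟩,
    ⟨(.r 1, .r 0, .sr 2), .sr 1⟩,
    ⟨(.r 1, .r 1, .sr 0), .sr 1⟩,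
    ⟨(.r 1, .r 1, .sr 1), .sr 1⟩,
    ⟨(.r 1, .r 1, .sr 2), .sr 1⟩,
    ⟨(.r 1, .r 2, .sr 0), .sr 1⟩,
    ⟨(.r 1, .r 2, .sr 1), .sr 1⟩,
    ⟨(.r 1, .r 2, .sr 2), .sr 1⟩,
    ⟨(.r 2, .r 0, .sr 0), .sr 1⟩,
    ⟨(.r 2, .r 0, .sr 1), .sr 1⟩,
    ⟨(.r 2, .r 0, .sr 2), .sr 1⟩,
    ⟨(.r 2, .r 1, .sr 0), .sr 1⟩,
    ⟨(.r 2, .r 1, .sr 1), .sr 1⟩,
    ⟨(.r 2, .r 1, .sr 2), .sr 1⟩,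
    ⟨(.r 2, .r 2, .sr 0), .sr 1⟩,
    ⟨(.r 2, .r 2, .sr 1), .sr 1⟩,
    ⟨(.r 2, .r 2, .sr 2), .sr 1⟩]
  | 5 => [
    ⟨(.r 0, .r 0, .r 0), .r 0⟩,
    ⟨(.r 0, .r 0, .r 1), .r 0⟩,
    ⟨(.r 0, .r 0, .r 2), .r 0⟩,
    ⟨(.r 0, .r 1, .r 0), .r 0⟩,
    ⟨(.r 0, .r 1, .r 1), .r 0⟩,
    ⟨(.r 0, .r 1, .r 2), .r 0⟩,
    ⟨(.r 0, .r 2, .r 0), .r 0⟩,
    ⟨(.r 0, .r 2, .r 1), .r 0⟩,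
    ⟨(.r 0, .r 2, .r 2), .r 0⟩,
    ⟨(.r 1, .r 0, .r 0), .r 0⟩,
    ⟨(.r 1, .r 0, .r 1), .r 0⟩,
    ⟨(.r 1, .r 0, .r 2), .r 0⟩,
    ⟨(.r 1, .r 1, .r 0), .r 0⟩,
    ⟨(.r 1, .r 1, .r 1), .r 0⟩,
    ⟨(.r 1, .r 1, .r 2), .r 0⟩,
    ⟨(.r 1, .r 2, .r 0), .r 0⟩,
    ⟨(.r 1, .r 2, .r 1), .r 0⟩,
    ⟨(.r 1, .r 2, .r 2), .r 0⟩,
    ⟨(.r 2, .r 0, .r 0), .r 0⟩,
    ⟨(.r 2, .r 0, .r 1), .r 0⟩,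
    ⟨(.r 2, .r 0, .r 2), .r 0⟩,
    ⟨(.r 2, .r 1, .r 0), .r 0⟩,
    ⟨(.r 2, .r 1, .r 1), .r 0⟩,
    ⟨(.r 2, .r 1, .r 2), .r 0⟩,
    ⟨(.r 2, .r 2, .r 0), .r 0⟩,
    ⟨(.r 2, .r 2, .r 1), .r 0⟩,
    ⟨(.r 2, .r 2, .r 2), .r 0⟩,
    ⟨(.r 0, .r 0, .r 0), .r 1⟩,
    ⟨(.r 0, .r 0, .r 1), .r 1⟩,
    ⟨(.r 0, .r 0, .r 2), .r 1⟩,
    ⟨(.r 0, .r 1, .r 0), .r 1⟩,
    ⟨(.r 0, .r 1, .r 1), .r 1⟩,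
    ⟨(.r 0, .r 1, .r 2), .r 1⟩,
    ⟨(.r 0, .r 2, .r 0), .r 1⟩,
    ⟨(.r 0, .r 2, .r 1), .r 1⟩,
    ⟨(.r 0, .r 2, .r 2), .r 1⟩,
    ⟨(.r 1, .r 0, .r 0), .r 1⟩,
    ⟨(.r 1, .r 0, .r 1), .r 1⟩,
    ⟨(.r 1, .r 0, .r 2), .r 1⟩,
    ⟨(.r 1, .r 1, .r 0), .r 1⟩,
    ⟨(.r 1, .r 1, .r 1), .r 1⟩,
    ⟨(.r 1, .r 1, .r 2), .r 1⟩,
    ⟨(.r 1, .r 2, .r 0), .r 1⟩,
    ⟨(.r 1, .r 2, .r 1), .r 1⟩,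
    ⟨(.r 1, .r 2, .r 2), .r 1⟩,
    ⟨(.r 2, .r 0, .r 0), .r 1⟩,
    ⟨(.r 2, .r 0, .r 1), .r 1⟩,
    ⟨(.r 2, .r 0, .r 2), .r 1⟩,
    ⟨(.r 2, .r 1, .r 0), .r 1⟩,
    ⟨(.r 2, .r 1, .r 1), .r 1⟩,
    ⟨(.r 2, .r 1, .r 2), .r 1⟩,
    ⟨(.r 2, .r 2, .r 0), .r 1⟩,
    ⟨(.r 2, .r 2, .r 1), .r 1⟩,
    ⟨(.r 2, .r 2, .r 2), .r 1⟩,
    ⟨(.r 0, .r 0, .r 0), .r 2⟩,
    ⟨(.r 0, .r 0, .r 1), .r 2⟩,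
    ⟨(.r 0, .r 0, .r 2), .r 2⟩,
    ⟨(.r 0, .r 1, .r 0), .r 2⟩,
    ⟨(.r 0, .r 1, .r 1), .r 2⟩,
    ⟨(.r 0, .r 1, .r 2), .r 2⟩,
    ⟨(.r 0, .r 2, .r 0), .r 2⟩,
    ⟨(.r 0, .r 2, .r 1), .r 2⟩,
    ⟨(.r 0, .r 2, .r 2), .r 2⟩,
    ⟨(.r 1, .r 0, .r 0), .r 2⟩,
    ⟨(.r 1, .r 0, .r 1), .r 2⟩,
    ⟨(.r 1, .r 0, .r 2), .r 2⟩,
    ⟨(.r 1, .r 1, .r 0), .r 2⟩,
    ⟨(.r 1, .r 1, .r 1), .r 2⟩,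
    ⟨(.r 1, .r 1, .r 2), .r 2⟩,
    ⟨(.r 1, .r 2, .r 0), .r 2⟩,
    ⟨(.r 1, .r 2, .r 1), .r 2⟩,
    ⟨(.r 1, .r 2, .r 2), .r 2⟩,
    ⟨(.r 2, .r 0, .r 0), .r 2⟩,
    ⟨(.r 2, .r 0, .r 1), .r 2⟩,
    ⟨(.r 2, .r 0, .r 2), .r 2⟩,
    ⟨(.r 2, .r 1, .r 0), .r 2⟩,
    ⟨(.r 2, .r 1, .r 1), .r 2⟩,
    ⟨(.r 2, .r 1, .r 2), .r 2⟩,
    ⟨(.r 2, .r 2, .r 0), .r 2⟩,
    ⟨(.r 2, .r 2, .r 1), .r 2⟩,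
    ⟨(.r 2, .r 2, .r 2), .r 2⟩,
    ⟨(.sr 0, .sr 0, .sr 0), .sr 0⟩,
    ⟨(.sr 0, .sr 0, .sr 1), .sr 0⟩,
    ⟨(.sr 0, .sr 0, .sr 2), .sr 0⟩,
    ⟨(.sr 0, .sr 1, .sr 0), .sr 0⟩,
    ⟨(.sr 0, .sr 1, .sr 1), .sr 0⟩,
    ⟨(.sr 0, .sr 1, .sr 2), .sr 0⟩,
    ⟨(.sr 0, .sr 2, .sr 0), .sr 0⟩,
    ⟨(.sr 0, .sr 2, .sr 1), .sr 0⟩,
    ⟨(.sr 0, .sr 2, .sr 2), .sr 0⟩,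
    ⟨(.sr 1, .sr 0, .sr 0), .sr 0⟩,
    ⟨(.sr 1, .sr 0, .sr 1), .sr 0⟩,
    ⟨(.sr 1, .sr 0, .sr 2), .sr 0⟩,
    ⟨(.sr 1, .sr 1, .sr 0), .sr 0⟩,
    ⟨(.sr 1, .sr 1, .sr 1), .sr 0⟩,
    ⟨(.sr 1, .sr 1, .sr 2), .sr 0⟩,
    ⟨(.sr 1, .sr 2, .sr 0), .sr 0⟩,
    ⟨(.sr 1, .sr 2, .sr 1), .sr 0⟩,
    ⟨(.sr 1, .sr 2, .sr 2), .sr 0⟩,
    ⟨(.sr 2, .sr 0, .sr 0), .sr 0⟩,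
    ⟨(.sr 2, .sr 0, .sr 1), .sr 0⟩,
    ⟨(.sr 2, .sr 0, .sr 2), .sr 0⟩,
    ⟨(.sr 2, .sr 1, .sr 0), .sr 0⟩,
    ⟨(.sr 2, .sr 1, .sr 1), .sr 0⟩,
    ⟨(.sr 2, .sr 1, .sr 2), .sr 0⟩,
    ⟨(.sr 2, .sr 2, .sr 0), .sr 0⟩,
    ⟨(.sr 2, .sr 2, .sr 1), .sr 0⟩,
    ⟨(.sr 2, .sr 2, .sr 2), .sr 0⟩,
    ⟨(.sr 0, .sr 0, .sr 0), .sr 1⟩,
    ⟨(.sr 0, .sr 0, .sr 1), .sr 1⟩,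
    ⟨(.sr 0, .sr 0, .sr 2), .sr 1⟩,
    ⟨(.sr 0, .sr 1, .sr 0), .sr 1⟩,
    ⟨(.sr 0, .sr 1, .sr 1), .sr 1⟩,
    ⟨(.sr 0, .sr 1, .sr 2), .sr 1⟩,
    ⟨(.sr 0, .sr 2, .sr 0), .sr 1⟩,
    ⟨(.sr 0, .sr 2, .sr 1), .sr 1⟩,
    ⟨(.sr 0, .sr 2, .sr 2), .sr 1⟩,
    ⟨(.sr 1, .sr 0, .sr 0), .sr 1⟩,
    ⟨(.sr 1, .sr 0, .sr 1), .sr 1⟩,
    ⟨(.sr 1, .sr 0, .sr 2), .sr 1⟩,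
    ⟨(.sr 1, .sr 1, .sr 0), .sr 1⟩,
    ⟨(.sr 1, .sr 1, .sr 1), .sr 1⟩,
    ⟨(.sr 1, .sr 1, .sr 2), .sr 1⟩,
    ⟨(.sr 1, .sr 2, .sr 0), .sr 1⟩,
    ⟨(.sr 1, .sr 2, .sr 1), .sr 1⟩,
    ⟨(.sr 1, .sr 2, .sr 2), .sr 1⟩,
    ⟨(.sr 2, .sr 0, .sr 0), .sr 1⟩,
    ⟨(.sr 2, .sr 0, .sr 1), .sr 1⟩,
    ⟨(.sr 2, .sr 0, .sr 2), .sr 1⟩,
    ⟨(.sr 2, .sr 1, .sr 0), .sr 1⟩,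
    ⟨(.sr 2, .sr 1, .sr 1), .sr 1⟩,
    ⟨(.sr 2, .sr 1, .sr 2), .sr 1⟩,
    ⟨(.sr 2, .sr 2, .sr 0), .sr 1⟩,
    ⟨(.sr 2, .sr 2, .sr 1), .sr 1⟩,
    ⟨(.sr 2, .sr 2, .sr 2), .sr 1⟩,
    ⟨(.sr 0, .sr 0, .sr 0), .sr 2⟩,
    ⟨(.sr 0, .sr 0, .sr 1), .sr 2⟩,
    ⟨(.sr 0, .sr 0, .sr 2), .sr 2⟩,
    ⟨(.sr 0, .sr 1, .sr 0), .sr 2⟩,
    ⟨(.sr 0, .sr 1, .sr 1), .sr 2⟩,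
    ⟨(.sr 0, .sr 1, .sr 2), .sr 2⟩,
    ⟨(.sr 0, .sr 2, .sr 0), .sr 2⟩,
    ⟨(.sr 0, .sr 2, .sr 1), .sr 2⟩,
    ⟨(.sr 0, .sr 2, .sr 2), .sr 2⟩,
    ⟨(.sr 1, .sr 0, .sr 0), .sr 2⟩,
    ⟨(.sr 1, .sr 0, .sr 1), .sr 2⟩,
    ⟨(.sr 1, .sr 0, .sr 2), .sr 2⟩,
    ⟨(.sr 1, .sr 1, .sr 0), .sr 2⟩,
    ⟨(.sr 1, .sr 1, .sr 1), .sr 2⟩,
    ⟨(.sr 1, .sr 1, .sr 2), .sr 2⟩,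
    ⟨(.sr 1, .sr 2, .sr 0), .sr 2⟩,
    ⟨(.sr 1, .sr 2, .sr 1), .sr 2⟩,
    ⟨(.sr 1, .sr 2, .sr 2), .sr 2⟩,
    ⟨(.sr 2, .sr 0, .sr 0), .sr 2⟩,
    ⟨(.sr 2, .sr 0, .sr 1), .sr 2⟩,
    ⟨(.sr 2, .sr 0, .sr 2), .sr 2⟩,
    ⟨(.sr 2, .sr 1, .sr 0), .sr 2⟩,
    ⟨(.sr 2, .sr 1, .sr 1), .sr 2⟩,
    ⟨(.sr 2, .sr 1, .sr 2), .sr 2⟩,
    ⟨(.sr 2, .sr 2, .sr 0), .sr 2⟩,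
    ⟨(.sr 2, .sr 2, .sr 1), .sr 2⟩,
    ⟨(.sr 2, .sr 2, .sr 2), .sr 2⟩]

theorem mem_subList : ∀ t a p, Mem t (⟨a, p⟩ : Big) → (⟨a, p⟩ : Big) ∈ subList t := by
  decide +kernel

theorem subList_mul : ∀ t, ∀ x ∈ subList t, ∀ y ∈ subList t,
    expo t (x * y) = (expo t x + expo t y) % 12 := by
  decide +kernel

/-- left transversals -/
def trList : Fin 6 → List Big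
  | 0 => [
    ⟨(.r 0, .r 0, .r 0), .r 0⟩,
    ⟨(.sr 0, .r 0, .sr 0), .r 0⟩,
    ⟨(.r 0, .r 0, .r 0), .r 1⟩,
    ⟨(.r 0, .sr 0, .sr 0), .r 1⟩,
    ⟨(.r 0, .r 0, .r 0), .r 2⟩,
    ⟨(.r 0, .sr 0, .sr 0), .r 2⟩]
  | 1 => [
    ⟨(.r 0, .r 0, .r 0), .r 0⟩,
    ⟨(.sr 0, .r 0, .sr 0), .r 0⟩,
    ⟨(.r 0, .r 0, .r 0), .r 1⟩,
    ⟨(.r 0, .sr 0, .sr 0), .r 1⟩,
    ⟨(.r 0, .r 0, .r 0), .r 2⟩,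
    ⟨(.r 0, .sr 0, .sr 0), .r 2⟩]
  | 2 => [
    ⟨(.r 0, .r 0, .r 0), .r 0⟩,
    ⟨(.r 0, .sr 0, .sr 0), .r 0⟩,
    ⟨(.sr 0, .r 0, .sr 0), .r 0⟩,
    ⟨(.sr 0, .sr 0, .r 0), .r 0⟩,
    ⟨(.r 0, .r 0, .sr 0), .sr 0⟩,
    ⟨(.r 0, .sr 0, .r 0), .sr 0⟩,
    ⟨(.sr 0, .r 0, .r 0), .sr 0⟩,
    ⟨(.sr 0, .sr 0, .sr 0), .sr 0⟩]
  | 3 => [
    ⟨(.r 0, .r 0, .r 0), .r 0⟩,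
    ⟨(.r 0, .sr 0, .sr 0), .r 0⟩,
    ⟨(.sr 0, .r 0, .sr 0), .r 0⟩,
    ⟨(.sr 0, .sr 0, .r 0), .r 0⟩,
    ⟨(.r 0, .r 0, .sr 0), .sr 0⟩,
    ⟨(.r 0, .sr 0, .r 0), .sr 0⟩,
    ⟨(.sr 0, .r 0, .r 0), .sr 0⟩,
    ⟨(.sr 0, .sr 0, .sr 0), .sr 0⟩]
  | 4 => [
    ⟨(.r 0, .r 0, .r 0), .r 0⟩,
    ⟨(.r 0, .sr 0, .sr 0), .r 0⟩,
    ⟨(.sr 0, .r 0, .sr 0), .r 0⟩,
    ⟨(.sr 0, .sr 0, .r 0), .r 0⟩,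
    ⟨(.r 0, .r 0, .r 0), .r 1⟩,
    ⟨(.r 0, .sr 0, .sr 0), .r 1⟩,
    ⟨(.sr 0, .r 0, .sr 0), .r 1⟩,
    ⟨(.sr 0, .sr 0, .r 0), .r 1⟩,
    ⟨(.r 0, .r 0, .r 0), .r 2⟩,
    ⟨(.r 0, .sr 0, .sr 0), .r 2⟩,
    ⟨(.sr 0, .r 0, .sr 0), .r 2⟩,
    ⟨(.sr 0, .sr 0, .r 0), .r 2⟩]
  | 5 => [
    ⟨(.r 0, .r 0, .r 0), .r 0⟩,
    ⟨(.r 0, .sr 0, .sr 0), .r 0⟩,
    ⟨(.sr 0, .r 0, .sr 0), .r 0⟩,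
    ⟨(.sr 0, .sr 0, .r 0), .r 0⟩]

theorem trList_facts : ∀ t, (trList t).Nodup ∧ (trList t).all (fun x => decide (Ev x)) = true ∧
    (subList t).length * (trList t).length = 648 ∧
    (trList t).Pairwise (fun x y => ¬ Mem t (x⁻¹ * y)) ∧ (subList t).Nodup ∧
    (subList t).all (fun x => decide (Mem t x)) = true := by
  decide +kernel

/-- twice the real part of a twelfth root of one, in the basis `1, √3` -/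
def cosTab : Fin 12 → ℤ × ℤ := ![(2, 0), (0, 1), (1, 0), (0, 0), (-1, 0), (0, -1), (-2, 0), (0, -1),
  (-1, 0), (0, 0), (1, 0), (0, 1)]

/-- twice the imaginary part -/
def sinTab : Fin 12 → ℤ × ℤ := ![(0, 0), (1, 0), (0, 1), (2, 0), (0, 1), (1, 0), (0, 0), (-1, 0),
  (0, -1), (-2, 0), (0, -1), (-1, 0)]

/-- the summand of an induced value -/
def term (t : Fin 6) (y : Big) : (ℤ × ℤ) × (ℤ × ℤ) :=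
  if Mem t y then
    (cosTab (Fin.ofNat 12 (expo t y)), sinTab (Fin.ofNat 12 (expo t y))) else ((0, 0), (0, 0))

/-- the irrational part of each character -/
def irrOf (t : Fin 6) (g : Big) : ℤ := if t = 1 then irrl g else 0

theorem ind_table : ∀ t a p, Ev (⟨a, p⟩ : Big) →
    ((trList t).map fun x => term t (x⁻¹ * ⟨a, p⟩ * x)).sum =
      ((2 * rat t ⟨a, p⟩, 2 * irrOf t ⟨a, p⟩), ((0 : ℤ), (0 : ℤ))) := by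
  decide +kernel

/-- fixed components less one -/
def sig : DihedralGroup 3 → ℤ
  | .r i => if i = 0 then 2 else -1
  | .sr _ => 0

def epsP (g : Big) : ℤ := dsgn g.right
def chP (g : Big) : ℤ := rat 5 g - 1
def chQ (g : Big) : ℤ := chP g * epsP g

/-- the rational parts of the eight class functions -/
def vecA : Fin 8 → Big → ℤ
  | 0, g => rat 2 g - rat 3 g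
  | 1, g => rat 1 g - rat 1 g * epsP g
  | 2, g => rat 2 g - rat 1 g - sig g.right
  | 3, g => rat 1 g - chP g - chQ g
  | 4, g => rat 0 g - rat 2 g - 1 + chP g
  | 5, g => rat 4 g - rat 2 g - 1 - chP g
  | 6, g => rat 0 g * epsP g - rat 2 g - epsP g + chQ g
  | 7, g => rat 4 g * epsP g - rat 2 g - epsP g - chQ g

/-- the coefficients of the root of three -/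
def vecB : Fin 8 → Big → ℤ
  | 1, g => irrl g - irrl g * epsP g
  | 2, g => -irrl g
  | 3, g => irrl g
  | _, _ => 0

theorem sum_gram : ∀ j k,
    (∑ a : Tri, ∑ p : DihedralGroup 3, if Ev (⟨a, p⟩ : Big) then
      vecA j ⟨a, p⟩ * vecA k ⟨a, p⟩ + 3 * (vecB j ⟨a, p⟩ * vecB k ⟨a, p⟩) else 0) =
      648 * gram j k ∧
    (∑ a : Tri, ∑ p : DihedralGroup 3, if Ev (⟨a, p⟩ : Big) then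
      vecA j ⟨a, p⟩ * vecB k ⟨a, p⟩ + vecB j ⟨a, p⟩ * vecA k ⟨a, p⟩ else 0) = 0 := by
  decide +kernel

theorem sum_one : ∀ j,
    (∑ a : Tri, ∑ p : DihedralGroup 3, if Ev (⟨a, p⟩ : Big) then vecA j ⟨a, p⟩ else 0) =
      648 * vecOne j ∧
    (∑ a : Tri, ∑ p : DihedralGroup 3, if Ev (⟨a, p⟩ : Big) then vecB j ⟨a, p⟩ else 0) = 0 := by
  decide +kernel

/-- involutions of the first class -/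
def invL₂ : List Big := [
    ⟨(.r 0, .sr 0, .sr 0), .r 0⟩,
    ⟨(.r 0, .sr 0, .sr 1), .r 0⟩,
    ⟨(.r 0, .sr 0, .sr 2), .r 0⟩,
    ⟨(.r 0, .sr 1, .sr 0), .r 0⟩,
    ⟨(.r 0, .sr 1, .sr 1), .r 0⟩,
    ⟨(.r 0, .sr 1, .sr 2), .r 0⟩,
    ⟨(.r 0, .sr 2, .sr 0), .r 0⟩,
    ⟨(.r 0, .sr 2, .sr 1), .r 0⟩,
    ⟨(.r 0, .sr 2, .sr 2), .r 0⟩,
    ⟨(.sr 0, .r 0, .sr 0), .r 0⟩,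
    ⟨(.sr 0, .r 0, .sr 1), .r 0⟩,
    ⟨(.sr 0, .r 0, .sr 2), .r 0⟩,
    ⟨(.sr 0, .sr 0, .r 0), .r 0⟩,
    ⟨(.sr 0, .sr 1, .r 0), .r 0⟩,
    ⟨(.sr 0, .sr 2, .r 0), .r 0⟩,
    ⟨(.sr 1, .r 0, .sr 0), .r 0⟩,
    ⟨(.sr 1, .r 0, .sr 1), .r 0⟩,
    ⟨(.sr 1, .r 0, .sr 2), .r 0⟩,
    ⟨(.sr 1, .sr 0, .r 0), .r 0⟩,
    ⟨(.sr 1, .sr 1, .r 0), .r 0⟩,
    ⟨(.sr 1, .sr 2, .r 0), .r 0⟩,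
    ⟨(.sr 2, .r 0, .sr 0), .r 0⟩,
    ⟨(.sr 2, .r 0, .sr 1), .r 0⟩,
    ⟨(.sr 2, .r 0, .sr 2), .r 0⟩,
    ⟨(.sr 2, .sr 0, .r 0), .r 0⟩,
    ⟨(.sr 2, .sr 1, .r 0), .r 0⟩,
    ⟨(.sr 2, .sr 2, .r 0), .r 0⟩]

/-- involutions of the second class -/
def invL₆ : List Big := [
    ⟨(.sr 0, .r 0, .r 0), .sr 0⟩,
    ⟨(.sr 0, .r 1, .r 2), .sr 0⟩,
    ⟨(.sr 0, .r 2, .r 1), .sr 0⟩,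
    ⟨(.sr 0, .sr 0, .sr 0), .sr 0⟩,
    ⟨(.sr 0, .sr 1, .sr 1), .sr 0⟩,
    ⟨(.sr 0, .sr 2, .sr 2), .sr 0⟩,
    ⟨(.sr 1, .r 0, .r 0), .sr 0⟩,
    ⟨(.sr 1, .r 1, .r 2), .sr 0⟩,
    ⟨(.sr 1, .r 2, .r 1), .sr 0⟩,
    ⟨(.sr 1, .sr 0, .sr 0), .sr 0⟩,
    ⟨(.sr 1, .sr 1, .sr 1), .sr 0⟩,
    ⟨(.sr 1, .sr 2, .sr 2), .sr 0⟩,
    ⟨(.sr 2, .r 0, .r 0), .sr 0⟩,
    ⟨(.sr 2, .r 1, .r 2), .sr 0⟩,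
    ⟨(.sr 2, .r 2, .r 1), .sr 0⟩,
    ⟨(.sr 2, .sr 0, .sr 0), .sr 0⟩,
    ⟨(.sr 2, .sr 1, .sr 1), .sr 0⟩,
    ⟨(.sr 2, .sr 2, .sr 2), .sr 0⟩,
    ⟨(.r 0, .r 0, .sr 0), .sr 1⟩,
    ⟨(.r 0, .r 0, .sr 1), .sr 1⟩,
    ⟨(.r 0, .r 0, .sr 2), .sr 1⟩,
    ⟨(.r 1, .r 2, .sr 0), .sr 1⟩,
    ⟨(.r 1, .r 2, .sr 1), .sr 1⟩,
    ⟨(.r 1, .r 2, .sr 2), .sr 1⟩,
    ⟨(.r 2, .r 1, .sr 0), .sr 1⟩,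
    ⟨(.r 2, .r 1, .sr 1), .sr 1⟩,
    ⟨(.r 2, .r 1, .sr 2), .sr 1⟩,
    ⟨(.sr 0, .sr 0, .sr 0), .sr 1⟩,
    ⟨(.sr 0, .sr 0, .sr 1), .sr 1⟩,
    ⟨(.sr 0, .sr 0, .sr 2), .sr 1⟩,
    ⟨(.sr 1, .sr 1, .sr 0), .sr 1⟩,
    ⟨(.sr 1, .sr 1, .sr 1), .sr 1⟩,
    ⟨(.sr 1, .sr 1, .sr 2), .sr 1⟩,
    ⟨(.sr 2, .sr 2, .sr 0), .sr 1⟩,
    ⟨(.sr 2, .sr 2, .sr 1), .sr 1⟩,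
    ⟨(.sr 2, .sr 2, .sr 2), .sr 1⟩,
    ⟨(.r 0, .sr 0, .r 0), .sr 2⟩,
    ⟨(.r 0, .sr 1, .r 0), .sr 2⟩,
    ⟨(.r 0, .sr 2, .r 0), .sr 2⟩,
    ⟨(.r 1, .sr 0, .r 2), .sr 2⟩,
    ⟨(.r 1, .sr 1, .r 2), .sr 2⟩,
    ⟨(.r 1, .sr 2, .r 2), .sr 2⟩,
    ⟨(.r 2, .sr 0, .r 1), .sr 2⟩,
    ⟨(.r 2, .sr 1, .r 1), .sr 2⟩,
    ⟨(.r 2, .sr 2, .r 1), .sr 2⟩,
    ⟨(.sr 0, .sr 0, .sr 0), .sr 2⟩,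
    ⟨(.sr 0, .sr 1, .sr 0), .sr 2⟩,
    ⟨(.sr 0, .sr 2, .sr 0), .sr 2⟩,
    ⟨(.sr 1, .sr 0, .sr 1), .sr 2⟩,
    ⟨(.sr 1, .sr 1, .sr 1), .sr 2⟩,
    ⟨(.sr 1, .sr 2, .sr 1), .sr 2⟩,
    ⟨(.sr 2, .sr 0, .sr 2), .sr 2⟩,
    ⟨(.sr 2, .sr 1, .sr 2), .sr 2⟩,
    ⟨(.sr 2, .sr 2, .sr 2), .sr 2⟩]

set_option synthInstance.maxSize 2048 in
theorem mem_invL₂ : ∀ a : Tri, ∀ p : DihedralGroup 3, ((⟨a, p⟩ : Big) ∈ invL₂ ↔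
      Ev (⟨a, p⟩ : Big) ∧ (⟨a, p⟩ : Big) ≠ 1 ∧ (⟨a, p⟩ : Big) * ⟨a, p⟩ = 1 ∧ dsgn p = 1) := by
  decide +kernel

set_option synthInstance.maxSize 2048 in
theorem mem_invL₆ : ∀ a : Tri, ∀ p : DihedralGroup 3, ((⟨a, p⟩ : Big) ∈ invL₆ ↔
      Ev (⟨a, p⟩ : Big) ∧ (⟨a, p⟩ : Big) * ⟨a, p⟩ = 1 ∧ dsgn p = -1) := by
  decide +kernel

theorem invL_nodup : invL₂.Nodup ∧ invL₆.Nodup := by decide +kernel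

/-- a sum over pairs from two lists -/
def pairTot (f : Big → ℤ) (l l' : List Big) : ℤ := (l.map fun s => (l'.map fun t => f (s * t)).sum).sum

theorem sum_pairs : ∀ j,
    pairTot (vecA j) invL₂ invL₂ = 324 * pr22 j ∧ pairTot (vecA j) invL₂ invL₆ = 324 * pr26 j ∧
    pairTot (vecA j) invL₆ invL₆ = 324 * pr66 j ∧
    pairTot (vecB j) invL₂ invL₂ = 0 ∧ pairTot (vecB j) invL₂ invL₆ = 0 ∧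
    pairTot (vecB j) invL₆ invL₆ = 0 := by
  decide +kernel

/-- the rotation part -/
def InJ (g : Big) : Prop := g.right = 1 ∧ eps 0 g.left = 1 ∧ eps 1 g.left = 1 ∧ eps 2 g.left = 1

instance : DecidablePred InJ := fun g => inferInstanceAs (Decidable (_ ∧ _))

def InJ1 (g : Big) : Prop := InJ g ∧ g ≠ 1

instance : DecidablePred InJ1 := fun g => inferInstanceAs (Decidable (_ ∧ _))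

/-- elements some power of which is a nontrivial rotation -/
def Sing4 (g : Big) : Prop :=
  InJ1 g ∨ InJ1 (g * g) ∨ InJ1 (g * g * g) ∨ InJ1 (g * g * (g * g))

instance : DecidablePred Sing4 := fun g => inferInstanceAs (Decidable (_ ∨ _))

theorem sing4_inv : ∀ a p, Sing4 (⟨a, p⟩ : Big) → Sing4 (⟨a, p⟩ : Big)⁻¹ := by decide +kernel

theorem vec_eq_zero : ∀ a p, Ev (⟨a, p⟩ : Big) → ¬ Sing4 (⟨a, p⟩ : Big) →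
    ∀ j, vecA j ⟨a, p⟩ = 0 ∧ vecB j ⟨a, p⟩ = 0 := by
  decide +kernel

theorem not_sing4_of_sq : ∀ a p, (⟨a, p⟩ : Big) * ⟨a, p⟩ = 1 → ¬ Sing4 (⟨a, p⟩ : Big) := by
  decide +kernel

end CfsgLib.Block.FourCube
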