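import Cfsg.Agent.Lib.Block.Blocks

/-!
Powers of group algebra elements in characteristic `p`, seen through sums over invariant sets.
-/

set_option autoImplicit false
set_option linter.unusedSectionVars false

namespace CfsgLib.Block

open MonoidAlgebra

universe u v

variable {G : Type u} [Group G]

theorem sum_coeff_pow {k : Type v} [CommRing k] [Fintype G] (a : MonoidAlgebra k G) (n : ℕ) :
    ∀ φ : G → k, ∑ g, φ g * (a ^ n).coeff g =
      ∑ f : Fin n → G, (∏ i, a.coeff (f i)) * φ (List.ofFn f).prod := by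
  induction n with
  | zero =>
    intro φ
    rw [Finset.sum_eq_single (1 : G) (fun b _ hb => by simp [one_def, Ne.symm hb]) (by simp)]
    simp
  | succ n ih =>
    intro φ
    rw [← (Fin.consEquiv fun _ => G).sum_comp, Fintype.sum_prod_type]
    calc ∑ g, φ g * (a ^ (n + 1)).coeff g
        = ∑ y, ∑ g, φ g * (a.coeff y * (a ^ n).coeff (y⁻¹ * g)) := by
          rw [Finset.sum_comm]
          refine Finset.sum_congr rfl fun g _ => ?_
          rw [pow_succ', coeff_mul_eq, Finset.mul_sum]
      _ = ∑ y, a.coeff y * ∑ h, φ (y * h) * (a ^ n).coeff h := by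
          refine Finset.sum_congr rfl fun y _ => ?_
          rw [Finset.mul_sum]
          refine (Fintype.sum_equiv (Equiv.mulLeft y) _ _ fun h => ?_).symm
          simp only [Equiv.coe_mulLeft, inv_mul_cancel_left]
          ring
      _ = _ := by
          refine Finset.sum_congr rfl fun y _ => ?_
          rw [ih, Finset.mul_sum]
          refine Finset.sum_congr rfl fun f _ => ?_
          simp only [Fin.consEquiv_apply, Fin.prod_univ_succ, Fin.cons_zero, Fin.cons_succ,
            List.ofFn_succ, List.prod_cons]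
          ring

variable {k : Type v} [Field k] {p : ℕ}

theorem sum_coeff_pow_char [Fintype G] [Fact p.Prime] [CharP k p] (a : MonoidAlgebra k G)
    {s : Set G} [DecidablePred (· ∈ s)] (hs : ∀ g h : G, g ∈ s → h * g * h⁻¹ ∈ s) :
    (∑ g, if g ∈ s then (a ^ p).coeff g else 0) =
      (∑ g, if g ^ p ∈ s then a.coeff g else 0) ^ p := by
  classical
  obtain ⟨n, rfl⟩ : ∃ n, p = n + 1 := ⟨p - 1, by have := (Fact.out : p.Prime).pos; omega⟩
  let φ : G → k := fun g => if g ∈ s then 1 else 0
  have hφ : ∀ x y : G, φ (y * x) = φ (x * y) := by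
    intro x y
    have hiff : y * x ∈ s ↔ x * y ∈ s :=
      ⟨fun h => by simpa [mul_assoc] using hs _ y⁻¹ h, fun h => by simpa [mul_assoc] using hs _ y h⟩
    simp only [φ, hiff]
  have h1 : (∑ g, if g ∈ s then (a ^ (n + 1)).coeff g else 0) =
      ∑ f : Fin (n + 1) → G, (∏ i, a.coeff (f i)) * φ (List.ofFn f).prod := by
    rw [← sum_coeff_pow a (n + 1) φ]
    exact Finset.sum_congr rfl fun g _ => by simp [φ]
  let σ : Equiv.Perm (Fin (n + 1)) := finRotate (n + 1)
  let F : (Fin (n + 1) → G) → k := fun f => (∏ i, a.coeff (f i)) * φ (List.ofFn f).prod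
  have hFσ : ∀ f, F (f ∘ σ) = F f := by
    intro f
    simp only [F]
    congr 1
    · exact Equiv.prod_comp σ (fun i => a.coeff (f i))
    · have e1 : (fun i : Fin n => f (σ i.castSucc)) = fun i : Fin n => f i.succ := by
        funext i
        congr 1
        exact finRotate_of_lt (n := n) i.2
      have e2 : σ (Fin.last n) = 0 := finRotate_last
      conv_rhs => rw [List.ofFn_succ, List.prod_cons]
      rw [List.ofFn_succ', List.prod_concat, ← hφ]
      simp only [Function.comp_apply, e1, e2]
  let S : Subgroup (Equiv.Perm (Fin (n + 1))) :=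
    { carrier := {π | ∀ f, F (f ∘ π) = F f}
      one_mem' := fun f => rfl
      mul_mem' := fun {x y} hx hy f => by
        change F ((f ∘ x) ∘ y) = F f
        rw [hy, hx]
      inv_mem' := fun {x} hx f => by
        have := hx (f ∘ ⇑x⁻¹)
        rw [Function.comp_assoc] at this
        simpa using this.symm }
  let P := Subgroup.zpowers σ
  have hPS : P ≤ S := Subgroup.zpowers_le.2 hFσ
  have hP : IsPGroup (n + 1) P := by
    refine IsPGroup.of_card (n := 1) ?_
    rw [Nat.card_zpowers, pow_one]
    obtain ⟨m, rfl⟩ : ∃ m, n = m + 1 := ⟨n - 1, by have := (Fact.out : (n + 1).Prime).two_le; omega⟩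
    simpa [σ] using ((isCycle_finRotate (n := m)).orderOf.trans
      (by rw [support_finRotate]; simp) : orderOf (finRotate (m + 2)) = m + 2)
  let _ : MulAction P (Fin (n + 1) → G) :=
    { smul := fun u f => f ∘ ⇑((u : Equiv.Perm (Fin (n + 1)))⁻¹)
      one_smul := fun f => rfl
      mul_smul := fun u w f => by
        change f ∘ _ = (f ∘ _) ∘ _
        rw [Function.comp_assoc]
        simp [mul_inv_rev] }
  rw [h1, sum_pow_char, sum_eq_sum_fixed hP (p := n + 1) (fun v => by simp [nsmul_eq_mul]) F
    (fun u f => hPS (P.inv_mem u.2) f)]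
  have hfix : ∀ f : Fin (n + 1) → G,
      f ∈ MulAction.fixedPoints P (Fin (n + 1) → G) ↔ f = fun _ => f 0 := by
    intro f
    constructor
    · intro hf
      have h2 : f ∘ ⇑σ = f := by
        have := hf (⟨σ, Subgroup.mem_zpowers σ⟩⁻¹ : P)
        change f ∘ _ = f at this
        simpa using this
      funext i
      induction i using Fin.induction with
      | zero => rfl
      | succ i ih =>
        rw [← ih]
        have := congrFun h2 i.castSucc
        rw [Function.comp_apply] at this
        rw [← this]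
        congr 1
        simp [σ, finRotate_of_lt i.2, Fin.castSucc, Fin.castAdd, Fin.castLE]
        rfl
    · intro hf u
      change f ∘ _ = f
      rw [hf]
      rfl
  refine Finset.sum_nbij' (fun f => f 0) (fun g _ => g) (fun f _ => Finset.mem_univ _)
    (fun g _ => ?_) (fun f hf => ?_) (fun g _ => rfl) (fun f hf => ?_)
  · rw [Finset.mem_filter, hfix]
    exact ⟨Finset.mem_univ _, rfl⟩
  · exact ((hfix f).1 (Finset.mem_filter.1 hf).2).symm
  · have he := (hfix f).1 (Finset.mem_filter.1 hf).2
    simp only [F, φ]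
    rw [he]
    simp only [List.ofFn_const, List.prod_replicate, Finset.prod_const, Finset.card_univ,
      Fintype.card_fin]
    split <;> simp

theorem sum_coeff_pow_char_pow [Fintype G] [Fact p.Prime] [CharP k p] (a : MonoidAlgebra k G)
    (n : ℕ) : ∀ (s : Set G) [DecidablePred (· ∈ s)], (∀ g h : G, g ∈ s → h * g * h⁻¹ ∈ s) →
    (∑ g, if g ∈ s then (a ^ p ^ n).coeff g else 0) =
      (∑ g, if g ^ p ^ n ∈ s then a.coeff g else 0) ^ p ^ n := by
  classical
  induction n with
  | zero => intro s _ _; simp
  | succ n ih =>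
    intro s _ hs
    have h1 := sum_coeff_pow_char (p := p) (a ^ p ^ n) hs
    rw [← pow_mul, ← pow_succ] at h1
    have h2 := ih {g | g ^ p ∈ s} fun g h hg => by
      change (h * g * h⁻¹) ^ p ∈ s
      rw [conj_pow]
      exact hs _ h hg
    simp only [Set.mem_ofPred_eq, ← pow_mul, ← pow_succ] at h2
    rw [h1, pow_succ, pow_mul]
    exact congrArg (· ^ p) h2

/-- Large powers of `p` project to the `p`-regular part. -/
theorem exists_frob_exponent (G : Type u) [Group G] [Finite G] {p : ℕ} (hp : p.Prime) (B : ℕ) :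
    ∃ n : ℕ, B ≤ p ^ n ∧ (∀ g : G, ¬ p ∣ orderOf (g ^ p ^ n)) ∧
      ∀ g : G, ¬ p ∣ orderOf g → g ^ p ^ n = g := by
  obtain ⟨e, u, hu, hN⟩ :=
    Nat.exists_eq_pow_mul_and_not_dvd (Nat.card_pos (α := G)).ne' p hp.ne_one
  have hco : Nat.Coprime p u := hp.coprime_iff_not_dvd.2 hu
  refine ⟨u.totient * (e + B + 1), ?_, ?_, ?_⟩
  · have h0 : 0 < u.totient := Nat.totient_pos.2 (Nat.pos_of_ne_zero fun h => hu (h ▸ dvd_zero p))
    calc B ≤ p ^ B := (Nat.lt_pow_self hp.one_lt).le
      _ ≤ _ := Nat.pow_le_pow_right hp.pos (by nlinarith)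
  · intro g hd
    refine hu (hd.trans (orderOf_dvd_of_pow_eq_one ?_))
    rw [← pow_mul, ← orderOf_dvd_iff_pow_eq_one]
    refine (orderOf_dvd_natCard g).trans ?_
    rw [hN]
    refine Nat.mul_dvd_mul_right (pow_dvd_pow p ?_) u
    have h0 : 0 < u.totient := Nat.totient_pos.2 (Nat.pos_of_ne_zero fun h => hu (h ▸ dvd_zero p))
    nlinarith
  · intro g hg
    conv_rhs => rw [← pow_one g]
    rw [pow_eq_pow_iff_modEq]
    have hdvd : orderOf g ∣ u := by
      have := orderOf_dvd_natCard g
      rw [hN] at this
      exact (Nat.Coprime.pow_right e (hp.coprime_iff_not_dvd.2 hg).symm).dvd_of_dvd_mul_left this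
    refine Nat.ModEq.of_dvd hdvd ?_
    rw [pow_mul]
    simpa using (Nat.ModEq.pow_totient hco).pow (e + B + 1)

/-- A nilpotent element with class coefficients supported on regular elements vanishes on the
classes of full defect. -/
theorem coeff_eq_zero_of_isNilpotent [Finite G] [Fact p.Prime] [CharP k p] {a : MonoidAlgebra k G}
    (ha : IsClassCoeff a) (hn : IsNilpotent a) (hsing : ∀ g, p ∣ orderOf g → a.coeff g = 0) {g : G}
    (hg : ¬ p ∣ (Subgroup.centralizer ({g} : Set G)).index) : a.coeff g = 0 := by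
  classical
  have := Fintype.ofFinite G
  by_cases hgs : p ∣ orderOf g
  · exact hsing g hgs
  obtain ⟨N, hN⟩ := hn
  obtain ⟨n, hn, -, hfix⟩ := exists_frob_exponent G (Fact.out : p.Prime) N
  have h1 := sum_coeff_pow_char_pow (p := p) a n {h | IsConj g h}
    (fun x h hx => hx.trans (isConj_iff.2 ⟨h, rfl⟩))
  rw [pow_eq_zero_of_le hn hN] at h1
  simp only [coeff_zero, Finsupp.zero_apply, ite_self, Finset.sum_const_zero] at h1
  have h2 := eq_zero_of_pow_eq_zero h1.symm
  have h3 : ∀ x : G, (if x ^ p ^ n ∈ {h | IsConj g h} then a.coeff x else 0) =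
      if IsConj g x then a.coeff g else 0 := by
    intro x
    by_cases hx : p ∣ orderOf x
    · rw [hsing x hx, ite_self, if_neg]
      intro hc
      apply hgs
      obtain ⟨c, rfl⟩ := isConj_iff.1 hc
      simpa using (orderOf_injective (MulAut.conj c).toMonoidHom (MulAut.conj c).injective g) ▸ hx
    · rw [hfix x hx]
      by_cases hc : IsConj g x
      · rw [if_pos hc, if_pos (show x ∈ {h | IsConj g h} from hc), coeff_eq_of_isConj ha hc]
      · rw [if_neg hc, if_neg (show x ∉ {h | IsConj g h} from hc)]
  rw [Finset.sum_congr rfl (fun x _ => h3 x), ← Finset.sum_filter, Finset.sum_const, nsmul_eq_mul,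
    mul_eq_zero] at h2
  refine h2.resolve_left fun h => hg ?_
  have hc : (Finset.univ.filter (IsConj g)).card =
      (Subgroup.centralizer ({g} : Set G)).index := by
    rw [← CfsgLib.Char.natCard_carrier_eq_index, Nat.card_eq_fintype_card, Fintype.card_of_subtype]
    intro x
    simp only [Finset.mem_filter, Finset.mem_univ, true_and, ConjClasses.mem_carrier_iff_mk_eq,
      ConjClasses.mk_eq_mk_iff_isConj]
    exact isConj_comm
  rwa [hc, CharP.cast_eq_zero_iff k p] at h

end CfsgLib.Block
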