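import Cfsg.Agent.Lib.Block.FrobeniusModelChars
import Cfsg.Agent.Lib.Block.PerfectCriterion

/-!
# The perfect isometry from the Frobenius model, for odd `p`
-/

set_option autoImplicit false
set_option linter.unusedSectionVars false

namespace CfsgLib.Block

open Cfsg CfsgLib.Block CfsgLib.BlockA CfsgLib.BlockB CfsgLib.BlockB.SubSum
  CfsgLib.BlockB.HeightBound
open scoped ComplexConjugate

universe u v

namespace CycBlock

variable {G : Type u} [Group G] [Fintype G] {p : ℕ} [hp : Fact p.Prime] {M : Ideal AlgInt}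
  [M.IsPrime] {S : CycBlock G p M} {F : Type v} [Group F] [Finite F]

local notation "cs" y => Subgroup.centralizer (Singleton.singleton y : Set G)

theorem SignedRows.c_mul_conj (R : S.SignedRows) {j : ZMod (p ^ S.a)} (hj : j ≠ 0) :
    R.c j * conj (R.c j) = S.dg j * conj (S.dg j) := by
  have h := R.hc j hj
  rw [nrm_eq (S.allEq_of_ne_zero hj), (S.natCard_blk hj).2] at h
  refine mul_right_cancel₀ (b := ((p ^ S.a : ℕ) : ℂ))
    (Nat.cast_ne_zero.2 (pow_ne_zero _ hp.out.ne_zero)) ?_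
  rw [h, mul_comm]

theorem SignedRows.isIntegral_c_div_dg (R : S.SignedRows) {j : ZMod (p ^ S.a)} (hj : j ≠ 0) :
    IsIntegral ℤ (R.c j / S.dg j) := by
  classical
  have hX : R.X.Nonempty := Finset.card_pos.1 (R.hXcard ▸ S.e_pos)
  obtain ⟨χ, hχ⟩ := hX
  have h1 := R.hcol χ j hj
  rw [col_eq_secPow (S.allEq_of_ne_zero hj)] at h1
  have htr : S.tr (R.d χ) j = -(R.δ χ : ℂ) := by
    unfold CycBlock.tr
    have hs : ∑ l : ZMod (p ^ S.a), zpsi (p ^ S.a) (l * j) = 0 := by
      simp only [mul_comm _ j]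
      rw [sum_zpsi_mul, if_neg hj]
    rw [← Finset.add_sum_erase _ _ (Finset.mem_univ (0 : ZMod (p ^ S.a))), zero_mul,
      AddChar.map_zero_eq_one] at hs
    rw [← Finset.add_sum_erase _ _ (Finset.mem_univ (0 : ZMod (p ^ S.a))), R.hd0, Int.cast_zero,
      zero_mul, zero_add, Finset.sum_congr rfl (fun l hl => by
        rw [R.hfull χ hχ l (Finset.ne_of_mem_erase hl)]), ← Finset.mul_sum]
    linear_combination (R.δ χ : ℂ) * hs
  rw [htr] at h1
  have hδ2 : (R.δ χ : ℂ) * R.δ χ = 1 := by rcases R.hδ χ with h | h <;> simp [h]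
  have heq : R.c j / S.dg j = -(R.δ χ : ℂ) * S.secPow χ j 1 := by
    rw [div_eq_iff (S.dg_ne_zero j)]
    linear_combination (R.δ χ : ℂ) * h1 - R.c j * hδ2
  rw [heq]
  exact ((isIntegral_algebraMap (x := R.δ χ)).neg).mul
    ((S.isCyclo_secPow χ j).isIntegral (pow_ne_zero _ hp.out.ne_zero) 1)

/-- **The perfect isometry from the model.** -/
theorem SignedRows.exists_perfectIsometry (R : S.SignedRows) (m : S.Model F) :
    ∃ (J : IrrCharacter F → IrrCharacter G) (ε : IrrCharacter F → ℤ),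
      IsPerfectIsometry p M (Set.univ : Set (IrrCharacter F)) S.B J ε ∧
      ∀ η η' : IrrCharacter F, (∃ u ∈ Subgroup.zpowers m.x, (η : F → ℂ) u ≠ (η : F → ℂ) 1) →
        (∃ u ∈ Subgroup.zpowers m.x, (η' : F → ℂ) u ≠ (η' : F → ℂ) 1) → ε η = ε η' := by
  classical
  have := Fintype.ofFinite F
  have := Fintype.ofFinite (IrrCharacter F)
  have : NeZero (p ^ S.a) := ⟨pow_ne_zero _ hp.out.ne_zero⟩
  let Ker : IrrCharacter F → Prop := fun η =>
    ∀ u ∈ Subgroup.zpowers m.x, (η : F → ℂ) u = (η : F → ℂ) 1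
  have hker1 : ∀ η, Ker η → (η : F → ℂ) 1 = 1 ∧ ∀ n : ℕ, (η : F → ℂ) (m.x ^ n) = 1 := by
    intro η h
    rcases m.irr_cases η with h' | ⟨⟨u, hu, hne⟩, -⟩
    · exact ⟨h'.1, fun n => h'.2 _ (pow_mem (Subgroup.mem_zpowers m.x) n)⟩
    · exact absurd (h u hu) hne
  have hnon : ∀ η, ¬ Ker η → ∃ r, r ≠ 0 ∧ ∀ n : ℕ,
      (η : F → ℂ) (m.x ^ n) = S.tr (S.orbInd r) (n : ZMod (p ^ S.a)) := by
    intro η h
    rcases m.irr_cases η with h' | ⟨-, h'⟩
    · exact absurd (fun u hu => by rw [h'.2 u hu, h'.1]) h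
    · exact h'
  choose! r hr0 hr using hnon
  have hnk : ∀ η, ¬ Ker η → ∃ u ∈ Subgroup.zpowers m.x, (η : F → ℂ) u ≠ (η : F → ℂ) 1 :=
    fun η h => by simpa [Ker] using h
  have hkn : ∀ η : IrrCharacter F,
      (∃ u ∈ Subgroup.zpowers m.x, (η : F → ℂ) u ≠ (η : F → ℂ) 1) → ¬ Ker η :=
    fun η ⟨u, hu, hne⟩ h => hne (h u hu)
  have horb_eq : ∀ {s l : ZMod (p ^ S.a)}, S.orbInd s l ≠ 0 → S.orbInd s = S.orbInd l := by
    intro s l h
    obtain ⟨w, hw, rfl⟩ : ∃ w ∈ S.E, l = (w : ZMod (p ^ S.a)) * s := by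
      by_contra hc
      exact h (by rw [orbInd, if_neg hc])
    funext k
    rw [S.orbInd_of_mem hw]
  have horb_self : ∀ s : ZMod (p ^ S.a), S.orbInd s s = 1 := fun s => by
    rw [orbInd, if_pos ⟨1, one_mem _, by simp⟩]
  -- each nonzero number lies in exactly one orbit
  have hcover : ∀ l : ZMod (p ^ S.a), l ≠ 0 →
      ∃! η : IrrCharacter F, ¬ Ker η ∧ S.orbInd (r η) l ≠ 0 := by
    intro l hl
    obtain ⟨η, hη, hval⟩ := m.exists_irr hl
    have hηk := hkn η hη
    have heq : S.orbInd (r η) = S.orbInd l := S.eq_of_tr_eq fun i => by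
      rw [← ZMod.natCast_rightInverse i, ← hr η hηk, hval]
    refine ⟨η, ⟨hηk, by rw [heq, horb_self]; exact one_ne_zero⟩, ?_⟩
    rintro η' ⟨hk', hl'⟩
    refine m.irr_ext (hnk η' hk') hη fun n => ?_
    rw [hr η' hk', hval, horb_eq hl']
  -- the number of linear characters
  have hA : (Finset.univ.filter Ker).card = S.e := by
    have hx1 : ¬ IsConj (1 : F) m.x⁻¹ := fun h => by
      have h1 : m.x = 1 := inv_eq_one.1 (isConj_one_right.1 h)
      have h2 := m.hx
      rw [h1, orderOf_one] at h2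
      exact (Nat.one_lt_pow (Nat.one_le_iff_ne_zero.1 S.ha) hp.out.one_lt).ne h2
    have h0 := CfsgLib.Char.column_orthogonality (1 : F) m.x⁻¹
    rw [if_neg hx1] at h0
    have hterm : ∀ η : IrrCharacter F, (η : F → ℂ) 1 * conj ((η : F → ℂ) m.x⁻¹) =
        if Ker η then 1 else (S.e : ℂ) * S.tr (S.orbInd (r η)) 1 := by
      intro η
      rw [irr_conj_eq η.2, inv_inv]
      split_ifs with h
      · rw [(hker1 η h).1, one_mul]
        simpa using (hker1 η h).2 1
      · congr 1
        · have h1 := hr η h 0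
          have := Fintype.ofFinite S.E
          rw [pow_zero, Nat.cast_zero, S.tr_orbInd (hr0 η h)] at h1
          rw [h1]
          simp [← Nat.card_eq_fintype_card, S.natCard_E]
        · simpa using hr η h 1
    rw [Finset.sum_congr rfl (fun η _ => hterm η), Finset.sum_ite, Finset.sum_const, nsmul_one,
      ← Finset.mul_sum] at h0
    have hsum : ∑ η ∈ Finset.univ.filter (fun η => ¬ Ker η), S.tr (S.orbInd (r η)) 1 = -1 := by
      unfold CycBlock.tr
      rw [Finset.sum_comm]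
      simp only [← Finset.sum_mul, ← Int.cast_sum]
      have hl : ∀ l : ZMod (p ^ S.a),
          (∑ η ∈ Finset.univ.filter (fun η => ¬ Ker η), S.orbInd (r η) l) =
            if l = 0 then (0 : ℤ) else 1 := by
        intro l
        split_ifs with hl
        · subst hl
          exact Finset.sum_eq_zero fun η hη => S.orbInd_zero (hr0 η (Finset.mem_filter.1 hη).2)
        · obtain ⟨η₀, ⟨hk₀, hl₀⟩, huniq⟩ := hcover l hl
          rw [Finset.sum_eq_single η₀]
          · rw [horb_eq hl₀, horb_self]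
          · intro η hη hne
            by_contra hne0
            exact hne (huniq η ⟨(Finset.mem_filter.1 hη).2, hne0⟩)
          · intro h; exact absurd (Finset.mem_filter.2 ⟨Finset.mem_univ η₀, hk₀⟩) h
      simp only [hl]
      have h1 : (1 : ZMod (p ^ S.a)) ≠ 0 := by
        have : Fact (1 < p ^ S.a) :=
          ⟨Nat.one_lt_pow (Nat.one_le_iff_ne_zero.1 S.ha) hp.out.one_lt⟩
        exact one_ne_zero
      have hs := sum_zpsi_mul (n := p ^ S.a) (1 : ZMod (p ^ S.a))
      rw [if_neg h1] at hs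
      simp only [one_mul] at hs
      simp only [Int.cast_ite, Int.cast_zero, Int.cast_one, ite_mul, zero_mul, one_mul, mul_one]
      rw [← Finset.add_sum_erase _ _ (Finset.mem_univ (0 : ZMod (p ^ S.a))),
        AddChar.map_zero_eq_one] at hs
      rw [← Finset.add_sum_erase _ _ (Finset.mem_univ (0 : ZMod (p ^ S.a))), if_pos rfl, zero_add,
        Finset.sum_congr rfl fun l hl => if_neg (Finset.ne_of_mem_erase hl)]
      linear_combination hs
    rw [hsum] at h0
    have h1 : ((Finset.univ.filter Ker).card : ℂ) = (S.e : ℂ) := by linear_combination h0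
    exact_mod_cast h1
  obtain ⟨e₀⟩ : Nonempty ({η // η ∈ Finset.univ.filter Ker} ≃ {χ // χ ∈ R.X}) :=
    ⟨Finset.equivOfCardEq (by rw [hA, R.hXcard])⟩
  let J : IrrCharacter F → IrrCharacter G := fun η =>
    if h : Ker η then (e₀ ⟨η, Finset.mem_filter.2 ⟨Finset.mem_univ _, h⟩⟩ : IrrCharacter G)
    else (R.hone (r η) (hr0 η h)).exists.choose
  let ε : IrrCharacter F → ℤ := fun η => if Ker η then -R.δ (J η) else R.δ₀
  have hJk : ∀ η, Ker η → J η ∈ R.X := fun η h => by
    simp only [J, dif_pos h]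
    exact (e₀ _).2
  have hJn : ∀ η, ¬ Ker η → J η ∈ S.B ∧ J η ∉ R.X ∧ R.d (J η) (r η) ≠ 0 := fun η h => by
    simp only [J, dif_neg h]
    exact (R.hone (r η) (hr0 η h)).exists.choose_spec
  have hdrow : ∀ ψ ∈ S.B, ψ ∉ R.X → ∀ s, R.d ψ s ≠ 0 →
      ∀ l, R.d ψ l = R.δ₀ * S.orbInd s l := by
    intro ψ hψ hX s hs l
    obtain ⟨r', -, hr'⟩ := R.horb ψ hψ hX
    have hsr : S.orbInd r' s ≠ 0 := by
      rcases hr' s with ⟨-, h⟩ | ⟨h, -⟩
      · rw [orbInd, if_pos h]; exact one_ne_zero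
      · exact absurd h hs
    rw [← horb_eq hsr]
    rcases hr' l with ⟨h1, h2⟩ | ⟨h1, h2⟩
    · rw [h1, orbInd, if_pos h2, mul_one]
    · rw [h1, orbInd, if_neg h2, mul_zero]
  have hrow : ∀ η (i : ZMod (p ^ S.a)), i ≠ 0 →
      (ε η : ℂ) * (η : F → ℂ) (m.x ^ i.val) = S.tr (R.d (J η)) i := by
    intro η i hi
    by_cases h : Ker η
    · simp only [ε, if_pos h, (hker1 η h).2 i.val, mul_one]
      have hs := sum_zpsi_mul (n := p ^ S.a) i
      rw [if_neg hi, ← Finset.add_sum_erase _ _ (Finset.mem_univ (0 : ZMod (p ^ S.a))), mul_zero,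
        AddChar.map_zero_eq_one] at hs
      unfold CycBlock.tr
      rw [← Finset.add_sum_erase _ _ (Finset.mem_univ (0 : ZMod (p ^ S.a))), R.hd0, Int.cast_zero,
        zero_mul, zero_add, Finset.sum_congr rfl (fun l hl => by
          rw [R.hfull _ (hJk η h) l (Finset.ne_of_mem_erase hl), mul_comm l i]), ← Finset.mul_sum]
      push_cast
      linear_combination (-(R.δ (J η) : ℂ)) * hs
    · obtain ⟨hB, hX, hd⟩ := hJn η h
      simp only [ε, if_neg h]
      rw [hr η h, ZMod.natCast_rightInverse i]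
      unfold CycBlock.tr
      rw [Finset.mul_sum]
      refine Finset.sum_congr rfl fun l _ => ?_
      rw [hdrow _ hB hX _ hd l]
      push_cast
      ring
  refine ⟨J, ε, S.isPerfectIsometry_of m.x m.hx S.not_dvd_e m.hcard m.hsing m.hC J ε
    ⟨fun η _ => ?_, fun η _ η' _ he => ?_, fun χ hχ => ?_⟩ (fun η => ?_) (fun y hy j hj => ?_)
    (fun i hi => ?_), fun η η' hη hη' => ?_⟩
  · by_cases h : Ker η
    · exact R.hXB _ (hJk η h)
    · exact (hJn η h).1
  · by_cases h : Ker η <;> by_cases h' : Ker η'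
    · simp only [J, dif_pos h, dif_pos h'] at he
      exact congrArg Subtype.val (e₀.injective (Subtype.ext he))
    · exact absurd (he ▸ hJk η h) (hJn η' h').2.1
    · exact absurd (he ▸ hJk η' h') (hJn η h).2.1
    · refine m.irr_ext (hnk η h) (hnk η' h') fun n => ?_
      rw [hr η h, hr η' h']
      obtain ⟨hB, hX, hd⟩ := hJn η h
      have hd' := (hJn η' h').2.2
      rw [← he, hdrow _ hB hX _ hd] at hd'
      rw [horb_eq (right_ne_zero_of_mul hd'), horb_eq (s := r η') (l := r η') (by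
        rw [horb_self]; exact one_ne_zero)]
  · by_cases hX : χ ∈ R.X
    · refine ⟨(e₀.symm ⟨χ, hX⟩ : IrrCharacter F), Set.mem_univ _, ?_⟩
      have hk : Ker (e₀.symm ⟨χ, hX⟩ : IrrCharacter F) :=
        (Finset.mem_filter.1 (e₀.symm ⟨χ, hX⟩).2).2
      simp only [J, dif_pos hk, Subtype.coe_eta, Equiv.apply_symm_apply]
    · obtain ⟨s, hs0, hs⟩ := R.horb χ hχ hX
      obtain ⟨η, ⟨hk, hl⟩, -⟩ := hcover s hs0
      refine ⟨η, Set.mem_univ _, ?_⟩
      obtain ⟨hB, hJX, hd⟩ := hJn η hk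
      refine (R.hone (r η) (hr0 η hk)).unique ⟨hB, hJX, hd⟩ ⟨hχ, hX, ?_⟩
      have hmem : ∃ w ∈ S.E, r η = (w : ZMod (p ^ S.a)) * s := by
        by_contra hc
        have h1 : S.orbInd s (r η) = 0 := by rw [orbInd, if_neg hc]
        rw [← horb_eq hl, horb_self] at h1
        exact one_ne_zero h1
      rcases hs (r η) with ⟨h1, -⟩ | ⟨-, h1⟩
      · rw [h1]; rcases R.hδ₀ with h | h <;> simp [h]
      · exact absurd hmem h1
  · simp only [ε]
    split_ifs with h
    · rcases R.hδ (J η) with h | h <;> simp [h]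
    · exact R.hδ₀
  · rw [finsum_eq_sum_of_fintype]
    have hz : ¬ IsConj y (m.x ^ j.val)⁻¹ := fun hc => by
      obtain ⟨a, ha⟩ := isConj_iff.1 hc
      have ho : orderOf y = orderOf (m.x ^ j.val) := by
        rw [← orderOf_inv (m.x ^ j.val), ← ha]
        exact (orderOf_injective (MulAut.conj a).toMonoidHom (MulAut.conj a).injective y).symm
      have hd : orderOf (m.x ^ j.val) ∣ p ^ S.a :=
        (orderOf_pow_dvd j.val).trans (dvd_of_eq m.hx)
      obtain ⟨k, -, hk⟩ := (Nat.dvd_prime_pow hp.out).1 hd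
      rcases k with _ | k
      · rw [pow_zero, orderOf_eq_one_iff, ← orderOf_dvd_iff_pow_eq_one, m.hx] at hk
        exact hj ((ZMod.val_eq_zero j).1 (Nat.eq_zero_of_dvd_of_lt hk (ZMod.val_lt j)))
      · exact hy (ho ▸ hk ▸ dvd_pow_self p (Nat.succ_ne_zero k))
    have h0 := CfsgLib.Char.column_orthogonality y (m.x ^ j.val)⁻¹
    rw [if_neg hz] at h0
    have hterm : ∀ η : IrrCharacter F, (ε η : ℂ) * (η : F → ℂ) y * S.col (J η) j =
        R.c j * ((η : F → ℂ) y * conj ((η : F → ℂ) (m.x ^ j.val)⁻¹)) := fun η => by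
      have hε2 : (ε η : ℂ) * ε η = 1 := by
        simp only [ε]
        split_ifs
        · rcases R.hδ (J η) with h | h <;> simp [h]
        · rcases R.hδ₀ with h | h <;> simp [h]
      rw [R.hcol _ j hj, ← hrow η j hj, irr_conj_eq η.2, inv_inv]
      linear_combination (R.c j * ((η : F → ℂ) y * (η : F → ℂ) (m.x ^ j.val))) * hε2
    rw [Finset.sum_congr rfl fun η _ => hterm η, ← Finset.mul_sum, h0, mul_zero]
  · refine ⟨fun j => if j = -i then R.c j / S.dg j else 0, fun j => ?_, fun η => ?_⟩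
    · dsimp only
      split_ifs with h
      · exact memLocalRing_of_isIntegral (R.isIntegral_c_div_dg (by rw [h]; simpa using hi))
      · exact (lring M).zero_mem
    · have hni : -i ≠ 0 := neg_ne_zero.2 hi
      rw [Finset.sum_eq_single (-i)]
      · dsimp only
        rw [if_pos rfl, R.hcol _ _ hni, hrow η i hi, map_mul]
        have hconj : conj (S.tr (R.d (J η)) (-i)) = S.tr (R.d (J η)) i := by
          unfold CycBlock.tr
          rw [map_sum]
          refine Finset.sum_congr rfl fun l _ => ?_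
          rw [map_mul, map_intCast, conj_zpsi, mul_neg, neg_neg]
        rw [hconj]
        have hne := S.dg_ne_zero (-i)
        have hne' : conj (S.dg (-i)) ≠ 0 := by simpa using hne
        field_simp
        linear_combination (-(S.tr (R.d (J η)) i)) * R.c_mul_conj hni
      · intro j _ hj
        dsimp only
        rw [if_neg hj, zero_mul]
      · intro h; exact absurd (Finset.mem_erase.2 ⟨hni, Finset.mem_univ _⟩) h
  · simp only [ε, if_neg (hkn η hη), if_neg (hkn η' hη')]

end CycBlock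

end CfsgLib.Block
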