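import Cfsg.Agent.Lib.Block.CyclicCount
import Cfsg.Agent.Lib.Clifford.Frobenius
import Mathlib.RingTheory.ZMod.UnitsCyclic

/-!
# The Frobenius model of a cyclic defect block

A group of order `p ^ a * e` with a self-centralizing cyclic subgroup of order `p ^ a` has its
subgroup normal, carrying all elements of order divisible by `p`, with quotient isomorphic to the
inertial quotient acting on it in the same way. Its irreducible characters are described by their
restrictions to that subgroup.
-/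

set_option autoImplicit false
set_option linter.unusedSectionVars false

namespace CfsgLib.Block

open Cfsg CfsgLib.Block CfsgLib.BlockA CfsgLib.BlockB CfsgLib.BlockB.SubSum
  CfsgLib.BlockB.HeightBound
open scoped ComplexConjugate

universe u v

namespace CycBlock

variable {G : Type u} [Group G] [Fintype G] {p : ℕ} [hp : Fact p.Prime] {M : Ideal AlgInt}
  [M.IsPrime] (S : CycBlock G p M)

/-- Every unit killed by `e` lies in the inertial quotient. -/
theorem mem_E_of_pow_eq_one {w : (ZMod (p ^ S.a))ˣ} (hw : w ^ S.e = 1) : w ∈ S.E := by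
  classical
  by_cases he : S.e = 1
  · rw [he, pow_one] at hw
    rw [hw]
    exact one_mem _
  have hp2 : p ≠ 2 := fun h => he (S.eq_two_of_even h)
  have hcyc := ZMod.isCyclic_units_of_prime_pow p hp.out hp2 S.a
  have : NeZero (p ^ S.a) := ⟨pow_ne_zero _ hp.out.ne_zero⟩
  set s : Finset (ZMod (p ^ S.a))ˣ := Finset.univ.filter fun v => v ^ S.e = 1 with hs
  set t : Finset (ZMod (p ^ S.a))ˣ := Finset.univ.filter fun v => v ∈ S.E with ht
  have hts : t ⊆ s := fun v hv => by
    simp only [ht, hs, Finset.mem_filter, Finset.mem_univ, true_and] at hv ⊢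
    have h := pow_card_eq_one' (G := S.E) (x := ⟨v, hv⟩)
    rw [S.natCard_E] at h
    exact congrArg Subtype.val h
  have hcard : t.card = S.e := by
    rw [ht, ← Fintype.card_subtype, ← Nat.card_eq_fintype_card]
    exact S.natCard_E
  have heq := Finset.eq_of_subset_of_card_le hts
    ((IsCyclic.card_pow_eq_one_le S.e_pos).trans hcard.ge)
  have hmem : w ∈ s := by simp [hs, hw]
  rw [← heq] at hmem
  simpa [ht] using hmem

/-- The data of the model. -/
structure Model (F : Type v) [Group F] where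
  x : F
  hx : orderOf x = p ^ S.a
  hn : (Subgroup.zpowers x).Normal
  hcard : Nat.card F = p ^ S.a * S.e
  hsing : ∀ y : F, p ∣ orderOf y → y ∈ Subgroup.zpowers x
  hC : ∀ n ∈ Subgroup.zpowers x, n ≠ 1 →
    Subgroup.centralizer ({n} : Set F) = Subgroup.zpowers x
  act : F →* (ZMod (p ^ S.a))ˣ
  hact : ∀ (g : F) (n : ℕ),
    g * x ^ n * g⁻¹ = x ^ ((act g : ZMod (p ^ S.a)) * (n : ZMod (p ^ S.a))).val
  hker : act.ker = Subgroup.zpowers x
  hrange : act.range = S.E

theorem nonempty_model {F : Type v} [Group F] [Finite F] (Q : Subgroup F) (hQ : IsCyclic Q)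
    (hQcard : Nat.card Q = p ^ S.a) (hF : Nat.card F = p ^ S.a * S.e)
    (hQC : Subgroup.centralizer (Q : Set F) = Q) : Nonempty (S.Model F) := by
  classical
  have : NeZero (p ^ S.a) := ⟨pow_ne_zero _ hp.out.ne_zero⟩
  obtain ⟨x, hx⟩ := (Subgroup.isCyclic_iff_exists_zpowers_eq_top Q).1 hQ
  have hxo : orderOf x = p ^ S.a := by rw [← Nat.card_zpowers, hx, hQcard]
  have hidx : Q.index = S.e := by
    have h := Q.card_mul_index
    rw [hQcard, hF] at h
    exact Nat.eq_of_mul_eq_mul_left (pow_pos hp.out.pos _) h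
  have hQp : IsPGroup p Q := IsPGroup.of_card hQcard
  have hnd : ¬ p ∣ Q.index := hidx ▸ S.not_dvd_e
  let P : Sylow p F := hQp.toSylow hnd
  have hsub : Subsingleton (Sylow p F) := by
    refine Finite.card_le_one_iff_subsingleton.1 ?_
    have h1 : Nat.card (Sylow p F) ∣ S.e := hidx ▸ P.card_dvd_index
    have h2 := card_sylow_modEq_one p F
    have h3 : Nat.card (Sylow p F) ≤ S.e := Nat.le_of_dvd S.e_pos h1
    have h4 : S.e ≤ p - 1 := Nat.le_of_dvd (by have := hp.out.two_le; omega) S.e_dvd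
    have h5 := hp.out.two_le
    rw [Nat.ModEq, Nat.one_mod_eq_one.2 hp.out.ne_one, Nat.mod_eq_of_lt (by omega)] at h2
    exact h2.le
  have hQn : Q.Normal := P.normal_of_subsingleton
  have hzn : (Subgroup.zpowers x).Normal := hx ▸ hQn
  have hpel : ∀ y : F, (∃ k : ℕ, orderOf y = p ^ k) → y ∈ Q := by
    rintro y ⟨k, hk⟩
    obtain ⟨P', hP'⟩ := (IsPGroup.of_card (p := p) (G := Subgroup.zpowers y)
      (n := k) (by rw [Nat.card_zpowers, hk])).exists_le_sylow
    have h := hP' (Subgroup.mem_zpowers y)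
    rwa [Subsingleton.elim P' P] at h
  -- the action
  have hexp : ∀ g : F, ∃ k : ℕ, g * x * g⁻¹ = x ^ k := fun g => by
    have h : g * x * g⁻¹ ∈ Submonoid.powers x :=
      mem_powers_iff_mem_zpowers.2 (hzn.conj_mem x (Subgroup.mem_zpowers x) g)
    obtain ⟨k, hk⟩ := h
    exact ⟨k, hk.symm⟩
  choose k hk using hexp
  have hpow : ∀ n m : ℕ, x ^ n = x ^ m ↔ (n : ZMod (p ^ S.a)) = (m : ZMod (p ^ S.a)) := fun n m => by
    rw [pow_eq_pow_iff_modEq, hxo, ZMod.natCast_eq_natCast_iff]
  let f : F →* ZMod (p ^ S.a) :=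
    { toFun := fun g => (k g : ZMod (p ^ S.a))
      map_one' := by
        rw [← Nat.cast_one, ← hpow, ← hk, pow_one, one_mul, inv_one, mul_one]
      map_mul' := fun g g' => by
        rw [← Nat.cast_mul, ← hpow, ← hk, pow_mul]
        calc g * g' * x * (g * g')⁻¹ = g * (g' * x * g'⁻¹) * g⁻¹ := by group
          _ = (g * x * g⁻¹) ^ k g' := by rw [hk g', conj_pow]
          _ = _ := by rw [hk g] }
  let φ : F →* (ZMod (p ^ S.a))ˣ := MonoidHom.toHomUnits f
  have hφ : ∀ g, (φ g : ZMod (p ^ S.a)) = (k g : ZMod (p ^ S.a)) := fun g => rfl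
  have hact : ∀ (g : F) (n : ℕ),
      g * x ^ n * g⁻¹ = x ^ ((φ g : ZMod (p ^ S.a)) * (n : ZMod (p ^ S.a))).val := fun g n => by
    rw [← conj_pow, hk, ← pow_mul, hpow, ZMod.natCast_rightInverse, hφ, Nat.cast_mul]
  have hker : φ.ker = Subgroup.zpowers x := by
    ext g
    rw [MonoidHom.mem_ker, hx]
    constructor
    · intro h
      rw [← hQC, Subgroup.mem_centralizer_iff]
      intro n hn
      rw [← hx, SetLike.mem_coe] at hn
      obtain ⟨m, rfl⟩ := mem_powers_iff_mem_zpowers.2 hn
      have h1 := hact g m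
      rw [h, Units.val_one, one_mul, (hpow _ m).2 (ZMod.natCast_rightInverse _)] at h1
      exact (mul_inv_eq_iff_eq_mul.1 h1).symm
    · intro hg
      apply Units.ext
      rw [hφ, Units.val_one, ← Nat.cast_one, ← hpow, ← hk, pow_one]
      rw [← hx] at hg
      obtain ⟨m, rfl⟩ := Subgroup.mem_zpowers_iff.1 hg
      rw [((Commute.refl x).zpow_left m).eq, mul_inv_cancel_right]
  have hrcard : Nat.card φ.range = S.e := by
    rw [← Subgroup.index_ker, hker, hx, hidx]
  have hle : φ.range ≤ S.E := fun w hw => by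
    refine S.mem_E_of_pow_eq_one ?_
    have h := pow_card_eq_one' (G := φ.range) (x := ⟨w, hw⟩)
    rw [hrcard] at h
    exact congrArg Subtype.val h
  have hrange : φ.range = S.E := Subgroup.eq_of_le_of_card_ge hle (by rw [hrcard, S.natCard_E])
  have hC : ∀ n ∈ Subgroup.zpowers x, n ≠ 1 →
      Subgroup.centralizer ({n} : Set F) = Subgroup.zpowers x := by
    intro n hn hn1
    obtain ⟨m, rfl⟩ := mem_powers_iff_mem_zpowers.2 hn
    ext g
    rw [Subgroup.mem_centralizer_singleton_iff]
    constructor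
    · intro h
      rw [← hker, MonoidHom.mem_ker]
      refine S.free (hrange ▸ MonoidHom.mem_range.2 ⟨g, rfl⟩) (i := (m : ZMod (p ^ S.a))) ?_ ?_
      · have h1 := hact g m
        rw [h, mul_inv_cancel_right, eq_comm, hpow, ZMod.natCast_rightInverse] at h1
        exact h1
      · intro h0
        refine hn1 (?_ : x ^ m = 1)
        rw [← pow_zero x, hpow, h0, Nat.cast_zero]
    · intro hg
      obtain ⟨j, rfl⟩ := Subgroup.mem_zpowers_iff.1 hg
      exact (((Commute.refl x).zpow_left j).pow_right m).eq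
  refine ⟨⟨x, hxo, hzn, hF, fun y hy => ?_, hC, φ, hact, hker, hrange⟩⟩
  obtain ⟨z, hz⟩ := exists_isPPart hp.out y
  have hzQ : z ∈ Subgroup.zpowers x := by
    obtain ⟨v, -, -, hzp, -⟩ := hz
    rw [hx]
    exact hpel z hzp
  have hz1 : z ≠ 1 := by
    rintro rfl
    obtain ⟨v, hv, -, -, hvr⟩ := hz
    rw [one_mul] at hv
    exact hvr (hv ▸ hy)
  rw [← hC z hzQ hz1, Subgroup.mem_centralizer_singleton_iff]
  exact (isPPart_commute hp.out hz (Commute.refl y)).eq.symm

end CycBlock

end CfsgLib.Block
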