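import Cfsg.Agent.Lib.Block.FrobeniusModel
import Cfsg.Agent.Lib.Block.CyclicRows

/-!
# The irreducible characters of the Frobenius model

Either an irreducible character is linear with the cyclic subgroup in its kernel, or its restriction
to that subgroup is the transform of one orbit of the inertial quotient, which determines it.
-/

set_option autoImplicit false
set_option linter.unusedSectionVars false

namespace CfsgLib.Block

open Cfsg CfsgLib.Block CfsgLib.BlockA CfsgLib.BlockB CfsgLib.BlockB.SubSum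
  CfsgLib.BlockB.HeightBound
open scoped ComplexConjugate

universe u v

namespace CycBlock

variable {G : Type u} [Group G] [Fintype G] {p : ℕ} [hp : Fact p.Prime] {M : Ideal AlgInt}
  [M.IsPrime] (S : CycBlock G p M)

open scoped Classical in
/-- The indicator of the orbit of `r`. -/
noncomputable def orbInd (r : ZMod (p ^ S.a)) (l : ZMod (p ^ S.a)) : ℤ :=
  if ∃ w ∈ S.E, l = (w : ZMod (p ^ S.a)) * r then 1 else 0

theorem orbInd_of_mem {r : ZMod (p ^ S.a)} {w : (ZMod (p ^ S.a))ˣ} (hw : w ∈ S.E)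
    (l : ZMod (p ^ S.a)) : S.orbInd ((w : ZMod (p ^ S.a)) * r) l = S.orbInd r l := by
  have h : (∃ v ∈ S.E, l = (v : ZMod (p ^ S.a)) * ((w : ZMod (p ^ S.a)) * r)) ↔
      ∃ v ∈ S.E, l = (v : ZMod (p ^ S.a)) * r := by
    constructor
    · rintro ⟨v, hv, rfl⟩
      exact ⟨v * w, mul_mem hv hw, by rw [Units.val_mul, mul_assoc]⟩
    · rintro ⟨v, hv, rfl⟩
      exact ⟨v * w⁻¹, mul_mem hv (inv_mem hw), by
        rw [Units.val_mul, mul_assoc, Units.inv_mul_cancel_left]⟩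
  classical
  unfold orbInd
  exact if_congr h rfl rfl

theorem orbInd_zero {r : ZMod (p ^ S.a)} (hr : r ≠ 0) : S.orbInd r 0 = 0 := by
  rw [orbInd, if_neg]
  rintro ⟨w, -, h⟩
  exact hr ((Units.mul_right_eq_zero _).1 h.symm)

theorem tr_orbInd {r : ZMod (p ^ S.a)} (hr : r ≠ 0) (i : ZMod (p ^ S.a)) [Fintype S.E] :
    S.tr (S.orbInd r) i =
      ∑ w : S.E, zpsi (p ^ S.a) (((w : (ZMod (p ^ S.a))ˣ) : ZMod (p ^ S.a)) * r * i) := by
  classical
  unfold tr
  symm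
  let F : S.E → ZMod (p ^ S.a) := fun w => ((w : (ZMod (p ^ S.a))ˣ) : ZMod (p ^ S.a)) * r
  have hF : Function.Injective F := by
    intro w w' h
    apply Subtype.ext
    refine (inv_mul_eq_one.1 (S.free (mul_mem (inv_mem w'.2) w.2) ?_ hr)).symm
    simp only [F] at h
    rw [Units.val_mul, mul_assoc, h, Units.inv_mul_cancel_left]
  rw [← Finset.sum_subset (Finset.subset_univ (Finset.univ.image F)) (fun l _ hl => by
      rw [orbInd, if_neg, Int.cast_zero, zero_mul]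
      rintro ⟨w, hw, rfl⟩
      exact hl (Finset.mem_image.2 ⟨⟨w, hw⟩, Finset.mem_univ _, rfl⟩)),
    Finset.sum_image (fun a _ b _ h => hF h)]
  refine Finset.sum_congr rfl fun w _ => ?_
  rw [orbInd, if_pos ⟨w.1, w.2, rfl⟩, Int.cast_one, one_mul]

variable {S} {F : Type v} [Group F] [Finite F] (m : S.Model F)

/-- The linear character of the cyclic subgroup numbered `r`. -/
theorem Model.exists_phi (r : ZMod (p ^ S.a)) : ∃ φ : Subgroup.zpowers m.x →* ℂˣ,
    ∀ n : ℕ, ((φ ⟨m.x ^ n, pow_mem (Subgroup.mem_zpowers m.x) n⟩ : ℂˣ) : ℂ) =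
      zpsi (p ^ S.a) (r * (n : ZMod (p ^ S.a))) := by
  classical
  have hlog : ∀ u : Subgroup.zpowers m.x, ∃ k : ℕ, (u : F) = m.x ^ k := fun u => by
    obtain ⟨k, hk⟩ := mem_powers_iff_mem_zpowers.2 u.2
    exact ⟨k, hk.symm⟩
  choose k hk using hlog
  have hpow : ∀ a b : ℕ, m.x ^ a = m.x ^ b → (a : ZMod (p ^ S.a)) = (b : ZMod (p ^ S.a)) :=
    fun a b h => by
      rw [pow_eq_pow_iff_modEq, m.hx] at h
      exact (ZMod.natCast_eq_natCast_iff _ _ _).2 h
  let g : Subgroup.zpowers m.x →* ℂ :=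
    { toFun := fun u => zpsi (p ^ S.a) (r * (k u : ZMod (p ^ S.a)))
      map_one' := by
        rw [hpow (k 1) 0 (by rw [← hk, pow_zero, OneMemClass.coe_one]), Nat.cast_zero, mul_zero,
          AddChar.map_zero_eq_one]
      map_mul' := fun a b => by
        rw [← AddChar.map_add_eq_mul, hpow (k (a * b)) (k a + k b) (by
          rw [← hk, pow_add, ← hk, ← hk, Subgroup.coe_mul]), Nat.cast_add, mul_add] }
  refine ⟨MonoidHom.toHomUnits g, fun n => ?_⟩
  show zpsi (p ^ S.a) (r * (k _ : ZMod (p ^ S.a))) = _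
  rw [hpow (k ⟨m.x ^ n, pow_mem (Subgroup.mem_zpowers m.x) n⟩) n (hk _).symm]

/-- The values of the induced character. -/
theorem Model.indFun_apply [Fintype F] {r : ZMod (p ^ S.a)} (hr : r ≠ 0)
    (φ : Subgroup.zpowers m.x →* ℂˣ) (hφ : ∀ n : ℕ,
      ((φ ⟨m.x ^ n, pow_mem (Subgroup.mem_zpowers m.x) n⟩ : ℂˣ) : ℂ) =
        zpsi (p ^ S.a) (r * (n : ZMod (p ^ S.a)))) (n : ℕ) :
    Cfsg.indFun (Subgroup.zpowers m.x) (fun u => (φ u : ℂ)) (m.x ^ n) =
      S.tr (S.orbInd r) (n : ZMod (p ^ S.a)) := by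
  classical
  have := m.hn
  have := Fintype.ofFinite (Subgroup.zpowers m.x)
  have := Fintype.ofFinite S.E
  have h := CfsgLib.BlockA.indFun_apply_normal (Subgroup.zpowers m.x) (fun u => (φ u : ℂ))
    (⟨m.x ^ n, pow_mem (Subgroup.mem_zpowers m.x) n⟩ : Subgroup.zpowers m.x)
  rw [h, S.tr_orbInd hr]
  let Φ : F →* S.E := m.act.codRestrict S.E fun g => m.hrange ▸ ⟨g, rfl⟩
  have hval : ∀ g : F, ((φ (MulAut.conjNormal g⁻¹
      (⟨m.x ^ n, pow_mem (Subgroup.mem_zpowers m.x) n⟩ : Subgroup.zpowers m.x)) : ℂˣ) : ℂ) =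
      zpsi (p ^ S.a) (((Φ g⁻¹ : (ZMod (p ^ S.a))ˣ) : ZMod (p ^ S.a)) * r * (n : ZMod (p ^ S.a))) := by
    intro g
    have he : (MulAut.conjNormal g⁻¹
        (⟨m.x ^ n, pow_mem (Subgroup.mem_zpowers m.x) n⟩ : Subgroup.zpowers m.x)) =
        ⟨m.x ^ ((m.act g⁻¹ : ZMod (p ^ S.a)) * (n : ZMod (p ^ S.a))).val,
          pow_mem (Subgroup.mem_zpowers m.x) _⟩ := by
      apply Subtype.ext
      rw [MulAut.conjNormal_apply]
      exact m.hact g⁻¹ n
    rw [he, hφ, ZMod.natCast_rightInverse]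
    congr 1
    show r * ((m.act g⁻¹ : ZMod (p ^ S.a)) * _) = (m.act g⁻¹ : ZMod (p ^ S.a)) * r * _
    ring
  rw [Finset.sum_congr rfl fun g _ => hval g]
  have hfib : ∀ w : S.E, (Finset.univ.filter fun g : F => Φ g⁻¹ = w).card =
      Nat.card (Subgroup.zpowers m.x) := by
    intro w
    obtain ⟨g₀, hg₀⟩ : ∃ g₀, Φ g₀ = w := by
      obtain ⟨g₀, hg₀⟩ := MonoidHom.mem_range.1 (show (w : (ZMod (p ^ S.a))ˣ) ∈ m.act.range by
        rw [m.hrange]; exact w.2)
      exact ⟨g₀, Subtype.ext hg₀⟩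
    rw [← m.hker, Nat.card_eq_fintype_card, ← Finset.card_univ]
    refine Finset.card_bij' (fun g _ => ⟨g₀⁻¹ * g⁻¹, ?_⟩) (fun k _ => ((k : F))⁻¹ * g₀⁻¹)
      (fun _ _ => Finset.mem_univ _) ?_ ?_ ?_
    · rename_i hg
      rw [MonoidHom.mem_ker, map_mul, map_inv]
      have h2 : m.act g⁻¹ = (w : (ZMod (p ^ S.a))ˣ) := congrArg Subtype.val (Finset.mem_filter.1 hg).2
      rw [h2, ← hg₀]
      exact inv_mul_cancel _
    · intro k _
      refine Finset.mem_filter.2 ⟨Finset.mem_univ _, ?_⟩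
      rw [mul_inv_rev, inv_inv, inv_inv, map_mul, hg₀]
      have hk : Φ (k : F) = 1 := Subtype.ext (MonoidHom.mem_ker.1 k.2)
      rw [hk, mul_one]
    · intro g _
      group
    · intro k _
      apply Subtype.ext
      group
  have hinner : ∀ w : S.E, (∑ g ∈ Finset.univ.filter (fun g : F => Φ g⁻¹ = w),
      zpsi (p ^ S.a) (((Φ g⁻¹ : (ZMod (p ^ S.a))ˣ) : ZMod (p ^ S.a)) * r * (n : ZMod (p ^ S.a)))) =
      (Nat.card (Subgroup.zpowers m.x) : ℂ) *
        zpsi (p ^ S.a) (((w : (ZMod (p ^ S.a))ˣ) : ZMod (p ^ S.a)) * r * (n : ZMod (p ^ S.a))) := by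
    intro w
    rw [Finset.sum_eq_card_nsmul (b := zpsi (p ^ S.a)
      (((w : (ZMod (p ^ S.a))ˣ) : ZMod (p ^ S.a)) * r * (n : ZMod (p ^ S.a))))
      (fun g hg => by rw [(Finset.mem_filter.1 hg).2]), hfib, nsmul_eq_mul]
  rw [← Finset.sum_fiberwise Finset.univ (fun g : F => Φ g⁻¹),
    Finset.sum_congr rfl (fun w _ => hinner w), ← Finset.mul_sum]
  rw [← mul_assoc, inv_mul_cancel₀ (Nat.cast_ne_zero.2 Nat.card_pos.ne'), one_mul]

theorem Model.vanish [Fintype F] {η : F → ℂ} (hη : IsIrrCharacter F η)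
    (hk : ∃ u ∈ Subgroup.zpowers m.x, η u ≠ η 1) {g : F} (hg : g ∉ Subgroup.zpowers m.x) :
    η g = 0 := by
  have := m.hn
  refine CfsgLib.Clifford.irr_eq_zero_of_fixedPointFree (fun u hu hc => ?_) hη hk
  by_contra hu1
  refine hg ?_
  rw [← m.hC u hu hu1, Subgroup.mem_centralizer_singleton_iff]
  exact hc.symm

/-- **The dichotomy.** -/
theorem Model.irr_cases (η : IrrCharacter F) :
    ((η : F → ℂ) 1 = 1 ∧ ∀ u ∈ Subgroup.zpowers m.x, (η : F → ℂ) u = 1) ∨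
      ((∃ u ∈ Subgroup.zpowers m.x, (η : F → ℂ) u ≠ (η : F → ℂ) 1) ∧
        ∃ r, r ≠ 0 ∧ ∀ n : ℕ,
          (η : F → ℂ) (m.x ^ n) = S.tr (S.orbInd r) (n : ZMod (p ^ S.a))) := by
  classical
  have := m.hn
  have := Fintype.ofFinite F
  have := Fintype.ofFinite (Subgroup.zpowers m.x)
  by_cases hk : ∀ u ∈ Subgroup.zpowers m.x, (η : F → ℂ) u = (η : F → ℂ) 1
  · left
    obtain ⟨ψ, hψ, hlift⟩ := CfsgLib.Char.isIrr_quotient_lift _ η.2 hk
    have hcomm : ∀ a b : F ⧸ Subgroup.zpowers m.x, a * b = b * a := by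
      intro a b
      obtain ⟨a, rfl⟩ := QuotientGroup.mk'_surjective _ a
      obtain ⟨b, rfl⟩ := QuotientGroup.mk'_surjective _ b
      rw [← map_mul, ← map_mul, QuotientGroup.mk'_apply, QuotientGroup.mk'_apply, QuotientGroup.eq,
        ← m.hker, MonoidHom.mem_ker]
      simp only [map_mul, map_inv]
      rw [mul_inv_rev, mul_comm (m.act b) (m.act a)]
      group
    have h1 : (η : F → ℂ) 1 = 1 := by
      rw [congrFun hlift 1, Function.comp_apply, map_one,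
        CfsgLib.Char.irr_degree_one_of_comm hcomm hψ]
    exact ⟨h1, fun u hu => by rw [hk u hu, h1]⟩
  push Not at hk
  right
  refine ⟨hk, ?_⟩
  obtain ⟨φ, hφ, hφ1, hη⟩ := CfsgLib.Clifford.exists_eq_indFun_of_centralizer_le
    (fun n hn hn1 => (m.hC n hn hn1).le) η.2 hk
  have hcommQ : ∀ a b : Subgroup.zpowers m.x, a * b = b * a := by
    rintro ⟨a, ha⟩ ⟨b, hb⟩
    obtain ⟨i, rfl⟩ := Subgroup.mem_zpowers_iff.1 ha
    obtain ⟨j, rfl⟩ := Subgroup.mem_zpowers_iff.1 hb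
    exact Subtype.ext ((Commute.refl m.x).zpow_zpow i j).eq
  obtain ⟨lam, hlam⟩ := CfsgLib.Char.exists_hom_of_degree_one (CfsgLib.Char.irr_isCharacter hφ)
    (CfsgLib.Char.irr_degree_one_of_comm hcommQ hφ)
  set x1 : Subgroup.zpowers m.x := ⟨m.x, Subgroup.mem_zpowers m.x⟩ with hx1
  have hxq : ((lam x1 : ℂˣ) : ℂ) ^ (p ^ S.a) = 1 := by
    rw [← Units.val_pow_eq_pow_val, ← map_pow, show x1 ^ (p ^ S.a) = 1 from Subtype.ext (by
      rw [SubmonoidClass.coe_pow, OneMemClass.coe_one, hx1, ← m.hx]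
      exact pow_orderOf_eq_one m.x), map_one, Units.val_one]
  have : NeZero (p ^ S.a) := ⟨pow_ne_zero _ hp.out.ne_zero⟩
  obtain ⟨s, -, hs⟩ := (zetaN_isPrimitiveRoot (NeZero.ne (p ^ S.a))).eq_pow_of_pow_eq_one hxq
  have hlamn : ∀ n : ℕ, ((lam ⟨m.x ^ n, pow_mem (Subgroup.mem_zpowers m.x) n⟩ : ℂˣ) : ℂ) =
      zpsi (p ^ S.a) ((s : ZMod (p ^ S.a)) * (n : ZMod (p ^ S.a))) := fun n => by
    rw [show (⟨m.x ^ n, pow_mem (Subgroup.mem_zpowers m.x) n⟩ : Subgroup.zpowers m.x) = x1 ^ n from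
      Subtype.ext (by rw [SubmonoidClass.coe_pow]), map_pow, Units.val_pow_eq_pow_val, ← hs,
      ← pow_mul, ← Nat.cast_mul, zpsi_natCast]
  refine ⟨s, fun hs0 => hφ1 ?_, fun n => ?_⟩
  · funext u
    obtain ⟨n, hn⟩ := mem_powers_iff_mem_zpowers.2 u.2
    rw [hlam, show u = ⟨m.x ^ n, pow_mem (Subgroup.mem_zpowers m.x) n⟩ from Subtype.ext hn.symm]
    simp only
    rw [hlamn, hs0, zero_mul, AddChar.map_zero_eq_one]
  · rw [hη, hlam]
    refine m.indFun_apply ?_ lam hlamn n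
    intro hs0
    refine hφ1 ?_
    funext u
    obtain ⟨k, hk'⟩ := mem_powers_iff_mem_zpowers.2 u.2
    rw [hlam, show u = ⟨m.x ^ k, pow_mem (Subgroup.mem_zpowers m.x) k⟩ from Subtype.ext hk'.symm]
    simp only
    rw [hlamn, hs0, zero_mul, AddChar.map_zero_eq_one]

/-- Every orbit occurs. -/
theorem Model.exists_irr {r : ZMod (p ^ S.a)} (hr : r ≠ 0) :
    ∃ η : IrrCharacter F, (∃ u ∈ Subgroup.zpowers m.x, (η : F → ℂ) u ≠ (η : F → ℂ) 1) ∧
      ∀ n : ℕ, (η : F → ℂ) (m.x ^ n) = S.tr (S.orbInd r) (n : ZMod (p ^ S.a)) := by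
  classical
  have := m.hn
  have := Fintype.ofFinite F
  have := Fintype.ofFinite (Subgroup.zpowers m.x)
  have : NeZero (p ^ S.a) := ⟨pow_ne_zero _ hp.out.ne_zero⟩
  obtain ⟨φ, hφ⟩ := m.exists_phi r
  have hne : (fun u : Subgroup.zpowers m.x => (φ u : ℂ)) ≠ fun _ => 1 := by
    intro h
    refine hr ?_
    by_contra hr0
    have hs := sum_zpsi_mul (n := p ^ S.a) r
    rw [if_neg hr0] at hs
    have h1 : ∀ i : ZMod (p ^ S.a), zpsi (p ^ S.a) (r * i) = 1 := fun i => by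
      conv_lhs => rw [← ZMod.natCast_rightInverse i, ← hφ]
      exact congrFun h _
    rw [Finset.sum_congr rfl fun i _ => h1 i, Finset.sum_const, Finset.card_univ, ZMod.card,
      nsmul_one] at hs
    exact (pow_ne_zero _ hp.out.ne_zero) (Nat.cast_eq_zero.1 hs)
  set η : IrrCharacter F := ⟨_, CfsgLib.Clifford.isIrrCharacter_indFun_of_centralizer_le
    (fun n hn hn1 => (m.hC n hn hn1).le) (CfsgLib.Char.isIrrCharacter_linear φ) hne⟩
  have hval : ∀ n : ℕ, (η : F → ℂ) (m.x ^ n) = S.tr (S.orbInd r) (n : ZMod (p ^ S.a)) :=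
    fun n => m.indFun_apply hr φ hφ n
  refine ⟨η, ?_, hval⟩
  by_contra hcon
  push Not at hcon
  have hconst : ∀ i, S.tr (S.orbInd r) i = S.tr (fun l => if l = 0 then (S.e : ℤ) else 0) i := by
    intro i
    rw [← ZMod.natCast_rightInverse i, ← hval, hcon _ (pow_mem (Subgroup.mem_zpowers m.x) _),
      ← pow_zero m.x, hval, Nat.cast_zero]
    have hR : S.tr (fun l => if l = 0 then (S.e : ℤ) else 0) ((i.val : ZMod (p ^ S.a))) = (S.e : ℂ) := by
      unfold CycBlock.tr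
      rw [Finset.sum_eq_single 0]
      · simp
      · intro l _ hl
        simp only [if_neg hl, Int.cast_zero, zero_mul]
      · intro h; exact absurd (Finset.mem_univ _) h
    rw [hR]
    have := Fintype.ofFinite S.E
    rw [S.tr_orbInd hr 0]
    simp only [mul_zero, AddChar.map_zero_eq_one, Finset.sum_const, nsmul_one, Finset.card_univ,
      ← Nat.card_eq_fintype_card, S.natCard_E]
  have h0 := congrFun (S.eq_of_tr_eq hconst) 0
  rw [S.orbInd_zero hr, if_pos rfl] at h0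
  exact S.e_pos.ne' (by exact_mod_cast h0.symm)

/-- A character outside the kernel is determined by its restriction. -/
theorem Model.irr_ext {η η' : IrrCharacter F}
    (h : ∃ u ∈ Subgroup.zpowers m.x, (η : F → ℂ) u ≠ (η : F → ℂ) 1)
    (h' : ∃ u ∈ Subgroup.zpowers m.x, (η' : F → ℂ) u ≠ (η' : F → ℂ) 1)
    (heq : ∀ n : ℕ, (η : F → ℂ) (m.x ^ n) = (η' : F → ℂ) (m.x ^ n)) : η = η' := by
  have := Fintype.ofFinite F
  refine Subtype.ext (funext fun g => ?_)
  by_cases hg : g ∈ Subgroup.zpowers m.x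
  · obtain ⟨n, rfl⟩ := mem_powers_iff_mem_zpowers.2 hg
    exact heq n
  · rw [m.vanish η.2 h hg, m.vanish η'.2 h' hg]

end CycBlock

end CfsgLib.Block
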