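import Mathlib.GroupTheory.Transfer
import Mathlib.Data.ZMod.Basic
import Mathlib.GroupTheory.Perm.Basic
import Mathlib.Data.Fintype.Perm
import Mathlib.Tactic

/-!
Groups with a homocyclic Sylow 2-subgroup of rank two: the action of the normalizer.
-/

set_option autoImplicit false

namespace CfsgLib.Block.Homocyclic

theorem fixed_eq_one_of_cube (σ : Equiv.Perm (Fin 3)) (h : σ ^ 3 = 1) (i : Fin 3) (hi : σ i = i) :
    σ = 1 := by revert σ i; decide

theorem exists_pow_apply_eq (σ : Equiv.Perm (Fin 3)) (h : σ ^ 3 = 1) (h1 : σ ≠ 1) (i j : Fin 3) :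
    σ i = j ∨ (σ * σ) i = j ∨ i = j := by revert σ i j; decide

variable {G : Type*} [Group G] [Finite G] {P : Sylow 2 G} {m : ℕ}

/-- The involutions of `P`. -/
def Invols (P : Sylow 2 G) : Type _ := {x : G // x ∈ (P : Subgroup G) ∧ x ^ 2 = 1 ∧ x ≠ 1}

instance : Finite (Invols P) := by unfold Invols; infer_instance

theorem natCard_two_nsmul_eq_zero (hm : 1 ≤ m) : Nat.card {a : ZMod (2 ^ m) // 2 • a = 0} = 2 := by
  obtain ⟨k, rfl⟩ := Nat.exists_eq_add_of_le' hm
  have hlt : (2 : ℕ) ^ k < 2 ^ (k + 1) := Nat.pow_lt_pow_right one_lt_two (Nat.lt_succ_self k)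
  have hset : {a : ZMod (2 ^ (k + 1)) | 2 • a = 0} = {0, ((2 ^ k : ℕ) : ZMod (2 ^ (k + 1)))} := by
    ext a
    simp only [Set.mem_ofPred_eq, Set.mem_insert_iff, Set.mem_singleton_iff]
    constructor
    · intro ha
      have ha' : ((2 * a.val : ℕ) : ZMod (2 ^ (k + 1))) = 0 := by
        rw [Nat.cast_mul, ZMod.natCast_zmod_val, ← nsmul_eq_mul]; exact ha
      obtain ⟨v, hv⟩ : ∃ v, a.val = v := ⟨_, rfl⟩
      rw [hv, ZMod.natCast_eq_zero_iff, pow_succ', Nat.mul_dvd_mul_iff_left two_pos] at ha'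
      obtain ⟨c, hc⟩ := ha'
      have hc2 : 2 ^ k * c < 2 ^ k * 2 := by rw [← hc, ← pow_succ, ← hv]; exact ZMod.val_lt a
      have hc3 := Nat.lt_of_mul_lt_mul_left hc2
      have hcast := ZMod.natCast_zmod_val a
      rw [hv, hc] at hcast
      interval_cases c
      · left; simpa using hcast.symm
      · right; simpa using hcast.symm
    · rintro (rfl | rfl)
      · simp
      · rw [nsmul_eq_mul, ← Nat.cast_mul, ← pow_succ', ZMod.natCast_self]
  have hne : (0 : ZMod (2 ^ (k + 1))) ≠ ((2 ^ k : ℕ) : ZMod (2 ^ (k + 1))) := by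
    intro h
    have := (ZMod.natCast_eq_zero_iff _ _).1 h.symm
    exact absurd (Nat.le_of_dvd (Nat.two_pow_pos k) this) (by omega)
  change Nat.card {a : ZMod (2 ^ (k + 1)) | 2 • a = 0} = 2
  rw [hset, Nat.card_coe_set_eq, Set.ncard_pair hne]

theorem natCard_invols (e : (P : Subgroup G) ≃* Multiplicative (ZMod (2 ^ m) × ZMod (2 ^ m)))
    (hm : 1 ≤ m) : Nat.card (Invols P) = 3 := by
  have h4 : Nat.card {x : (P : Subgroup G) // x ^ 2 = 1} = 4 := by
    have e1 : {x : (P : Subgroup G) // x ^ 2 = 1} ≃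
        {x : Multiplicative (ZMod (2 ^ m) × ZMod (2 ^ m)) // x ^ 2 = 1} :=
      Equiv.subtypeEquiv e.toEquiv fun x => by
        simp only [MulEquiv.toEquiv_eq_coe, MulEquiv.coe_toEquiv, ← map_pow,
          EmbeddingLike.map_eq_one_iff]
    have e2 : {x : Multiplicative (ZMod (2 ^ m) × ZMod (2 ^ m)) // x ^ 2 = 1} ≃
        {a : ZMod (2 ^ m) // 2 • a = 0} × {a : ZMod (2 ^ m) // 2 • a = 0} :=
      { toFun := fun x => (⟨x.1.toAdd.1, by
          have := congrArg (fun y => (Multiplicative.toAdd y).1) x.2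
          simpa using this⟩, ⟨x.1.toAdd.2, by
          have := congrArg (fun y => (Multiplicative.toAdd y).2) x.2
          simpa using this⟩)
        invFun := fun v => ⟨Multiplicative.ofAdd (v.1.1, v.2.1), by
          rw [← ofAdd_nsmul]
          simp [Prod.ext_iff, v.1.2, v.2.2]⟩
        left_inv := fun x => rfl
        right_inv := fun v => rfl }
    rw [Nat.card_congr (e1.trans e2), Nat.card_prod, natCard_two_nsmul_eq_zero hm]
  have e3 : Invols P ≃ {x : {x : (P : Subgroup G) // x ^ 2 = 1} // x ≠ ⟨1, one_pow 2⟩} :=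
    { toFun := fun x => ⟨⟨⟨x.1, x.2.1⟩, Subtype.ext x.2.2.1⟩, fun h =>
        x.2.2.2 (congrArg (fun y : {x : (P : Subgroup G) // x ^ 2 = 1} => (y.1 : G)) h)⟩
      invFun := fun y => ⟨y.1.1, y.1.1.2, congrArg Subtype.val y.1.2, fun h =>
        y.2 (Subtype.ext (Subtype.ext h))⟩
      left_inv := fun x => rfl
      right_inv := fun y => rfl }
  classical
  have := Fintype.ofFinite {x : (P : Subgroup G) // x ^ 2 = 1}
  rw [Nat.card_congr e3, Nat.card_eq_fintype_card, Fintype.card_subtype_compl,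
    Fintype.card_subtype_eq, ← Nat.card_eq_fintype_card, h4]

theorem comm_of_equiv (e : (P : Subgroup G) ≃* Multiplicative (ZMod (2 ^ m) × ZMod (2 ^ m)))
    (a b : (P : Subgroup G)) : a * b = b * a :=
  e.injective (by rw [map_mul, map_mul, mul_comm])

theorem le_centralizer (e : (P : Subgroup G) ≃* Multiplicative (ZMod (2 ^ m) × ZMod (2 ^ m))) :
    (P : Subgroup G) ≤ Subgroup.centralizer (P : Set G) := fun a ha =>
  Subgroup.mem_centralizer_iff.2 fun b hb =>
    congrArg Subtype.val (comm_of_equiv e ⟨b, hb⟩ ⟨a, ha⟩)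

/-- The action of the normalizer on the involutions. -/
noncomputable def involPerm (P : Sylow 2 G) :
    Subgroup.normalizer (P : Set G) →* Equiv.Perm (Invols P) :=
  letI : MulAction (Subgroup.normalizer (P : Set G)) (Invols P) :=
    { smul := fun n x => ⟨(n : G) * x.1 * (n : G)⁻¹, (Subgroup.mem_normalizer_iff.1 n.2 x.1).1 x.2.1,
        by rw [conj_pow, x.2.2.1, mul_one, mul_inv_cancel],
        fun h => x.2.2.2 (conj_eq_one_iff.1 h)⟩
      one_smul := fun x => Subtype.ext (by
        change ((1 : Subgroup.normalizer (P : Set G)) : G) * x.1 *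
          ((1 : Subgroup.normalizer (P : Set G)) : G)⁻¹ = x.1
        simp)
      mul_smul := fun a b x => Subtype.ext (by
        change ((a * b : Subgroup.normalizer (P : Set G)) : G) * x.1 *
          ((a * b : Subgroup.normalizer (P : Set G)) : G)⁻¹ =
            (a : G) * ((b : G) * x.1 * (b : G)⁻¹) * (a : G)⁻¹
        push_cast
        group) }
  MulAction.toPermHom _ _

theorem coe_involPerm (n : Subgroup.normalizer (P : Set G)) (x : Invols P) :
    ((involPerm P n) x).1 = (n : G) * x.1 * (n : G)⁻¹ := rfl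

theorem odd_relIndex (e : (P : Subgroup G) ≃* Multiplicative (ZMod (2 ^ m) × ZMod (2 ^ m))) :
    Odd ((Subgroup.centralizer (P : Set G)).relIndex (Subgroup.normalizer (P : Set G))) := by
  rw [← Nat.not_even_iff_odd, even_iff_two_dvd]
  intro hd
  apply P.not_dvd_index
  calc 2 ∣ _ := hd
    _ ∣ (Subgroup.centralizer (P : Set G)).index :=
      Dvd.intro _ (Subgroup.relIndex_mul_index
        (Subgroup.centralizer_le_normalizer (P : Set G)))
    _ ∣ (P : Subgroup G).index := Subgroup.index_dvd_of_le (le_centralizer e)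

theorem ker_involPerm (e : (P : Subgroup G) ≃* Multiplicative (ZMod (2 ^ m) × ZMod (2 ^ m)))
    (hm : 1 ≤ m) : (involPerm P).ker =
      (Subgroup.centralizer (P : Set G)).subgroupOf (Subgroup.normalizer (P : Set G)) := by
  set N := Subgroup.normalizer (P : Set G)
  set C := Subgroup.centralizer (P : Set G)
  refine le_antisymm (fun n hn => ?_) fun n hn => ?_
  swap
  · refine Equiv.ext fun x => Subtype.ext ?_
    rw [coe_involPerm, ← Subgroup.mem_centralizer_iff.1 (Subgroup.mem_subgroupOf.1 hn) x.1 x.2.1]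
    simp
  rw [Subgroup.mem_subgroupOf, Subgroup.mem_centralizer_iff]
  have hfix : ∀ t ∈ (P : Subgroup G), t ^ 2 = 1 → (n : G) * t = t * (n : G) := by
    intro t ht h2
    by_cases h1 : t = 1
    · simp [h1]
    · have : (n : G) * t * (n : G)⁻¹ = t :=
        congrArg Subtype.val (Equiv.congr_fun (MonoidHom.mem_ker.1 hn) ⟨t, ht, h2, h1⟩)
      exact mul_inv_eq_iff_eq_mul.1 this
  set k := C.relIndex N
  have hnk : (n : G) ^ k ∈ C := by
    have hCn : (C.subgroupOf N).Normal := ⟨fun c hc g => by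
      rw [Subgroup.mem_subgroupOf, Subgroup.mem_centralizer_iff] at hc ⊢
      intro u hu
      have h := hc ((g : G)⁻¹ * u * g) ((Subgroup.mem_normalizer_iff''.1 g.2 u).1 hu)
      push_cast
      calc u * ((g : G) * c * (g : G)⁻¹) = (g : G) * ((g : G)⁻¹ * u * g * c) * (g : G)⁻¹ := by group
        _ = _ := by rw [h]; group⟩
    exact Subgroup.mem_subgroupOf.1 (Subgroup.pow_index_mem (H := C.subgroupOf N) n)
  suffices ∀ (j : ℕ) (x : G), x ∈ (P : Subgroup G) → x ^ 2 ^ j = 1 → (n : G) * x = x * (n : G) by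
    intro x hx
    obtain ⟨j, hj⟩ := P.2 ⟨x, hx⟩
    exact (this j x hx (congrArg Subtype.val hj)).symm
  intro j
  induction j with
  | zero => intro x _ hx; rw [pow_zero, pow_one] at hx; simp [hx]
  | succ j ih =>
    intro x hx hxj
    have h2 := ih (x ^ 2) (pow_mem hx 2) (by rw [← pow_mul, ← pow_succ']; exact hxj)
    set y := (n : G) * x * (n : G)⁻¹ with hy
    have hyP : y ∈ (P : Subgroup G) := (Subgroup.mem_normalizer_iff.1 n.2 x).1 hx
    set t := x⁻¹ * y with ht
    have htP : t ∈ (P : Subgroup G) := mul_mem (inv_mem hx) hyP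
    have hc : Commute x⁻¹ y := congrArg Subtype.val
      (comm_of_equiv e ⟨x⁻¹, inv_mem hx⟩ ⟨y, hyP⟩)
    have ht2 : t ^ 2 = 1 := by
      rw [ht, hc.mul_pow, hy, conj_pow, h2, mul_inv_cancel_right, inv_pow, inv_mul_cancel]
    have hnt := hfix t htP ht2
    have hpow : ∀ i : ℕ, (n : G) ^ i * x * ((n : G) ^ i)⁻¹ = x * t ^ i := by
      intro i
      induction i with
      | zero => simp
      | succ i hi =>
        calc (n : G) ^ (i + 1) * x * ((n : G) ^ (i + 1))⁻¹
            = (n : G) * ((n : G) ^ i * x * ((n : G) ^ i)⁻¹) * (n : G)⁻¹ := by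
              rw [pow_succ', mul_inv_rev]; group
          _ = y * ((n : G) * t ^ i * (n : G)⁻¹) := by rw [hi, hy]; group
          _ = y * t ^ i := by
              rw [(Commute.pow_right (show Commute (n : G) t from hnt) i).eq, mul_inv_cancel_right]
          _ = _ := by rw [pow_succ', ← mul_assoc, ht, mul_inv_cancel_left]
    have h3 := hpow k
    rw [← Subgroup.mem_centralizer_iff.1 hnk x hx, mul_inv_cancel_right, eq_comm] at h3
    have htk : t ^ k = 1 := mul_eq_left.1 h3
    obtain ⟨i, hi⟩ := odd_relIndex e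
    rw [show k = 2 * i + 1 from hi, pow_succ, pow_mul, ht2, one_pow, one_mul] at htk
    have hxy : y = x := by rw [← mul_inv_cancel_left x y, ← ht, htk, mul_one]
    exact mul_inv_eq_iff_eq_mul.1 hxy

/-- The index is one or three, and the action is regular in the latter case. -/
theorem main (e : (P : Subgroup G) ≃* Multiplicative (ZMod (2 ^ m) × ZMod (2 ^ m))) (hm : 1 ≤ m) :
    ((Subgroup.centralizer (P : Set G)).relIndex (Subgroup.normalizer (P : Set G)) = 1 ∨
      (Subgroup.centralizer (P : Set G)).relIndex (Subgroup.normalizer (P : Set G)) = 3) ∧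
    (∀ (n : Subgroup.normalizer (P : Set G)) (x : Invols P), involPerm P n x = x →
      (n : G) ∈ Subgroup.centralizer (P : Set G)) ∧
    ((Subgroup.centralizer (P : Set G)).relIndex (Subgroup.normalizer (P : Set G)) ≠ 1 →
      ∀ x y : Invols P, ∃ n : Subgroup.normalizer (P : Set G),
        (n : G) * x.1 * (n : G)⁻¹ = y.1) := by
  classical
  have := Fintype.ofFinite (Invols P)
  have h3 : Fintype.card (Invols P) = 3 := by
    rw [← Nat.card_eq_fintype_card, natCard_invols e hm]
  let f := Fintype.equivFinOfCardEq h3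
  let ψ : Subgroup.normalizer (P : Set G) →* Equiv.Perm (Fin 3) :=
    (f.permCongrHom).toMonoidHom.comp (involPerm P)
  have hker : ψ.ker =
      (Subgroup.centralizer (P : Set G)).subgroupOf (Subgroup.normalizer (P : Set G)) := by
    rw [← ker_involPerm e hm]
    ext n
    simp only [ψ, MonoidHom.mem_ker, MonoidHom.coe_comp, Function.comp_apply,
      MulEquiv.coe_toMonoidHom, EmbeddingLike.map_eq_one_iff]
  have hcard : Nat.card ψ.range =
      (Subgroup.centralizer (P : Set G)).relIndex (Subgroup.normalizer (P : Set G)) := by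
    rw [← Subgroup.index_ker, hker]
    rfl
  have hrel : (Subgroup.centralizer (P : Set G)).relIndex (Subgroup.normalizer (P : Set G)) ∣ 3 := by
    have h6 : Nat.card ψ.range ∣ 2 * 3 := by
      refine (Subgroup.card_subgroup_dvd_card ψ.range).trans ?_
      rw [Nat.card_eq_fintype_card, Fintype.card_perm, Fintype.card_fin]
      decide
    rw [hcard] at h6
    exact (Nat.coprime_two_right.2 (odd_relIndex e)).dvd_of_dvd_mul_left h6
  have hcube : ∀ n, ψ n ^ 3 = 1 := fun n => by
    have hd : orderOf (⟨ψ n, n, rfl⟩ : ψ.range) ∣ 3 :=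
      (orderOf_dvd_natCard _).trans (hcard ▸ hrel)
    exact congrArg Subtype.val (orderOf_dvd_iff_pow_eq_one.1 hd)
  have happ : ∀ n i, ψ n i = f (involPerm P n (f.symm i)) := fun n i => rfl
  refine ⟨(Nat.dvd_prime Nat.prime_three).1 hrel, fun n x hx => ?_, fun hne x y => ?_⟩
  · have h := fixed_eq_one_of_cube (ψ n) (hcube n) (f x) (by rw [happ, f.symm_apply_apply, hx])
    have : n ∈ ψ.ker := h
    rw [hker] at this
    exact this
  · obtain ⟨n, hn⟩ : ∃ n, ψ n ≠ 1 := by
      by_contra h
      push Not at h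
      apply hne
      rw [← hcard, Nat.card_eq_one_iff_unique]
      refine ⟨⟨fun a b => ?_⟩, ⟨1⟩⟩
      obtain ⟨_, a, rfl⟩ := a
      obtain ⟨_, b, rfl⟩ := b
      exact Subtype.ext ((h a).trans (h b).symm)
    rcases exists_pow_apply_eq (ψ n) (hcube n) hn (f x) (f y) with h | h | h
    · rw [happ, f.symm_apply_apply] at h
      exact ⟨n, congrArg Subtype.val (f.injective h)⟩
    · rw [← map_mul, happ, f.symm_apply_apply] at h
      exact ⟨n * n, congrArg Subtype.val (f.injective h)⟩
    · exact ⟨1, by simp [f.injective h]⟩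

end CfsgLib.Block.Homocyclic
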