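import Cfsg.Agent.Lib.Block.PrincipalSection
import Cfsg.Agent.Lib.Char.Column

/-!
Column orthogonality in the principal block at a `p`-element with `p`-nilpotent centralizer, obtained
from ordinary column orthogonality.
-/

set_option autoImplicit false
set_option linter.unusedSectionVars false

namespace CfsgLib.Block.SectionColumns

open Cfsg CfsgLib CfsgLib.Block
open scoped ComplexConjugate

universe u

variable {G : Type u} [Group G] [Finite G] {p : ℕ} [hp : Fact p.Prime]

/-- Conjugating products with regular factors conjugates the `p`-parts. -/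
theorem conj_eq_of_conj {z z' y y' g : G} (hz : ∃ k, orderOf z = p ^ k) (hz' : ∃ k, orderOf z' = p ^ k)
    (hc : Commute z y) (hc' : Commute z' y') (hy : ¬ p ∣ orderOf y) (hy' : ¬ p ∣ orderOf y')
    (h : g * (z * y) * g⁻¹ = z' * y') : g * z * g⁻¹ = z' := by
  obtain ⟨a, ha⟩ := hz
  obtain ⟨b, hb⟩ := hz'
  have hco : (p ^ (a + b)).Coprime (orderOf y * orderOf y') :=
    Nat.Coprime.pow_left _ (Nat.Coprime.mul_right (hp.out.coprime_iff_not_dvd.2 hy)
      (hp.out.coprime_iff_not_dvd.2 hy'))
  obtain ⟨K, hK1, hK2⟩ := Nat.chineseRemainder hco 1 0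
  have hKd := (Nat.modEq_zero_iff_dvd).1 hK2
  have e : ∀ (w v : G), Commute w v → orderOf w ∣ p ^ (a + b) → orderOf v ∣ K → (w * v) ^ K = w :=
    fun w v hwv hw hv => by
    rw [hwv.mul_pow, orderOf_dvd_iff_pow_eq_one.1 hv, mul_one]
    nth_rewrite 2 [← pow_one w]
    exact pow_eq_pow_iff_modEq.2 (hK1.of_dvd hw)
  have h' := congrArg (· ^ K) h
  simp only [conj_pow] at h'
  rwa [e z y hc (ha ▸ pow_dvd_pow p (Nat.le_add_right a b)) ((dvd_mul_right _ _).trans hKd),
    e z' y' hc' (hb ▸ pow_dvd_pow p (Nat.le_add_left b a)) ((dvd_mul_left _ _).trans hKd)] at h'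

/-- The section sums of characters outside the principal block vanish. -/
theorem sum_principal_eq_zero [Fintype G] [Fintype (IrrCharacter G)] {M : Ideal AlgInt}
    (hM : IsPModular p M) {z : G} (hz : ∃ k, orderOf z = p ^ k)
    (hC : Cfsg.HasNormalPComplement p (Subgroup.centralizer ({z} : Set G)))
    (Φ : IrrCharacter G → ℂ)
    (hΦ : ∀ y : G, Commute z y → ¬ p ∣ orderOf y →
      ∑ χ : IrrCharacter G, Φ χ * conj ((χ : G → ℂ) (z * y)) = 0) :
    ∑ᶠ χ ∈ principalBlock M G, Φ χ * conj ((χ : G → ℂ) z) = 0 := by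
  classical
  have := isPrime_of_pmodular hM
  obtain ⟨hconst, hsum⟩ := principal_section hM hz hC
  obtain ⟨hreg, hcard⟩ := core_of_hasNormalPComplement hC
  set H := Subgroup.centralizer ({z} : Set G) with hH
  set q := p ^ (Nat.card H).factorization p
  set O : Finset G := Finset.univ.filter fun y => Commute z y ∧ ¬ p ∣ orderOf y with hO
  set B := (Set.toFinite (principalBlock M G)).toFinset
  have hB : ∀ χ, χ ∈ B ↔ χ ∈ principalBlock M G := fun χ => Set.Finite.mem_toFinset _
  have hOcard : O.card = Nat.card (Cfsg.pPrimeCore p H) := by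
    have hcop := (CfsgLib.Solvable.pPrimeCore_coprime p : (Nat.card (Cfsg.pPrimeCore p H)).Coprime p)
    rw [← Nat.card_eq_finsetCard]
    refine Nat.card_congr
      { toFun := fun y => ⟨⟨y.1, Subgroup.mem_centralizer_singleton_iff.2
            ((Finset.mem_filter.1 y.2).2.1).symm⟩, hreg _ (by
              rw [Subgroup.orderOf_mk]; exact (Finset.mem_filter.1 y.2).2.2)⟩
        invFun := fun y => ⟨((y : H) : G), Finset.mem_filter.2 ⟨Finset.mem_univ _,
            (Subgroup.mem_centralizer_singleton_iff.1 (y : H).2).symm, fun h => ?_⟩⟩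
        left_inv := fun y => rfl
        right_inv := fun y => rfl }
    rw [Subgroup.orderOf_coe, Subgroup.orderOf_coe] at h
    exact hp.out.coprime_iff_not_dvd.1 hcop.symm (h.trans (orderOf_dvd_natCard y))
  let F : IrrCharacter G → ℂ := fun χ => ∑ y ∈ O, (χ : G → ℂ) (z * y)
  have hFB : ∀ χ ∈ B, F χ = (O.card : ℂ) * (χ : G → ℂ) z := fun χ hχ => by
    rw [← nsmul_eq_mul, ← Finset.sum_const]
    exact Finset.sum_congr rfl fun y hy =>
      hconst χ ((hB χ).1 hχ) y (Finset.mem_filter.1 hy).2.1 (Finset.mem_filter.1 hy).2.2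
  -- the norm of the section sums
  have hcount : ∀ a b : G, (if IsConj a b then (Nat.card (Subgroup.centralizer ({a} : Set G)) : ℂ) else 0) =
      ∑ g : G, if g * a * g⁻¹ = b then (1 : ℂ) else 0 := fun a b => by
    rw [← Finset.sum_filter, Finset.sum_const, nsmul_eq_mul, mul_one]
    by_cases hc : IsConj a b
    · rw [if_pos hc]
      obtain ⟨g₀, rfl⟩ := isConj_iff.1 hc
      congr 1
      rw [← Nat.card_eq_finsetCard]
      refine Nat.card_congr
        { toFun := fun c => ⟨g₀ * c.1, Finset.mem_filter.2 ⟨Finset.mem_univ _, ?_⟩⟩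
          invFun := fun g => ⟨g₀⁻¹ * g.1, ?_⟩
          left_inv := fun c => Subtype.ext (inv_mul_cancel_left _ _)
          right_inv := fun g => Subtype.ext (mul_inv_cancel_left _ _) }
      · have h := Subgroup.mem_centralizer_singleton_iff.1 c.2
        rw [show g₀ * c.1 * a * (g₀ * c.1)⁻¹ = g₀ * (c.1 * a * c.1⁻¹) * g₀⁻¹ by group, h,
          mul_inv_cancel_right]
      · rw [Subgroup.mem_centralizer_singleton_iff]
        have h := (Finset.mem_filter.1 g.2).2
        have h1 : g₀⁻¹ * g.1 * a * (g₀⁻¹ * g.1)⁻¹ = a := by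
          rw [show g₀⁻¹ * g.1 * a * (g₀⁻¹ * g.1)⁻¹ = g₀⁻¹ * (g.1 * a * g.1⁻¹) * g₀ by group, h]; group
        exact mul_inv_eq_iff_eq_mul.1 h1
    · rw [if_neg hc, Finset.filter_eq_empty_iff.2 fun g _ hg => hc (isConj_iff.2 ⟨g, hg⟩)]
      simp
  have hall : ∑ χ : IrrCharacter G, F χ * conj (F χ) = (O.card : ℂ) * (Nat.card H : ℂ) := by
    simp only [F, map_sum, Finset.sum_mul_sum]
    rw [Finset.sum_comm, Finset.sum_congr rfl fun y _ => Finset.sum_comm]
    simp only [Char.column_orthogonality]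
    rw [Finset.sum_congr rfl (g := fun _ => (Nat.card H : ℂ)) fun y hy => ?_, Finset.sum_const, nsmul_eq_mul]
    obtain ⟨-, hyc, hyr⟩ := Finset.mem_filter.1 hy
    rw [Finset.sum_congr rfl (g := fun y' => ∑ g : G, if g * (z * y) * g⁻¹ = z * y' then (1 : ℂ) else 0)
        fun y' _ => by rw [← hcount]; congr,
      Finset.sum_comm,
      Finset.sum_congr rfl (g := fun g : G => if g ∈ H then (1 : ℂ) else 0) fun g _ => ?_,
      ← Finset.sum_filter, Finset.sum_const, nsmul_eq_mul, mul_one, Nat.card_eq_fintype_card,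
      Fintype.card_subtype]
    by_cases hg : g ∈ H
    · have hgz : g * z * g⁻¹ = z :=
        mul_inv_eq_iff_eq_mul.2 (Subgroup.mem_centralizer_singleton_iff.1 hg)
      rw [if_pos hg, Finset.sum_eq_single (g * y * g⁻¹), if_pos]
      · rw [show g * (z * y) * g⁻¹ = g * z * g⁻¹ * (g * y * g⁻¹) by group, hgz]
      · intro y' _ hne
        rw [if_neg fun h => hne ?_]
        rw [show g * (z * y) * g⁻¹ = g * z * g⁻¹ * (g * y * g⁻¹) by group, hgz] at h
        exact (mul_left_cancel h).symm
      · intro hn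
        refine absurd (Finset.mem_filter.2 ⟨Finset.mem_univ _, ?_, ?_⟩) hn
        · have h := congrArg (fun w => g * w * g⁻¹) hyc.eq
          rw [show g * (z * y) * g⁻¹ = g * z * g⁻¹ * (g * y * g⁻¹) by group,
            show g * (y * z) * g⁻¹ = g * y * g⁻¹ * (g * z * g⁻¹) by group, hgz] at h
          exact h
        · rwa [show orderOf (g * y * g⁻¹) = orderOf y from
            orderOf_injective (MulAut.conj g).toMonoidHom (MulAut.conj g).injective y]
    · rw [if_neg hg]
      refine Finset.sum_eq_zero fun y' hy' => if_neg fun h => hg ?_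
      obtain ⟨-, hc', hr'⟩ := Finset.mem_filter.1 hy'
      exact Subgroup.mem_centralizer_singleton_iff.2
        (mul_inv_eq_iff_eq_mul.1 (conj_eq_of_conj hz hz hyc hc' hyr hr' h))
  have hBsum : ∑ χ ∈ B, F χ * conj (F χ) = (O.card : ℂ) * (Nat.card H : ℂ) := by
    rw [Finset.sum_congr rfl (g := fun χ : IrrCharacter G => (O.card : ℂ) * (O.card : ℂ) *
        ((χ : G → ℂ) z * conj ((χ : G → ℂ) z))) fun χ hχ => by
      rw [hFB χ hχ, map_mul, map_natCast]; ring, ← Finset.mul_sum]
    rw [finsum_mem_eq_finite_toFinset_sum _ (Set.toFinite _)] at hsum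
    rw [hsum, hcard, hOcard]
    push_cast
    ring
  have hout : ∀ χ ∉ B, F χ = 0 := fun χ hχ => by
    have h : ∑ χ ∈ Bᶜ, F χ * conj (F χ) = 0 := by
      have h' := Finset.sum_add_sum_compl B fun χ => F χ * conj (F χ)
      rw [hall, hBsum] at h'
      linear_combination h'
    simp only [Complex.mul_conj] at h
    rw [← Complex.ofReal_sum, Complex.ofReal_eq_zero,
      Finset.sum_eq_zero_iff_of_nonneg fun η _ => Complex.normSq_nonneg _] at h
    exact Complex.normSq_eq_zero.1 (h χ (Finset.mem_compl.2 hχ))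
  have h : (O.card : ℂ) * ∑ χ ∈ B, Φ χ * conj ((χ : G → ℂ) z) = 0 := by
    rw [Finset.mul_sum, Finset.sum_congr rfl (g := fun χ => Φ χ * conj (F χ)) fun χ hχ => by
        rw [hFB χ hχ, map_mul, map_natCast]; ring,
      Finset.sum_subset (Finset.subset_univ B) fun χ _ hχ => by rw [hout χ hχ, map_zero, mul_zero]]
    simp only [F, map_sum, Finset.mul_sum]
    rw [Finset.sum_comm]
    exact Finset.sum_eq_zero fun y hy => hΦ y (Finset.mem_filter.1 hy).2.1 (Finset.mem_filter.1 hy).2.2
  rw [finsum_mem_eq_finite_toFinset_sum _ (Set.toFinite _)]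
  refine (mul_eq_zero.1 h).resolve_left (Nat.cast_ne_zero.2 ?_)
  rw [hOcard]
  exact Nat.card_pos.ne'

end CfsgLib.Block.SectionColumns
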