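import Cfsg.Agent.Lib.Block.HomocyclicRows
import Cfsg.Agent.Lib.Block.SectionColumns
import Cfsg.Agent.Lib.Block.Homocyclic
import Cfsg.Agent.Lib.BlockB.ClassMul
import Cfsg.Agent.Lib.Char.Linear
import Cfsg.Agent.Lib.BlockB.PModular
import Cfsg.Agent.Lib.Transfer.HallComplement

/-!
Brauer's theorem on groups with a homocyclic Sylow 2-subgroup of rank two.
-/

set_option autoImplicit false
set_option linter.unusedSectionVars false

namespace CfsgLib.Block.HomocyclicBrauer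

open Cfsg CfsgLib CfsgLib.Block
open scoped ComplexConjugate

universe u

variable {G : Type u} [Group G] [Finite G] {P : Sylow 2 G} {m : ℕ}

/-- Only elements of `C(P)` fix a non-trivial element of `P`. -/
theorem mem_centralizer_of_fix (e : (P : Subgroup G) ≃* Multiplicative (ZMod (2 ^ m) × ZMod (2 ^ m)))
    (hm : 1 ≤ m) {k z : G} (hk : k ∈ Subgroup.normalizer (P : Set G)) (hz : z ∈ (P : Subgroup G))
    (hz1 : z ≠ 1) (h : k * z * k⁻¹ = z) : k ∈ Subgroup.centralizer (P : Set G) := by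
  obtain ⟨a, ha⟩ := (IsPGroup.iff_orderOf.1 P.isPGroup') ⟨z, hz⟩
  rw [Subgroup.orderOf_mk] at ha
  have ha1 : 1 ≤ a := Nat.pos_of_ne_zero fun h0 => hz1 (orderOf_eq_one_iff.1 (by rw [ha, h0, pow_zero]))
  set j := z ^ 2 ^ (a - 1) with hj
  have hj2 : j ^ 2 = 1 := by
    rw [hj, ← pow_mul, ← pow_succ, Nat.sub_add_cancel ha1, ← ha, pow_orderOf_eq_one]
  have hj1 : j ≠ 1 := fun h0 => by
    have hd := orderOf_dvd_of_pow_eq_one (hj ▸ h0)
    rw [ha, Nat.pow_dvd_pow_iff_le_right (by norm_num)] at hd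
    omega
  refine (Homocyclic.main e hm).2.1 ⟨k, hk⟩ ⟨j, pow_mem hz _, hj2, hj1⟩ (Subtype.ext ?_)
  change k * j * k⁻¹ = j
  rw [hj, ← conj_pow, h]

/-- Non-trivial elements of `P` have 2-nilpotent centralizers of 2-part `|P|`. -/
theorem centralizer_facts (e : (P : Subgroup G) ≃* Multiplicative (ZMod (2 ^ m) × ZMod (2 ^ m)))
    (hm : 1 ≤ m) {z : G} (hzP : z ∈ (P : Subgroup G)) (hz : z ≠ 1) :
    Cfsg.HasNormalPComplement 2 (Subgroup.centralizer ({z} : Set G)) ∧
      2 ^ (Nat.card (Subgroup.centralizer ({z} : Set G))).factorization 2 = Nat.card (P : Subgroup G) := by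
  set H := Subgroup.centralizer ({z} : Set G)
  have hPH : (P : Subgroup G) ≤ H := fun a ha => Subgroup.mem_centralizer_singleton_iff.2
    ((Subgroup.mem_centralizer_iff.1 (Homocyclic.le_centralizer e ha) z hzP).symm)
  let Q : Sylow 2 H := P.subtype hPH
  refine ⟨CfsgLib.Transfer.hasNormalPComplement_of_normalizer_le_centralizer Q fun n hn => ?_, ?_⟩
  · have hnN : (n : G) ∈ Subgroup.normalizer (P : Set G) := by
      refine Subgroup.mem_normalizer_iff.2 fun x => ?_
      constructor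
      · intro hx
        exact (Subgroup.mem_normalizer_iff.1 hn ⟨x, hPH hx⟩).1 hx
      · intro hx
        have hxH : x ∈ H := by
          have := mul_mem (mul_mem (inv_mem n.2) (hPH hx)) n.2
          simpa [mul_assoc] using this
        exact (Subgroup.mem_normalizer_iff.1 hn ⟨x, hxH⟩).2 hx
    have hnC : (n : G) ∈ Subgroup.centralizer (P : Set G) :=
      mem_centralizer_of_fix e hm hnN hzP hz
        (mul_inv_eq_iff_eq_mul.2 (Subgroup.mem_centralizer_singleton_iff.1 n.2))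
    rw [Subgroup.mem_centralizer_iff]
    intro v hv
    exact Subtype.ext (Subgroup.mem_centralizer_iff.1 hnC v hv)
  · rw [← Q.card_eq_multiplicity]
    exact Nat.card_congr (Subgroup.subgroupOfEquivOfLe hPH).toEquiv

/-- A 2-element of `C(P)` lies in `P`. -/
theorem mem_of_mem_centralizer {c : G} (hc : c ∈ Subgroup.centralizer (P : Set G))
    (h : ∃ k, orderOf c = 2 ^ k) : c ∈ (P : Subgroup G) := by
  obtain ⟨k, hk⟩ := h
  have hp : IsPGroup 2 (Subgroup.zpowers c) := IsPGroup.of_card (n := k) (by rw [Nat.card_zpowers, hk])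
  have h1 : c ∈ Subgroup.zpowers c ⊓ Subgroup.normalizer (P : Set G) :=
    ⟨Subgroup.mem_zpowers c, Subgroup.centralizer_le_normalizer _ hc⟩
  exact ((IsPGroup.inf_normalizer_sylow hp P).le h1).2

variable (m) in
/-- The additive group. -/
abbrev Mod2 : Type := ZMod (2 ^ m) × ZMod (2 ^ m)

/-- Brauer's theorem. -/
theorem main (e : (P : Subgroup G) ≃* Multiplicative (ZMod (2 ^ m) × ZMod (2 ^ m))) (hm : 2 ≤ m)
    (hO : ∀ N : Subgroup G, N.Normal → Odd (Nat.card N) → N = ⊥) :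
    (P : Subgroup G).Normal ∧ Subgroup.centralizer (P : Set G) = (P : Subgroup G) ∧
      ((P : Subgroup G).index = 1 ∨ (P : Subgroup G).index = 3) := by
  classical
  have hm1 : 1 ≤ m := by omega
  set N := Subgroup.normalizer (P : Set G) with hNdef
  set C := Subgroup.centralizer (P : Set G) with hCdef
  have hPC : (P : Subgroup G) ≤ C := Homocyclic.le_centralizer e
  obtain ⟨hidx, -, -⟩ := Homocyclic.main e hm1
  rw [← hNdef, ← hCdef] at hidx
  rcases hidx with h1 | h3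
  · -- the normalizer is the centralizer
    have hle : N ≤ C := Subgroup.relIndex_eq_one.1 h1
    have hcompl := MonoidHom.ker_transferSylow_isComplement' P hle
    set K := (MonoidHom.transferSylow P hle).ker
    have hKodd : Odd (Nat.card K) := by
      rw [← hcompl.index_eq_card, Nat.odd_iff]
      have := P.not_dvd_index
      omega
    have hK : K = ⊥ := hO K (MonoidHom.normal_ker _) hKodd
    have hPtop : (P : Subgroup G) = ⊤ := by
      have h := hcompl.sup_eq_top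
      rwa [hK, bot_sup_eq] at h
    refine ⟨by rw [hPtop]; infer_instance, ?_, Or.inl (by rw [hPtop, Subgroup.index_top])⟩
    exact le_antisymm (by rw [hPtop]; exact le_top) hPC
  have := Fintype.ofFinite G
  have := Fintype.ofFinite (IrrCharacter G)
  obtain ⟨M, hM⟩ := BlockB.exists_isPModular (p := 2) Nat.prime_two
  have := isPrime_of_pmodular hM
  have : IsMulCommutative (P : Subgroup G) := ⟨⟨fun a b => Homocyclic.comm_of_equiv e a b⟩⟩
  -- a generator of `N / C`
  obtain ⟨n, hnN, hnC⟩ : ∃ n ∈ N, n ∉ C := by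
    by_contra hno
    push Not at hno
    rw [Subgroup.relIndex_eq_one.2 hno] at h3
    omega
  have hnormal : (C.subgroupOf N).Normal := by
    rw [hCdef, hNdef, ← Homocyclic.ker_involPerm e hm1]; infer_instance
  have hn3 : n ^ 3 ∈ C := by
    have h := Subgroup.pow_index_mem (C.subgroupOf N) (⟨n, hnN⟩ : N)
    rw [show (C.subgroupOf N).index = 3 from h3] at h
    simpa [Subgroup.mem_subgroupOf] using h
  have hpowC : ∀ i : ℕ, 0 < i → i < 3 → n ^ i ∉ C := fun i h0 h2 hi => by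
    interval_cases i
    · exact hnC (by simpa using hi)
    · exact hnC (by
        have h := mul_mem hn3 (inv_mem hi)
        rwa [pow_succ' n 2, mul_inv_cancel_right] at h)
  have hgen : ∀ k ∈ N, ∃ i : Fin 3, (n ^ (i : ℕ))⁻¹ * k ∈ C := by
    intro k hk
    let f : Fin 3 → N ⧸ C.subgroupOf N := fun i => ((⟨n, hnN⟩ : N) ^ (i : ℕ) : N)
    have hf : Function.Injective f := fun i j h => by
      have h' := QuotientGroup.eq.1 h
      rw [Subgroup.mem_subgroupOf] at h'
      simp only [Subgroup.coe_mul, Subgroup.coe_inv, SubgroupClass.coe_pow] at h'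
      rcases lt_trichotomy (i : ℕ) (j : ℕ) with hlt | heq | hlt
      · exfalso
        refine hpowC ((j : ℕ) - i) (by omega) (by omega) ?_
        rwa [show n ^ ((j : ℕ) - i) = (n ^ (i : ℕ))⁻¹ * n ^ (j : ℕ) by
          rw [eq_inv_mul_iff_mul_eq, ← pow_add]; congr 1; omega]
      · exact Fin.ext heq
      · exfalso
        refine hpowC ((i : ℕ) - j) (by omega) (by omega) ?_
        have h'' := inv_mem h'
        rw [mul_inv_rev, inv_inv] at h''
        rwa [show n ^ ((i : ℕ) - j) = (n ^ (j : ℕ))⁻¹ * n ^ (i : ℕ) by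
          rw [eq_inv_mul_iff_mul_eq, ← pow_add]; congr 1; omega]
    have hb : Function.Bijective f := by
      refine (Nat.bijective_iff_injective_and_card f).2 ⟨hf, ?_⟩
      rw [Nat.card_fin, ← Subgroup.index_eq_card]
      exact h3.symm
    obtain ⟨i, hi⟩ := hb.2 ((⟨k, hk⟩ : N) : N ⧸ C.subgroupOf N)
    refine ⟨i, ?_⟩
    have h' := QuotientGroup.eq.1 hi
    simpa [Subgroup.mem_subgroupOf] using h'
  -- the coordinates
  have : NeZero (2 ^ m) := ⟨(pow_pos two_pos m).ne'⟩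
  let ι : Mod2 m → G := fun a => ((e.symm (Multiplicative.ofAdd a) : (P : Subgroup G)) : G)
  have hιP : ∀ a, ι a ∈ (P : Subgroup G) := fun a => (e.symm (Multiplicative.ofAdd a)).2
  have hιadd : ∀ a b, ι (a + b) = ι a * ι b := fun a b => by
    simp only [ι, ofAdd_add, map_mul, Subgroup.coe_mul]
  have hι0 : ι 0 = 1 := by simp [ι]
  have hιinj : Function.Injective ι := fun a b h =>
    Multiplicative.ofAdd.injective (e.symm.injective (Subtype.ext h))
  have hιsurj : ∀ x ∈ (P : Subgroup G), ∃ a, ι a = x := fun x hx =>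
    ⟨Multiplicative.toAdd (e ⟨x, hx⟩), by simp [ι]⟩
  have hιne : ∀ a, a ≠ 0 → ι a ≠ 1 := fun a ha h => ha (hιinj (h.trans hι0.symm))
  have hι2 : ∀ a, ∃ k, orderOf (ι a) = 2 ^ k := fun a => by
    obtain ⟨k, hk⟩ := IsPGroup.iff_orderOf.1 P.isPGroup' ⟨ι a, hιP a⟩
    exact ⟨k, by rwa [Subgroup.orderOf_mk] at hk⟩
  have hconjP : ∀ (i : Fin 3) (x : G), x ∈ (P : Subgroup G) →
      n ^ (i : ℕ) * x * (n ^ (i : ℕ))⁻¹ ∈ (P : Subgroup G) := fun i x hx =>
    (Subgroup.mem_normalizer_iff.1 (pow_mem hnN _) x).1 hx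
  let sf : Fin 3 → Mod2 m → Mod2 m := fun i a =>
    Multiplicative.toAdd (e ⟨n ^ (i : ℕ) * ι a * (n ^ (i : ℕ))⁻¹, hconjP i _ (hιP a)⟩)
  have hsf : ∀ i a, ι (sf i a) = n ^ (i : ℕ) * ι a * (n ^ (i : ℕ))⁻¹ := fun i a => by simp [ι, sf]
  have hsfadd : ∀ i a b, sf i (a + b) = sf i a + sf i b := fun i a b => hιinj (by
    rw [hsf, hιadd, hιadd, hsf, hsf]; group)
  have hsmul : ∀ i j : Fin 3, ∀ a, sf i (sf j a) = sf (i + j) a := fun i j a => hιinj (by
    rw [hsf, hsf, hsf]
    have hdec : n ^ (i : ℕ) * n ^ (j : ℕ) = n ^ ((i + j : Fin 3) : ℕ) * (n ^ 3) ^ (((i : ℕ) + j) / 3) := by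
      rw [← pow_add, ← pow_mul, ← pow_add, Fin.val_add, Nat.mod_add_div]
    have hfix : (n ^ 3) ^ (((i : ℕ) + j) / 3) * ι a * ((n ^ 3) ^ (((i : ℕ) + j) / 3))⁻¹ = ι a :=
      mul_inv_eq_iff_eq_mul.2 (Subgroup.mem_centralizer_iff.1 (pow_mem hn3 _) _ (hιP a)).symm
    calc n ^ (i : ℕ) * (n ^ (j : ℕ) * ι a * (n ^ (j : ℕ))⁻¹) * (n ^ (i : ℕ))⁻¹
        = (n ^ (i : ℕ) * n ^ (j : ℕ)) * ι a * (n ^ (i : ℕ) * n ^ (j : ℕ))⁻¹ := by group
      _ = n ^ ((i + j : Fin 3) : ℕ) *
            ((n ^ 3) ^ (((i : ℕ) + j) / 3) * ι a * ((n ^ 3) ^ (((i : ℕ) + j) / 3))⁻¹) *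
            (n ^ ((i + j : Fin 3) : ℕ))⁻¹ := by rw [hdec]; group
      _ = _ := by rw [hfix])
  have hs0' : ∀ a, sf 0 a = a := fun a => hιinj (by rw [hsf]; simp)
  let s : Fin 3 → (Mod2 m ≃+ Mod2 m) := fun i =>
    { toFun := sf i
      invFun := sf (-i)
      left_inv := fun a => by rw [hsmul, neg_add_cancel, hs0']
      right_inv := fun a => by rw [hsmul, add_neg_cancel, hs0']
      map_add' := hsfadd i }
  have hs : ∀ i a, s i a = sf i a := fun i a => rfl
  have hfpf : ∀ i : Fin 3, i ≠ 0 → ∀ a, s i a = a → a = 0 := fun i hi a ha => by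
    by_contra h0
    refine hpowC i (Nat.pos_of_ne_zero fun h => hi (Fin.ext h)) i.isLt ?_
    exact mem_centralizer_of_fix e hm1 (pow_mem hnN _) (hιP a) (hιne a h0) (by rw [← hsf, ← hs, ha])
  have hfus : ∀ a b, IsConj (ι a) (ι b) → ∃ i, b = s i a := fun a b h => by
    obtain ⟨g, hg⟩ := isConj_iff.1 h
    obtain ⟨k, hk, hk'⟩ := Sylow.conj_eq_normalizer_conj_of_mem P (ι a) g⁻¹ (hιP a)
      (by rw [inv_inv, hg]; exact hιP b)
    rw [inv_inv, hg] at hk'
    obtain ⟨i, hi⟩ := hgen k⁻¹ (inv_mem hk)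
    refine ⟨i, hιinj ?_⟩
    set c := (n ^ (i : ℕ))⁻¹ * k⁻¹
    have hc : c * ι a * c⁻¹ = ι a :=
      mul_inv_eq_iff_eq_mul.2 (Subgroup.mem_centralizer_iff.1 hi _ (hιP a)).symm
    rw [hs, hsf, hk']
    calc k⁻¹ * ι a * k = n ^ (i : ℕ) * (c * ι a * c⁻¹) * (n ^ (i : ℕ))⁻¹ := by simp only [c]; group
      _ = _ := by rw [hc]
  -- the rows
  let B := {χ : IrrCharacter G // χ ∈ principalBlock M G}
  have := Fintype.ofFinite B
  have hBsum : ∀ F : IrrCharacter G → ℂ, ∑ χ : B, F χ.1 = ∑ᶠ χ ∈ principalBlock M G, F χ := fun F => by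
    rw [finsum_mem_eq_finite_toFinset_sum _ (Set.toFinite _)]
    exact (Finset.sum_subtype (Set.toFinite (principalBlock M G)).toFinset
      (fun χ => Set.Finite.mem_toFinset _) F).symm
  let f : B → Mod2 m → ℂ := fun χ a => (χ.1 : G → ℂ) (ι a)
  set one : B := ⟨trivIrr, one_mem_principalBlock⟩
  have hz := fun (a : Mod2 m) (ha : a ≠ 0) => centralizer_facts e hm1 (hιP a) (hιne a ha)
  have hPcard : Nat.card (P : Subgroup G) = Fintype.card (Mod2 m) := by
    rw [Nat.card_congr e.toEquiv, Nat.card_eq_fintype_card, Fintype.card_multiplicative]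
  have hsec : ∀ (b : Mod2 m), b ≠ 0 → ∀ (x : G) (g y : G), Commute (ι b) y → ¬ 2 ∣ orderOf y →
      (∃ k, orderOf x = 2 ^ k) → g * x * g⁻¹ = ι b * y → g * x * g⁻¹ = ι b := fun b _ x g y hc hy hx h =>
    SectionColumns.conj_eq_of_conj (y := 1) hx (hι2 b) (Commute.one_right x) hc
      (by rw [orderOf_one]; norm_num) hy (by rw [mul_one]; exact h)
  have hcol : ∀ a b, a ≠ 0 → b ≠ 0 → ∑ χ, f χ a * conj (f χ b) =
      (Fintype.card (Mod2 m) : ℂ) * ∑ i, if b = s i a then 1 else 0 := fun a b ha hb => by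
    change ∑ χ : B, (χ.1 : G → ℂ) (ι a) * conj ((χ.1 : G → ℂ) (ι b)) = _
    rw [hBsum fun χ => (χ : G → ℂ) (ι a) * conj ((χ : G → ℂ) (ι b))]
    by_cases hh : ∃ i, b = s i a
    · obtain ⟨i, hi⟩ := hh
      rw [Finset.sum_eq_single i, if_pos hi, mul_one]
      · have hval : ∀ χ : IrrCharacter G, (χ : G → ℂ) (ι b) = (χ : G → ℂ) (ι a) := fun χ => by
          rw [hi, hs, hsf]; exact Char.irr_isClassFunction χ.2 (ι a) (n ^ (i : ℕ))
        simp only [hval]
        obtain ⟨-, h⟩ := principal_section hM (hι2 a) (hz a ha).1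
        rw [h, (hz a ha).2, hPcard]
      · intro j _ hj
        refine if_neg fun h' => hj ?_
        by_contra hne
        have h2 : s (j - i) (s i a) = s i a := by
          rw [hs, hs, hsmul, sub_add_cancel, ← hs j, ← h', hi, hs]
        refine ha ?_
        have := hfpf (j - i) (sub_ne_zero.2 hne) _ h2
        exact (s i).map_eq_zero_iff.1 this
      · intro h; exact absurd (Finset.mem_univ i) h
    · rw [Finset.sum_eq_zero fun i _ => if_neg fun h' => hh ⟨i, h'⟩, mul_zero]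
      refine SectionColumns.sum_principal_eq_zero hM (hι2 b) (hz b hb).1
        (fun χ => (χ : G → ℂ) (ι a)) fun y hy hyr => ?_
      rw [Char.column_orthogonality, if_neg fun hc => hh ?_]
      obtain ⟨g, hg⟩ := isConj_iff.1 hc
      exact hfus a b (isConj_iff.2 ⟨g, hsec b hb _ g y hy hyr (hι2 a) hg⟩)
  have hcol1 : ∀ b, b ≠ 0 → ∑ χ, f χ 0 * conj (f χ b) = 0 := fun b hb => by
    change ∑ χ : B, (χ.1 : G → ℂ) (ι 0) * conj ((χ.1 : G → ℂ) (ι b)) = _
    rw [hBsum fun χ => (χ : G → ℂ) (ι 0) * conj ((χ : G → ℂ) (ι b))]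
    refine SectionColumns.sum_principal_eq_zero hM (hι2 b) (hz b hb).1
      (fun χ => (χ : G → ℂ) (ι 0)) fun y hy hyr => ?_
    rw [Char.column_orthogonality, if_neg fun hc => hιne b hb ?_]
    obtain ⟨g, hg⟩ := isConj_iff.1 hc
    rw [← hsec b hb _ g y hy hyr (hι2 0) hg, hι0, mul_one, mul_inv_cancel]
  have hint : ∀ (χ : B) (ψ : AddChar (Mod2 m) ℂ),
      ∃ k : ℤ, ∑ a, f χ a * ψ (-a) = (Fintype.card (Mod2 m) : ℂ) * k := fun χ ψ => by
    let H := Multiplicative (Mod2 m)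
    let r : H →* G := ((P : Subgroup G).subtype).comp e.symm.toMonoidHom
    have hF : IsCharacter H (fun h => (χ.1 : G → ℂ) (r h)) := by
      obtain ⟨d, ρ, hρ, hρχ⟩ := χ.1.2
      exact ⟨d, ρ.comp r, by funext h; rw [← hρχ]; rfl⟩
    let lam : H →* ℂˣ := ψ.toMonoidHom.toHomUnits
    obtain ⟨k, hk⟩ := Char.classInner_isCharacter_nat hF
      (Char.irr_isCharacter (Char.isIrrCharacter_linear lam))
    refine ⟨k, ?_⟩
    rw [Char.classInner_def, inv_mul_eq_iff_eq_mul₀ (Nat.cast_ne_zero.2 Nat.card_pos.ne'),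
      Nat.card_eq_fintype_card, Fintype.card_multiplicative] at hk
    rw [Int.cast_natCast, ← hk]
    refine Fintype.sum_equiv Multiplicative.ofAdd _ _ fun a => ?_
    congr 1
    exact AddChar.map_neg_eq_conj ψ a
  have hdeg : ∀ χ : B, ∃ d : ℕ, 0 < d ∧ f χ 0 = d := fun χ =>
    ⟨_, BlockB.irr_degree_pos χ.1, by simp only [f, hι0]; exact (BlockB.irr_degree_cast χ.1).symm⟩
  let u : Mod2 m := (((2 ^ (m - 1) : ℕ) : ZMod (2 ^ m)), 0)
  let v : Mod2 m := (1, 0)
  have hu2 : u + u = 0 := by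
    simp only [u, Prod.mk_add_mk, add_zero, Prod.mk_eq_zero, and_true]
    rw [← Nat.cast_add, ← two_mul, ← pow_succ', Nat.sub_add_cancel hm1, ZMod.natCast_self]
  have hu0 : u ≠ 0 := fun h => by
    simp only [u, Prod.mk_eq_zero, and_true, ZMod.natCast_eq_zero_iff] at h
    rw [Nat.pow_dvd_pow_iff_le_right (by norm_num)] at h
    omega
  have hv2 : v + v ≠ 0 := fun h => by
    simp only [v, Prod.mk_add_mk, add_zero, Prod.mk_eq_zero, and_true] at h
    have h' : ((2 : ℕ) : ZMod (2 ^ m)) = 0 := by rw [← h]; norm_num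
    rw [ZMod.natCast_eq_zero_iff] at h'
    have := Nat.le_of_dvd two_pos h'
    have : 2 ^ 2 ≤ 2 ^ m := Nat.pow_le_pow_right two_pos hm
    omega
  have hv0 : v ≠ 0 := fun h => hv2 (by rw [h, add_zero])
  have hinv : ∀ y : G, Commute (ι v) y → ¬ 2 ∣ orderOf y → ∀ t : G,
      ¬ IsConj (ι u * (t * ι u * t⁻¹)) (ι v * y) := by
    intro y hy hyr t hc
    obtain ⟨g, hg⟩ := isConj_iff.1 hc
    have huu : ι u * ι u = 1 := by rw [← hιadd, hu2, hι0]
    have hui : (ι u)⁻¹ = ι u := inv_eq_of_mul_eq_one_right huu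
    set w := ι u * (t * ι u * t⁻¹)
    have hwinv : ι u * w * (ι u)⁻¹ = w⁻¹ := by
      simp only [w]
      rw [mul_inv_rev, ← mul_assoc (ι u) (ι u), huu, one_mul, show (t * ι u * t⁻¹)⁻¹ = t * (ι u)⁻¹ * t⁻¹ by group,
        hui]
    set k := g * ι u * g⁻¹
    have hk : k * (ι v * y) * k⁻¹ = (ι v)⁻¹ * y⁻¹ := by
      simp only [k]
      rw [← hg]
      calc g * ι u * g⁻¹ * (g * w * g⁻¹) * (g * ι u * g⁻¹)⁻¹
          = g * (ι u * w * (ι u)⁻¹) * g⁻¹ := by group
        _ = (g * w * g⁻¹)⁻¹ := by rw [hwinv]; group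
        _ = (ι v)⁻¹ * y⁻¹ := by rw [hg, hy.eq, mul_inv_rev]
    have hvi : (ι v)⁻¹ = ι (-v) := inv_eq_of_mul_eq_one_right (by rw [← hιadd, add_neg_cancel, hι0])
    have h := SectionColumns.conj_eq_of_conj (hι2 v) (hvi ▸ hι2 (-v)) hy hy.inv_inv hyr
      (by rwa [orderOf_inv]) hk
    obtain ⟨i, hi⟩ := hfus v (-v) (isConj_iff.2 ⟨k, h.trans hvi⟩)
    by_cases hi0 : i = 0
    · rw [hi0, hs, hs0'] at hi
      exact hv2 (by nth_rewrite 1 [← hi]; exact neg_add_cancel v)
    · have h2 : s (i + i) v = v := by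
        rw [hs, ← hsmul, ← hs i v, ← hi, ← hs, map_neg, ← hi, neg_neg]
      refine hv0 (hfpf (i + i) ?_ v h2)
      exact (by decide : ∀ j : Fin 3, j ≠ 0 → j + j ≠ 0) i hi0
  have hzero : ∑ χ, f χ u * f χ u * conj (f χ v) / f χ 0 = 0 := by
    change ∑ χ : B, (χ.1 : G → ℂ) (ι u) * (χ.1 : G → ℂ) (ι u) * conj ((χ.1 : G → ℂ) (ι v)) /
      (χ.1 : G → ℂ) (ι 0) = 0
    rw [hBsum fun χ => (χ : G → ℂ) (ι u) * (χ : G → ℂ) (ι u) * conj ((χ : G → ℂ) (ι v)) / (χ : G → ℂ) (ι 0),
      hι0]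
    simp only [mul_div_right_comm _ (conj _)]
    refine SectionColumns.sum_principal_eq_zero hM (hι2 v) (hz v hv0).1
      (fun χ => (χ : G → ℂ) (ι u) * (χ : G → ℂ) (ι u) / (χ : G → ℂ) 1) fun y hy hyr => ?_
    apply mul_left_cancel₀ (Nat.cast_ne_zero.2 Nat.card_pos.ne' : (Nat.card G : ℂ) ≠ 0)
    rw [mul_zero, Finset.mul_sum, Finset.sum_congr rfl (g := fun χ : IrrCharacter G =>
      ∑ t : G, (χ : G → ℂ) (ι u * (t * ι u * t⁻¹)) * conj ((χ : G → ℂ) (ι v * y))) fun χ _ => by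
        rw [← Finset.sum_mul, BlockB.sum_irr_mul_conj]; ring, Finset.sum_comm]
    refine Finset.sum_eq_zero fun t _ => ?_
    rw [Char.column_orthogonality, if_neg (hinv y hy hyr t)]
  have h16 : 16 ∣ Fintype.card (Mod2 m) := by
    rw [Fintype.card_prod, ZMod.card]
    exact (show 16 = 4 * 4 from rfl) ▸ mul_dvd_mul (pow_dvd_pow 2 hm) (pow_dvd_pow 2 hm)
  obtain ⟨χ, hχne, hχ1, hχP⟩ := HomocyclicRows.exists_linear s (fun a => by rw [hs, hs0'])
    (fun i j a => by rw [hs, hs, hs, hsmul]) hfpf h16 f one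
    (fun a => rfl) hint hdeg hcol hcol1 hu2 hv2 hu0 hzero
  -- the kernel of the linear character
  simp only [f, hι0] at hχ1
  obtain ⟨lam, hlam⟩ := Char.exists_hom_of_degree_one (Char.irr_isCharacter χ.1.2) hχ1
  set K := lam.ker with hKdef
  have hval : ∀ g, (χ.1 : G → ℂ) g = 1 → g ∈ K := fun g hg => by
    rw [hlam] at hg
    exact MonoidHom.mem_ker.2 (Units.ext hg)
  have hPK : (P : Subgroup G) ≤ K := fun x hx => by
    obtain ⟨a, rfl⟩ := hιsurj x hx
    rcases eq_or_ne a 0 with rfl | ha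
    · rw [hι0]; exact one_mem K
    · exact hval _ (hχP a ha)
  have hKtop : K ≠ ⊤ := fun h => hχne (Subtype.ext (Subtype.ext (funext fun g => by
    rw [hlam]
    have hg : g ∈ K := h ▸ Subgroup.mem_top g
    simp only [MonoidHom.mem_ker.1 hg, Units.val_one]
    rfl)))
  obtain ⟨a₁, ha₁⟩ : ∃ a : Mod2 m, a ≠ 0 := ⟨v, hv0⟩
  have hCK : C ≤ K := by
    intro c hc
    have h2 : (2 : ℕ) ∣ 2 := dvd_rfl
    set o := orderOf c with ho
    have ho0 : o ≠ 0 := (orderOf_pos c).ne'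
    set A := 2 ^ o.factorization 2 with hA
    set B' := o / 2 ^ o.factorization 2 with hB'
    have hAB : A * B' = o := Nat.ordProj_mul_ordCompl_eq_self o 2
    have h2B : ¬ 2 ∣ B' := Nat.not_dvd_ordCompl Nat.prime_two ho0
    have hodd : c ^ A ∈ K := by
      have hyr : ¬ 2 ∣ orderOf (c ^ A) := fun h => h2B (h.trans (orderOf_dvd_of_pow_eq_one (by
        rw [← pow_mul, hAB, ho, pow_orderOf_eq_one])))
      have hcomm : Commute (ι a₁) (c ^ A) :=
        Commute.pow_right (Subgroup.mem_centralizer_iff.1 hc _ (hιP a₁)) A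
      have h := (principal_section hM (hι2 a₁) (hz a₁ ha₁).1).1 χ.1 χ.2 _ hcomm hyr
      rw [hlam] at h
      simp only [map_mul, Units.val_mul] at h
      exact MonoidHom.mem_ker.2 (Units.ext ((mul_eq_left₀ (lam (ι a₁)).ne_zero).1 h))
    have htwo : c ^ B' ∈ K := by
      refine hPK (mem_of_mem_centralizer (pow_mem hc _) ?_)
      obtain ⟨k, -, hk⟩ := (Nat.dvd_prime_pow Nat.prime_two).1
        (orderOf_dvd_of_pow_eq_one (show (c ^ B') ^ A = 1 by
          rw [← pow_mul, mul_comm, hAB, ho, pow_orderOf_eq_one]))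
      exact ⟨k, hk⟩
    have hcop : A.Coprime B' := Nat.coprime_ordCompl Nat.prime_two ho0 |>.pow_left _
    refine MonoidHom.mem_ker.2 ?_
    have e1 : lam c ^ A = 1 := by rw [← map_pow]; exact hodd
    have e2 : lam c ^ B' = 1 := by rw [← map_pow]; exact htwo
    have e3 := pow_gcd_eq_one.2 ⟨e1, e2⟩
    rwa [hcop.gcd_eq_one, pow_one] at e3
  have hNK : ¬ N ≤ K := fun h => by
    let PK : Sylow 2 K := P.subtype hPK
    have hsup := Sylow.normalizer_sup_eq_top (N := K) PK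
    rw [show (PK : Subgroup K).map K.subtype = (P : Subgroup G) from Subgroup.map_subgroupOf_eq_of_le hPK] at hsup
    have h' : Subgroup.normalizer (((P : Subgroup G) : Subgroup G) : Set G) ≤ K := h
    exact hKtop (by rwa [sup_eq_right.2 h'] at hsup)
  have hNKC : ∀ k ∈ N, k ∈ K → k ∈ C := by
    intro k hk hkK
    obtain ⟨i, hi⟩ := hgen k hk
    by_contra hkC
    have hi0 : i ≠ 0 := fun h => hkC (by simpa [h] using hi)
    have hniK : n ^ (i : ℕ) ∈ K := by
      have h := mul_mem hkK (inv_mem (hCK hi))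
      simpa using h
    have hnK : n ∈ K := by
      fin_cases i
      · exact absurd rfl hi0
      · simpa using hniK
      · have h := mul_mem (hCK hn3) (inv_mem hniK)
        simp only [Fin.mk_zero, Fin.val_mk] at h
        rwa [pow_succ' n 2, mul_inv_cancel_right] at h
    refine hNK fun k' hk' => ?_
    obtain ⟨j, hj⟩ := hgen k' hk'
    have h := mul_mem (pow_mem hnK (j : ℕ)) (hCK hj)
    rwa [mul_inv_cancel_left] at h
  -- the normal complement inside `K`
  let PK : Sylow 2 K := P.subtype hPK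
  have hPKe : (PK : Subgroup K) = (P : Subgroup G).subgroupOf K := rfl
  have hle : Subgroup.normalizer ((PK : Subgroup K) : Set K) ≤
      Subgroup.centralizer ((PK : Subgroup K) : Set K) := fun k hk => by
    have hkN : (k : G) ∈ N := by
      refine Subgroup.mem_normalizer_iff.2 fun x => ⟨fun hx => ?_, fun hx => ?_⟩
      · exact (Subgroup.mem_normalizer_iff.1 hk ⟨x, hPK hx⟩).1 hx
      · have hxK : x ∈ K := by
          have := mul_mem (mul_mem (inv_mem k.2) (hPK hx)) k.2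
          simpa [mul_assoc] using this
        exact (Subgroup.mem_normalizer_iff.1 hk ⟨x, hxK⟩).2 hx
    have hkC := hNKC _ hkN k.2
    exact Subgroup.mem_centralizer_iff.2 fun w hw => Subtype.ext (Subgroup.mem_centralizer_iff.1 hkC w hw)
  have hcompl := MonoidHom.ker_transferSylow_isComplement' PK hle
  set H := (MonoidHom.transferSylow PK hle).ker
  have hHn : H.Normal := MonoidHom.normal_ker _
  have hHodd : Odd (Nat.card H) := by
    rw [← hcompl.index_eq_card, Nat.odd_iff]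
    have := PK.not_dvd_index
    omega
  have hmemH : ∀ k : K, ¬ 2 ∣ orderOf k → k ∈ H := fun k hk => by
    refine MonoidHom.mem_ker.2 (orderOf_eq_one_iff.1 ?_)
    obtain ⟨a, ha⟩ := IsPGroup.iff_orderOf.1 PK.isPGroup' (MonoidHom.transferSylow PK hle k)
    have hd := orderOf_map_dvd (MonoidHom.transferSylow PK hle) k
    rw [ha] at hd ⊢
    by_contra hne
    exact hk ((dvd_pow_self 2 fun h => hne (by rw [h, pow_zero])).trans hd)
  have hHG : (H.map K.subtype).Normal := ⟨fun x hx g => by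
    obtain ⟨h, hh, rfl⟩ := Subgroup.mem_map.1 hx
    have hgK : g * (h : G) * g⁻¹ ∈ K := (MonoidHom.normal_ker lam).conj_mem _ h.2 g
    refine Subgroup.mem_map.2 ⟨⟨_, hgK⟩, hmemH _ ?_, rfl⟩
    rw [Subgroup.orderOf_mk, show orderOf (g * (h : G) * g⁻¹) = orderOf (h : G) from
      orderOf_injective (MulAut.conj g).toMonoidHom (MulAut.conj g).injective _, Subgroup.orderOf_coe]
    intro h2
    have h3 := h2.trans (Subgroup.orderOf_dvd_natCard _ hh)
    rw [Nat.odd_iff] at hHodd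
    omega⟩
  have hH : H = ⊥ := (Subgroup.map_eq_bot_iff_of_injective _ K.subtype_injective).1 (hO _ hHG (by
    rwa [Nat.card_congr (H.equivMapOfInjective _ K.subtype_injective).toEquiv.symm]))
  have hKP : K = (P : Subgroup G) := by
    have h := hcompl.sup_eq_top
    rw [hH, bot_sup_eq, hPKe, Subgroup.subgroupOf_eq_top] at h
    exact le_antisymm h hPK
  have hPn : (P : Subgroup G).Normal := hKP ▸ MonoidHom.normal_ker lam
  have hCP : C = (P : Subgroup G) := le_antisymm (hKP ▸ hCK) hPC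
  refine ⟨hPn, hCP, Or.inr ?_⟩
  have hN : N = ⊤ := Subgroup.normalizer_eq_top_iff.2 hPn
  rw [hN, Subgroup.relIndex_top_right] at h3
  rw [← hCP]; exact h3

end CfsgLib.Block.HomocyclicBrauer
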