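import Mathlib

/-!
The rows of the principal block at a homocyclic Sylow 2-subgroup with an automorphism of order 3 acting
without fixed points: an abstract form of the argument of Brauer.
-/

set_option autoImplicit false
set_option linter.unusedSectionVars false

namespace CfsgLib.Block.HomocyclicRows

open scoped ComplexConjugate

/-- At least five 3-sets meeting pairwise in 2 points have a common core. -/
theorem exists_core {ι : Type*} [DecidableEq ι] (S : Finset (Finset ι)) (h5 : 5 ≤ S.card)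
    (h3 : ∀ A ∈ S, A.card = 3) (h2 : ∀ A ∈ S, ∀ B ∈ S, A ≠ B → (A ∩ B).card = 2) :
    ∃ a b : ι, a ≠ b ∧ ∀ A ∈ S, a ∈ A ∧ b ∈ A := by
  obtain ⟨A, hA, B, hB, hAB⟩ := Finset.one_lt_card.1 (show 1 < S.card by omega)
  set C := A ∩ B with hC
  have hC2 : C.card = 2 := h2 A hA B hB hAB
  obtain ⟨a, b, hab, hCab⟩ := Finset.card_eq_two.1 hC2
  refine ⟨a, b, hab, fun D hD => ?_⟩
  suffices h : C ⊆ D by exact ⟨h (by simp [hCab]), h (by simp [hCab])⟩
  by_contra hCD
  have hDA : D ≠ A := fun h => hCD (h ▸ Finset.inter_subset_left)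
  have hDB : D ≠ B := fun h => hCD (h ▸ Finset.inter_subset_right)
  -- every further set is one of four
  obtain ⟨a', ha'⟩ := Finset.card_eq_one.1 (show (A \ C).card = 1 by
    rw [Finset.card_sdiff_of_subset Finset.inter_subset_left, h3 A hA, hC2])
  obtain ⟨b', hb'⟩ := Finset.card_eq_one.1 (show (B \ C).card = 1 by
    rw [Finset.card_sdiff_of_subset Finset.inter_subset_right, h3 B hB, hC2])
  have ha'A : a' ∈ A \ C := ha' ▸ Finset.mem_singleton_self a'
  have hb'B : b' ∈ B \ C := hb' ▸ Finset.mem_singleton_self b'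
  rw [Finset.mem_sdiff] at ha'A hb'B
  have hab' : a' ≠ b' := fun h => ha'A.2 (Finset.mem_inter.2 ⟨ha'A.1, h ▸ hb'B.1⟩)
  -- a set without the core is `{a', b', c}`
  have hshape : ∀ E ∈ S, ¬ C ⊆ E → ∃ c ∈ C, E = {a', b', c} := by
    intro E hE hCE
    have hEA : E ≠ A := fun h => hCE (h ▸ Finset.inter_subset_left)
    have hEB : E ≠ B := fun h => hCE (h ▸ Finset.inter_subset_right)
    have hmem : ∀ (T : Finset ι) (t : ι), T ∈ S → E ≠ T → C ⊆ T → T \ C = {t} → t ∈ E := by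
      intro T t hT hne hCT hTt
      by_contra htE
      have hsub : E ∩ T ⊆ C := fun y hy => by
        rw [Finset.mem_inter] at hy
        by_contra hyC
        have h' : y ∈ T \ C := Finset.mem_sdiff.2 ⟨hy.2, hyC⟩
        rw [hTt, Finset.mem_singleton] at h'
        exact htE (h' ▸ hy.1)
      have heq : E ∩ T = C := Finset.eq_of_subset_of_card_le hsub (by rw [h2 E hE T hT hne, hC2])
      exact hCE (heq ▸ Finset.inter_subset_left)
    have haE := hmem A a' hA hEA Finset.inter_subset_left ha'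
    have hbE := hmem B b' hB hEB Finset.inter_subset_right hb'
    have hEa : (E ∩ A).card = 2 := h2 E hE A hA hEA
    obtain ⟨c, hc, hca⟩ := Finset.exists_mem_ne (by omega : 1 < (E ∩ A).card) a'
    rw [Finset.mem_inter] at hc
    have hcC : c ∈ C := by
      by_contra hcC
      have h' : c ∈ A \ C := Finset.mem_sdiff.2 ⟨hc.2, hcC⟩
      rw [ha', Finset.mem_singleton] at h'
      exact hca h'
    refine ⟨c, hcC, (Finset.eq_of_subset_of_card_le ?_ ?_).symm⟩
    · intro y hy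
      simp only [Finset.mem_insert, Finset.mem_singleton] at hy
      rcases hy with rfl | rfl | rfl
      · exact haE
      · exact hbE
      · exact hc.1
    · rw [h3 E hE, Finset.card_insert_of_notMem, Finset.card_pair]
      · exact fun h => hb'B.2 (h ▸ hcC)
      · simp only [Finset.mem_insert, Finset.mem_singleton, not_or]
        exact ⟨hab', fun h => ha'A.2 (h ▸ hcC)⟩
  obtain ⟨c₀, hc₀, hDeq⟩ := hshape D hD hCD
  -- sets with the core
  have hcore : ∀ E ∈ S, C ⊆ E → E = A ∨ E = B := by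
    intro E hE hCE
    have hne : E ≠ D := fun h => hCD (h ▸ hCE)
    have h := h2 E hE D hD hne
    by_contra hcon
    push Not at hcon
    have hnot : ∀ (T : Finset ι) (t : ι), T ∈ S → E ≠ T → C ⊆ T → t ∈ T → t ∉ C → t ∉ E := by
      intro T t hT hne hCT htT htC htE
      have : C ∪ {t} ⊆ E ∩ T := Finset.union_subset (Finset.subset_inter hCE hCT)
        (Finset.singleton_subset_iff.2 (Finset.mem_inter.2 ⟨htE, htT⟩))
      have h' := Finset.card_le_card this
      rw [Finset.card_union_of_disjoint (by simpa using htC), hC2, Finset.card_singleton,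
        h2 E hE T hT hne] at h'
      omega
    have haE := hnot A a' hA hcon.1 Finset.inter_subset_left ha'A.1 ha'A.2
    have hbE := hnot B b' hB hcon.2 Finset.inter_subset_right hb'B.1 hb'B.2
    have hsub : E ∩ D ⊆ {c₀} := fun y hy => by
      rw [Finset.mem_inter, hDeq] at hy
      simp only [Finset.mem_insert, Finset.mem_singleton] at hy ⊢
      rcases hy.2 with rfl | rfl | rfl
      · exact absurd hy.1 haE
      · exact absurd hy.1 hbE
      · rfl
    have := Finset.card_le_card hsub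
    rw [Finset.card_singleton, h] at this
    omega
  have hall : S ⊆ {A, B} ∪ C.image fun c => ({a', b', c} : Finset ι) := fun E hE => by
    by_cases hCE : C ⊆ E
    · rcases hcore E hE hCE with rfl | rfl <;> simp
    · obtain ⟨c, hc, rfl⟩ := hshape E hE hCE
      exact Finset.mem_union_right _ (Finset.mem_image_of_mem _ hc)
  have h4 := (Finset.card_le_card hall).trans ((Finset.card_union_le _ _).trans
    (add_le_add (Finset.card_insert_le _ _) Finset.card_image_le))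
  rw [Finset.card_singleton, hC2] at h4
  omega

/-- An integer with square at most 3. -/
theorem abs_le_one_of_mul_self_le {n : ℤ} (h : n * n ≤ 3) : n = 0 ∨ n = 1 ∨ n = -1 := by
  have h1 : n < 2 := by nlinarith
  have h2 : -2 < n := by nlinarith
  omega

/-- The degree equation has no large solution. -/
theorem degree_arith {x y w : ℕ} {e₂ e₃ η : ℤ} (hx : 15 ≤ x) (hy : 15 ≤ y) (hw : 0 < w)
    (he₂ : e₂ = 1 ∨ e₂ = -1) (he₃ : e₃ = 1 ∨ e₃ = -1) (hη : η = 1 ∨ η = -1)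
    (hdeg : η * w = 1 + e₂ * x + e₃ * y) (hmod : (16 : ℤ) ∣ 1 + e₂ * x + e₃ * y - 3)
    (heq : (1 : ℚ) + e₂ / x + e₃ / y - 9 * η / w = 0) : False := by
  have hxq : (15 : ℚ) ≤ x := by exact_mod_cast hx
  have hyq : (15 : ℚ) ≤ y := by exact_mod_cast hy
  have hwq : (0 : ℚ) < w := by exact_mod_cast hw
  have hb : ∀ (e : ℤ) (t : ℚ), (e = 1 ∨ e = -1) → 15 ≤ t → -(1/15 : ℚ) ≤ e / t ∧ (e : ℚ) / t ≤ 1/15 := by
    intro e t he ht
    have h1 : (1 : ℚ) / t ≤ 1 / 15 := one_div_le_one_div_of_le (by norm_num) ht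
    have h2 : (0 : ℚ) < 1 / t := by positivity
    rcases he with rfl | rfl <;> constructor <;> push_cast <;> (try rw [neg_div]) <;> linarith
  have b1 := hb e₂ x he₂ hxq
  have b2 := hb e₃ y he₃ hyq
  rcases hη with rfl | rfl
  · push_cast at heq
    have hlo : (13/15 : ℚ) ≤ 9 / w := by linarith [b1.1, b2.1]
    have hhi : (9 : ℚ) / w ≤ 17/15 := by linarith [b1.2, b2.2]
    rw [le_div_iff₀ hwq] at hlo
    rw [div_le_iff₀ hwq] at hhi
    have h1 : (w : ℚ) < 11 := by linarith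
    have h2 : (7 : ℚ) < w := by linarith
    have h1' : w < 11 := by exact_mod_cast h1
    have h2' : 7 < w := by exact_mod_cast h2
    omega
  · push_cast at heq
    have : (0 : ℚ) < 9 / w := by positivity
    have h' : (9 : ℚ) * -1 / w = -(9 / w) := by ring
    linarith [b1.1, b2.1]

variable {A : Type*} [AddCommGroup A] [Fintype A] [DecidableEq A] {ι : Type*} [Fintype ι]

/-- The principal block contains a further linear character. -/
theorem exists_linear (s : Fin 3 → (A ≃+ A)) (hs0 : ∀ a, s 0 a = a)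
    (hsmul : ∀ i j : Fin 3, ∀ a, s i (s j a) = s (i + j) a)
    (hfpf : ∀ i : Fin 3, i ≠ 0 → ∀ a, s i a = a → a = 0)
    (h16 : 16 ∣ Fintype.card A) (f : ι → A → ℂ) (one : ι) (hone : ∀ a, f one a = 1)
    (hint : ∀ (χ : ι) (ψ : AddChar A ℂ), ∃ k : ℤ, ∑ a, f χ a * ψ (-a) = (Fintype.card A : ℂ) * k)
    (hdeg : ∀ χ, ∃ d : ℕ, 0 < d ∧ f χ 0 = d)
    (hcol : ∀ a b, a ≠ 0 → b ≠ 0 → ∑ χ, f χ a * conj (f χ b) =
      (Fintype.card A : ℂ) * ∑ i, if b = s i a then 1 else 0)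
    (hcol1 : ∀ b, b ≠ 0 → ∑ χ, f χ 0 * conj (f χ b) = 0)
    {u v : A} (hu : u + u = 0) (hv : v + v ≠ 0) (hu0 : u ≠ 0)
    (hzero : ∑ χ, f χ u * f χ u * conj (f χ v) / f χ 0 = 0) :
    ∃ χ, χ ≠ one ∧ f χ 0 = 1 ∧ ∀ a, a ≠ 0 → f χ a = 1 := by
  classical
  have hv0 : v ≠ 0 := fun h => hv (by rw [h, add_zero])
  set N := Fintype.card A with hN
  have hN0 : (N : ℂ) ≠ 0 := Nat.cast_ne_zero.2 Fintype.card_ne_zero
  have horth : ∀ a : A, ∑ ψ : AddChar A ℂ, ψ a = if a = 0 then (N : ℂ) else 0 := fun a =>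
    AddChar.sum_apply_eq_ite a
  have horth' : ∀ ψ : AddChar A ℂ, ∑ a, ψ a = if ψ = 0 then (N : ℂ) else 0 := fun ψ =>
    AddChar.sum_eq_ite ψ
  have hconj : ∀ (ψ : AddChar A ℂ) (a : A), conj (ψ a) = ψ (-a) := fun ψ a =>
    (AddChar.map_neg_eq_conj ψ a).symm
  choose k hk using hint
  choose d hd0 hd using hdeg
  let c : ι → AddChar A ℂ → ℤ := fun χ ψ => k χ ψ - k χ 0
  have hc : ∀ χ ψ, (N : ℂ) * c χ ψ = ∑ a, f χ a * (ψ (-a) - 1) := fun χ ψ => by
    simp only [c, Int.cast_sub, mul_sub, ← hk, AddChar.zero_apply, Finset.sum_sub_distrib]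
  have hval : ∀ χ a, a ≠ 0 → f χ a = ∑ ψ : AddChar A ℂ, (c χ ψ : ℂ) * ψ a := fun χ a ha => by
    apply mul_left_cancel₀ hN0
    rw [Finset.mul_sum, Finset.sum_congr rfl fun ψ _ => by rw [← mul_assoc, hc, Finset.sum_mul],
      Finset.sum_comm,
      Finset.sum_congr rfl (g := fun b => if b = a then (N : ℂ) * f χ a else 0) fun b _ => ?_,
      Finset.sum_ite_eq', if_pos (Finset.mem_univ a)]
    rw [Finset.sum_congr rfl (g := fun ψ : AddChar A ℂ => f χ b * ψ (-b + a) - f χ b * ψ a) fun ψ _ => by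
      rw [AddChar.map_add_eq_mul]; ring, Finset.sum_sub_distrib, ← Finset.mul_sum, ← Finset.mul_sum,
      horth, horth, if_neg ha, mul_zero, sub_zero]
    by_cases hb : b = a
    · subst hb; rw [if_pos (neg_add_cancel b), if_pos rfl, mul_comm]
    · rw [if_neg fun h => hb (neg_add_eq_zero.1 h), if_neg hb, mul_zero]
  let act : Fin 3 → AddChar A ℂ → AddChar A ℂ := fun i ψ => ψ.compAddMonoidHom (s i).toAddMonoidHom
  have hact : ∀ i ψ a, act i ψ a = ψ (s i a) := fun i ψ a => rfl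
  -- the inner products
  have hgram : ∀ ψ φ : AddChar A ℂ, ψ ≠ 0 → φ ≠ 0 →
      ∑ χ, c χ ψ * c χ φ = 3 + ∑ i, if act i φ = ψ then 1 else 0 := fun ψ φ hψ hφ => by
    apply Int.cast_injective (α := ℂ)
    apply mul_left_cancel₀ (mul_ne_zero hN0 hN0)
    push_cast
    have hconjc : ∀ χ, (N : ℂ) * (c χ φ : ℂ) = ∑ a, conj (f χ a) * (φ a - 1) := fun χ => by
      have h := congrArg conj (hc χ φ)
      rw [map_mul, map_natCast, map_intCast] at h
      rw [h, map_sum]
      exact Finset.sum_congr rfl fun a _ => by rw [map_mul, map_sub, map_one, hconj, neg_neg]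
    rw [Finset.mul_sum, Finset.sum_congr rfl (g := fun χ =>
      ∑ a, ∑ b, (ψ (-a) - 1) * (φ b - 1) * (f χ a * conj (f χ b))) fun χ _ => by
        rw [show (N : ℂ) * N * ((c χ ψ : ℂ) * c χ φ) = ((N : ℂ) * c χ ψ) * ((N : ℂ) * c χ φ) by ring,
          hc, hconjc, Finset.sum_mul_sum]
        exact Finset.sum_congr rfl fun a _ => Finset.sum_congr rfl fun b _ => by ring,
      Finset.sum_comm, Finset.sum_congr rfl fun a _ => Finset.sum_comm]
    simp only [← Finset.mul_sum]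
    rw [Finset.sum_congr rfl (g := fun a => (N : ℂ) * ∑ i, (ψ (-a) - 1) * (φ (s i a) - 1)) fun a _ => ?_]
    · rw [← Finset.mul_sum, Finset.sum_comm, mul_assoc]
      congr 1
      rw [mul_add, Finset.mul_sum,
        show (N : ℂ) * 3 = ∑ _i : Fin 3, (N : ℂ) by
          simp only [Finset.sum_const, Finset.card_univ, Fintype.card_fin, nsmul_eq_mul]; push_cast; ring,
        ← Finset.sum_add_distrib]
      refine Finset.sum_congr rfl fun i _ => ?_
      rw [Finset.sum_congr rfl (g := fun a => (act i φ - ψ) a - (-ψ) a - act i φ a + 1) fun a _ => by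
          rw [AddChar.sub_apply', AddChar.neg_apply, hact, AddChar.map_neg_eq_inv]; ring,
        Finset.sum_add_distrib, Finset.sum_sub_distrib, Finset.sum_sub_distrib, horth', horth', horth',
        if_neg (neg_ne_zero.2 hψ), if_neg (show act i φ ≠ 0 from fun h => hφ (by
          refine DFunLike.ext _ _ fun a => ?_
          have h' := DFunLike.congr_fun h ((s i).symm a)
          rwa [hact, AddEquiv.apply_symm_apply] at h')),
        Finset.sum_const, Finset.card_univ, nsmul_eq_mul, mul_one]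
      by_cases h : act i φ = ψ
      · rw [if_pos (sub_eq_zero.2 h), if_pos h]; ring
      · rw [if_neg (sub_ne_zero.2 h), if_neg h]; ring
    · by_cases ha : a = 0
      · subst ha; simp
      rw [Finset.sum_congr rfl (g := fun b => (ψ (-a) - 1) * (φ b - 1) *
        ((N : ℂ) * ∑ i, if b = s i a then 1 else 0)) fun b _ => ?_]
      · simp only [Finset.mul_sum, mul_ite, mul_one, mul_zero]
        rw [Finset.sum_comm]
        refine Finset.sum_congr rfl fun i _ => ?_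
        rw [Finset.sum_ite_eq' Finset.univ (s i a), if_pos (Finset.mem_univ _)]
        ring
      · by_cases hb : b = 0
        · subst hb; simp
        rw [hcol a b ha hb]
  have hone_c : ∀ ψ : AddChar A ℂ, ψ ≠ 0 → c one ψ = -1 := fun ψ hψ => by
    apply Int.cast_injective (α := ℂ)
    apply mul_left_cancel₀ hN0
    rw [hc, Finset.sum_congr rfl (g := fun a => (-ψ) a - 1) fun a _ => by
        rw [hone, one_mul, AddChar.neg_apply],
      Finset.sum_sub_distrib, horth', if_neg (neg_ne_zero.2 hψ), Finset.sum_const, Finset.card_univ]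
    simp [N]
  have hdistinct : ∀ (φ : AddChar A ℂ), φ ≠ 0 → ∀ i j, act i φ = act j φ → i = j := fun φ hφ i j h => by
    by_contra hij
    refine hφ (DFunLike.ext _ _ fun a => ?_)
    obtain ⟨b, rfl⟩ : ∃ b, s (i - j) b - b = a :=
      (Finite.injective_iff_surjective (f := fun b => s (i - j) b - b)).1 (fun b b' he => by
        refine sub_eq_zero.1 (hfpf (i - j) (sub_ne_zero.2 hij) _ ?_)
        rw [map_sub]
        exact sub_eq_sub_iff_sub_eq_sub.1 he) a
    have h' := DFunLike.congr_fun h (s (-j) b)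
    rw [hact, hact, hsmul, hsmul, ← sub_eq_add_neg, add_neg_cancel, hs0] at h'
    rw [AddChar.map_sub_eq_div, h', div_self (AddChar.val_isUnit φ b).ne_zero, AddChar.zero_apply]
  set Λ := (Finset.univ : Finset (AddChar A ℂ)).erase 0 with hΛ
  have hmemΛ : ∀ {ψ}, ψ ∈ Λ ↔ ψ ≠ 0 := fun {ψ} => by simp [hΛ]
  have hact0 : ∀ i φ, φ ≠ 0 → act i φ ≠ 0 := fun i φ hφ h => hφ (DFunLike.ext _ _ fun a => by
    have h' := DFunLike.congr_fun h ((s i).symm a)
    rwa [hact, AddEquiv.apply_symm_apply] at h')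
  have hinner : ∀ ψ φ : AddChar A ℂ, ψ ≠ 0 → φ ≠ 0 →
      ∑ χ ∈ Finset.univ.erase one, c χ ψ * c χ φ = 2 + if ∃ i, act i φ = ψ then 1 else 0 :=
    fun ψ φ hψ hφ => by
    rw [Finset.sum_erase_eq_sub (Finset.mem_univ _), hgram ψ φ hψ hφ, hone_c ψ hψ, hone_c φ hφ]
    by_cases h : ∃ i, act i φ = ψ
    · obtain ⟨i, hi⟩ := h
      rw [if_pos ⟨i, hi⟩, Finset.sum_eq_single i, if_pos hi]
      · ring
      · intro j _ hj; rw [if_neg fun h' => hj (hdistinct φ hφ j i (h'.trans hi.symm))]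
      · intro h'; exact absurd (Finset.mem_univ i) h'
    · rw [if_neg h, Finset.sum_eq_zero fun i _ => if_neg fun h' => h ⟨i, h'⟩]; ring
  have hself : ∀ ψ : AddChar A ℂ, act 0 ψ = ψ := fun ψ => DFunLike.ext _ _ fun a => by rw [hact, hs0]
  let supp : AddChar A ℂ → Finset ι := fun ψ => (Finset.univ.erase one).filter fun χ => c χ ψ ≠ 0
  have hpm : ∀ ψ, ψ ≠ 0 → ∀ χ ∈ supp ψ, c χ ψ = 1 ∨ c χ ψ = -1 := fun ψ hψ χ hχ => by
    obtain ⟨hχ1, hne⟩ := Finset.mem_filter.1 hχ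
    have h := hinner ψ ψ hψ hψ
    rw [if_pos ⟨0, hself ψ⟩] at h
    have hle := Finset.single_le_sum (f := fun χ => c χ ψ * c χ ψ) (fun i _ => mul_self_nonneg _) hχ1
    exact (abs_le_one_of_mul_self_le (hle.trans_eq h)).resolve_left hne
  have hcard : ∀ ψ, ψ ≠ 0 → (supp ψ).card = 3 := fun ψ hψ => by
    have h := hinner ψ ψ hψ hψ
    rw [if_pos ⟨0, hself ψ⟩] at h
    have e : ∑ χ ∈ Finset.univ.erase one, c χ ψ * c χ ψ = ∑ _χ ∈ supp ψ, (1 : ℤ) := by
      rw [Finset.sum_filter]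
      refine Finset.sum_congr rfl fun χ hχ => ?_
      split_ifs with h0
      · rcases hpm ψ hψ χ (Finset.mem_filter.2 ⟨hχ, h0⟩) with e | e <;> simp [e]
      · rw [not_not.1 h0, mul_zero]
    rw [e, Finset.sum_const, nsmul_eq_mul, mul_one] at h
    exact_mod_cast h
  have hsame : ∀ ψ φ, ψ ≠ 0 → φ ≠ 0 → (∃ i, act i φ = ψ) → ∀ χ, c χ φ = c χ ψ := fun ψ φ hψ hφ hh χ => by
    rcases eq_or_ne χ one with rfl | hχ
    · rw [hone_c ψ hψ, hone_c φ hφ]
    have h1 := hinner ψ ψ hψ hψ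
    have h2 := hinner φ φ hφ hφ
    have h3 := hinner ψ φ hψ hφ
    rw [if_pos ⟨0, hself ψ⟩] at h1
    rw [if_pos ⟨0, hself φ⟩] at h2
    rw [if_pos hh] at h3
    have h0 : ∑ χ ∈ Finset.univ.erase one, (c χ φ - c χ ψ) * (c χ φ - c χ ψ) = 0 := by
      rw [Finset.sum_congr rfl (g := fun χ => c χ φ * c χ φ + c χ ψ * c χ ψ - 2 * (c χ ψ * c χ φ))
        fun χ _ => by ring, Finset.sum_sub_distrib, Finset.sum_add_distrib, ← Finset.mul_sum, h1, h2, h3]
      norm_num
    rw [Finset.sum_eq_zero_iff_of_nonneg fun i _ => mul_self_nonneg _] at h0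
    exact sub_eq_zero.1 (mul_self_eq_zero.1 (h0 χ (Finset.mem_erase.2 ⟨hχ, Finset.mem_univ χ⟩)))
  have hdiff : ∀ ψ φ, ψ ≠ 0 → φ ≠ 0 → (¬ ∃ i, act i φ = ψ) →
      (supp ψ ∩ supp φ).card = 2 ∧ ∀ χ ∈ supp ψ ∩ supp φ, c χ ψ = c χ φ := fun ψ φ hψ hφ hh => by
    have h := hinner ψ φ hψ hφ
    rw [if_neg hh, add_zero] at h
    set I := supp ψ ∩ supp φ
    have e : ∑ χ ∈ Finset.univ.erase one, c χ ψ * c χ φ = ∑ χ ∈ I, c χ ψ * c χ φ := by
      refine (Finset.sum_subset (fun χ hχ => (Finset.mem_filter.1 (Finset.mem_inter.1 hχ).1).1) ?_).symm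
      intro χ hχ hχI
      by_contra h0
      exact hχI (Finset.mem_inter.2 ⟨Finset.mem_filter.2 ⟨hχ, left_ne_zero_of_mul h0⟩,
        Finset.mem_filter.2 ⟨hχ, right_ne_zero_of_mul h0⟩⟩)
    rw [e] at h
    have hle : ∀ χ ∈ I, c χ ψ * c χ φ = 1 ∨ c χ ψ * c χ φ = -1 := fun χ hχ => by
      rcases hpm ψ hψ χ (Finset.mem_inter.1 hχ).1 with e1 | e1 <;>
        rcases hpm φ hφ χ (Finset.mem_inter.1 hχ).2 with e2 | e2 <;> simp [e1, e2]
    have hcard3 : I.card ≤ 3 := (Finset.card_le_card Finset.inter_subset_left).trans_eq (hcard ψ hψ)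
    have hge : (2 : ℤ) ≤ I.card := by
      rw [← h]
      exact (Finset.sum_le_card_nsmul _ _ 1 fun χ hχ => by rcases hle χ hχ with e | e <;> omega).trans_eq
        (by simp)
    have heven : (2 : ℤ) ∣ (I.card : ℤ) - ∑ χ ∈ I, c χ ψ * c χ φ := by
      rw [Finset.cast_card, ← Finset.sum_sub_distrib]
      exact Finset.dvd_sum fun χ hχ => by rcases hle χ hχ with e | e <;> rw [e] <;> norm_num
    rw [h] at heven
    have hI : I.card = 2 := by omega
    refine ⟨hI, fun χ hχ => ?_⟩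
    have hall : ∀ χ ∈ I, c χ ψ * c χ φ = 1 := by
      intro χ hχ
      rcases hle χ hχ with e1 | e1
      · exact e1
      · exfalso
        rw [← Finset.add_sum_erase _ _ hχ, e1] at h
        have := (Finset.sum_le_card_nsmul (I.erase χ) (fun χ' => c χ' ψ * c χ' φ) 1 fun χ' hχ' => by
          rcases hle χ' (Finset.mem_of_mem_erase hχ') with e | e <;> omega).trans_eq
          (show (I.erase χ).card • (1 : ℤ) = 1 by rw [Finset.card_erase_of_mem hχ, hI]; rfl)
        omega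
    rcases Int.mul_eq_one_iff_eq_one_or_neg_one.1 (hall χ hχ) with ⟨e1, e2⟩ | ⟨e1, e2⟩ <;> omega
  have hfib : ∀ ψ, ψ ≠ 0 → Λ.filter (fun φ => supp φ = supp ψ) = Finset.univ.image fun i => act i ψ := by
    intro ψ hψ
    refine Finset.ext fun φ => ?_
    simp only [Finset.mem_filter, Finset.mem_image, Finset.mem_univ, true_and, hmemΛ]
    constructor
    · rintro ⟨hφ, he⟩
      by_contra hne
      have h := (hdiff φ ψ hφ hψ (fun ⟨i, hi⟩ => hne ⟨i, hi⟩)).1
      rw [he, Finset.inter_self, hcard ψ hψ] at h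
      omega
    · rintro ⟨i, rfl⟩
      refine ⟨hact0 i ψ hψ, Finset.filter_congr fun χ _ => ?_⟩
      rw [hsame (act i ψ) ψ (hact0 i ψ hψ) hψ ⟨i, rfl⟩ χ]
  set S := Λ.image supp with hS
  have hS5 : 5 ≤ S.card := by
    have h : Λ.card = 3 * S.card := by
      rw [Finset.card_eq_sum_card_image supp Λ, Finset.sum_congr rfl fun T hT => ?_, Finset.sum_const,
        smul_eq_mul, mul_comm]
      obtain ⟨ψ, hψ, rfl⟩ := Finset.mem_image.1 hT
      rw [hfib ψ (hmemΛ.1 hψ), Finset.card_image_of_injective _ (fun i j h => hdistinct ψ (hmemΛ.1 hψ) i j h),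
        Finset.card_univ, Fintype.card_fin]
    rw [hΛ, Finset.card_erase_of_mem (Finset.mem_univ _), Finset.card_univ, AddChar.card_eq] at h
    have := Nat.le_of_dvd Fintype.card_pos h16
    omega
  obtain ⟨a₂, a₃, ha23, hcore⟩ := exists_core S hS5 (fun T hT => by
      obtain ⟨ψ, hψ, rfl⟩ := Finset.mem_image.1 hT; exact hcard ψ (hmemΛ.1 hψ))
    (fun T hT T' hT' hne => by
      obtain ⟨ψ, hψ, rfl⟩ := Finset.mem_image.1 hT
      obtain ⟨φ, hφ, rfl⟩ := Finset.mem_image.1 hT'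
      refine (hdiff ψ φ (hmemΛ.1 hψ) (hmemΛ.1 hφ) ?_).1
      rintro ⟨i, rfl⟩
      refine hne (Finset.filter_congr fun χ _ => ?_)
      rw [hsame (act i φ) φ (hmemΛ.1 hψ) (hmemΛ.1 hφ) ⟨i, rfl⟩ χ])
  have hcoreΛ : ∀ ψ, ψ ≠ 0 → a₂ ∈ supp ψ ∧ a₃ ∈ supp ψ := fun ψ hψ =>
    hcore _ (Finset.mem_image_of_mem _ (hmemΛ.2 hψ))
  obtain ⟨ψ₀, hψ₀⟩ : ∃ ψ : AddChar A ℂ, ψ ≠ 0 := AddChar.exists_apply_ne_zero.2 hu0 |>.imp fun ψ h h0 =>
    h (by rw [h0, AddChar.zero_apply])
  have hconst : ∀ a ∈ ({a₂, a₃} : Finset ι), ∀ ψ, ψ ≠ 0 → c a ψ = c a ψ₀ := fun a ha ψ hψ => by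
    have hm : ∀ φ, φ ≠ 0 → a ∈ supp φ := fun φ hφ => by
      rcases Finset.mem_insert.1 ha with rfl | ha
      · exact (hcoreΛ φ hφ).1
      · rw [Finset.mem_singleton.1 ha]; exact (hcoreΛ φ hφ).2
    by_cases h : ∃ i, act i ψ₀ = ψ
    · exact (hsame ψ ψ₀ hψ hψ₀ h a).symm
    · exact (hdiff ψ ψ₀ hψ hψ₀ h).2 a (Finset.mem_inter.2 ⟨hm ψ hψ, hm ψ₀ hψ₀⟩)
  have hpet : ∀ ψ, ψ ≠ 0 → ∃ b, supp ψ \ {a₂, a₃} = {b} := fun ψ hψ => by
    refine Finset.card_eq_one.1 ?_
    rw [Finset.card_sdiff_of_subset, hcard ψ hψ, Finset.card_pair ha23]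
    exact Finset.insert_subset (hcoreΛ ψ hψ).1 (Finset.singleton_subset_iff.2 (hcoreΛ ψ hψ).2)
  have : Nonempty ι := ⟨one⟩
  choose! pet hpet using hpet
  have hpetm : ∀ ψ, ψ ≠ 0 → pet ψ ∈ supp ψ ∧ pet ψ ∉ ({a₂, a₃} : Finset ι) := fun ψ hψ =>
    Finset.mem_sdiff.1 (hpet ψ hψ ▸ Finset.mem_singleton_self _)
  have hsupp : ∀ ψ, ψ ≠ 0 → supp ψ = insert (pet ψ) {a₂, a₃} := fun ψ hψ => by
    rw [Finset.insert_eq, ← hpet ψ hψ, Finset.sdiff_union_of_subset]
    exact Finset.insert_subset (hcoreΛ ψ hψ).1 (Finset.singleton_subset_iff.2 (hcoreΛ ψ hψ).2)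
  have hne1 : a₂ ≠ one ∧ a₃ ≠ one := ⟨(Finset.mem_erase.1 (Finset.mem_filter.1 (hcoreΛ ψ₀ hψ₀).1).1).1,
    (Finset.mem_erase.1 (Finset.mem_filter.1 (hcoreΛ ψ₀ hψ₀).2).1).1⟩
  -- the values
  have hc0 : ∀ χ, c χ 0 = 0 := fun χ => sub_self _
  have hvalc : ∀ χ a, a ≠ 0 → f χ a = ∑ ψ ∈ Λ, (c χ ψ : ℂ) * ψ a := fun χ a ha => by
    rw [hval χ a ha, hΛ, Finset.sum_erase]
    rw [hc0, Int.cast_zero, zero_mul]
  have hcoreval : ∀ a ∈ ({a₂, a₃} : Finset ι), ∀ y, y ≠ 0 → f a y = -(c a ψ₀ : ℂ) := fun a ha y hy => by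
    rw [hvalc a y hy, Finset.sum_congr rfl fun ψ hψ => by rw [hconst a ha ψ (hmemΛ.1 hψ)],
      ← Finset.mul_sum, hΛ, Finset.sum_erase_eq_sub (Finset.mem_univ _), horth, if_neg hy,
      AddChar.zero_apply]
    ring
  have hdegrel : ∀ ψ, ψ ≠ 0 →
      (c (pet ψ) ψ : ℤ) * d (pet ψ) = 1 - c a₂ ψ₀ * d a₂ - c a₃ ψ₀ * d a₃ := fun ψ hψ => by
    have h : ∑ χ, f χ 0 * ((N : ℂ) * c χ ψ) = 0 := by
      rw [Finset.sum_congr rfl (g := fun χ => ∑ a, (ψ a - 1) * (f χ 0 * conj (f χ a))) fun χ _ => by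
          have h := congrArg conj (hc χ ψ)
          rw [map_mul, map_natCast, map_intCast] at h
          rw [h, map_sum, Finset.mul_sum]
          exact Finset.sum_congr rfl fun a _ => by
            rw [map_mul, map_sub, map_one, hconj, neg_neg]; ring,
        Finset.sum_comm]
      refine Finset.sum_eq_zero fun a _ => ?_
      rcases eq_or_ne a 0 with rfl | ha
      · simp
      · rw [← Finset.mul_sum, hcol1 a ha, mul_zero]
    have h' : (∑ χ, (d χ : ℤ) * c χ ψ) = 0 := by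
      apply Int.cast_injective (α := ℂ)
      apply mul_left_cancel₀ hN0
      rw [Int.cast_zero, mul_zero, ← h]
      push_cast
      rw [Finset.mul_sum]
      exact Finset.sum_congr rfl fun χ _ => by rw [hd χ]; ring
    have hd1 : (d one : ℤ) = 1 := by
      have := hd one
      rw [hone] at this
      exact_mod_cast this.symm
    rw [← Finset.add_sum_erase _ _ (Finset.mem_univ one), hone_c ψ hψ, hd1,
      ← Finset.sum_subset (s₁ := supp ψ) (Finset.filter_subset _ _) fun χ hχ hn => by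
        rw [not_not.1 fun h0 => hn (Finset.mem_filter.2 ⟨hχ, h0⟩), mul_zero],
      hsupp ψ hψ, Finset.sum_insert (hpetm ψ hψ).2, Finset.sum_pair ha23,
      hconst a₂ (by simp) ψ hψ, hconst a₃ (by simp) ψ hψ] at h'
    linarith
  set D := 1 - c a₂ ψ₀ * d a₂ - c a₃ ψ₀ * d a₃ with hD
  have hηpm : ∀ ψ, ψ ≠ 0 → c (pet ψ) ψ = 1 ∨ c (pet ψ) ψ = -1 := fun ψ hψ =>
    hpm ψ hψ _ (hpetm ψ hψ).1
  set η := c (pet ψ₀) ψ₀ with hη
  set w := d (pet ψ₀) with hw
  have huni : ∀ ψ, ψ ≠ 0 → c (pet ψ) ψ = η ∧ d (pet ψ) = w := fun ψ hψ => by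
    have h1 := hdegrel ψ hψ
    have h2 := hdegrel ψ₀ hψ₀
    have h3 := hd0 (pet ψ)
    have h4 := hd0 (pet ψ₀)
    rcases hηpm ψ hψ with e1 | e1 <;> rcases hηpm ψ₀ hψ₀ with e2 | e2 <;>
      rw [e1] at h1 <;> rw [e2] at h2 <;> refine ⟨by omega, ?_⟩ <;> omega
  let θ : AddChar A ℂ → A → ℂ := fun ψ a => ∑ i, ψ (s i a)
  have hpetval : ∀ ψ, ψ ≠ 0 → ∀ a, a ≠ 0 → f (pet ψ) a = (η : ℂ) * θ ψ a := fun ψ hψ a ha => by
    rw [hvalc _ a ha, ← Finset.sum_subset (s₁ := Finset.univ.image fun i => act i ψ)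
      (fun φ hφ => by obtain ⟨i, -, rfl⟩ := Finset.mem_image.1 hφ; exact hmemΛ.2 (hact0 i ψ hψ))
      fun φ hφ hn => ?_,
      Finset.sum_image fun i _ j _ h => hdistinct ψ hψ i j h, Finset.mul_sum]
    · refine Finset.sum_congr rfl fun i _ => ?_
      rw [← hsame (act i ψ) ψ (hact0 i ψ hψ) hψ ⟨i, rfl⟩ (pet ψ), (huni ψ hψ).1, hact]
    · have hφ0 := hmemΛ.1 hφ
      suffices h : c (pet ψ) φ = 0 by rw [h, Int.cast_zero, zero_mul]
      by_contra h0
      refine hn (hfib ψ hψ ▸ Finset.mem_filter.2 ⟨hφ, ?_⟩)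
      have h1 : pet ψ ∈ supp φ :=
        Finset.mem_filter.2 ⟨(Finset.mem_filter.1 (hpetm ψ hψ).1).1, h0⟩
      rw [hsupp φ hφ0, Finset.mem_insert] at h1
      rw [hsupp φ hφ0, hsupp ψ hψ, h1.resolve_right (hpetm ψ hψ).2]
  -- the relation
  set Pet := Λ.image pet with hPet
  have hout : ∀ χ, χ ∉ insert one (insert a₂ (insert a₃ Pet)) → ∀ a, a ≠ 0 → f χ a = 0 := fun χ hχ a ha => by
    simp only [Finset.mem_insert, not_or] at hχ
    rw [hvalc χ a ha]
    refine Finset.sum_eq_zero fun ψ hψ => ?_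
    suffices h : c χ ψ = 0 by rw [h, Int.cast_zero, zero_mul]
    by_contra h0
    have h1 : χ ∈ supp ψ := Finset.mem_filter.2 ⟨Finset.mem_erase.2 ⟨hχ.1, Finset.mem_univ χ⟩, h0⟩
    rw [hsupp ψ (hmemΛ.1 hψ)] at h1
    simp only [Finset.mem_insert, Finset.mem_singleton] at h1
    rcases h1 with h1 | h1 | h1
    · exact hχ.2.2.2 (h1 ▸ Finset.mem_image_of_mem _ hψ)
    · exact hχ.2.1 h1
    · exact hχ.2.2.1 h1
  have hPetC : ∀ χ ∈ Pet, χ ≠ one ∧ χ ≠ a₂ ∧ χ ≠ a₃ := fun χ hχ => by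
    obtain ⟨ψ, hψ, rfl⟩ := Finset.mem_image.1 hχ
    have h := hpetm ψ (hmemΛ.1 hψ)
    exact ⟨(Finset.mem_erase.1 (Finset.mem_filter.1 h.1).1).1,
      fun e => h.2 (by simp [e]), fun e => h.2 (by simp [e])⟩
  have hpetfib : ∀ ψ ∈ Λ, (Λ.filter fun φ => pet φ = pet ψ).card = 3 := fun ψ hψ => by
    have e : Λ.filter (fun φ => pet φ = pet ψ) = Λ.filter (fun φ => supp φ = supp ψ) :=
      Finset.filter_congr fun φ hφ => ⟨fun h => by
        rw [hsupp φ (hmemΛ.1 hφ), hsupp ψ (hmemΛ.1 hψ), h],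
        fun h => Finset.singleton_injective (by rw [← hpet φ (hmemΛ.1 hφ), ← hpet ψ (hmemΛ.1 hψ), h])⟩
    rw [e, hfib ψ (hmemΛ.1 hψ),
      Finset.card_image_of_injective _ (fun i j h => hdistinct ψ (hmemΛ.1 hψ) i j h), Finset.card_univ,
      Fintype.card_fin]
  set F : ι → ℂ := fun χ => f χ u * f χ u * conj (f χ v) / f χ 0
  have hthree : 3 * ∑ χ ∈ Pet, F χ = ∑ ψ ∈ Λ, F (pet ψ) := by
    rw [Finset.sum_comp F pet, Finset.mul_sum]
    refine Finset.sum_congr rfl fun χ hχ => ?_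
    obtain ⟨ψ, hψ, rfl⟩ := Finset.mem_image.1 hχ
    rw [hpetfib ψ hψ, nsmul_eq_mul]; norm_num
  have hθ : ∑ ψ ∈ Λ, θ ψ u * θ ψ u * conj (θ ψ v) = -27 := by
    rw [hΛ, Finset.sum_erase_eq_sub (Finset.mem_univ _)]
    have e0 : ∑ ψ : AddChar A ℂ, θ ψ u * θ ψ u * conj (θ ψ v) = 0 := by
      rw [Finset.sum_congr rfl (g := fun ψ : AddChar A ℂ =>
        ∑ i, ∑ j, ∑ l, ψ (s i u + s j u + -(s l v))) fun ψ _ => by
          simp only [θ, map_sum, hconj]
          rw [Finset.sum_mul_sum, Finset.sum_mul]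
          refine Finset.sum_congr rfl fun i _ => ?_
          rw [Finset.sum_mul]
          refine Finset.sum_congr rfl fun j _ => ?_
          rw [Finset.mul_sum]
          exact Finset.sum_congr rfl fun l _ => by rw [AddChar.map_add_eq_mul, AddChar.map_add_eq_mul],
        Finset.sum_comm]
      refine Finset.sum_eq_zero fun i _ => ?_
      rw [Finset.sum_comm]
      refine Finset.sum_eq_zero fun j _ => ?_
      rw [Finset.sum_comm]
      refine Finset.sum_eq_zero fun l _ => ?_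
      rw [horth, if_neg]
      intro h
      have h2 := congrArg (fun a => a + a) h
      simp only [add_zero] at h2
      have hz : ∀ m, s m u + s m u = 0 := fun m => by rw [← map_add, hu, map_zero]
      have hvv : ∀ m, s m v + s m v = 0 → False := fun m h' => by
        rw [← map_add, map_eq_zero_iff _ (s m).injective] at h'; exact hv h'
      refine hvv l ?_
      calc s l v + s l v = (s i u + s i u) + (s j u + s j u) -
            ((s i u + s j u + -(s l v)) + (s i u + s j u + -(s l v))) := by abel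
        _ = 0 := by rw [hz, hz, h2]; simp
    rw [e0]
    simp [θ, map_ofNat]
    norm_num
  have hsum : 1 + ((-(c a₂ ψ₀) : ℤ) : ℂ) / (d a₂ : ℂ) + ((-(c a₃ ψ₀) : ℤ) : ℂ) / (d a₃ : ℂ) -
      9 * (η : ℂ) / (w : ℂ) = 0 := by
    have hηsq : (η : ℂ) * η = 1 := by rcases hηpm ψ₀ hψ₀ with e | e <;> simp [hη, e]
    have hcp : ∀ a ∈ ({a₂, a₃} : Finset ι), (c a ψ₀ : ℂ) * c a ψ₀ = 1 := fun a ha => by
      have hm : a ∈ supp ψ₀ := by
        rcases Finset.mem_insert.1 ha with rfl | ha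
        · exact (hcoreΛ ψ₀ hψ₀).1
        · rw [Finset.mem_singleton.1 ha]; exact (hcoreΛ ψ₀ hψ₀).2
      rcases hpm ψ₀ hψ₀ a hm with e | e <;> simp [e]
    have hFcore : ∀ a ∈ ({a₂, a₃} : Finset ι), F a = ((-(c a ψ₀) : ℤ) : ℂ) / (d a : ℂ) := fun a ha => by
      simp only [F]
      rw [hcoreval a ha u hu0, hcoreval a ha v hv0, hd a, map_neg, map_intCast, neg_mul_neg, hcp a ha]
      push_cast; ring
    have hFpet : ∑ χ ∈ Pet, F χ = -9 * (η : ℂ) / (w : ℂ) := by
      apply mul_left_cancel₀ (three_ne_zero : (3 : ℂ) ≠ 0)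
      rw [hthree, Finset.sum_congr rfl (g := fun ψ => (η : ℂ) / (w : ℂ) * (θ ψ u * θ ψ u * conj (θ ψ v)))
        fun ψ hψ => ?_, ← Finset.mul_sum, hθ]
      · ring
      · simp only [F]
        rw [hpetval ψ (hmemΛ.1 hψ) u hu0, hpetval ψ (hmemΛ.1 hψ) v hv0, hd, (huni ψ (hmemΛ.1 hψ)).2,
          map_mul, map_intCast]
        linear_combination ((η : ℂ) / (w : ℂ) * (θ ψ u * θ ψ u * conj (θ ψ v))) * hηsq
    have hF1 : F one = 1 := by simp [F, hone]
    have h := hzero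
    change ∑ χ, F χ = 0 at h
    rw [← Finset.sum_subset (Finset.subset_univ (insert one (insert a₂ (insert a₃ Pet))))
      (fun χ _ hχ => by simp only [F]; rw [hout χ hχ u hu0]; simp),
      Finset.sum_insert (by
        simp only [Finset.mem_insert, not_or]
        exact ⟨Ne.symm hne1.1, Ne.symm hne1.2, fun h => (hPetC _ h).1 rfl⟩),
      Finset.sum_insert (by
        simp only [Finset.mem_insert, not_or]
        exact ⟨ha23, fun h => (hPetC _ h).2.1 rfl⟩),
      Finset.sum_insert (fun h => (hPetC _ h).2.2 rfl), hF1, hFcore a₂ (by simp), hFcore a₃ (by simp),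
      hFpet] at h
    rw [← h]; ring
  -- congruences
  have hcong : ∀ a ∈ ({a₂, a₃} : Finset ι), (16 : ℤ) ∣ (d a : ℤ) + c a ψ₀ := fun a ha => by
    have h := hk a 0
    rw [← Finset.add_sum_erase _ _ (Finset.mem_univ (0 : A)), hd,
      Finset.sum_congr rfl (g := fun _ => -(c a ψ₀ : ℂ)) fun y hy => by
        rw [hcoreval a ha y (Finset.mem_erase.1 hy).1, AddChar.zero_apply, mul_one],
      Finset.sum_const, Finset.card_erase_of_mem (Finset.mem_univ _), Finset.card_univ, nsmul_eq_mul,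
      Nat.cast_sub Fintype.card_pos, AddChar.zero_apply, mul_one] at h
    have h' : (d a : ℤ) + c a ψ₀ = (N : ℤ) * (k a 0 + c a ψ₀) := by
      apply Int.cast_injective (α := ℂ)
      push_cast at h ⊢
      linear_combination h
    rw [h']
    exact Dvd.dvd.mul_right (Int.natCast_dvd_natCast.2 h16) _
  by_contra hno
  push Not at hno
  have hbig : ∀ a ∈ ({a₂, a₃} : Finset ι), 15 ≤ d a := fun a ha => by
    have hm : a ∈ supp ψ₀ := by
      rcases Finset.mem_insert.1 ha with rfl | ha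
      · exact (hcoreΛ ψ₀ hψ₀).1
      · rw [Finset.mem_singleton.1 ha]; exact (hcoreΛ ψ₀ hψ₀).2
    have h16' := hcong a ha
    have hpos := hd0 a
    rcases hpm ψ₀ hψ₀ a hm with e | e <;> rw [e] at h16'
    · omega
    · by_contra hlt
      have h1 : d a = 1 := by omega
      obtain ⟨y, hy, hy'⟩ := hno a (Finset.mem_erase.1 (Finset.mem_filter.1 hm).1).1 (by rw [hd, h1, Nat.cast_one])
      exact hy' (by rw [hcoreval a ha y hy, e]; norm_num)
  have hpm2 : ∀ a ∈ ({a₂, a₃} : Finset ι), -(c a ψ₀) = 1 ∨ -(c a ψ₀) = -1 := fun a ha => by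
    have hm : a ∈ supp ψ₀ := by
      rcases Finset.mem_insert.1 ha with rfl | ha
      · exact (hcoreΛ ψ₀ hψ₀).1
      · rw [Finset.mem_singleton.1 ha]; exact (hcoreΛ ψ₀ hψ₀).2
    rcases hpm ψ₀ hψ₀ a hm with e | e <;> simp [e]
  refine degree_arith (hbig a₂ (by simp)) (hbig a₃ (by simp)) (hd0 (pet ψ₀)) (hpm2 a₂ (by simp))
    (hpm2 a₃ (by simp)) (hηpm ψ₀ hψ₀) (by rw [hdegrel ψ₀ hψ₀]; ring) ?_ ?_
  · have h1 := hcong a₂ (by simp)
    have h2 := hcong a₃ (by simp)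
    rcases hpm2 a₂ (by simp) with e1 | e1 <;> rcases hpm2 a₃ (by simp) with e2 | e2 <;> rw [e1, e2] <;>
      omega
  · apply Rat.cast_injective (α := ℂ)
    push_cast
    push_cast at hsum
    exact hsum

end CfsgLib.Block.HomocyclicRows
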