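import Cfsg.Agent.Lib.Block.DegreeAux

/-!
The value of a character at an involution inverting an element `x` of odd prime order is bounded by
the multiplicity of the eigenvalue one of `x`.
-/

set_option autoImplicit false

namespace CfsgLib.Block.InvolutionTrace

open Cfsg CfsgLib

universe u

variable {G : Type u} [Group G] {p : ℕ} [hpf : Fact p.Prime]

/-- The bound at an inverting involution. -/
theorem exists_bound (hp : p ≠ 2) {χ : G → ℂ} (hχ : IsCharacter G χ) {x z : G} (hxo : orderOf x = p)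
    (hzz : z * z = 1) (hzx : z * x * z⁻¹ = x⁻¹) :
    ∃ (m : ℕ) (b : ℤ), (∑ i : ZMod p, χ (x ^ i.val)) = (p : ℂ) * (m : ℂ) ∧ χ z = (b : ℂ) ∧
      |b| ≤ (m : ℤ) := by
  classical
  obtain ⟨n, ρ, rfl⟩ := hχ
  have hp0 : (p : ℂ) ≠ 0 := Nat.cast_ne_zero.2 hpf.out.ne_zero
  have hpow : ∀ i j : ZMod p, x ^ i.val * x ^ j.val = x ^ (i + j).val := fun i j => by
    rw [← pow_add, pow_eq_pow_iff_modEq, hxo, ← ZMod.natCast_eq_natCast_iff]
    push_cast
    simp only [ZMod.natCast_zmod_val]
  have hneg : ∀ i : ZMod p, (x ^ i.val)⁻¹ = x ^ (-i).val := fun i => inv_eq_of_mul_eq_one_left (by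
    rw [hpow, neg_add_cancel, ZMod.val_zero, pow_zero])
  have hzi : z⁻¹ = z := inv_eq_of_mul_eq_one_right hzz
  have hcz : ∀ i : ZMod p, z * x ^ i.val = x ^ (-i).val * z := fun i => by
    have h : z * x ^ i.val * z⁻¹ = x ^ (-i).val := by rw [← conj_pow, hzx, inv_pow, hneg]
    rw [← h, inv_mul_cancel_right]
  -- `x ^ i * z` is conjugate to `z`
  have hconj : ∀ i : ZMod p, ρ.character (x ^ i.val * z) = ρ.character z := fun i => by
    have h2 : (2 : ZMod p) ≠ 0 := by
      intro h
      have h' : ((2 : ℕ) : ZMod p) = 0 := by exact_mod_cast h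
      rw [CharP.cast_eq_zero_iff (ZMod p) p] at h'
      exact hp ((Nat.prime_dvd_prime_iff_eq hpf.out Nat.prime_two).1 h')
    obtain ⟨j, rfl⟩ : ∃ j : ZMod p, j + j = i := ⟨i / 2, by field_simp; ring⟩
    rw [← ρ.char_conj z (x ^ j.val), hneg, mul_assoc, hcz, neg_neg, ← mul_assoc, hpow]
  set S : Module.End ℂ (Fin n → ℂ) := ∑ i : ZMod p, ρ (x ^ i.val) with hS
  have hSS : S * S = (p : ℂ) • S := by
    rw [hS, Finset.sum_mul, Finset.sum_congr rfl (g := fun _ => S) fun i _ => ?_, Finset.sum_const,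
      Finset.card_univ, ZMod.card, Nat.cast_smul_eq_nsmul]
    rw [hS, Finset.mul_sum, Finset.sum_congr rfl fun j _ => by rw [← map_mul, hpow]]
    exact Fintype.sum_equiv (Equiv.addLeft i) _ _ fun j => rfl
  have hSz : Commute S (ρ z) := by
    change S * ρ z = ρ z * S
    rw [hS, Finset.sum_mul, Finset.mul_sum, Finset.sum_congr rfl fun j _ => (map_mul ρ _ _).symm,
      Finset.sum_congr rfl (s₁ := Finset.univ) (f := fun j => ρ z * ρ (x ^ _)) fun j _ => by
        rw [← map_mul, hcz]]
    exact Fintype.sum_equiv (Equiv.neg _) _ _ fun j => by simp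
  set e := (p : ℂ)⁻¹ • S with he
  have hee : IsIdempotentElem e := by
    rw [IsIdempotentElem, he, smul_mul_smul_comm, hSS, smul_smul]
    congr 1
    field_simp
  have hρzz : ρ z * ρ z = 1 := by rw [← map_mul, hzz, map_one]
  set q : Module.End ℂ (Fin n → ℂ) := (2 : ℂ)⁻¹ • (1 + ρ z) with hq
  have hqq : IsIdempotentElem q := by
    rw [IsIdempotentElem, hq, smul_mul_smul_comm, mul_add, add_mul, add_mul, one_mul, one_mul,
      mul_one, hρzz, show (1 : Module.End ℂ (Fin n → ℂ)) + ρ z + (ρ z + 1) = (2 : ℂ) • (1 + ρ z) by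
        rw [two_smul]; abel, smul_smul]
    congr 1
    norm_num
  have hcomm : Commute e q :=
    (((Commute.one_right S).add_right hSz).smul_right _).smul_left _
  have htr : ∀ f : Module.End ℂ (Fin n → ℂ), IsIdempotentElem f →
      LinearMap.trace ℂ (Fin n → ℂ) f = (Module.finrank ℂ (LinearMap.range f) : ℂ) := fun f hf =>
    (LinearMap.IsIdempotentElem.isProj_range f hf).trace
  have h1 := htr e hee
  have h2 := htr _ (hee.mul_of_commute hcomm hqq)
  set m := Module.finrank ℂ (LinearMap.range e)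
  set w := Module.finrank ℂ (LinearMap.range (e * q))
  have hwm : w ≤ m := Submodule.finrank_mono (by
    rw [Module.End.mul_eq_comp]; exact LinearMap.range_comp_le_range _ _)
  have hsum : ∑ i : ZMod p, ρ.character (x ^ i.val) = (p : ℂ) * (m : ℂ) := by
    rw [← h1, he, map_smul, smul_eq_mul, mul_inv_cancel_left₀ hp0, hS, map_sum]
    rfl
  have hz : ρ.character z = ((2 * (w : ℤ) - m : ℤ) : ℂ) := by
    rw [hq, mul_smul_comm, map_smul, mul_add, mul_one, map_add, h1, smul_eq_mul] at h2
    have h3 : LinearMap.trace ℂ (Fin n → ℂ) (e * ρ z) = ρ.character z := by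
      rw [he, smul_mul_assoc, map_smul, hS, Finset.sum_mul, map_sum,
        Finset.sum_congr rfl (g := fun _ => ρ.character z) fun i _ => by
          rw [← map_mul]; exact hconj i,
        Finset.sum_const, Finset.card_univ, ZMod.card, nsmul_eq_mul, smul_eq_mul, inv_mul_cancel_left₀ hp0]
    rw [h3] at h2
    push_cast
    linear_combination 2 * h2
  exact ⟨m, _, hsum, hz, by rw [abs_le]; omega⟩

end CfsgLib.Block.InvolutionTrace
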