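import Cfsg.Agent.Lib.Block.RegularSum
import Cfsg.Agent.Lib.Char.Induce

/-!
Sets of characters closed under regular linkage have integral idempotents at every prime over `p`.
-/

set_option autoImplicit false
set_option linter.unusedSectionVars false

namespace CfsgLib.Block

open Cfsg
open scoped ComplexConjugate

universe u

variable {G : Type u} [Group G] [Fintype G] {p : ℕ}

theorem sum_regular_conj_eq_zero [Finite G] {M : Ideal AlgInt} [M.IsPrime] (hM : IsPModular p M)
    {χ ψ : IrrCharacter G} (h : ¬ SameBlock M (χ : G → ℂ) (ψ : G → ℂ)) :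
    ∑ x : G, (if p ∣ orderOf x then 0 else (χ : G → ℂ) x * conj ((ψ : G → ℂ) x)) = 0 := by
  have h1 := omegaC_regSum_eq_zero hM (χ := ψ) (φ := χ) (fun hh => h (sameBlock_symm hh))
  rw [omegaC_eq, div_eq_zero_iff, or_iff_left (CfsgLib.Char.irr_apply_one_ne_zero χ.2)] at h1
  refine Eq.trans (Finset.sum_congr rfl fun x _ => ?_) h1
  rw [coeff_regSum]
  split
  · rw [zero_mul]
  · rw [irr_conj_eq ψ.2, mul_comm]

/-- A set of characters orthogonal on regular elements to its complement has an integral
idempotent. -/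
theorem blockCoeff_memLocalRing_of_orth {M : Ideal AlgInt} [M.IsPrime] (hM : IsPModular p M)
    {A : Set (IrrCharacter G)}
    (horth : ∀ χ ∈ A, ∀ ψ ∉ A,
      ∑ x : G, (if p ∣ orderOf x then 0 else (χ : G → ℂ) x * conj ((ψ : G → ℂ) x)) = 0)
    (g : G) : MemLocalRing M (blockCoeff A g) := by
  classical
  have := Fact.mk hM.1
  have := Fintype.ofFinite (IrrCharacter G)
  obtain ⟨P⟩ := (inferInstance : Nonempty (Sylow p G))
  set i : ℕ := (P : Subgroup G).index
  have hip : ¬ p ∣ i := P.not_dvd_index
  have hi : (i : ℂ) ≠ 0 := by exact_mod_cast Subgroup.index_ne_zero_of_finite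
  set π : G → ℂ := indFun (P : Subgroup G) (fun _ => 1) with hπ
  have hπc : IsCharacter G π :=
    CfsgLib.Char.isCharacter_indFun _ (CfsgLib.Char.irr_isCharacter CfsgLib.Char.isIrrCharacter_one)
  have hπ1 : π 1 = i := by rw [hπ, CfsgLib.Char.indFun_apply_one, mul_one]
  have hπ0 : ∀ x : G, ¬ p ∣ orderOf x → x ≠ 1 → π x = 0 := by
    intro x hx hx1
    rw [hπ, CfsgLib.Char.indFun_def]
    refine mul_eq_zero_of_right _ (Finset.sum_eq_zero fun y _ => ?_)
    rw [CfsgLib.Char.extendByZero_of_not_mem]
    intro hy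
    apply hx1
    obtain ⟨k, hk⟩ := IsPGroup.iff_orderOf.1 P.2 ⟨_, hy⟩
    rw [Subgroup.orderOf_mk] at hk
    have hord : orderOf (y⁻¹ * x * y) = orderOf x := by
      simpa using orderOf_injective (MulAut.conj y⁻¹).toMonoidHom (MulAut.conj y⁻¹).injective x
    rcases Nat.eq_zero_or_pos k with hk0 | hk0
    · rw [hk0, pow_zero, hord, orderOf_eq_one_iff] at hk
      exact hk
    · exact absurd (by rw [← hord, hk]; exact dvd_pow_self p hk0.ne') hx
  -- the projection of `π` to `A`
  set c : G → ℂ := fun x => ∑ χ : IrrCharacter G,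
    if χ ∈ A then classInner π (χ : G → ℂ) * (χ : G → ℂ) x else 0 with hc
  have hccl : IsClassFunction G c := fun x y => Finset.sum_congr rfl fun χ _ => by
    rw [CfsgLib.Char.irr_isClassFunction χ.2 x y]
  have hord : ∀ x y : G, orderOf (y * x * y⁻¹) = orderOf x := fun x y => by
    simpa using orderOf_injective (MulAut.conj y).toMonoidHom (MulAut.conj y).injective x
  have key : (fun x => if p ∣ orderOf x then 0 else (i : ℂ)⁻¹ * c x) =
      fun x => (Nat.card G : ℂ)⁻¹ *
        ∑ χ : IrrCharacter G, if χ ∈ A then (χ : G → ℂ) 1 * (χ : G → ℂ) x else 0 := by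
    refine CfsgLib.Char.classFunction_ext (fun x y => by simp only [hord, hccl x y])
      (fun x y => by simp only [CfsgLib.Char.irr_isClassFunction (Subtype.property _) x y])
      fun ψ hψ => ?_
    set S : IrrCharacter G → ℂ := fun χ =>
      ∑ x : G, (if p ∣ orderOf x then 0 else (χ : G → ℂ) x * conj (ψ x)) with hS
    have hL : classInner (fun x => if p ∣ orderOf x then 0 else (i : ℂ)⁻¹ * c x) ψ =
        (Nat.card G : ℂ)⁻¹ * ((i : ℂ)⁻¹ *
          ∑ χ : IrrCharacter G, if χ ∈ A then classInner π (χ : G → ℂ) * S χ else 0) := by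
      rw [CfsgLib.Char.classInner_def]
      congr 1
      have e1 : ∀ x : G, (if p ∣ orderOf x then 0 else (i : ℂ)⁻¹ * c x) * conj (ψ x) =
          ∑ χ : IrrCharacter G, if χ ∈ A then (i : ℂ)⁻¹ * (classInner π (χ : G → ℂ) *
            (if p ∣ orderOf x then 0 else (χ : G → ℂ) x * conj (ψ x))) else 0 := by
        intro x
        by_cases hxp : p ∣ orderOf x
        · simp [hxp]
        · simp only [if_neg hxp, hc, Finset.mul_sum, Finset.sum_mul]
          exact Finset.sum_congr rfl fun χ _ => by split <;> ring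
      rw [Finset.sum_congr rfl (fun x _ => e1 x), Finset.sum_comm, Finset.mul_sum]
      refine Finset.sum_congr rfl fun χ _ => ?_
      split
      · simp only [hS, Finset.mul_sum]
      · simp
    rw [hL, CfsgLib.Char.classInner_def]
    congr 1
    have hR : ∑ x : G, (Nat.card G : ℂ)⁻¹ *
          (∑ χ : IrrCharacter G, if χ ∈ A then (χ : G → ℂ) 1 * (χ : G → ℂ) x else 0) * conj (ψ x) =
        if (⟨ψ, hψ⟩ : IrrCharacter G) ∈ A then ψ 1 else 0 := by
      have h1 : ∀ χ : IrrCharacter G, ∑ x, (Nat.card G : ℂ)⁻¹ *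
          (if χ ∈ A then (χ : G → ℂ) 1 * (χ : G → ℂ) x else 0) * conj (ψ x) =
          if χ ∈ A then (χ : G → ℂ) 1 * classInner (χ : G → ℂ) ψ else 0 := by
        intro χ
        split
        · rw [CfsgLib.Char.classInner_def, Finset.mul_sum, Finset.mul_sum]
          exact Finset.sum_congr rfl fun x _ => by ring
        · simp
      simp only [Finset.mul_sum, Finset.sum_mul]
      rw [Finset.sum_comm, Finset.sum_congr rfl fun χ _ => h1 χ,
        Finset.sum_eq_single (⟨ψ, hψ⟩ : IrrCharacter G)]
      · rw [CfsgLib.Char.irr_classInner_self hψ, mul_one]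
      · intro χ _ hne
        rw [CfsgLib.Char.irr_classInner_ne χ.2 hψ (fun h => hne (Subtype.ext h)), mul_zero,
          ite_self]
      · simp
    rw [hR]
    by_cases hψA : (⟨ψ, hψ⟩ : IrrCharacter G) ∈ A
    · rw [if_pos hψA]
      have h2 : ∑ χ : IrrCharacter G, (if χ ∈ A then classInner π (χ : G → ℂ) * S χ else 0) =
          ∑ χ : IrrCharacter G, classInner π (χ : G → ℂ) * S χ := by
        refine Finset.sum_congr rfl fun χ _ => ?_
        split
        · rfl
        · next hχ =>
          have h3 := congrArg conj (horth _ hψA χ hχ)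
          rw [map_sum, map_zero] at h3
          rw [show S χ = 0 from ?_, mul_zero]
          rw [← h3]
          refine Finset.sum_congr rfl fun x _ => ?_
          split <;> simp [mul_comm]
      have h4 : ∑ χ : IrrCharacter G, classInner π (χ : G → ℂ) * S χ =
          ∑ x : G, if p ∣ orderOf x then 0 else π x * conj (ψ x) := by
        simp only [hS, Finset.mul_sum, mul_ite, mul_zero]
        rw [Finset.sum_comm]
        refine Finset.sum_congr rfl fun x _ => ?_
        split
        · simp
        · rw [CfsgLib.Char.classFunction_apply_eq_sum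
            (CfsgLib.Char.isCharacter_isClassFunction hπc) x, Finset.sum_mul]
          exact Finset.sum_congr rfl fun χ _ => by ring
      rw [h2, h4, Finset.sum_eq_single (1 : G)]
      · rw [if_neg (by rw [orderOf_one]; exact hM.1.not_dvd_one), hπ1, irr_conj_eq hψ, inv_one,
          ← mul_assoc, inv_mul_cancel₀ hi, one_mul]
      · intro x _ hx
        split
        · rfl
        · next hr => rw [hπ0 x hr hx, zero_mul]
      · simp
    · rw [if_neg hψA, Finset.sum_eq_zero, mul_zero]
      intro χ _
      split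
      · next hχ => rw [show S χ = 0 from horth χ hχ ⟨ψ, hψ⟩ hψA, mul_zero]
      · rfl
  have h5 : blockCoeff A g = if p ∣ orderOf g⁻¹ then 0 else (i : ℂ)⁻¹ * c g⁻¹ := by
    rw [congrFun key g⁻¹, blockCoeff, finsum_mem_def, finsum_eq_sum_of_fintype]
    congr 1
    refine Finset.sum_congr rfl fun χ _ => ?_
    rw [Set.indicator_apply, irr_conj_eq χ.2]
  rw [h5]
  split
  · exact (lring M).zero_mem
  · refine memLocalRing_mul (memLocalRing_inv_natCast hM hip) (memLocalRing_sum _ _ fun χ _ => ?_)
    split
    · obtain ⟨m, hm⟩ := CfsgLib.Char.classInner_isCharacter_nat hπc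
        (CfsgLib.Char.irr_isCharacter χ.2)
      rw [hm]
      exact memLocalRing_mul (memLocalRing_natCast m) (memLocalRing_irr_apply χ _)
    · exact (lring M).zero_mem

/-- Blocks do not depend on the choice of the prime over `p`. -/
theorem sameBlock_of_sameBlock {M M' : Ideal AlgInt} [M.IsPrime] [M'.IsPrime]
    (hM : IsPModular p M) (hM' : IsPModular p M') {χ ψ : IrrCharacter G}
    (h : SameBlock M (χ : G → ℂ) (ψ : G → ℂ)) : SameBlock M' (χ : G → ℂ) (ψ : G → ℂ) := by
  have hint : ∀ g, MemLocalRing M (blockCoeff (blockOf M' (χ : G → ℂ)) g) := fun g =>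
    blockCoeff_memLocalRing_of_orth hM (fun φ hφ φ' hφ' => sum_regular_conj_eq_zero hM'
      (fun hh => hφ' (sameBlock_trans hφ hh))) g
  exact mem_of_integral_blockSum hint (mem_blockOf_self χ) h

end CfsgLib.Block
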