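import Cfsg.Agent.Lib.Invol.PrincipalBlock
import Cfsg.Agent.Lib.Invol.SectionChar
import Cfsg.Agent.Lib.Transfer.Frobenius
import Cfsg.Agent.Lib.Block.Orthogonality

/-!
The principal block on the section of a `p`-element whose centralizer has a normal `p`-complement.
-/

set_option autoImplicit false
set_option linter.unusedSectionVars false

namespace CfsgLib.Block

open Cfsg
open scoped ComplexConjugate

universe u

variable {G : Type u} [Group G] [Finite G] {p : ℕ} [hp : Fact p.Prime]

/-- In a group with a normal `p`-complement the `p`-regular elements are exactly the core. -/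
theorem core_of_hasNormalPComplement (h : Cfsg.HasNormalPComplement p G) :
    (∀ v : G, ¬ p ∣ orderOf v → v ∈ Cfsg.pPrimeCore p G) ∧
      Nat.card G = p ^ (Nat.card G).factorization p * Nat.card (Cfsg.pPrimeCore p G) := by
  have hcop := CfsgLib.Transfer.hasNormalPComplement_iff_coprime_pResidual.1 h
  have hle : Cfsg.pResidual p G ≤ Cfsg.pPrimeCore p G :=
    CfsgLib.Solvable.le_pPrimeCore CfsgLib.Transfer.pResidual_normal hcop
  refine ⟨fun v hv => hle (CfsgLib.Transfer.mem_pResidual_of_coprime
    ((hp.out.coprime_iff_not_dvd).2 hv).symm), ?_⟩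
  set K := Cfsg.pPrimeCore p G
  have hK : (Nat.card K).Coprime p := CfsgLib.Solvable.pPrimeCore_coprime p
  have hKf : (Nat.card K).factorization p = 0 :=
    Nat.factorization_eq_zero_of_not_dvd (hp.out.coprime_iff_not_dvd.1 hK.symm)
  obtain ⟨n, hn'⟩ := CfsgLib.Transfer.pResidual_index_eq_pow (G := G) (p := p)
  obtain ⟨k, -, hk⟩ := (Nat.dvd_prime_pow hp.out).1 (hn' ▸ Subgroup.index_dvd_of_le hle)
  conv_lhs => rw [← K.index_mul_card]
  congr 1
  conv_rhs => rw [← K.index_mul_card, Nat.factorization_mul Subgroup.index_ne_zero_of_finite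
    Nat.card_pos.ne', Finsupp.add_apply, hKf, add_zero, hk, Nat.factorization_pow_self hp.out]
  exact hk

/-- The section of a `p`-element with `p`-nilpotent centralizer: column norm and section function
of the principal block. -/
theorem principal_section {M : Ideal AlgInt} (hM : IsPModular p M) {x : G} (hx : ∃ k : ℕ, orderOf x = p ^ k)
    (hC : Cfsg.HasNormalPComplement p (Subgroup.centralizer ({x} : Set G))) :
    (∀ χ ∈ principalBlock M G, ∀ v : G, Commute x v → ¬ p ∣ orderOf v →
      (χ : G → ℂ) (x * v) = (χ : G → ℂ) x) ∧
    (∑ᶠ χ ∈ principalBlock M G, (χ : G → ℂ) x * conj ((χ : G → ℂ) x) =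
      ((p ^ (Nat.card (Subgroup.centralizer ({x} : Set G))).factorization p : ℕ) : ℂ)) := by
  classical
  have := isPrime_of_pmodular hM
  have := Fintype.ofFinite G
  obtain ⟨hreg, hcard⟩ := core_of_hasNormalPComplement hC
  set H := Subgroup.centralizer ({x} : Set G)
  set K := Cfsg.pPrimeCore p H
  have hKcop : ¬ p ∣ Nat.card K :=
    hp.out.coprime_iff_not_dvd.1 (CfsgLib.Solvable.pPrimeCore_coprime p).symm
  have hconst : ∀ χ ∈ principalBlock M G, ∀ v : G, Commute x v → ¬ p ∣ orderOf v →
      (χ : G → ℂ) (x * v) = (χ : G → ℂ) x := fun χ hχ v hv hvr =>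
    CfsgLib.Invol.principal_const_on_core hM hx
      ⟨⟨v, Subgroup.mem_centralizer_singleton_iff.2 hv.eq.symm⟩,
        hreg _ (by rwa [Subgroup.orderOf_mk]), rfl⟩ hχ
  refine ⟨hconst, ?_⟩
  set Z := ∑ᶠ χ ∈ principalBlock M G, (χ : G → ℂ) x * conj ((χ : G → ℂ) x) with hZ
  set m := p ^ (Nat.card H).factorization p with hm
  have := Fintype.ofFinite (IrrCharacter G)
  let F : G → ℂ := fun g => ∑ᶠ χ ∈ principalBlock M G, (χ : G → ℂ) x * conj ((χ : G → ℂ) g)
  have hFcl : IsClassFunction G F := fun g h => finsum_congr fun χ => finsum_congr fun _ => by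
    rw [CfsgLib.Char.irr_isClassFunction χ.2 g h]
  have hxp : IsPPart p x x := isPPart_self hx hp.out
  -- the fibre over `x`
  have hfib : ∑ g ∈ Finset.univ.filter (fun g => IsPPart p g x), F g = (Nat.card K : ℂ) * Z := by
    have hbij : (Finset.univ.filter fun g => IsPPart p g x) =
        Finset.univ.image (fun v : K => x * ((v : H) : G)) := by
      ext g
      simp only [Finset.mem_filter, Finset.mem_univ, true_and, Finset.mem_image]
      constructor
      · rintro ⟨y, hy, hc, -, hyr⟩
        exact ⟨⟨⟨y, Subgroup.mem_centralizer_singleton_iff.2 hc.eq.symm⟩,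
          hreg _ (by rwa [Subgroup.orderOf_mk])⟩, hy⟩
      · rintro ⟨v, rfl⟩
        refine isPPart_mul (show Commute x ((v : H) : G) from
          (Subgroup.mem_centralizer_singleton_iff.1 (v : H).2).symm) hx fun hd => hKcop ?_
        rw [Subgroup.orderOf_coe, Subgroup.orderOf_coe] at hd
        exact hd.trans (orderOf_dvd_natCard v)
    rw [hbij, Finset.sum_image (fun a _ b _ h => Subtype.ext (Subtype.ext (mul_left_cancel h))),
      Finset.sum_congr rfl (g := fun _ => Z), Finset.sum_const, Finset.card_univ, nsmul_eq_mul,
      Nat.card_eq_fintype_card]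
    intro v _
    refine finsum_congr fun χ => finsum_congr fun hχ => ?_
    rw [hconst χ hχ _ (Subgroup.mem_centralizer_singleton_iff.1 (v : H).2).symm fun hd => hKcop ?_]
    rw [Subgroup.orderOf_coe, Subgroup.orderOf_coe] at hd
    exact hd.trans (orderOf_dvd_natCard v)
  -- all other values vanish, and the sections are translates of the fibre
  have htot : ∑ g, F g = (H.index : ℂ) * ((Nat.card K : ℂ) * Z) := by
    rw [← hfib]
    calc ∑ g, F g = ∑ g ∈ Finset.univ.filter (fun g => ∃ w, IsConj x w ∧ IsPPart p g w), F g := by
          rw [Finset.sum_filter]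
          refine Finset.sum_congr rfl fun g _ => ?_
          split_ifs with h
          · rfl
          · obtain ⟨w, hw⟩ := exists_isPPart hp.out g
            exact sum_block_eq_zero hM isPBlock_principalBlock hxp hw fun hc => h ⟨w, hc, hw⟩
      _ = ∑ w ∈ Finset.univ.filter (fun w => IsConj x w),
            ∑ g ∈ Finset.univ.filter (fun g => IsPPart p g w), F g := by
          rw [← Finset.sum_biUnion]
          · refine Finset.sum_congr ?_ fun _ _ => rfl
            ext g
            simp [Finset.mem_biUnion]
          · intro a _ b _ hab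
            rw [Function.onFun, Finset.disjoint_left]
            intro g hga hgb
            exact hab (isPPart_unique hp.out (Finset.mem_filter.1 hga).2 (Finset.mem_filter.1 hgb).2)
      _ = ∑ w ∈ Finset.univ.filter (fun w => IsConj x w),
            ∑ g ∈ Finset.univ.filter (fun g => IsPPart p g x), F g := by
          refine Finset.sum_congr rfl fun w hw => ?_
          obtain ⟨a, ha⟩ := isConj_iff.1 (Finset.mem_filter.1 hw).2
          refine (Finset.sum_nbij' (fun g => a * g * a⁻¹) (fun g => a⁻¹ * g * a) ?_ ?_ ?_ ?_ ?_).symm
          · intro g hg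
            simp only [Finset.mem_filter, Finset.mem_univ, true_and] at hg ⊢
            rw [← ha]; exact isPPart_conj hg a
          · intro g hg
            simp only [Finset.mem_filter, Finset.mem_univ, true_and] at hg ⊢
            have := isPPart_conj hg a⁻¹
            rw [inv_inv, ← ha] at this
            simpa [mul_assoc] using this
          · intro g _; group
          · intro g _; group
          · intro g _; exact (hFcl g a).symm
      _ = _ := by
          rw [Finset.sum_const, nsmul_eq_mul]
          congr 2
          rw [← CfsgLib.Char.natCard_carrier_eq_index, Nat.card_eq_fintype_card,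
            Fintype.card_of_subtype]
          intro w
          simp only [Finset.mem_filter, Finset.mem_univ, true_and,
            ConjClasses.mem_carrier_iff_mk_eq, ConjClasses.mk_eq_mk_iff_isConj]
          exact isConj_comm
  -- only the trivial character contributes to the total
  have htriv : ∑ g, F g = (Nat.card G : ℂ) := by
    simp only [F, finsum_mem_eq_finite_toFinset_sum _ (Set.toFinite (principalBlock M G))]
    rw [Finset.sum_comm, Finset.sum_eq_single (trivIrr (G := G))]
    · simp [trivIrr, Nat.card_eq_fintype_card]
    · intro χ _ hne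
      have h := CfsgLib.Char.irr_classInner_ne χ.2 CfsgLib.Char.isIrrCharacter_one
        (fun e => hne (Subtype.ext e))
      rw [CfsgLib.Char.classInner_def, mul_eq_zero, inv_eq_zero] at h
      have h' := congrArg (starRingEnd ℂ) (h.resolve_left CfsgLib.Char.natCard_ne_zero)
      simp only [map_one, mul_one, map_sum, map_zero] at h'
      rw [← Finset.mul_sum, h', mul_zero]
    · intro h
      exact absurd ((Set.Finite.mem_toFinset _).2 one_mem_principalBlock) h
  rw [htriv] at htot
  have hG : Nat.card G = H.index * Nat.card K * m := by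
    rw [← H.index_mul_card, hcard]; ring
  rw [hG] at htot
  push_cast at htot
  have hne : (H.index : ℂ) * (Nat.card K : ℂ) ≠ 0 :=
    mul_ne_zero (by exact_mod_cast Subgroup.index_ne_zero_of_finite)
      (by exact_mod_cast Nat.card_pos.ne')
  exact (mul_left_cancel₀ hne (htot.trans (by ring))).symm

end CfsgLib.Block
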