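import Cfsg.Agent.Lib.Block.StableTITrace
import Cfsg.Agent.Lib.Block.ResidueSpan
import Cfsg.Agent.Lib.Block.PrincipalSection
import Mathlib.NumberTheory.LegendreSymbol.AddCharacter
import Mathlib.RingTheory.IntegralDomain
import Mathlib.GroupTheory.SchurZassenhaus

/-!
The principal block of a group with a Sylow subgroup of prime order: the normalizer data, the
lower bound on the number of characters, and the arithmetic of the restrictions to the subgroup.
-/

set_option autoImplicit false
set_option linter.unusedSectionVars false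

namespace CfsgLib.Block

open Cfsg MonoidAlgebra
open scoped ComplexConjugate

universe u

variable {G : Type u} [Group G] [Finite G] {p : ℕ} [hp : Fact p.Prime]

/-- A generator of `P` with the exponential map and the action homomorphism of the normalizer. -/
theorem exists_prime_sylow_data (P : Sylow p G) (hP : Nat.card P = p) :
    ∃ (x : G) (ε : Subgroup.normalizer ((P : Subgroup G) : Set G) →* (ZMod p)ˣ),
      orderOf x = p ∧ (P : Subgroup G) = Subgroup.zpowers x ∧
      (∀ n : Subgroup.normalizer ((P : Subgroup G) : Set G),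
        (n : G) * x * (n : G)⁻¹ = x ^ ((ε n : ZMod p)).val) ∧
      ε.ker = (Subgroup.centralizer ((P : Subgroup G) : Set G)).subgroupOf
        (Subgroup.normalizer ((P : Subgroup G) : Set G)) := by
  classical
  set N := Subgroup.normalizer ((P : Subgroup G) : Set G)
  obtain ⟨⟨x, hxP⟩, hx⟩ := exists_prime_orderOf_dvd_card' (G := (P : Subgroup G)) p (by rw [hP])
  have hxo : orderOf x = p := by rwa [Subgroup.orderOf_mk] at hx
  have hgen : (P : Subgroup G) = Subgroup.zpowers x :=
    (Subgroup.eq_of_le_of_card_ge (Subgroup.zpowers_le.2 hxP) (by rw [Nat.card_zpowers, hxo, hP])).symm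
  have key : ∀ n : N, ∃ a : ZMod p, (n : G) * x * (n : G)⁻¹ = x ^ a.val := by
    intro n
    have h := (Subgroup.mem_normalizer_iff.1 n.2 x).1 hxP
    rw [hgen] at h
    obtain ⟨i, hi⟩ := mem_powers_iff_mem_zpowers.2 h
    exact ⟨(i : ZMod p), by rw [ZMod.val_natCast, ← hxo, pow_mod_orderOf]; exact hi.symm⟩
  choose a ha using key
  have hinj : ∀ {b c : ZMod p}, x ^ b.val = x ^ c.val → b = c := by
    intro b c h
    rw [pow_eq_pow_iff_modEq, hxo, ← ZMod.natCast_eq_natCast_iff, ZMod.natCast_zmod_val,
      ZMod.natCast_zmod_val] at h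
    exact h
  have hpm : ∀ i : ℕ, x ^ (i % p) = x ^ i := fun i => by
    conv_rhs => rw [← pow_mod_orderOf, hxo]
  let f : N →* ZMod p :=
    { toFun := a
      map_one' := hinj (by rw [← ha 1, ZMod.val_one]; simp)
      map_mul' := fun m n => hinj (by
        rw [← ha (m * n), ZMod.val_mul, hpm, pow_mul, ← ha m, conj_pow, ← ha n]
        push_cast
        group) }
  refine ⟨x, f.toHomUnits, hxo, hgen, fun n => ha n, ?_⟩
  ext n
  rw [MonoidHom.mem_ker, Subgroup.mem_subgroupOf, Units.ext_iff, MonoidHom.coe_toHomUnits,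
    Units.val_one, hgen, Subgroup.zpowers_eq_closure, Subgroup.centralizer_closure,
    Subgroup.mem_centralizer_singleton_iff]
  constructor
  · intro h
    have h' := ha n
    rw [show a n = 1 from h, ZMod.val_one, pow_one, mul_inv_eq_iff_eq_mul] at h'
    exact h'
  · intro h
    refine hinj ?_
    change x ^ (a n).val = _
    rw [← ha n, h, ZMod.val_one, pow_one, mul_inv_cancel_right]

/-- Restriction arithmetic: multiplicities of the eigenvalues at an element of order `p`. -/
theorem exists_multiplicity {x : G} (hx : orderOf x = p) {χ : G → ℂ} (hχ : IsCharacter G χ)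
    {ψ : AddChar (ZMod p) ℂ} (hψ : ψ.IsPrimitive) :
    ∃ b : ZMod p → ℕ, ∀ i : ZMod p, χ (x ^ i.val) = ∑ s : ZMod p, (b s : ℂ) * ψ (s * i) := by
  classical
  obtain ⟨n, ρ, rfl⟩ := hχ
  obtain ⟨ι, hι, b, μ, -, h2, h3, -⟩ := CfsgLib.Char.exists_char_eigen ρ x
  have hζ : IsPrimitiveRoot (ψ 1) p := by
    have hne : ψ 1 ≠ 1 := by
      intro h
      have hall : ∀ i : ℕ, ψ (i : ZMod p) = 1 := fun i => by
        rw [← nsmul_one, AddChar.map_nsmul_eq_pow, h, one_pow]
      refine hψ (one_ne_zero : (1 : ZMod p) ≠ 0) ?_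
      ext a
      rw [AddChar.mulShift_apply, one_mul, ← ZMod.natCast_zmod_val a, hall, AddChar.one_apply]
    refine IsPrimitiveRoot.iff_orderOf.2 (orderOf_eq_prime ?_ hne)
    rw [← AddChar.map_nsmul_eq_pow, nsmul_one, ZMod.natCast_self, AddChar.map_zero_eq_one]
  have key : ∀ i, ∃ s : ZMod p, ψ s = μ i := fun i => by
    obtain ⟨j, -, hj⟩ := hζ.eq_pow_of_pow_eq_one (show μ i ^ p = 1 by rw [← hx]; exact h2 i)
    exact ⟨j, by rw [← hj, ← AddChar.map_nsmul_eq_pow, nsmul_one]⟩
  choose s hs using key
  refine ⟨fun t => (Finset.univ.filter fun i => s i = t).card, fun i => ?_⟩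
  rw [h3, ← Finset.sum_fiberwise Finset.univ s]
  refine Finset.sum_congr rfl fun t _ => ?_
  rw [Finset.sum_congr rfl (g := fun _ => ψ (t * i)), Finset.sum_const, nsmul_eq_mul]
  intro j hj
  rw [← hs j, (Finset.mem_filter.1 hj).2, ← AddChar.map_nsmul_eq_pow, nsmul_eq_mul,
    ZMod.natCast_zmod_val, mul_comm]

/-- The arithmetic inequality for an integral function invariant under a subgroup of units. -/
theorem invariant_sum_sq_ineq {A : Type*} [CommGroup A] [Fintype A] (E : Subgroup A) (a : A → ℤ)
    (ha : ∀ u ∈ E, ∀ v, a (u * v) = a v) (hne : ∃ v, a v ≠ 0) :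
    (Nat.card E : ℤ) * Fintype.card A ≤
        (Fintype.card A + Nat.card E : ℤ) * ∑ v, a v ^ 2 - (∑ v, a v) ^ 2 ∧
    ((Fintype.card A + Nat.card E : ℤ) * ∑ v, a v ^ 2 - (∑ v, a v) ^ 2 =
        (Nat.card E : ℤ) * Fintype.card A →
      (∑ v, a v = Nat.card E ∨ ∑ v, a v = -(Nat.card E : ℤ) ∨
        ∑ v, a v = Fintype.card A ∨ ∑ v, a v = -(Fintype.card A : ℤ))) := by
  classical
  set s := Finset.univ.filter fun v => a v ≠ 0 with hs
  have hsum : ∑ v, a v = ∑ v ∈ s, a v := (Finset.sum_filter_ne_zero _).symm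
  have hsq : ∑ v, a v ^ 2 = ∑ v ∈ s, a v ^ 2 := by
    rw [hs, Finset.sum_filter]
    exact Finset.sum_congr rfl fun v _ => by split_ifs with h <;> simp_all
  have hdvd : Nat.card E ∣ s.card := by
    have h : (s : Set A) = ((↑) : A → A ⧸ E) ⁻¹' (((↑) : A → A ⧸ E) '' (s : Set A)) := by
      ext v
      refine ⟨fun h => ⟨v, h, rfl⟩, ?_⟩
      rintro ⟨w, hw, he⟩
      have h1 := QuotientGroup.eq.1 he
      simp only [hs, Finset.coe_filter, Finset.mem_univ, true_and, Set.mem_ofPred_eq] at hw ⊢
      rwa [show v = (w⁻¹ * v) * w by rw [mul_right_comm, inv_mul_cancel, one_mul], ha _ h1]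
    rw [← Nat.card_eq_finsetCard, show Nat.card ↥s = Nat.card ↥(s : Set A) from rfl,
      Nat.card_congr (Equiv.setCongr h),
      Nat.card_congr (QuotientGroup.preimageMkEquivSubgroupProdSet E _), Nat.card_prod]
    exact dvd_mul_right _ _
  have hpos : 0 < s.card := by
    obtain ⟨v, hv⟩ := hne
    exact Finset.card_pos.2 ⟨v, by simp [hs, hv]⟩
  have hem : (Nat.card E : ℤ) ≤ s.card := by exact_mod_cast Nat.le_of_dvd hpos hdvd
  have hmT : (s.card : ℤ) ≤ Fintype.card A := by exact_mod_cast Finset.card_le_univ s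
  have hcs : (∑ v ∈ s, a v) ^ 2 ≤ (s.card : ℤ) * ∑ v ∈ s, a v ^ 2 := sq_sum_le_card_mul_sum_sq
  have hm2 : (s.card : ℤ) ≤ ∑ v ∈ s, a v ^ 2 := by
    rw [Finset.card_eq_sum_ones]; push_cast
    exact Finset.sum_le_sum fun v hv => by
      have := (Finset.mem_filter.1 hv).2
      nlinarith [Int.one_le_abs this, sq_abs (a v), abs_nonneg (a v)]
  have hE : (0 : ℤ) < Nat.card E := by exact_mod_cast Nat.card_pos
  rw [hsum, hsq]
  set m : ℤ := (s.card : ℤ)
  set Q := ∑ v ∈ s, a v ^ 2
  set S := ∑ v ∈ s, a v
  set T : ℤ := (Fintype.card A : ℤ)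
  set e : ℤ := (Nat.card E : ℤ)
  have hcoef : 0 < T + e - m := by linarith
  have h1 : (T + e - m) * m ≤ (T + e - m) * Q := mul_le_mul_of_nonneg_left hm2 hcoef.le
  have h2 : 0 ≤ (m - e) * (T - m) := mul_nonneg (by linarith) (by linarith)
  refine ⟨by nlinarith, fun heq => ?_⟩
  have hQm : Q = m := by nlinarith
  have hS : S ^ 2 = m ^ 2 := by
    rw [hQm] at heq hcs
    nlinarith
  have hprod : (m - e) * (T - m) = 0 := by
    rw [hQm] at heq
    nlinarith
  rcases sq_eq_sq_iff_eq_or_eq_neg.1 hS with h | h <;>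
    rcases mul_eq_zero.1 hprod with h' | h'
  · left; linarith
  · right; right; left; linarith
  · right; left; linarith
  · right; right; right; linarith

variable {M : Ideal AlgInt}

/-- At least `e + (p - 1)/e` characters in the principal block. -/
theorem card_principalBlock_ge [M.IsPrime] (hM : IsPModular p M) (P : Sylow p G)
    (hP : Nat.card P = p) {x : G} (hxo : orderOf x = p)
    (hgen : (P : Subgroup G) = Subgroup.zpowers x)
    (ε : Subgroup.normalizer ((P : Subgroup G) : Set G) →* (ZMod p)ˣ)
    (hker : ε.ker = (Subgroup.centralizer ((P : Subgroup G) : Set G)).subgroupOf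
        (Subgroup.normalizer ((P : Subgroup G) : Set G)))
    {ι : Type} [Fintype ι] (u : ι → G) (hu : ∀ i, p ∣ orderOf (u i))
    (horth : ∀ i j, ∑ᶠ χ ∈ principalBlock M G, (χ : G → ℂ) (u i) * conj ((χ : G → ℂ) (u j)) =
      open Classical in if i = j then (p : ℂ) else 0) :
    Nat.card ε.range + Fintype.card ι ≤ Nat.card (principalBlock M G) := by
  classical
  have := charP_kres hM
  have := isAlgClosed_kres (M := M)
  have := Fintype.ofFinite G
  have := Fintype.ofFinite (IrrCharacter G)
  have := Fintype.ofFinite (principalBlock M G)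
  have : Finite (ConjClasses G) := Finite.of_surjective ConjClasses.mk ConjClasses.mk_surjective
  have := Fintype.ofFinite (ConjClasses G)
  revert hker
  revert ε
  set N := Subgroup.normalizer ((P : Subgroup G) : Set G) with hN
  intro ε hker
  set B := principalBlock M G with hBdef
  have hBblk : IsPBlock M B := isPBlock_principalBlock
  have hsumB : ∀ F : IrrCharacter G → ℂ, ∑ᶠ χ ∈ B, F χ = ∑ χ : B, F χ := fun F => by
    rw [← finsum_set_coe_eq_finsum_mem, finsum_eq_sum_of_fintype]
  -- a complement
  have hPN : ((P : Subgroup G).subgroupOf N).Normal :=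
    (Subgroup.normal_subgroupOf_iff_le_normalizer Subgroup.le_normalizer).2 le_rfl
  have hcopN : Nat.Coprime (Nat.card ((P : Subgroup G).subgroupOf N))
      ((P : Subgroup G).subgroupOf N).index := by
    rw [Nat.card_congr (Subgroup.subgroupOfEquivOfLe Subgroup.le_normalizer).toEquiv, hP,
      hp.out.coprime_iff_not_dvd]
    exact fun h => P.not_dvd_index (h.trans (Subgroup.relIndex_dvd_index_of_le Subgroup.le_normalizer))
  obtain ⟨H, hH⟩ := Subgroup.exists_right_complement'_of_coprime hcopN
  let D : TIData G p :=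
    { P := P
      N := N
      K := H.map N.subtype
      x := x
      gen := hgen
      ord := hxo
      normal := fun n hn y hy => (Subgroup.mem_normalizer_iff.1 hn y).1 hy
      leK := Subgroup.map_subtype_le H
      split := fun n hn => by
        have h := hH.symm.sup_eq_top
        obtain ⟨a, ha, y, hy, hay⟩ := Subgroup.mem_sup_of_normal_right.1
          (h ▸ Subgroup.mem_top (⟨n, hn⟩ : N) : (⟨n, hn⟩ : N) ∈ H ⊔ (P : Subgroup G).subgroupOf N)
        exact ⟨a, ⟨a, ha, rfl⟩, y, hy, congrArg Subtype.val hay.symm⟩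
      cop := by
        rw [Nat.card_congr (H.equivMapOfInjective N.subtype N.subtype_injective).symm.toEquiv,
          ← hH.symm.index_eq_card]
        refine fun h => hp.out.not_dvd_one (?_ : p ∣ 1)
        rw [← hcopN.gcd_eq_one]
        exact Nat.dvd_gcd (by
          rw [Nat.card_congr (Subgroup.subgroupOfEquivOfLe Subgroup.le_normalizer).toEquiv, hP]) h
      leN := Subgroup.centralizer_le_normalizer _
      ti := fun g hg => by
        have hmem : ∀ y ∈ (P : Subgroup G), g⁻¹ * y * g ∈ (P : Subgroup G) := by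
          intro y hy
          have hsup : IsPGroup p ↥(Subgroup.zpowers (g⁻¹ * y * g) ⊔ (P : Subgroup G)) :=
            IsPGroup.to_sup_of_normal_right' (P.2.map (MulAut.conj g⁻¹).toMonoidHom |>.to_le
              (Subgroup.zpowers_le.2 ⟨y, hy, by simp⟩)) P.2 (Subgroup.zpowers_le.2 (hg y hy))
          have := P.3 hsup le_sup_right
          rw [← this]
          exact Subgroup.mem_sup_left (Subgroup.mem_zpowers _)
        have hle : (P : Subgroup G).map (MulAut.conj g⁻¹).toMonoidHom ≤ P := by
          rintro _ ⟨y, hy, rfl⟩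
          simpa using hmem y hy
        have heq := Subgroup.eq_of_le_of_card_ge hle
          (Subgroup.card_map_of_injective (MulAut.conj g⁻¹).injective).ge
        rw [hN, Subgroup.mem_normalizer_iff]
        intro y
        constructor
        · intro hy
          have hy' : y ∈ (P : Subgroup G).map (MulAut.conj g⁻¹).toMonoidHom := by rwa [heq]
          obtain ⟨z, hz, rfl⟩ := hy'
          rw [show g * ((MulAut.conj g⁻¹).toMonoidHom z) * g⁻¹ = z by simp [mul_assoc]]
          exact hz
        · intro hy
          simpa [mul_assoc] using hmem _ hy }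
  -- the characters of the normalizer
  obtain ⟨γ, hγ⟩ := IsCyclic.exists_generator (α := ε.range)
  set e := Nat.card ε.range with he
  have hγo : orderOf γ = e := orderOf_eq_card_of_forall_mem_zpowers hγ
  let φ : ZMod p →+* kres M := ZMod.castHom (dvd_refl p) (kres M)
  let ω : Fin e → G → kres M := fun j g =>
    if h : g ∈ N then φ ((ε ⟨g, h⟩ : ZMod p) ^ (j : ℕ)) else 0
  have hω : ∀ j, D.LinChar (ω j) := fun j => by
    refine ⟨fun a ha b hb => ?_, fun c hc => ?_⟩
    · have ha' : a ∈ N := ha
      have hb' : b ∈ N := hb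
      simp only [ω, dif_pos ha', dif_pos hb', dif_pos (mul_mem ha' hb')]
      rw [← map_mul, ← mul_pow, ← Units.val_mul, ← map_mul]
      rfl
    · have hcN : c ∈ N := Subgroup.centralizer_le_normalizer _ hc
      have h1 : ε ⟨c, hcN⟩ = 1 := by
        rw [← MonoidHom.mem_ker, hker]; exact hc
      simp only [ω, dif_pos hcN, h1, Units.val_one, one_pow, map_one]
  have hne : ∀ i j, i ≠ j → ∃ n ∈ D.N, ω i n ≠ ω j n := by
    intro i j hij
    obtain ⟨n, hn⟩ := γ.2
    refine ⟨n, n.2, fun h => hij (Fin.ext ?_)⟩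
    simp only [ω, dif_pos n.2, Subtype.coe_eta, hn] at h
    have h2 : (γ : (ZMod p)ˣ) ^ (i : ℕ) = (γ : (ZMod p)ˣ) ^ (j : ℕ) :=
      Units.ext (by simpa using φ.injective h)
    exact pow_injOn_Iio_orderOf (by simp [hγo])
      (by simp [hγo]) h2
  obtain ⟨τ, b, hb1, hb0, hcentral, hpel, hcomm⟩ := D.exists_trace_functionals ω hω hne
  -- expansion of the functionals in reduced characters of the block
  choose part hpart using fun g : G => exists_isPPart (p := p) hp.out g
  choose reg hregeq hregc hregp hregr using hpart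
  have hτreg : ∀ j g, τ j (of (kres M) G g) = τ j (of (kres M) G (reg g)) := fun j g => by
    obtain ⟨m, hm⟩ := hregp g
    conv_lhs => rw [← hregeq g]
    exact hpel j _ _ (hregc g) ⟨m, by rw [← hm, pow_orderOf_eq_one]⟩
  have hredreg : ∀ (χ : IrrCharacter G) g,
      redC M ((χ : G → ℂ) g) = redC M ((χ : G → ℂ) (reg g)) := fun χ g => by
    conv_lhs => rw [← hregeq g]
    exact redC_char_mul_pelement hM (CfsgLib.Char.irr_isCharacter χ.2) (hregc g) (hregp g)
  choose cd hcd using fun y : G => exists_delta_reduced (p := p) hM y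
  let c : Fin e → IrrCharacter G → kres M := fun j χ =>
    ∑ C : ConjClasses G, if p ∣ orderOf C.out then 0 else τ j (of (kres M) G C.out) * cd C.out χ
  have hout : ∀ z : G, IsConj (ConjClasses.mk z).out z := fun z =>
    ConjClasses.mk_eq_mk_iff_isConj.1 (Quotient.out_eq _)
  have hexp0 : ∀ j z, ¬ p ∣ orderOf z →
      τ j (of (kres M) G z) = ∑ χ, c j χ * redC M ((χ : G → ℂ) z) := by
    intro j z hz
    obtain ⟨a, ha⟩ := isConj_iff.1 (hout z)
    have hor : ¬ p ∣ orderOf (ConjClasses.mk z).out := by
      rw [← ha] at hz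
      rwa [show orderOf (a * (ConjClasses.mk z).out * a⁻¹) = orderOf (ConjClasses.mk z).out from
        orderOf_injective (MulAut.conj a).toMonoidHom (MulAut.conj a).injective _] at hz
    simp only [c, Finset.sum_mul]
    rw [Finset.sum_comm, Finset.sum_eq_single (ConjClasses.mk z)]
    · simp only [if_neg hor, mul_assoc, ← Finset.mul_sum]
      rw [hcd _ z hz hor, if_pos (hout z), mul_one]
      conv_lhs => rw [← ha, map_mul, hcomm, ← map_mul, ← mul_assoc, inv_mul_cancel, one_mul]
    · intro C _ hC
      by_cases hC' : p ∣ orderOf C.out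
      · simp [hC']
      · simp only [if_neg hC', mul_assoc, ← Finset.mul_sum]
        rw [hcd _ z hz hC', if_neg, mul_zero]
        intro h
        apply hC
        rw [← ConjClasses.mk_eq_mk_iff_isConj.2 h]
        exact (Quotient.out_eq C).symm
    · intro h; exact absurd (Finset.mem_univ _) h
  have hexp : ∀ j g, τ j (of (kres M) G g) = ∑ χ, c j χ * redC M ((χ : G → ℂ) g) := fun j g => by
    rw [hτreg, hexp0 j _ (hregr g)]
    exact Finset.sum_congr rfl fun χ _ => by rw [← hredreg]
  -- restrict to the block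
  set E : Subalgebra.center (kres M) (MonoidAlgebra (kres M) G) := blkIdem M B with hEdef
  have hEaug : ∑ᶠ g, (E : MonoidAlgebra (kres M) G).coeff g = 1 := by
    have h := (algHom_blkIdem_eq_one_iff hM hBblk (trivIrr (G := G))).2 one_mem_principalBlock
    rw [lam_apply (trivIrr (G := G)) (isLocalCentral_blockSum hM hBblk) (blkIdem M B) rfl,
      omegaC_eq] at h
    simp only [trivIrr, mul_one, div_one] at h
    rw [redC_sum _ _ (fun g _ => (isLocalCentral_blockSum hM hBblk).2 g)] at h
    rw [finsum_eq_sum_of_fintype, ← h]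
    refine Finset.sum_congr rfl fun g _ => ?_
    rw [hEdef, coeff_blkIdem]
    simp [blockSum]
  have hblock : ∀ j g, τ j (of (kres M) G g) =
      ∑ χ : B, c j χ * redC M (((χ : IrrCharacter G) : G → ℂ) g) := by
    intro j g
    have h1 := hcentral j (E : MonoidAlgebra (kres M) G) (of (kres M) G g) (isClassCoeff_center E)
    rw [hEaug, one_mul] at h1
    rw [← h1]
    conv_lhs => rw [← MonoidAlgebra.sum_coeff_single (E : MonoidAlgebra (kres M) G),
      Finsupp.sum_fintype _ _ (fun _ => by simp), Finset.sum_mul, map_sum]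
    have h2 : ∀ a : G, τ j (single a ((E : MonoidAlgebra (kres M) G).coeff a) * of (kres M) G g) =
        ∑ χ : IrrCharacter G, c j χ *
          ((E : MonoidAlgebra (kres M) G).coeff a * redC M ((χ : G → ℂ) (a * g))) := by
      intro a
      rw [show single a ((E : MonoidAlgebra (kres M) G).coeff a) * of (kres M) G g =
          (E : MonoidAlgebra (kres M) G).coeff a • of (kres M) G (a * g) by
        rw [of_apply, of_apply, single_mul_single, mul_one, smul_single, smul_eq_mul, mul_one],
        map_smul, smul_eq_mul, hexp, Finset.mul_sum]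
      exact Finset.sum_congr rfl fun χ _ => mul_left_comm _ _ _
    rw [Finset.sum_congr rfl fun a _ => h2 a, Finset.sum_comm,
      ← Finset.sum_subtype (Finset.univ.filter (· ∈ B)) (p := (· ∈ B)) (by simp)
        (fun χ : IrrCharacter G => c j χ * redC M ((χ : G → ℂ) g)), Finset.sum_filter]
    refine Finset.sum_congr rfl fun χ _ => ?_
    rw [← Finset.mul_sum]
    have h3 : ∑ a, (E : MonoidAlgebra (kres M) G).coeff a * redC M ((χ : G → ℂ) (a * g)) =
        redC M (chiExt (χ : G → ℂ) (blockSum B) g) := by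
      rw [chiExt_eq, redC_sum _ _ (fun a _ => memLocalRing_mul
        ((isLocalCentral_blockSum hM hBblk).2 a) (memLocalRing_irr_apply χ _))]
      refine Finset.sum_congr rfl fun a _ => ?_
      rw [redC_mul ((isLocalCentral_blockSum hM hBblk).2 a) (memLocalRing_irr_apply χ _), hEdef,
        coeff_blkIdem]
      simp [blockSum]
    rw [h3, ← one_mul (blockSum B), chiExt_mul_central χ.2 1 (blockSum_isClassCoeff B), chiExt_one,
      omegaC_blockSum]
    split_ifs <;> simp [redC_zero]
  -- lifts
  let Φ : Fin e → (B → ℂ) := fun j χ =>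
    ∑ g, sec M ((b j).coeff g) * ((χ : IrrCharacter G) : G → ℂ) (reg g)
  have hΦR : ∀ j χ, MemLocalRing M (Φ j χ) := fun j χ => memLocalRing_sum _ _ fun g _ =>
    memLocalRing_mul (memLocalRing_sec _) (memLocalRing_irr_apply _ _)
  let Mm : Matrix (Fin e) (Fin e) (lring M) := fun i j =>
    ∑ χ : B, (⟨sec M (c i χ), memLocalRing_sec _⟩ : lring M) * ⟨Φ j χ, hΦR j χ⟩
  have hMm : (red M).mapMatrix Mm = 1 := by
    ext i j
    rw [RingHom.mapMatrix_apply, Matrix.map_apply]
    simp only [Mm, map_sum, map_mul]
    have hval : τ i (b j) = ∑ χ : B, c i χ * redC M (Φ j χ) := by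
      conv_lhs => rw [← MonoidAlgebra.sum_coeff_single (b j),
        Finsupp.sum_fintype _ _ (fun _ => by simp), map_sum]
      have hterm : ∀ g : G, τ i (single g ((b j).coeff g)) =
          ∑ χ : B, c i χ * ((b j).coeff g * redC M (((χ : IrrCharacter G) : G → ℂ) g)) := fun g => by
        rw [show single g ((b j).coeff g) = (b j).coeff g • of (kres M) G g by
          rw [of_apply, smul_single, smul_eq_mul, mul_one], map_smul, smul_eq_mul, hblock,
          Finset.mul_sum]
        exact Finset.sum_congr rfl fun χ _ => mul_left_comm _ _ _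
      rw [Finset.sum_congr rfl fun g _ => hterm g, Finset.sum_comm]
      refine Finset.sum_congr rfl fun χ _ => ?_
      rw [← Finset.mul_sum, redC_sum _ _ (fun g _ => memLocalRing_mul (memLocalRing_sec _)
        (memLocalRing_irr_apply _ _))]
      congr 1
      refine Finset.sum_congr rfl fun g _ => ?_
      rw [redC_mul (memLocalRing_sec _) (memLocalRing_irr_apply _ _), redC_sec, hredreg]
    rw [Matrix.one_apply, show (∑ χ : B, red M ⟨sec M (c i χ), memLocalRing_sec _⟩ *
        red M ⟨Φ j χ, hΦR j χ⟩) = τ i (b j) from by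
      rw [hval]
      refine Finset.sum_congr rfl fun χ _ => ?_
      rw [← redC_eq, ← redC_eq, redC_sec]]
    rcases eq_or_ne i j with rfl | h
    · rw [if_pos rfl, hb1]
    · rw [if_neg h, hb0 i j h]
  have hdet : (Mm.map (lring M).subtype).det ≠ 0 := by
    intro h
    rw [← RingHom.mapMatrix_apply, ← RingHom.map_det] at h
    have h0 : Mm.det = 0 := Subtype.ext h
    have h1 := congrArg Matrix.det hMm
    rw [← RingHom.map_det, Matrix.det_one, h0, map_zero] at h1
    exact zero_ne_one h1
  -- the vectors from the singular classes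
  let W : ι → (B → ℂ) := fun i χ => ((χ : IrrCharacter G) : G → ℂ) (u i)
  have hWW : ∀ i j, ∑ χ : B, W i χ * conj (W j χ) = if i = j then (p : ℂ) else 0 := fun i j =>
    (hsumB _).symm.trans (by convert horth i j using 2)
  have hΦW : ∀ i j, ∑ χ : B, Φ j χ * conj (W i χ) = 0 := fun i j => by
    simp only [Φ, W, Finset.sum_mul]
    rw [Finset.sum_comm]
    refine Finset.sum_eq_zero fun g _ => ?_
    simp only [mul_assoc, ← Finset.mul_sum]
    rw [← hsumB fun χ => (χ : G → ℂ) (reg g) * conj ((χ : G → ℂ) (u i)),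
      sum_block_eq_zero_of_regular_singular hM hBblk (hregr g) (hu i), mul_zero]
  have hli : LinearIndependent ℂ (Sum.elim W Φ) := by
    rw [Fintype.linearIndependent_iff]
    intro l hl
    have hl' : ∀ χ : B, (∑ i, l (Sum.inl i) * W i χ) + ∑ j, l (Sum.inr j) * Φ j χ = 0 := fun χ => by
      have := congrFun hl χ
      simpa [Fintype.sum_sum_type, Finset.sum_apply] using this
    have hwl : ∀ i, l (Sum.inl i) = 0 := by
      intro i
      have h1 : ∑ χ : B, ((∑ i', l (Sum.inl i') * W i' χ) + ∑ j, l (Sum.inr j) * Φ j χ) *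
          conj (W i χ) = 0 := Finset.sum_eq_zero fun χ _ => by rw [hl', zero_mul]
      simp only [add_mul, Finset.sum_add_distrib, Finset.sum_mul, mul_assoc] at h1
      rw [Finset.sum_comm] at h1
      simp only [← Finset.mul_sum, hWW] at h1
      rw [Finset.sum_comm] at h1
      simp only [← Finset.mul_sum, hΦW, mul_zero, Finset.sum_const_zero, add_zero, mul_ite,
        Finset.sum_ite_eq', Finset.mem_univ, if_true] at h1
      exact (mul_eq_zero.1 h1).resolve_right (Nat.cast_ne_zero.2 hp.out.ne_zero)
    have hl2 : ∀ χ : B, ∑ j, l (Sum.inr j) * Φ j χ = 0 := fun χ => by simpa [hwl] using hl' χ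
    have hfl : (fun j => l (Sum.inr j)) = 0 := by
      refine Matrix.eq_zero_of_mulVec_eq_zero hdet ?_
      funext i
      simp only [Matrix.mulVec, dotProduct, Mm, Pi.zero_apply]
      calc ∑ j, (lring M).subtype (∑ χ : B, (⟨sec M (c i χ), memLocalRing_sec _⟩ : lring M) *
              ⟨Φ j χ, hΦR j χ⟩) * l (Sum.inr j)
          = ∑ j, ∑ χ : B, sec M (c i χ) * (l (Sum.inr j) * Φ j χ) := by
            refine Finset.sum_congr rfl fun j _ => ?_
            rw [map_sum, Finset.sum_mul]
            refine Finset.sum_congr rfl fun χ _ => ?_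
            simp only [map_mul, Subring.coe_subtype]
            ring
        _ = 0 := by
            rw [Finset.sum_comm]
            simp only [← Finset.mul_sum, hl2, mul_zero, Finset.sum_const_zero]
    rintro (i | j)
    · exact hwl i
    · exact congrFun hfl j
  have h := hli.fintype_card_le_finrank
  rw [Module.finrank_fintype_fun_eq_card, Fintype.card_sum, Fintype.card_fin,
    ← Nat.card_eq_fintype_card (α := B)] at h
  omega

end CfsgLib.Block
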