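import Cfsg.Agent.Lib.Block.PrimeBlockInvolution
import Cfsg.Agent.Lib.Char.Column

/-!
There is no simple group of order `459648 = 2 ^ 7 * 3 ^ 3 * 7 * 19`.
-/

set_option autoImplicit false

namespace CfsgLib.Block.NoSimple459648

open Cfsg CfsgLib CfsgLib.Block
open scoped ComplexConjugate commutatorElement

universe u

variable {G : Type u} [Group G] [Finite G]

theorem sylow_count_arith : ∀ k : ℕ, k < 1274 → (1 + k * 19) ∣ 24192 → k = 0 ∨ k = 5 ∨ k = 53 := by
  decide +kernel

theorem degree_arith : ∀ d : ℕ, d < 678 → d ∣ 459648 →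
    (d % 19 = 1 → d = 1 ∨ d = 96) ∧ (d % 19 = 18 → d = 18 ∨ d = 56 ∨ d = 189) := by
  decide +kernel

set_option synthInstance.maxSize 2000 in
theorem shape_arith : ∀ i : ℕ, i < 6 → ∀ j : ℕ, j < 6 → ∀ k : ℕ, k < 6 →
    ((i + j + k + 1 = 2 ∨ i + j + k + 1 = 3 ∨ i + j + k + 1 = 6) →
      (1 + 96 * (i : ℤ) - 56 * (j : ℤ) - 189 * (k : ℤ)).natAbs ∣ 459648 →
      ((i + j + k + 1 : ℕ) : ℤ) % 19 = (1 + 96 * (i : ℤ) - 56 * (j : ℤ) - 189 * (k : ℤ)) % 19 →
      i + j + k + 1 = 6 ∧ 2 ≤ i) := by
  decide +kernel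

set_option synthInstance.maxSize 2000 in
theorem index_arith : ∀ d : ℕ, d < 710 → d ∣ 24192 → d % 19 = 1 ∨ d % 19 = 2 ∨ d % 19 = 3 →
    d = 1 ∨ d = 2 ∨ d = 3 ∨ d = 21 ∨ d = 96 ∨ d = 192 ∨ d = 288 := by
  decide +kernel

theorem normalizer_index {p : ℕ} [Fact p.Prime] (P : Sylow p G) :
    (Subgroup.normalizer ((P : Subgroup G) : Set G)).index = Nat.card (Sylow p G) :=
  (Sylow.card_eq_index_normalizer P).symm

theorem perfect_of_card [IsSimpleGroup G] (hG : Nat.card G = 459648) : commutator G = ⊤ := by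
  rcases Subgroup.Normal.eq_bot_or_eq_top (H := commutator G) inferInstance with h | h
  · exfalso
    let _ : CommGroup G :=
      { (inferInstance : Group G) with
        mul_comm := fun a b => by
          have hm : ⁅a, b⁆ ∈ commutator G :=
            Subgroup.commutator_mem_commutator (Subgroup.mem_top a) (Subgroup.mem_top b)
          rw [h, Subgroup.mem_bot] at hm
          exact commutatorElement_eq_one_iff_mul_comm.mp hm }
    have hp : (Nat.card G).Prime := IsSimpleGroup.prime_card
    rw [hG] at hp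
    exact absurd hp (Nat.not_prime_of_dvd_of_lt (m := 2) (by norm_num) le_rfl (by norm_num))
  · exact h

theorem sylow_card (hG : Nat.card G = 459648) [Fact (Nat.Prime 19)] (P : Sylow 19 G) :
    Nat.card P = 19 := by
  have hp : Nat.Prime 19 := Fact.out
  rw [Sylow.card_eq_multiplicity, hG]
  have h1 : 1 ≤ (459648 : ℕ).factorization 19 :=
    (hp.pow_dvd_iff_le_factorization (by norm_num)).mp (by norm_num)
  have h2 : ¬ 2 ≤ (459648 : ℕ).factorization 19 := fun h => by
    have := (hp.pow_dvd_iff_le_factorization (by norm_num : (459648 : ℕ) ≠ 0)).mpr h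
    norm_num at this
  rw [show (459648 : ℕ).factorization 19 = 1 by omega, pow_one]

/-- An involution centralizing `P`. -/
theorem exists_involution [Fact (Nat.Prime 19)] (P : Sylow 19 G) {e N : ℕ}
    (he : (Subgroup.centralizer ((P : Subgroup G) : Set G)).relIndex
      (Subgroup.normalizer ((P : Subgroup G) : Set G)) = e)
    (hN : Nat.card ↥(Subgroup.normalizer ((P : Subgroup G) : Set G)) = N) (h4 : 4 ∣ N)
    (he18 : e ∣ 18) :
    ∃ z : G, z * z = 1 ∧ z ≠ 1 ∧ (∀ y ∈ (P : Subgroup G), y * z = z * y) ∧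
      z ∈ Subgroup.centralizer ((P : Subgroup G) : Set G) ∧
      Nat.card ↥(Subgroup.centralizer ((P : Subgroup G) : Set G)) * e = N := by
  have hmul : Nat.card ↥(Subgroup.centralizer ((P : Subgroup G) : Set G)) * e = N := by
    rw [← he, ← hN, Subgroup.relIndex,
      ← Nat.card_congr (Subgroup.subgroupOfEquivOfLe (Subgroup.centralizer_le_normalizer _)).toEquiv,
      Subgroup.card_mul_index]
  have h2 : 2 ∣ Nat.card ↥(Subgroup.centralizer ((P : Subgroup G) : Set G)) := by
    by_contra h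
    have hc : Nat.Coprime 4 (Nat.card ↥(Subgroup.centralizer ((P : Subgroup G) : Set G))) := by
      rw [show (4 : ℕ) = 2 ^ 2 by norm_num]
      exact ((Nat.prime_two.coprime_iff_not_dvd).mpr h).pow_left 2
    have h5 : 4 ∣ e := hc.dvd_of_dvd_mul_left (hmul ▸ h4)
    have h6 : 4 ∣ 18 := h5.trans he18
    omega
  have : Fact (Nat.Prime 2) := ⟨Nat.prime_two⟩
  obtain ⟨⟨z, hz⟩, hzo⟩ := exists_prime_orderOf_dvd_card'
    (G := ↥(Subgroup.centralizer ((P : Subgroup G) : Set G))) 2 h2
  rw [Subgroup.orderOf_mk] at hzo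
  refine ⟨z, ?_, ?_, fun y hy => Subgroup.mem_centralizer_iff.mp hz y hy, hz, hmul⟩
  · rw [← sq, ← hzo]; exact pow_orderOf_eq_one z
  · rintro rfl
    rw [orderOf_one] at hzo
    norm_num at hzo

theorem not_dvd_orderOf {z : G} (hz2 : z * z = 1) : ¬ 19 ∣ orderOf z := fun h => by
  have h2 : orderOf z ∣ 2 := orderOf_dvd_of_pow_eq_one (by rw [sq, hz2])
  have := h.trans h2
  omega

/-- A group of order `459648` does not have `96` Sylow `19`-subgroups. -/
theorem not_ninety_six [IsSimpleGroup G] (hG : Nat.card G = 459648) [Fact (Nat.Prime 19)]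
    (P : Sylow 19 G) (hn : Nat.card (Sylow 19 G) = 1 + 5 * 19) : False := by
  obtain ⟨M, hM⟩ := CfsgLib.BlockB.exists_isPModular (p := 19) Fact.out
  have hF : ¬ BrauerReynolds.Formula 5 19 := by
    rintro ⟨h, u, hh, hu, heq⟩
    nlinarith [Nat.mul_le_mul_right u hh, mul_pos hh hu]
  obtain ⟨e, t, a, b, w, d₀, σ, Xp, Xm, Y, D⟩ :=
    BrauerReynolds.exists_data (perfect_of_card hG) hM P (sylow_card hG P) hn hF
  have hN : Nat.card ↥(Subgroup.normalizer ((P : Subgroup G) : Set G)) = 4788 := by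
    have h := Subgroup.card_mul_index (Subgroup.normalizer ((P : Subgroup G) : Set G))
    rw [normalizer_index P, hn, hG] at h
    omega
  have he18 : e ∣ 18 := ⟨t, by have := D.hte; rw [mul_comm] at this; omega⟩
  obtain ⟨z, hz2, hz1, hzP, hzC, -⟩ := exists_involution P D.e_eq hN (by norm_num) he18
  obtain ⟨χ, hχ⟩ := Finset.card_pos.mp (D.card_Xm.symm ▸ D.b_pos)
  have hne : (χ : G → ℂ) ≠ fun _ => 1 := fun h => D.one_not.2.1 (by
    have : χ = ⟨fun _ => 1, Char.isIrrCharacter_one⟩ := Subtype.ext h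
    rwa [this] at hχ)
  refine PrimeInvolution.no_involution_of_degree (by norm_num) χ hne (P : Subgroup G)
    (sylow_card hG P) (D.Xm_deg χ hχ) z hz2 hz1 hzP (fun y hy hy1 => ?_)
    (fun y hy hy1 => D.Xm_val χ hχ y hy hy1 z hzC (not_dvd_orderOf hz2))
  have h := D.Xm_val χ hχ y hy hy1 1 (Subgroup.one_mem _) (by rw [orderOf_one]; norm_num)
  rwa [mul_one] at h

theorem exists_counts (s : Finset (IrrCharacter G)) (f : IrrCharacter G → ℤ)
    (h : ∀ χ ∈ s, f χ = 96 ∨ f χ = -56 ∨ f χ = -189) :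
    ∃ i j k : ℕ, i + j + k = s.card ∧ (s.filter fun χ => f χ = 96).card = i ∧
      ∑ χ ∈ s, f χ = 96 * (i : ℤ) - 56 * (j : ℤ) - 189 * (k : ℤ) := by
  classical
  induction s using Finset.induction_on with
  | empty => exact ⟨0, 0, 0, by simp, by simp, by simp⟩
  | insert x s hx ih =>
    obtain ⟨i, j, k, h1, h2, h3⟩ := ih fun χ hχ => h χ (Finset.mem_insert_of_mem hχ)
    rcases h x (Finset.mem_insert_self x s) with hv | hv | hv
    · refine ⟨i + 1, j, k, by rw [Finset.card_insert_of_notMem hx]; omega, ?_, ?_⟩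
      · rw [Finset.filter_insert, if_pos hv, Finset.card_insert_of_notMem (fun hm => hx
          (Finset.mem_filter.mp hm).1), h2]
      · rw [Finset.sum_insert hx, h3, hv]; push_cast; ring
    · refine ⟨i, j + 1, k, by rw [Finset.card_insert_of_notMem hx]; omega, ?_, ?_⟩
      · rw [Finset.filter_insert, if_neg (by omega), h2]
      · rw [Finset.sum_insert hx, h3, hv]; push_cast; ring
    · refine ⟨i, j, k + 1, by rw [Finset.card_insert_of_notMem hx]; omega, ?_, ?_⟩
      · rw [Finset.filter_insert, if_neg (by omega), h2]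
      · rw [Finset.sum_insert hx, h3, hv]; push_cast; ring

/-- The value of a constant row at `y * z`. -/
theorem row_value {p : ℕ} [Fact p.Prime] {M : Ideal AlgInt} (hM : IsPModular p M) (P : Sylow p G)
    (hP : Nat.card P = p) {e : ℕ}
    (he : (Subgroup.centralizer ((P : Subgroup G) : Set G)).relIndex
      (Subgroup.normalizer ((P : Subgroup G) : Set G)) = e) (hep : e < p - 1)
    {χ : IrrCharacter G} (hχ : χ ∈ principalBlock M G) {ε : ℤ} (hε : ε = 1 ∨ ε = -1)
    (hval : ∀ y ∈ (P : Subgroup G), y ≠ 1 → (χ : G → ℂ) y = (ε : ℂ))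
    {z : G} (hzC : z ∈ Subgroup.centralizer ((P : Subgroup G) : Set G)) (hzr : ¬ p ∣ orderOf z) :
    ∀ y ∈ (P : Subgroup G), y ≠ 1 → (χ : G → ℂ) (y * z) = (ε : ℂ) := by
  classical
  have hp : p.Prime := Fact.out
  obtain ⟨E, r, hEcard, -, hshape, -, hv, -, -, hPsum⟩ := PrimeRows.exists_rows_sum p M hM P hP e he
  have := Fintype.ofFinite (P : Subgroup G)
  have hs : ((∑ v, r χ v : ℤ) : ℂ) = -((ε : ℂ) * ((p : ℂ) - 1)) := by
    have h := hPsum χ hχ
    rw [finsum_eq_sum_of_fintype, ← Finset.add_sum_erase _ _ (Finset.mem_univ (1 : (P : Subgroup G))),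
      OneMemClass.coe_one,
      Finset.sum_congr rfl fun (y : (P : Subgroup G)) hy' =>
        hval (y : G) y.2 (fun h => Finset.ne_of_mem_erase hy' (Subtype.ext h)),
      Finset.sum_const, Finset.card_erase_of_mem (Finset.mem_univ _), Finset.card_univ,
      ← Nat.card_eq_fintype_card, hP, nsmul_eq_mul, Nat.cast_sub hp.one_le, Nat.cast_one] at h
    linear_combination h
  obtain ⟨c, hc, hconst | ⟨w, hw⟩⟩ := hshape χ hχ
  · have hsum : ((∑ v, r χ v : ℤ) : ℂ) = ((p : ℂ) - 1) * (c : ℂ) := by
      rw [Finset.sum_congr rfl fun v _ => hconst v, Finset.sum_const, Finset.card_univ,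
        ZMod.card_units, nsmul_eq_mul]
      push_cast
      rw [Nat.cast_sub hp.one_le, Nat.cast_one]
    rw [hsum] at hs
    have hce : (c : ℂ) = -(ε : ℂ) := by
      have hp1 : ((p : ℂ) - 1) ≠ 0 := sub_ne_zero.mpr (by exact_mod_cast hp.one_lt.ne')
      refine mul_left_cancel₀ hp1 ?_
      linear_combination hs
    intro y hy hy1
    rw [hv χ hχ c hconst y hy hy1 z hzC hzr, hce, neg_neg]
  · exfalso
    have hsum : ∑ v, r χ v = (e : ℤ) * c := by
      rw [Finset.sum_congr rfl fun v _ => show r χ v = if w⁻¹ * v ∈ E then c else 0 by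
          split_ifs with h; exacts [(hw v).1 h, (hw v).2 h],
        Fintype.sum_equiv (Equiv.mulLeft w⁻¹) (fun v => if w⁻¹ * v ∈ E then c else 0)
          (fun v => if v ∈ E then c else 0) fun v => rfl,
        ← Finset.sum_filter, Finset.sum_const, nsmul_eq_mul,
        show (Finset.univ.filter fun v : (ZMod p)ˣ => v ∈ E).card = e by
          rw [← hEcard, Nat.card_eq_fintype_card, Fintype.card_subtype]]
    rw [hsum] at hs
    have h : (e : ℤ) * c = -(ε * ((p : ℤ) - 1)) := by exact_mod_cast hs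
    have hp1 := hp.one_le
    rcases hc with rfl | rfl <;> rcases hε with rfl | rfl <;> omega

/-- The final contradiction from an involution `z` with a large centralizer. -/
theorem not_big [IsSimpleGroup G] (hG : Nat.card G = 459648) [Fact (Nat.Prime 19)] (P : Sylow 19 G)
    (hn : Nat.card (Sylow 19 G) = 1008) {z : G} (hz2 : z * z = 1) (hz1 : z ≠ 1)
    (hzC : z ∈ Subgroup.centralizer ((P : Subgroup G) : Set G))
    (hC : Nat.card ↥(Subgroup.centralizer ((P : Subgroup G) : Set G)) = 76)
    (hbig : 648 ≤ Nat.card ↥(Subgroup.centralizer ({z} : Set G))) : False := by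
  classical
  have hPc := sylow_card hG P
  obtain ⟨K, hK⟩ : ∃ K : Subgroup G, K = Subgroup.centralizer ({z} : Set G) := ⟨_, rfl⟩
  rw [← hK] at hbig
  have hKmem : ∀ {g : G}, g ∈ K ↔ g * z = z * g := fun {g} => by
    rw [hK, Subgroup.mem_centralizer_singleton_iff]
  have hPK : (P : Subgroup G) ≤ K := fun y hy => hKmem.mpr (Subgroup.mem_centralizer_iff.mp hzC y hy)
  have h19 : 19 ∣ Nat.card K := hPc ▸ Subgroup.card_dvd_of_le hPK
  obtain ⟨d, hd⟩ : ∃ d, K.index = d := ⟨_, rfl⟩
  have hmul : Nat.card K * d = 459648 := by rw [← hd, Subgroup.card_mul_index, hG]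
  have hddvd : d ∣ 24192 := by
    obtain ⟨m, hm⟩ := h19
    refine ⟨m, ?_⟩
    rw [hm] at hmul
    have h : 19 * (d * m) = 19 * 24192 := by rw [← mul_assoc, mul_right_comm, hmul]
    omega
  have hdlt : d < 710 := by
    by_contra h
    have h' : 648 * 710 ≤ Nat.card K * d := Nat.mul_le_mul hbig (not_lt.mp h)
    omega
  -- the cosets fixed by `P`
  have hPp : IsPGroup 19 (P : Subgroup G) := P.2
  have hmod : d ≡ Nat.card (MulAction.fixedPoints (P : Subgroup G) (G ⧸ K)) [MOD 19] := by
    rw [← hd, Subgroup.index_eq_card]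
    exact hPp.card_modEq_card_fixedPoints _
  have hfix : ∀ g : G, (QuotientGroup.mk g : G ⧸ K) ∈ MulAction.fixedPoints (P : Subgroup G) (G ⧸ K) →
      g * z * g⁻¹ ∈ Subgroup.centralizer ((P : Subgroup G) : Set G) := by
    intro g hg
    refine Subgroup.mem_centralizer_iff.mpr fun y hy => ?_
    have h : (QuotientGroup.mk (y * g) : G ⧸ K) = QuotientGroup.mk g := hg ⟨y, hy⟩
    have h' := hKmem.mp (QuotientGroup.eq.mp h)
    calc y * (g * z * g⁻¹) = y * g * z * ((y * g)⁻¹ * g) * g⁻¹ * (g * g⁻¹ * y) := by group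
      _ = y * g * (z * ((y * g)⁻¹ * g)) * g⁻¹ * (g * g⁻¹ * y) := by group
      _ = y * g * (((y * g)⁻¹ * g) * z) * g⁻¹ * (g * g⁻¹ * y) := by rw [h']
      _ = g * z * g⁻¹ * y := by group
  let I := {x : ↥(Subgroup.centralizer ((P : Subgroup G) : Set G)) // x * x = 1 ∧ x ≠ 1}
  have hI : Nat.card I ≤ 3 := by
    let Q : Subgroup ↥(Subgroup.centralizer ((P : Subgroup G) : Set G)) :=
      (P : Subgroup G).subgroupOf _
    have hQle : (P : Subgroup G) ≤ Subgroup.centralizer ((P : Subgroup G) : Set G) := by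
      intro y hy
      refine Subgroup.mem_centralizer_iff.mpr fun w hw => ?_
      have hcyc : IsCyclic (P : Subgroup G) := isCyclic_of_prime_card hPc
      exact congrArg Subtype.val
        (IsCyclic.isMulCommutative.is_comm.comm (⟨w, hw⟩ : (P : Subgroup G)) ⟨y, hy⟩)
    have hQc : Nat.card Q = 19 :=
      (Nat.card_congr (Subgroup.subgroupOfEquivOfLe hQle).toEquiv).trans hPc
    have hQi : Q.index = 4 := by
      have h := Subgroup.card_mul_index Q
      rw [hQc, hC] at h
      omega
    have hsq : ∀ x : ↥(Subgroup.centralizer ((P : Subgroup G) : Set G)), x * x = 1 → x ∈ Q → x = 1 := by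
      intro x hx hxQ
      have h1 : orderOf x ∣ 2 := orderOf_dvd_of_pow_eq_one (by rw [sq, hx])
      have h2 : orderOf x ∣ 19 := by
        have h := orderOf_dvd_natCard (⟨x, hxQ⟩ : Q)
        rwa [hQc, Subgroup.orderOf_mk] at h
      have h3 := Nat.dvd_gcd h1 h2
      exact orderOf_eq_one_iff.mp (Nat.dvd_one.mp h3)
    let f : I → {q : ↥(Subgroup.centralizer ((P : Subgroup G) : Set G)) ⧸ Q // q ≠ QuotientGroup.mk 1} :=
      fun x => ⟨QuotientGroup.mk x.1, fun h => x.2.2 (hsq _ x.2.1 (by
        have h' := QuotientGroup.eq.mp h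
        rwa [mul_one, inv_mem_iff] at h'))⟩
    have hf : Function.Injective f := by
      intro x y h
      have h' : x.1⁻¹ * y.1 ∈ Q := QuotientGroup.eq.mp (congrArg Subtype.val h)
      have hxi : x.1⁻¹ = x.1 := inv_eq_of_mul_eq_one_right x.2.1
      have hyi : y.1⁻¹ = y.1 := inv_eq_of_mul_eq_one_right y.2.1
      rw [hxi] at h'
      have hcomm : x.1 * (x.1 * y.1) = (x.1 * y.1) * x.1 :=
        (Subtype.ext (Subgroup.mem_centralizer_iff.mp x.1.2 _
          (Subgroup.mem_subgroupOf.mp h'))).symm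
      rw [← mul_assoc, x.2.1, one_mul] at hcomm
      have hone : x.1 * y.1 = 1 := hsq _ (by
        calc x.1 * y.1 * (x.1 * y.1) = (x.1 * y.1 * x.1) * y.1 := by group
          _ = y.1 * y.1 := by rw [← hcomm]
          _ = 1 := y.2.1) h'
      exact Subtype.ext ((mul_eq_one_iff_eq_inv.mp hone).trans hyi)
    refine (Nat.card_le_card_of_injective f hf).trans ?_
    have := Fintype.ofFinite (↥(Subgroup.centralizer ((P : Subgroup G) : Set G)) ⧸ Q)
    rw [Nat.card_eq_fintype_card, Fintype.card_subtype_compl, Fintype.card_subtype_eq,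
      ← Nat.card_eq_fintype_card, ← Subgroup.index_eq_card, hQi]
  have hle3 : Nat.card (MulAction.fixedPoints (P : Subgroup G) (G ⧸ K)) ≤ 3 := by
    have hex : ∀ o : MulAction.fixedPoints (P : Subgroup G) (G ⧸ K),
        ∃ g : G, QuotientGroup.mk g = (o : G ⧸ K) := fun o => QuotientGroup.mk_surjective _
    choose g hg using hex
    refine le_trans (Nat.card_le_card_of_injective
      (fun o => (⟨⟨g o * z * (g o)⁻¹, hfix _ (by rw [hg]; exact o.2)⟩, Subtype.ext ?_, fun h => hz1 ?_⟩ : I))
      ?_) hI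
    · show g o * z * (g o)⁻¹ * (g o * z * (g o)⁻¹) = 1
      rw [conj_mul, hz2]; group
    · have h' : g o * z * (g o)⁻¹ = 1 := congrArg Subtype.val h
      simpa [mul_assoc] using congrArg (fun w => (g o)⁻¹ * w * g o) h'
    · intro o o' h
      have h' : g o * z * (g o)⁻¹ = g o' * z * (g o')⁻¹ :=
        congrArg (fun x : I => ((x.1 : ↥(Subgroup.centralizer ((P : Subgroup G) : Set G))) : G)) h
      apply Subtype.ext
      rw [← hg o, ← hg o', QuotientGroup.eq, hKmem]
      calc (g o)⁻¹ * g o' * z = (g o)⁻¹ * (g o' * z * (g o')⁻¹) * g o' := by group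
        _ = (g o)⁻¹ * (g o * z * (g o)⁻¹) * g o' := by rw [h']
        _ = z * ((g o)⁻¹ * g o') := by group
  have hpos : 0 < Nat.card (MulAction.fixedPoints (P : Subgroup G) (G ⧸ K)) := by
    have : Nonempty (MulAction.fixedPoints (P : Subgroup G) (G ⧸ K)) :=
      ⟨⟨QuotientGroup.mk 1, fun y => QuotientGroup.eq.mpr (by
        show ((y : G) * 1)⁻¹ * 1 ∈ K
        rw [mul_one, mul_one]
        exact inv_mem (hPK y.2))⟩⟩
    exact Nat.card_pos
  have hdmod : d % 19 = Nat.card (MulAction.fixedPoints (P : Subgroup G) (G ⧸ K)) := by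
    rw [hmod, Nat.mod_eq_of_lt (by omega)]
  have hKne : K ≠ ⊤ := by
    intro h
    have hzc : z ∈ Subgroup.center G := Subgroup.mem_center_iff.mpr fun g =>
      hKmem.mp (h ▸ Subgroup.mem_top g)
    rcases Subgroup.Normal.eq_bot_or_eq_top (H := Subgroup.center G) inferInstance with hc | hc
    · rw [hc, Subgroup.mem_bot] at hzc
      exact hz1 hzc
    · have h1 : commutator G = ⊥ := by
        rw [Subgroup.eq_bot_iff_forall]
        have : commutator G ≤ ⊥ := by
          rw [commutator_def, Subgroup.commutator_le]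
          intro a _ b _
          rw [Subgroup.mem_bot, commutatorElement_eq_one_iff_mul_comm]
          exact Subgroup.mem_center_iff.mp (hc ▸ Subgroup.mem_top b) a
        exact fun x hx => Subgroup.mem_bot.mp (this hx)
      rw [perfect_of_card hG] at h1
      have h2 : (⊤ : Subgroup G) ≠ ⊥ := top_ne_bot
      exact h2 h1
  have hsmall : ∀ m, d = m → m ≤ 3 → False := by
    intro m hm hm3
    have hker : (MulAction.toPermHom G (G ⧸ K)).ker = ⊥ := by
      refine (Subgroup.Normal.eq_bot_or_eq_top (H := (MulAction.toPermHom G (G ⧸ K)).ker)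
        inferInstance).resolve_right fun h => hKne ?_
      rw [← Subgroup.normalCore_eq_ker] at h
      exact top_le_iff.mp (h ▸ Subgroup.normalCore_le K)
    have h := Subgroup.card_dvd_of_injective (MulAction.toPermHom G (G ⧸ K))
      ((MonoidHom.ker_eq_bot_iff _).mp hker)
    rw [hG, Nat.card_perm, ← Subgroup.index_eq_card, hd, hm] at h
    have hfac : m.factorial ≤ 6 := (Nat.factorial_le hm3).trans (by decide)
    have := Nat.le_of_dvd (Nat.factorial_pos m) h
    omega
  have hN : Nat.card ↥(Subgroup.normalizer ((P : Subgroup G) : Set G)) = 456 := by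
    have h := Subgroup.card_mul_index (Subgroup.normalizer ((P : Subgroup G) : Set G))
    rw [normalizer_index P, hn, hG] at h
    omega
  have hnormal : (∀ k, (1 + k * 19) * 19 ∣ Nat.card K → k = 0) → False := by
    intro hone
    let Q : Sylow 19 K := P.subtype hPK
    have hcnt : ∃ k, Nat.card (Sylow 19 K) = 1 + k * 19 := by
      have h0 : 0 < Nat.card (Sylow 19 K) := Nat.card_pos
      obtain ⟨k, hk⟩ := (Nat.modEq_iff_dvd' h0).1 (card_sylow_modEq_one 19 K).symm
      exact ⟨k, by omega⟩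
    obtain ⟨k, hk⟩ := hcnt
    have hdvd : (1 + k * 19) * 19 ∣ Nat.card K := by
      rw [← hk, ← normalizer_index Q, mul_comm,
        ← Subgroup.card_mul_index (Subgroup.normalizer ((Q : Subgroup K) : Set K))]
      refine Nat.mul_dvd_mul_right ?_ _
      have hQc : Nat.card Q = 19 :=
        (Nat.card_congr (Subgroup.subgroupOfEquivOfLe hPK).toEquiv).trans hPc
      exact (dvd_of_eq hQc.symm).trans (Subgroup.card_dvd_of_le Subgroup.le_normalizer)
    have hk0 := hone k hdvd
    have htop : Subgroup.normalizer ((Q : Subgroup K) : Set K) = ⊤ := by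
      rw [← Subgroup.index_eq_one, normalizer_index Q, hk, hk0]
    have hle : K ≤ Subgroup.normalizer ((P : Subgroup G) : Set G) := by
      intro g hg
      have hmem : (⟨g, hg⟩ : K) ∈ Subgroup.normalizer ((Q : Subgroup K) : Set K) := htop ▸ Subgroup.mem_top _
      rw [Subgroup.mem_normalizer_iff] at hmem ⊢
      intro y
      constructor
      · intro hy
        exact Subgroup.mem_subgroupOf.mp ((hmem ⟨y, hPK hy⟩).mp (Subgroup.mem_subgroupOf.mpr hy))
      · intro hy
        have hyK : y ∈ K := by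
          have := mul_mem (mul_mem (inv_mem hg) (hPK hy)) hg
          simpa [mul_assoc] using this
        exact Subgroup.mem_subgroupOf.mp ((hmem ⟨y, hyK⟩).mpr (Subgroup.mem_subgroupOf.mpr hy))
    have := Nat.le_of_dvd (by rw [hN]; norm_num) (Subgroup.card_dvd_of_le hle)
    omega
  have hkb : ∀ N, Nat.card K = N → N ≤ 4788 →
      (∀ k, k < 14 → (1 + k * 19) * 19 ∣ N → k = 0) → False := by
    intro N hNK hNle hdec
    refine hnormal fun k hk => ?_
    rw [hNK] at hk
    have hle := Nat.le_of_dvd (hNK ▸ Nat.card_pos) hk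
    exact hdec k (by omega) hk
  rcases index_arith d hdlt hddvd (by omega) with h | h | h | h | h | h | h
  · exact hsmall d rfl (by omega)
  · exact hsmall d rfl (by omega)
  · exact hsmall d rfl (by omega)
  · -- index 21
    subst h
    have hKc : Nat.card K = 21888 := by omega
    have := Fintype.ofFinite (G ⧸ K)
    have h2 : Nat.card (MulAction.fixedPoints (P : Subgroup G) (G ⧸ K)) = 2 := by omega
    have hsub : MulAction.fixedPoints K (G ⧸ K) ⊆ MulAction.fixedPoints (P : Subgroup G) (G ⧸ K) :=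
      fun o ho y => ho ⟨y, hPK y.2⟩
    have horb : ∀ o : G ⧸ K, o ∉ MulAction.fixedPoints (P : Subgroup G) (G ⧸ K) →
        MulAction.orbit (P : Subgroup G) o ⊆ (MulAction.fixedPoints (P : Subgroup G) (G ⧸ K))ᶜ ∧
          Nat.card (MulAction.orbit (P : Subgroup G) o) = 19 := by
      intro o ho
      refine ⟨?_, ?_⟩
      · rintro w ⟨y, rfl⟩ hw
        apply ho
        intro y'
        have e := hw (y⁻¹)
        rw [inv_smul_smul] at e
        rw [e]
        exact hw y'
      · obtain ⟨m, hm⟩ := hPp.card_orbit o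
        have hdiv : Nat.card (MulAction.orbit (P : Subgroup G) o) ∣ 19 := by
          have h1 := Nat.card_congr (MulAction.orbitProdStabilizerEquivGroup (P : Subgroup G) o)
          rw [Nat.card_prod] at h1
          exact (Dvd.intro _ (h1.trans hPc))
        refine ((Nat.dvd_prime Fact.out).mp hdiv).resolve_left fun h1 => ho ?_
        have := (Nat.card_eq_one_iff_unique.mp h1).1
        intro y
        exact congrArg Subtype.val (Subsingleton.elim
          (⟨y • o, MulAction.mem_orbit _ _⟩ : MulAction.orbit (P : Subgroup G) o)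
          ⟨o, MulAction.mem_orbit_self _⟩)
    have hcompl : ((MulAction.fixedPoints (P : Subgroup G) (G ⧸ K))ᶜ : Set (G ⧸ K)).ncard = 19 := by
      rw [Set.ncard_compl, ← Nat.card_coe_set_eq, h2, ← Subgroup.index_eq_card, hd]
    obtain ⟨w, hw⟩ := Set.nonempty_of_ncard_ne_zero (by rw [hcompl]; norm_num :
      ((MulAction.fixedPoints (P : Subgroup G) (G ⧸ K))ᶜ : Set (G ⧸ K)).ncard ≠ 0)
    have hPorb : MulAction.orbit (P : Subgroup G) w = (MulAction.fixedPoints (P : Subgroup G) (G ⧸ K))ᶜ :=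
      Set.eq_of_subset_of_ncard_le (horb w hw).1 (by
        rw [hcompl, ← Nat.card_coe_set_eq, (horb w hw).2])
    let o₁ : G ⧸ K := QuotientGroup.mk 1
    have ho₁ : o₁ ∈ MulAction.fixedPoints K (G ⧸ K) := fun y => QuotientGroup.eq.mpr (by
      show ((y : G) * 1)⁻¹ * 1 ∈ K
      rw [mul_one, mul_one]
      exact inv_mem y.2)
    have hKorb : MulAction.orbit K w ⊆ ({o₁} : Set (G ⧸ K))ᶜ := by
      rintro x ⟨y, rfl⟩ hx
      have hx' : y • w = o₁ := hx
      apply hw
      have : w = o₁ := by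
        rw [← inv_smul_smul y w, hx']
        exact ho₁ y⁻¹
      rw [this]
      exact hsub ho₁
    have hKdiv : Nat.card (MulAction.orbit K w) ∣ 21888 := by
      rw [← hKc, ← Nat.card_congr (MulAction.orbitProdStabilizerEquivGroup K w), Nat.card_prod]
      exact dvd_mul_right _ _
    have hKge : 19 ≤ Nat.card (MulAction.orbit K w) := by
      rw [← (horb w hw).2, Nat.card_coe_set_eq, Nat.card_coe_set_eq]
      refine Set.ncard_le_ncard ?_
      rintro x ⟨y, hy⟩
      exact ⟨⟨y, hPK y.2⟩, hy⟩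
    have hKle : Nat.card (MulAction.orbit K w) ≤ 20 := by
      rw [Nat.card_coe_set_eq]
      refine (Set.ncard_le_ncard hKorb).trans ?_
      rw [Set.ncard_compl, Set.ncard_singleton, ← Subgroup.index_eq_card, hd]
    have hK19 : Nat.card (MulAction.orbit K w) = 19 := by
      rcases (by omega : Nat.card (MulAction.orbit K w) = 19 ∨ Nat.card (MulAction.orbit K w) = 20) with h | h
      · exact h
      · rw [h] at hKdiv; omega
    have heq : MulAction.orbit K w = (MulAction.fixedPoints (P : Subgroup G) (G ⧸ K))ᶜ := by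
      rw [← hPorb]
      refine (Set.eq_of_subset_of_ncard_le ?_
        (by rw [← Nat.card_coe_set_eq, ← Nat.card_coe_set_eq, (horb w hw).2, hK19])).symm
      rintro x ⟨y, hy⟩
      exact ⟨⟨y, hPK y.2⟩, hy⟩
    have hfixeq : MulAction.fixedPoints K (G ⧸ K) = MulAction.fixedPoints (P : Subgroup G) (G ⧸ K) := by
      refine Set.Subset.antisymm hsub fun o ho y => ?_
      by_contra hne
      -- the image is neither in the long orbit nor the base point, hence `o`
      have hnot : ∀ y : K, y • o ∈ MulAction.fixedPoints (P : Subgroup G) (G ⧸ K) := by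
        intro y
        by_contra hy
        have hy' : y • o ∈ MulAction.orbit K w := heq ▸ hy
        obtain ⟨y', hy'⟩ := hy'
        have ho' : o ∈ MulAction.orbit K w := ⟨y⁻¹ * y', by
          show (y⁻¹ * y') • w = o
          rw [mul_smul, show y' • w = y • o from hy', inv_smul_smul]⟩
        rw [heq] at ho'
        exact ho' ho
      have hne1 : o ≠ o₁ := fun e => hne (by rw [e]; exact ho₁ y)
      have hne2 : y • o ≠ o₁ := fun e => hne1 (by
        rw [← inv_smul_smul y o, e]; exact ho₁ y⁻¹)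
      have h3 : ({o₁, o, y • o} : Set (G ⧸ K)) ⊆ MulAction.fixedPoints (P : Subgroup G) (G ⧸ K) := by
        rintro x (rfl | rfl | rfl)
        · exact hsub ho₁
        · exact ho
        · exact hnot y
      have h4 := Set.ncard_le_ncard h3
      rw [Set.ncard_eq_three.mpr ⟨o₁, o, y • o, hne1.symm, hne2.symm, Ne.symm hne, rfl⟩,
        ← Nat.card_coe_set_eq, h2] at h4
      omega
    have hq := Nat.card_congr (Sylow.fixedPointsMulLeftCosetsEquivQuotient K)
    rw [hfixeq, h2] at hq
    have h21 := Subgroup.relIndex_mul_index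
      (Subgroup.le_normalizer : K ≤ Subgroup.normalizer (K : Set G))
    rw [hd, Subgroup.relIndex, Subgroup.index_eq_card] at h21
    have h2dvd : 2 ∣ 21 := ⟨_, by rw [← h21]; congr 1; exact hq.symm⟩
    omega
  · subst h; exact hkb 4788 (by omega) le_rfl (by decide)
  · subst h; exact hkb 2394 (by omega) (by norm_num) (by decide)
  · subst h; exact hkb 1596 (by omega) (by norm_num) (by decide)

/-- A group of order `459648` does not have `1008` Sylow `19`-subgroups. -/
theorem not_thousand_eight [IsSimpleGroup G] (hG : Nat.card G = 459648) [Fact (Nat.Prime 19)]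
    (P : Sylow 19 G) (hn : Nat.card (Sylow 19 G) = 1008) : False := by
  classical
  have := Fintype.ofFinite (IrrCharacter G)
  have := Fintype.ofFinite G
  obtain ⟨M, hM⟩ := CfsgLib.BlockB.exists_isPModular (p := 19) Fact.out
  have hperf := perfect_of_card hG
  have hPc := sylow_card hG P
  obtain ⟨e, t, d₀, σ, CF, YF, ε, R⟩ := BrauerTuan.exists_rowData hperf hM P hPc
  have hN : Nat.card ↥(Subgroup.normalizer ((P : Subgroup G) : Set G)) = 456 := by
    have h := Subgroup.card_mul_index (Subgroup.normalizer ((P : Subgroup G) : Set G))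
    rw [normalizer_index P, hn, hG] at h
    omega
  have he18 : e ∣ 18 := ⟨t, by have := R.hte; rw [mul_comm] at this; omega⟩
  obtain ⟨z, hz2, hz1, hzP, hzC, hCe⟩ := exists_involution P R.e_eq hN (by norm_num) he18
  have he6 : e ∣ 6 := Nat.dvd_gcd he18 (Dvd.intro_left _ hCe)
  have he2 := R.e_two
  have hele : e ≤ 6 := Nat.le_of_dvd (by norm_num) he6
  have hecases : e = 2 ∨ e = 3 ∨ e = 6 := by
    rcases (by omega : e = 2 ∨ e = 3 ∨ e = 4 ∨ e = 5 ∨ e = 6) with h | h | h | h | h <;>
      subst h <;> omega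
  have ht2 : 2 ≤ t := by
    have := R.hte
    by_contra ht
    have hlt : t * e ≤ 1 * e := Nat.mul_le_mul_right e (by omega)
    omega
  obtain ⟨hCFc, hYFc, hσ, -, -, -, hYdeg, hmod, -, hrel⟩ := R.exc ht2
  have hyz : ∀ χ ∈ CF, ∀ y ∈ (P : Subgroup G), y ≠ 1 → (χ : G → ℂ) (y * z) = (ε χ : ℂ) := fun χ hχ =>
    row_value hM P hPc R.e_eq (by omega) (R.CF_sub χ hχ) (R.eps_pm χ hχ) (R.CF_val χ hχ) hzC
      (not_dvd_orderOf hz2)
  obtain ⟨one, hone⟩ : ∃ one : IrrCharacter G, one = ⟨fun _ => 1, Char.isIrrCharacter_one⟩ := ⟨_, rfl⟩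
  have hcol : ∀ g : G, ∑ χ : IrrCharacter G, Complex.normSq ((χ : G → ℂ) g) =
      (Nat.card (Subgroup.centralizer ({g} : Set G)) : ℝ) := by
    intro g
    have h := CfsgLib.Char.column_orthogonality g g
    rw [if_pos (IsConj.refl g)] at h
    simp only [Complex.mul_conj] at h
    exact_mod_cast h
  have hdlt : ∀ χ : IrrCharacter G, charDegree (χ : G → ℂ) < 678 := by
    intro χ
    by_contra hge
    have h1 := hcol 1
    have hc1 : Nat.card (Subgroup.centralizer ({1} : Set G)) = 459648 := by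
      rw [← hG]
      refine Nat.card_congr ((MulEquiv.subgroupCongr ?_).trans Subgroup.topEquiv).toEquiv
      rw [eq_top_iff]
      intro g _
      rw [Subgroup.mem_centralizer_singleton_iff, mul_one, one_mul]
    rw [hc1] at h1
    have h2 := Finset.single_le_sum (f := fun χ : IrrCharacter G => Complex.normSq ((χ : G → ℂ) 1))
      (fun i _ => Complex.normSq_nonneg _) (Finset.mem_univ χ)
    simp only [h1] at h2
    rw [← CfsgLib.BlockB.irr_degree_cast χ, Complex.normSq_natCast] at h2
    have h3 : charDegree (χ : G → ℂ) * charDegree (χ : G → ℂ) ≤ 459648 := by exact_mod_cast h2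
    have h4 : 678 * 678 ≤ charDegree (χ : G → ℂ) * charDegree (χ : G → ℂ) :=
      Nat.mul_le_mul (not_lt.mp hge) (not_lt.mp hge)
    omega
  have hddvd : ∀ χ : IrrCharacter G, charDegree (χ : G → ℂ) ∣ 459648 := fun χ =>
    hG ▸ CfsgLib.BlockB.irr_degree_dvd_card χ
  obtain ⟨f, hf⟩ : ∃ f : IrrCharacter G → ℤ,
      f = fun χ => ε χ * (charDegree (χ : G → ℂ) : ℤ) := ⟨_, rfl⟩
  have hvals : ∀ χ ∈ CF.erase one, f χ = 96 ∨ f χ = -56 ∨ f χ = -189 := by
    intro χ hχ
    obtain ⟨hne, hχC⟩ := Finset.mem_erase.mp hχ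
    have hneq : (χ : G → ℂ) ≠ fun _ => 1 := fun h => hne (hone ▸ Subtype.ext h)
    obtain ⟨h1, h18⟩ := degree_arith _ (hdlt χ) (hddvd χ)
    have hm := R.CF_mod χ hχC
    push_cast at hm
    rcases R.eps_pm χ hχC with he | he
    · rw [he] at hm
      rcases h1 (by omega) with h | h
      · exfalso
        apply hneq
        refine BrauerReynolds.eq_one_of_degree_one hperf χ ?_
        rw [← CfsgLib.BlockB.irr_degree_cast χ, h, Nat.cast_one]
      · left; rw [hf]; simp [he, h]
    · rw [he] at hm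
      rcases h18 (by omega) with h | h | h
      · exfalso
        refine PrimeInvolution.no_involution_of_degree (p := 19) (by norm_num) χ hneq
          (P : Subgroup G) hPc (by rw [← CfsgLib.BlockB.irr_degree_cast χ, h]) z hz2 hz1 hzP
          (fun y hy hy1 => ?_) (fun y hy hy1 => ?_)
        · rw [R.CF_val χ hχC y hy hy1, he]; norm_num
        · rw [hyz χ hχC y hy hy1, he]; norm_num
      · right; left; rw [hf]; simp [he, h]
      · right; right; rw [hf]; simp [he, h]
  obtain ⟨i, j, k, hijk, hi, hS⟩ := exists_counts (CF.erase one) f hvals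
  rw [Finset.card_erase_of_mem (hone ▸ R.one_mem), hCFc] at hijk
  obtain ⟨η, hη⟩ : YF.Nonempty := Finset.card_pos.mp (by omega)
  have hrel1 := hrel η hη 1 (by rw [orderOf_one]; norm_num)
  rw [← CfsgLib.BlockB.irr_degree_cast η, hYdeg η hη] at hrel1
  have hSC : ∑ χ ∈ CF, f χ = σ * (d₀ : ℤ) := by
    have h : ((∑ χ ∈ CF, f χ : ℤ) : ℂ) = ((σ * (d₀ : ℤ) : ℤ) : ℂ) := by
      push_cast
      rw [← hrel1]
      exact Finset.sum_congr rfl fun χ _ => by
        rw [hf, ← CfsgLib.BlockB.irr_degree_cast χ]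
        push_cast
        ring
    exact_mod_cast h
  have hf1 : f one = 1 := by
    rw [hf, hone]
    simp only [R.eps_one, one_mul]
    have h : ((charDegree ((⟨fun _ => 1, Char.isIrrCharacter_one⟩ : IrrCharacter G) : G → ℂ) : ℕ) : ℂ) = 1 :=
      CfsgLib.BlockB.irr_degree_cast _
    exact_mod_cast h
  rw [← Finset.add_sum_erase _ _ (hone ▸ R.one_mem : one ∈ CF), hf1, hS] at hSC
  have hSC' : 1 + 96 * (i : ℤ) - 56 * (j : ℤ) - 189 * (k : ℤ) = σ * (d₀ : ℤ) := by linarith
  have hd0 : d₀ ∣ 459648 := hYdeg η hη ▸ hddvd η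
  push_cast at hmod
  obtain ⟨hij6, hi2⟩ := shape_arith i (by omega) j (by omega) k (by omega) (by omega)
    (by rw [hSC', Int.natAbs_mul]; rcases hσ with h | h <;> simp [h, hd0])
    (by rw [hSC']; rcases hσ with h | h <;> rw [h] at hmod ⊢ <;> omega)
  have he : e = 6 := by omega
  subst he
  -- two rows of degree 96
  obtain ⟨χ₁, h₁, χ₂, h₂, hne₁₂⟩ :=
    Finset.one_lt_card.mp (show 1 < ((CF.erase one).filter fun χ => f χ = 96).card by omega)
  have hbound : ∀ χ ∈ (CF.erase one).filter (fun χ => f χ = 96),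
      (324 : ℝ) ≤ Complex.normSq ((χ : G → ℂ) z) := by
    intro χ hχ
    obtain ⟨hχ', h96⟩ := Finset.mem_filter.mp hχ
    have hχC := (Finset.mem_erase.mp hχ').2
    obtain ⟨heps, hdeg⟩ : ε χ = 1 ∧ charDegree (χ : G → ℂ) = 96 := by
      rw [hf] at h96
      rcases R.eps_pm χ hχC with h | h <;> simp only [h] at h96 <;> [exact ⟨h, by omega⟩; omega]
    obtain ⟨n, hn⟩ := PrimeInvolution.exists_value χ (P : Subgroup G) hPc z hz2 hz1 hzP 1
      (fun y hy hy1 => by rw [R.CF_val χ hχC y hy hy1, heps])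
      (fun y hy hy1 => by rw [hyz χ hχC y hy hy1, heps])
    rw [← CfsgLib.BlockB.irr_degree_cast χ, hdeg] at hn
    have hval : (χ : G → ℂ) z = (((38 * (n : ℤ) - 132 : ℤ)) : ℂ) := by
      rw [hn]; push_cast; ring
    rw [hval, Complex.normSq_intCast]
    have h18 : 18 ≤ |38 * (n : ℤ) - 132| := by
      rcases le_or_gt n 3 with h | h
      · rw [abs_of_nonpos (by omega)]; omega
      · rw [abs_of_nonneg (by omega)]; omega
    have h324 : (324 : ℤ) ≤ (38 * (n : ℤ) - 132) * (38 * (n : ℤ) - 132) := by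
      nlinarith [abs_mul_abs_self (38 * (n : ℤ) - 132)]
    exact_mod_cast h324
  have hbig : 648 ≤ Nat.card ↥(Subgroup.centralizer ({z} : Set G)) := by
    have hsum := Finset.sum_le_univ_sum_of_nonneg (s := {χ₁, χ₂})
      (f := fun χ : IrrCharacter G => Complex.normSq ((χ : G → ℂ) z)) (fun i => Complex.normSq_nonneg _)
    rw [Finset.sum_pair hne₁₂, hcol z] at hsum
    have := add_le_add (hbound χ₁ h₁) (hbound χ₂ h₂)
    have h' : (648 : ℝ) ≤ (Nat.card ↥(Subgroup.centralizer ({z} : Set G)) : ℝ) := by linarith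
    exact_mod_cast h'
  exact not_big hG P hn hz2 hz1 hzC (by omega) hbig

/-- No simple group has order `459648`. -/
theorem card_ne [IsSimpleGroup G] : Nat.card G ≠ 459648 := by
  intro hG
  have : Fact (Nat.Prime 19) := ⟨by norm_num⟩
  obtain ⟨P⟩ : Nonempty (Sylow 19 G) := inferInstance
  obtain ⟨k, hk⟩ : ∃ k, Nat.card (Sylow 19 G) = 1 + k * 19 := by
    have h0 : 0 < Nat.card (Sylow 19 G) := Nat.card_pos
    obtain ⟨k, hk⟩ := (Nat.modEq_iff_dvd' h0).1 (card_sylow_modEq_one 19 G).symm
    exact ⟨k, by omega⟩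
  have hdvd : (1 + k * 19) ∣ 24192 := by
    have h19 : 19 ∣ Nat.card ↥(Subgroup.normalizer ((P : Subgroup G) : Set G)) :=
      (dvd_of_eq (sylow_card hG P).symm).trans (Subgroup.card_dvd_of_le Subgroup.le_normalizer)
    obtain ⟨m, hm⟩ := h19
    have h := Subgroup.card_mul_index (Subgroup.normalizer ((P : Subgroup G) : Set G))
    rw [normalizer_index P, hk, hG, hm] at h
    refine ⟨m, ?_⟩
    have h' : 19 * ((1 + k * 19) * m) = 19 * 24192 := by rw [← mul_assoc, mul_right_comm, h]
    omega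
  have hlt := Nat.le_of_dvd (by norm_num) hdvd
  rcases sylow_count_arith k (by omega) hdvd with rfl | rfl | rfl
  · have hnor : ((P : Subgroup G)).Normal := by
      rw [← Subgroup.normalizer_eq_top_iff, ← Subgroup.index_eq_one, normalizer_index P, hk]
    rcases Subgroup.Normal.eq_bot_or_eq_top (H := (P : Subgroup G)) hnor with h | h
    · have h' : Nat.card (P : Subgroup G) = 1 := by rw [h]; exact Subgroup.card_bot
      have := sylow_card hG P
      omega
    · have h' : Nat.card (P : Subgroup G) = 459648 := by rw [h, Subgroup.card_top, hG]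
      have := sylow_card hG P
      omega
  · exact not_ninety_six hG P hk
  · exact not_thousand_eight hG P hk

end CfsgLib.Block.NoSimple459648
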