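import Cfsg.Agent.Lib.Block.CentralDefect
import Cfsg.Agent.Lib.Char.CliffordApps

/-!
Character degrees in a block with normal defect group.
-/

set_option autoImplicit false
set_option linter.unusedSectionVars false

namespace CfsgLib.Block

open Cfsg MonoidAlgebra
open scoped ComplexConjugate

universe u

variable {G : Type u} [Group G] [Finite G]

/-- If all constituents of `χ` on `P` have degree `d`, then `χ(s)/d` is an algebraic integer for
`s` centralizing `P`. -/
theorem isIntegral_apply_div_degree {P : Subgroup G} [Fintype P] (χ : IrrCharacter G) {d : ℂ}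
    (hd : d ≠ 0) (hall : ∀ ψ : IrrCharacter P,
      classInner (fun n : P => (χ : G → ℂ) n) (ψ : P → ℂ) ≠ 0 → (ψ : P → ℂ) 1 = d)
    {s : G} (hs : s ∈ Subgroup.centralizer (P : Set G)) :
    IsIntegral ℤ ((χ : G → ℂ) s / d) := by
  classical
  have := Fintype.ofFinite G
  have := Fintype.ofFinite (IrrCharacter P)
  -- restriction to `K = P ⟨s⟩`, where `s` is central
  set K := P ⊔ Subgroup.zpowers s with hK
  have hKc : K ≤ Subgroup.centralizer ({s} : Set G) := sup_le
    (fun u hu => Subgroup.mem_centralizer_singleton_iff.2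
      (Subgroup.mem_centralizer_iff.1 hs u hu))
    (Subgroup.zpowers_le.2 (Subgroup.mem_centralizer_singleton_iff.2 rfl))
  have hsK : s ∈ K := le_sup_right (a := P) (Subgroup.mem_zpowers s)
  have hPK : P ≤ K := le_sup_left
  have hscent : ∀ w : K, (⟨s, hsK⟩ : K) * w = w * ⟨s, hsK⟩ := fun w =>
    Subtype.ext (Subgroup.mem_centralizer_singleton_iff.1 (hKc w.2)).symm
  have := Fintype.ofFinite K
  have := Fintype.ofFinite (IrrCharacter K)
  have hresK : IsCharacter K (fun n : K => (χ : G → ℂ) n) :=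
    CfsgLib.Char.isCharacter_restrict (CfsgLib.Char.irr_isCharacter χ.2) K
  choose w hwint hw using fun η : IrrCharacter K =>
    exists_isIntegral_apply_central_mul η hscent
  choose k hk using fun η : IrrCharacter K =>
    CfsgLib.Char.classInner_isCharacter_nat hresK (CfsgLib.Char.irr_isCharacter η.2)
  let r : IrrCharacter K → P → ℂ := fun η v => (η : K → ℂ) ⟨v, hPK v.2⟩
  have hr : ∀ η, IsCharacter P (r η) := fun η =>
    CfsgLib.Char.isCharacter_comp (CfsgLib.Char.irr_isCharacter η.2) (Subgroup.inclusion hPK)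
  choose a ha using fun (η : IrrCharacter K) (ψ : IrrCharacter P) =>
    CfsgLib.Char.classInner_isCharacter_nat (hr η) (CfsgLib.Char.irr_isCharacter ψ.2)
  have hexpK : ∀ x : K, (χ : G → ℂ) x = ∑ η : IrrCharacter K, (k η : ℂ) * (η : K → ℂ) x := by
    intro x
    refine (CfsgLib.Char.classFunction_apply_eq_sum
      (CfsgLib.Char.isCharacter_isClassFunction hresK) x).trans ?_
    exact Finset.sum_congr rfl fun η _ => by rw [hk]
  have h0 : ∀ v : P, (χ : G → ℂ) v = ∑ η, (k η : ℂ) * r η v := fun v => hexpK ⟨v, hPK v.2⟩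
  let f : P → ℂ := fun v => (χ : G → ℂ) ((v : G) * s)
  have hfe : f = ∑ η, ((k η : ℂ) * w η) • r η := by
    funext v
    simp only [Finset.sum_apply, Pi.smul_apply, smul_eq_mul]
    refine ((congrArg (χ : G → ℂ) (Subgroup.mem_centralizer_iff.1 hs v v.2)).trans
      (hexpK ((⟨s, hsK⟩ : K) * ⟨v, hPK v.2⟩))).trans ?_
    exact Finset.sum_congr rfl fun η _ => by rw [hw, mul_assoc]
  have hfi : ∀ ψ : IrrCharacter P,
      classInner f (ψ : P → ℂ) = ∑ η, (k η : ℂ) * w η * (a η ψ : ℂ) := by
    intro ψ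
    rw [hfe, CfsgLib.Char.classInner_sum_left]
    exact Finset.sum_congr rfl fun η _ => by rw [CfsgLib.Char.classInner_smul_left, ha]
  have hfcl : IsClassFunction P f := fun v h => by
    have h2 := CfsgLib.Char.irr_isClassFunction χ.2 ((v : G) * s) (h : G)
    change (χ : G → ℂ) (((h * v * h⁻¹ : P) : G) * s) = (χ : G → ℂ) ((v : G) * s)
    rw [← h2]
    refine congrArg (χ : G → ℂ) ?_
    have h3 : ((h : G))⁻¹ * s = s * (h : G)⁻¹ :=
      Subgroup.mem_centralizer_iff.1 hs _ (inv_mem h.2)
    push_cast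
    rw [mul_assoc ((h : G) * v), h3]
    group
  have hval := CfsgLib.Char.classFunction_apply_eq_sum hfcl (1 : P)
  have hf1 : f 1 = (χ : G → ℂ) s := by simp [f]
  rw [← hf1, hval, Finset.sum_div]
  refine IsIntegral.sum _ fun ψ _ => ?_
  by_cases hψ : classInner (fun n : P => (χ : G → ℂ) n) (ψ : P → ℂ) = 0
  · have h2 : (fun n : P => (χ : G → ℂ) n) = ∑ η, (k η : ℂ) • r η := by
      funext v
      simp [h0]
    rw [h2, CfsgLib.Char.classInner_sum_left] at hψ
    simp only [CfsgLib.Char.classInner_smul_left, ha] at hψ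
    rw [← Nat.cast_zero, ← Finset.sum_congr rfl (fun η _ => Nat.cast_mul (k η) (a η ψ)),
      ← Nat.cast_sum, Nat.cast_inj] at hψ
    have h3 : classInner f (ψ : P → ℂ) = 0 := by
      rw [hfi]
      refine Finset.sum_eq_zero fun η _ => ?_
      rw [mul_right_comm, ← Nat.cast_mul, (Finset.sum_eq_zero_iff.1 hψ) η (Finset.mem_univ η)]
      simp
    rw [h3, zero_mul, zero_div]
    exact isIntegral_zero
  · rw [hall ψ hψ, mul_div_cancel_right₀ _ hd, hfi]
    exact IsIntegral.sum _ fun η _ =>
      ((isIntegral_natCast _).mul (hwint η)).mul (isIntegral_natCast _)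

variable {p : ℕ} {M : Ideal AlgInt} [M.IsPrime] {B : Set (IrrCharacter G)} {P : Subgroup G}

/-- The `p`-part of a degree over a normal defect group. -/
theorem factorization_degree_ge (hM : IsPModular p M) (hB : IsPBlock M B)
    (hD : IsDefectGroup p M B P) [P.Normal] [Fintype P] {χ : IrrCharacter G} (hχ : χ ∈ B)
    {φ : IrrCharacter P} (hφ : classInner (fun n : P => (χ : G → ℂ) n) (φ : P → ℂ) ≠ 0) :
    P.index.factorization p + (charDegree (φ : P → ℂ)).factorization p ≤
      (charDegree (χ : G → ℂ)).factorization p := by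
  classical
  have := Fact.mk hM.1
  have := Fintype.ofFinite G
  have := Fintype.ofFinite (IrrCharacter P)
  have hall : ∀ ψ : IrrCharacter P,
      classInner (fun n : P => (χ : G → ℂ) n) (ψ : P → ℂ) ≠ 0 →
        (ψ : P → ℂ) 1 = (φ : P → ℂ) 1 := by
    intro ψ hψ
    obtain ⟨x, rfl⟩ := exists_conjIrr_eq hφ hψ
    rw [conjIrr_apply]
    exact congrArg (φ : P → ℂ) (Subtype.ext (by simp))
  have hres : IsCharacter P (fun n : P => (χ : G → ℂ) n) :=
    CfsgLib.Char.isCharacter_restrict (CfsgLib.Char.irr_isCharacter χ.2) P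
  choose m hm using fun ψ : IrrCharacter P =>
    CfsgLib.Char.classInner_isCharacter_nat hres (CfsgLib.Char.irr_isCharacter ψ.2)
  set r := ∑ ψ : IrrCharacter P, m ψ with hr
  have hdeg : (χ : G → ℂ) 1 = (r : ℂ) * (φ : P → ℂ) 1 := by
    have h := CfsgLib.Char.classFunction_apply_eq_sum
      (CfsgLib.Char.isCharacter_isClassFunction hres) (1 : P)
    simp only [OneMemClass.coe_one] at h
    rw [h, hr, Nat.cast_sum, Finset.sum_mul]
    refine Finset.sum_congr rfl fun ψ _ => ?_
    by_cases hψ : classInner (fun n : P => (χ : G → ℂ) n) (ψ : P → ℂ) = 0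
    · rw [hψ, show (m ψ : ℂ) = 0 by rw [← hm, hψ], zero_mul, zero_mul]
    · rw [hm, hall ψ hψ]
  have hd0 : (φ : P → ℂ) 1 ≠ 0 := CfsgLib.Char.irr_apply_one_ne_zero φ.2
  have hr0 : r ≠ 0 := fun h =>
    CfsgLib.Char.irr_apply_one_ne_zero χ.2 (by rw [hdeg, h, Nat.cast_zero, zero_mul])
  have hφd : charDegree (φ : P → ℂ) ≠ 0 := charDegree_ne_zero φ.2
  have hdegN : charDegree (χ : G → ℂ) = r * charDegree (φ : P → ℂ) := by
    have h1 := charDegree_cast (CfsgLib.Char.irr_isCharacter χ.2)
    rw [hdeg, ← charDegree_cast (CfsgLib.Char.irr_isCharacter φ.2)] at h1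
    exact_mod_cast h1
  rw [hdegN, Nat.factorization_mul hr0 hφd, Finsupp.add_apply]
  refine Nat.add_le_add_right ?_ _
  obtain ⟨g, hg, S, hS⟩ := hD
  have hgC : g ∈ Subgroup.centralizer (P : Set G) := by
    rw [Subgroup.mem_centralizer_iff]
    intro v hv
    rw [hS] at hv
    obtain ⟨w, -, rfl⟩ := hv
    exact Subgroup.mem_centralizer_singleton_iff.1 w.2
  have hPc : Nat.card P = p ^ (Nat.card (Subgroup.centralizer ({g} : Set G))).factorization p := by
    rw [hS]
    exact natCard_cenSub g S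
  set i := (Subgroup.centralizer ({g} : Set G)).index with hidef
  have hi : i.factorization p = P.index.factorization p := by
    have h1 := factorization_index_add (p := p) g
    have h2 : P.index.factorization p + (Nat.card P).factorization p =
        (Nat.card G).factorization p := by
      rw [← Subgroup.index_mul_card P, Nat.factorization_mul Subgroup.index_ne_zero_of_finite
        Nat.card_pos.ne', Finsupp.add_apply]
    rw [hPc, hM.1.factorization_pow, Finsupp.single_eq_same] at h2
    rw [← hidef] at h1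
    omega
  by_contra hlt
  push Not at hlt
  apply hg.2.2 χ hχ
  have e : centralChar (χ : G → ℂ) g =
      ((i : ℂ) / (r : ℂ)) * ((χ : G → ℂ) g / (φ : P → ℂ) 1) := by
    have : (r : ℂ) ≠ 0 := Nat.cast_ne_zero.2 hr0
    rw [centralChar, hdeg, ← hidef]
    field_simp
  rw [e]
  exact memLocalIdeal_mul_right
    (memLocalRing_of_isIntegral (isIntegral_apply_div_degree χ hd0 hall hgC))
    (memLocalIdeal_natCast_div hM hr0 (Or.inr (by omega)))

/-- Every character of a defect group lies under a member of the block. -/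
theorem exists_mem_over_defect (hM : IsPModular p M) (hB : IsPBlock M B)
    (hP : IsPGroup p P) [Fintype P] (φ : IrrCharacter P) :
    ∃ χ ∈ B, classInner (fun n : P => (χ : G → ℂ) n) (φ : P → ℂ) ≠ 0 := by
  classical
  have := Fact.mk hM.1
  have := Fintype.ofFinite (IrrCharacter G)
  by_contra h
  push Not at h
  set F : P → ℂ := fun u =>
    ∑ χ ∈ Finset.univ.filter (fun χ => χ ∈ B), (χ : G → ℂ) 1 * conj ((χ : G → ℂ) (u : G))
  have hF0 : ∀ u : P, u ≠ 1 → F u = 0 := by
    intro u hu
    have h1 : blockCoeff B (u : G) = 0 := by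
      refine blockCoeff_eq_zero_of_singular hM hB ?_
      obtain ⟨j, hj⟩ := IsPGroup.iff_orderOf.1 hP u
      rw [Subgroup.orderOf_coe, hj]
      refine dvd_pow_self p fun h => hu ?_
      rwa [h, pow_zero, orderOf_eq_one_iff] at hj
    unfold blockCoeff at h1
    rw [mul_eq_zero, inv_eq_zero] at h1
    simp only [F]
    rw [← h1.resolve_left (Nat.cast_ne_zero.2 (Nat.card_pos (α := G)).ne'),
      finsum_mem_eq_finite_toFinset_sum _ (Set.toFinite B)]
    exact Finset.sum_congr (by ext χ; simp) fun _ _ => rfl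
  have h1 : ∑ u : P, F u * (φ : P → ℂ) u = F 1 * (φ : P → ℂ) 1 := by
    rw [Finset.sum_eq_single 1]
    · intro u _ hu; rw [hF0 u hu, zero_mul]
    · simp
  have h2 : ∑ u : P, F u * (φ : P → ℂ) u = 0 := by
    simp only [F, Finset.sum_mul]
    rw [Finset.sum_comm]
    refine Finset.sum_eq_zero fun χ hχ => ?_
    have h3 := h χ (Finset.mem_filter.1 hχ).2
    rw [CfsgLib.Char.classInner_def, mul_eq_zero, inv_eq_zero] at h3
    have h4 := congrArg (starRingEnd ℂ)
      (h3.resolve_left (Nat.cast_ne_zero.2 (Nat.card_pos (α := P)).ne'))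
    rw [map_zero, map_sum] at h4
    simp only [map_mul, Complex.conj_conj] at h4
    simp only [mul_assoc, ← Finset.mul_sum]
    rw [h4, mul_zero]
  rw [h1, mul_eq_zero] at h2
  have hF1 : F 1 = ((∑ χ ∈ Finset.univ.filter (fun χ => χ ∈ B),
      charDegree (χ : G → ℂ) ^ 2 : ℕ) : ℂ) := by
    simp only [F, OneMemClass.coe_one, Nat.cast_sum, Nat.cast_pow]
    refine Finset.sum_congr rfl fun χ _ => ?_
    rw [← charDegree_cast (CfsgLib.Char.irr_isCharacter χ.2), map_natCast, sq]
  rcases h2 with h2 | h2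
  · rw [hF1, Nat.cast_eq_zero, Finset.sum_eq_zero_iff] at h2
    obtain ⟨χ, hχ⟩ := isPBlock_nonempty hB
    exact charDegree_ne_zero χ.2
      (eq_zero_of_pow_eq_zero (h2 χ (Finset.mem_filter.2 ⟨Finset.mem_univ _, hχ⟩)))
  · exact CfsgLib.Char.irr_apply_one_ne_zero φ.2 h2

end CfsgLib.Block
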