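import Cfsg.Agent.Lib.Block.Green
import Cfsg.Agent.Lib.Block.FirstMain
import Cfsg.Agent.Lib.Block.LamZero
import Cfsg.Agent.Lib.Block.DegreeAux
import Cfsg.Agent.Lib.BlockB.ClassMul
import Mathlib.LinearAlgebra.Matrix.Rank

/-! The blocks with a given normal defect group and the matrix of the numbers of pairs `(y, z)` of
two classes with `z y⁻¹` in a Sylow subgroup. -/

set_option autoImplicit false
set_option linter.unusedSectionVars false

namespace CfsgLib.Block.NormalDefectRank

open Cfsg CfsgLib.Block MonoidAlgebra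
open scoped ComplexConjugate

universe u

/-- A field homomorphism preserves the rank of a matrix. -/
theorem rank_map_field {K L m n : Type*} [Field K] [Field L] [Fintype m] [Fintype n]
    [DecidableEq m] [DecidableEq n] (f : K →+* L) (A : Matrix m n K) :
    (A.map f).rank = A.rank := by
  let T := A.mulVecLin
  let e := (Module.finBasis K (LinearMap.range T)).equivFun
  set r := Module.finrank K (LinearMap.range T)
  let iL := (LinearMap.range T).subtype ∘ₗ e.symm.toLinearMap
  let qL := e.toLinearMap ∘ₗ T.rangeRestrict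
  obtain ⟨l, hl⟩ := iL.exists_leftInverse_of_injective
    (LinearMap.ker_eq_bot.2 ((LinearMap.range T).injective_subtype.comp e.symm.injective))
  obtain ⟨s, hs⟩ := qL.exists_rightInverse_of_surjective
    (LinearMap.range_eq_top.2 (e.surjective.comp T.surjective_rangeRestrict))
  have hT : T = iL ∘ₗ qL := by
    ext v i
    simp [iL, qL]
  have hA : A = LinearMap.toMatrix' iL * LinearMap.toMatrix' qL := by
    rw [← LinearMap.toMatrix'_comp, ← hT]
    exact (LinearMap.toMatrix'_toLin' A).symm
  have h1 : LinearMap.toMatrix' l * LinearMap.toMatrix' iL = 1 := by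
    rw [← LinearMap.toMatrix'_comp, hl, LinearMap.toMatrix'_id]
  have h2 : LinearMap.toMatrix' qL * LinearMap.toMatrix' s = 1 := by
    rw [← LinearMap.toMatrix'_comp, hs, LinearMap.toMatrix'_id]
  have hr : A.rank = r := rfl
  rw [hr]
  apply le_antisymm
  · rw [hA, Matrix.map_mul]
    exact ((Matrix.rank_mul_le_left _ _).trans (Matrix.rank_le_card_width _)).trans (by simp)
  · have h3 : LinearMap.toMatrix' l * A * LinearMap.toMatrix' s = 1 := by
      rw [hA, ← Matrix.mul_assoc, h1, Matrix.one_mul, h2]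
    have h4 := congrArg (fun B : Matrix (Fin r) (Fin r) K => B.map f) h3
    simp only [Matrix.map_mul, Matrix.map_one f f.map_zero f.map_one] at h4
    have h5 := ((Matrix.rank_mul_le_left ((LinearMap.toMatrix' l).map f * A.map f)
      ((LinearMap.toMatrix' s).map f)).trans (Matrix.rank_mul_le_right _ _))
    rw [h4, Matrix.rank_one, Fintype.card_fin] at h5
    exact h5

variable {G : Type u} [Group G] [Finite G]

/-- A sum over conjugates by all group elements. -/
theorem sum_conjugates [Fintype G] (x : G) (f : G → ℕ) [DecidablePred (IsConj x)] :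
    ∑ u : G, f (u * x * u⁻¹) = Nat.card (Subgroup.centralizer ({x} : Set G)) *
      ∑ y ∈ Finset.univ.filter (IsConj x), f y := by
  classical
  rw [← Finset.sum_fiberwise_of_maps_to (t := Finset.univ.filter (IsConj x))
    (g := fun u : G => u * x * u⁻¹)
    (fun u _ => Finset.mem_filter.2 ⟨Finset.mem_univ _, isConj_iff.2 ⟨u, rfl⟩⟩), Finset.mul_sum]
  refine Finset.sum_congr rfl fun y hy => ?_
  obtain ⟨v, rfl⟩ := isConj_iff.1 (Finset.mem_filter.1 hy).2
  rw [Finset.sum_congr rfl (fun u hu => by rw [(Finset.mem_filter.1 hu).2]), Finset.sum_const,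
    smul_eq_mul]
  congr 1
  rw [← Fintype.card_subtype, Nat.card_eq_fintype_card]
  refine Fintype.card_congr (Equiv.subtypeEquiv (Equiv.mulLeft v⁻¹) fun u => ?_)
  rw [Equiv.coe_mulLeft, Subgroup.mem_centralizer_singleton_iff]
  constructor
  · intro h
    calc v⁻¹ * u * x = v⁻¹ * (u * x * u⁻¹) * u := by group
      _ = v⁻¹ * (v * x * v⁻¹) * u := by rw [h]
      _ = x * (v⁻¹ * u) := by group
  · intro h
    calc u * x * u⁻¹ = v * (v⁻¹ * u * x) * u⁻¹ := by group
      _ = v * (x * (v⁻¹ * u)) * u⁻¹ := by rw [h]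
      _ = v * x * v⁻¹ := by group

/-- The number of pairs of the classes of `b` and `a` with quotient in `P`. -/
theorem count_mul_eq [Fintype G] (P : Subgroup G) (a b : G) :
    ∑ t : G, CfsgLib.BlockB.conjMemCount P (a * (t * b⁻¹ * t⁻¹)) =
      Nat.card (Subgroup.centralizer ({a} : Set G)) *
        (Nat.card (Subgroup.centralizer ({b} : Set G)) *
          Nat.card {yz : G × G // yz.1 ∈ (ConjClasses.mk b).carrier ∧
            yz.2 ∈ (ConjClasses.mk a).carrier ∧ yz.2 * yz.1⁻¹ ∈ P}) := by
  classical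
  simp only [CfsgLib.BlockB.conjMemCount, Finset.card_filter]
  calc ∑ t : G, ∑ s : G, (if s⁻¹ * (a * (t * b⁻¹ * t⁻¹)) * s ∈ P then 1 else 0)
      = ∑ s : G, ∑ u : G, (if (s⁻¹ * a * s) * (u * b * u⁻¹)⁻¹ ∈ P then 1 else 0) := by
        rw [Finset.sum_comm]
        refine Finset.sum_congr rfl fun s _ => ?_
        refine Fintype.sum_equiv (Equiv.mulLeft s⁻¹) _ _ fun t => ?_
        simp [mul_assoc]
    _ = ∑ s : G, ∑ u : G, (if (s * a * s⁻¹) * (u * b * u⁻¹)⁻¹ ∈ P then 1 else 0) :=
        Fintype.sum_equiv (Equiv.inv G) _ _ fun s => by simp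
    _ = Nat.card (Subgroup.centralizer ({a} : Set G)) * ∑ z ∈ Finset.univ.filter (IsConj a),
          ∑ u : G, (if z * (u * b * u⁻¹)⁻¹ ∈ P then 1 else 0) :=
        sum_conjugates a fun z => ∑ u : G, if z * (u * b * u⁻¹)⁻¹ ∈ P then 1 else 0
    _ = Nat.card (Subgroup.centralizer ({a} : Set G)) * ∑ z ∈ Finset.univ.filter (IsConj a),
          (Nat.card (Subgroup.centralizer ({b} : Set G)) * ∑ y ∈ Finset.univ.filter (IsConj b),
            (if z * y⁻¹ ∈ P then 1 else 0)) := by
        congr 1
        exact Finset.sum_congr rfl fun z _ =>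
          sum_conjugates b fun y => if z * y⁻¹ ∈ P then 1 else 0
    _ = _ := by
        rw [← Finset.mul_sum]
        congr 2
        rw [Finset.sum_comm, ← Finset.sum_product', ← Finset.card_filter, ← Nat.card_eq_finsetCard]
        refine Nat.card_congr (Equiv.subtypeEquivRight fun yz => ?_)
        simp only [Finset.mem_filter, Finset.mem_product, Finset.mem_univ, true_and,
          ConjClasses.mem_carrier_iff_mk_eq, ConjClasses.mk_eq_mk_iff_isConj, and_assoc]
        exact and_congr isConj_comm (and_congr_left fun _ => isConj_comm)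

variable {p : ℕ} [Fact p.Prime] {M : Ideal AlgInt} [M.IsPrime] (hM : IsPModular p M)

/-- A class of regular elements with `D` a Sylow subgroup of the centralizer. -/
def Good (p : ℕ) (D : Subgroup G) (x : G) : Prop :=
  ¬ p ∣ orderOf x ∧ ∃ Q : Sylow p (Subgroup.centralizer ({x} : Set G)),
    cenSub x (Q : Subgroup (Subgroup.centralizer ({x} : Set G))) = D

variable {D : Subgroup G} [D.Normal]

theorem good_iff (hD : IsPGroup p D) {x : G} :
    Good p D x ↔ ¬ p ∣ orderOf x ∧ D ≤ Subgroup.centralizer ({x} : Set G) ∧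
      Nat.card D = p ^ (Nat.card (Subgroup.centralizer ({x} : Set G))).factorization p := by
  constructor
  · rintro ⟨h1, Q, hQ⟩
    exact ⟨h1, hQ ▸ cenSub_le x _, hQ ▸ natCard_cenSub x Q⟩
  · rintro ⟨h1, h2, h3⟩
    obtain ⟨Q, hQ⟩ := exists_sylow_cenSub_ge hD h2
    exact ⟨h1, Q, (Subgroup.eq_of_le_of_card_ge hQ (by rw [natCard_cenSub, h3])).symm⟩

theorem good_conj (hD : IsPGroup p D) {x y : G} (h : IsConj x y) (hx : Good p D x) :
    Good p D y := by
  rw [good_iff hD] at hx ⊢
  obtain ⟨t, rfl⟩ := isConj_iff.1 h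
  obtain ⟨h1, h2, h3⟩ := hx
  refine ⟨?_, ?_, ?_⟩
  · rwa [show orderOf (t * x * t⁻¹) = orderOf x from
      MulEquiv.orderOf_eq (MulAut.conj t) x]
  · intro d hd
    have h4 := Subgroup.mem_centralizer_singleton_iff.1
      (h2 ((inferInstance : D.Normal).conj_mem d hd t⁻¹))
    rw [Subgroup.mem_centralizer_singleton_iff]
    rw [inv_inv] at h4
    calc d * (t * x * t⁻¹) = t * (t⁻¹ * d * t * x) * t⁻¹ := by group
      _ = t * (x * (t⁻¹ * d * t)) * t⁻¹ := by rw [h4]
      _ = t * x * t⁻¹ * d := by group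
  · have := Fintype.ofFinite G
    have e : (Subgroup.centralizer ({t * x * t⁻¹} : Set G)).index =
        (Subgroup.centralizer ({x} : Set G)).index := by
      rw [← CfsgLib.Char.natCard_carrier_eq_index, ← CfsgLib.Char.natCard_carrier_eq_index,
        ConjClasses.mk_eq_mk_iff_isConj.2 h]
    have e1 := Subgroup.index_mul_card (Subgroup.centralizer ({t * x * t⁻¹} : Set G))
    rw [e, ← Subgroup.index_mul_card (Subgroup.centralizer ({x} : Set G))] at e1
    rw [Nat.eq_of_mul_eq_mul_left (Nat.pos_of_ne_zero Subgroup.index_ne_zero_of_finite) e1]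
    exact h3

theorem good_inv (hD : IsPGroup p D) {x : G} (hx : Good p D x) : Good p D x⁻¹ := by
  rw [good_iff hD] at hx ⊢
  have e : Subgroup.centralizer ({x⁻¹} : Set G) = Subgroup.centralizer ({x} : Set G) := by
    ext g
    simp only [Subgroup.mem_centralizer_singleton_iff]
    exact (Commute.inv_right_iff (a := g) (b := x))
  rwa [orderOf_inv, e]

include hM

/-- A good class detected by a block idempotent of defect group `D`. -/
theorem good_of_coeff_ne_zero (hD : IsPGroup p D) {B : Set (IrrCharacter G)} (hB : IsPBlock M B)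
    (hBD : IsDefectGroup p M B D) {c : G}
    (hc : (blkIdem M B : MonoidAlgebra (kres M) G).coeff c ≠ 0) : Good p D c := by
  refine ⟨fun h => hc (blkIdem_coeff_eq_zero_of_singular hM hB h), ?_⟩
  have hDc : D ≤ Subgroup.centralizer ({c} : Set G) := fun d hd =>
    Subgroup.mem_centralizer_singleton_iff.2 (Subgroup.mem_centralizer_iff.1
      (mem_centralizer_of_coeff_blkIdem_ne_zero hM hD hB hc) d hd)
  obtain ⟨Q, hQ⟩ := exists_sylow_cenSub_ge hD hDc
  refine ⟨Q, ?_⟩
  obtain ⟨g, hg, P, hP⟩ := hBD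
  obtain ⟨x, hx⟩ := exists_le_conj_defect hM hB hg P hc (isPGroup_cenSub c Q) (cenSub_le c _)
  refine le_antisymm (hx.trans ?_) hQ
  intro y hy
  rw [mem_map_conj_iff, cenSub, ← hP] at hy
  simpa [mul_assoc] using (inferInstance : D.Normal).conj_mem _ hy x

/-- A block whose central character does not vanish on a good class has defect group `D`. -/
theorem isDefectGroup_of_lam_ne_zero (hD : IsPGroup p D) {B : Set (IrrCharacter G)}
    (hB : IsPBlock M B) {χ : IrrCharacter G} (hχ : χ ∈ B) {x : G} (hx : Good p D x)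
    (h : lam M χ (classSumZ (kres M) x) ≠ 0) : IsDefectGroup p M B D := by
  obtain ⟨E, hE⟩ := exists_isDefectGroup hM hB
  have hle := normal_le_defectGroup hM hD hB hE
  obtain ⟨g, hg, P, hP⟩ := id hE
  obtain ⟨-, Q, hQ⟩ := hx
  obtain ⟨t, ht⟩ := exists_defect_le_conj hM hB hg P hχ h Q
  rw [hQ] at ht
  have : D = E := Subgroup.eq_of_le_of_card_ge hle (by
    rw [hP, ← natCard_map_conj D t]
    exact Subgroup.card_le_of_le ht)
  rwa [this]

/-- Sums over good classes. -/
theorem sum_good {ι : Type*} [Fintype ι] [Fintype (ConjClasses G)] (hD : IsPGroup p D)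
    (K : ι → ConjClasses G) (hKinj : Function.Injective K)
    (hK : ∀ C : ConjClasses G, (∃ i, K i = C) ↔ ∃ x ∈ C.carrier, Good p D x)
    (F : ConjClasses G → kres M) (hF : ∀ C, F C ≠ 0 → Good p D C.out) :
    ∑ i, F (K i) = ∑ C, F C := by
  classical
  rw [← Finset.sum_image (f := F) (s := Finset.univ) (g := K) (fun i _ j _ h => hKinj h)]
  refine Finset.sum_subset (Finset.subset_univ _) fun C _ hC => ?_
  by_contra h
  obtain ⟨i, hi⟩ := (hK C).2 ⟨C.out, ConjClasses.mem_carrier_iff_mk_eq.2 (Quotient.out_eq C),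
    hF C h⟩
  exact hC (Finset.mem_image.2 ⟨i, Finset.mem_univ i, hi⟩)

section Main

variable {ι : Type*} [Fintype ι] [DecidableEq ι] (K : ι → ConjClasses G)
  (hKinj : Function.Injective K)
  (hK : ∀ C : ConjClasses G, (∃ i, K i = C) ↔ ∃ x ∈ C.carrier, Good p D x)
  (hD : IsPGroup p D)

include hD hK in
omit hM in
theorem good_out (i : ι) : Good p D (K i).out := by
  obtain ⟨x, hx, hg⟩ := (hK (K i)).1 ⟨i, rfl⟩
  refine good_conj hD ?_ hg
  rw [← ConjClasses.mk_eq_mk_iff_isConj, ConjClasses.mem_carrier_iff_mk_eq.1 hx]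
  exact (Quotient.out_eq (K i)).symm

omit hM in
theorem coeff_class (B : Set (IrrCharacter G)) {x y : G} (h : IsConj x y) :
    (blkIdem M B : MonoidAlgebra (kres M) G).coeff x =
      (blkIdem M B : MonoidAlgebra (kres M) G).coeff y := by
  obtain ⟨t, rfl⟩ := isConj_iff.1 h
  exact (isClassCoeff_center (blkIdem M B) x t).symm

include hD hK hKinj in
/-- Orthogonality of idempotents and central characters on the good classes. -/
theorem sum_coeff_lam {B B' : Set (IrrCharacter G)} (hB : IsPBlock M B) (hB' : IsPBlock M B')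
    (hB'D : IsDefectGroup p M B' D) {χ : IrrCharacter G} (hχ : χ ∈ B) [Decidable (B' = B)] :
    ∑ i, (blkIdem M B' : MonoidAlgebra (kres M) G).coeff (K i).out *
      lam M χ (classSumZ (kres M) (K i).out) = if B' = B then 1 else 0 := by
  have : Finite (ConjClasses G) := Finite.of_surjective _ (ConjClasses.mk_surjective (α := G))
  have := Fintype.ofFinite (ConjClasses G)
  rw [sum_good hM hD K hKinj hK (fun C => (blkIdem M B' : MonoidAlgebra (kres M) G).coeff C.out *
      lam M χ (classSumZ (kres M) C.out))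
    (fun C hC => good_of_coeff_ne_zero hM hD hB' hB'D (left_ne_zero_of_mul hC)),
    ← algHom_eq_sum_classes (lam M χ) (blkIdem M B'), lam_blkIdem hM hB' χ]
  by_cases h : B' = B
  · rw [if_pos h, if_pos (h ▸ hχ)]
  · rw [if_neg h, if_neg fun h' => h (isPBlock_eq_of_mem hB' hB h' hχ)]

include hD hK hKinj in
/-- Orthogonality at the inverse classes. -/
theorem sum_coeff_lam_inv {B B' : Set (IrrCharacter G)} (hB : IsPBlock M B) (hB' : IsPBlock M B')
    (hB'D : IsDefectGroup p M B' D) {χ : IrrCharacter G} (hχ : χ ∈ B) [Decidable (B' = B)] :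
    ∑ i, (blkIdem M B' : MonoidAlgebra (kres M) G).coeff (K i).out⁻¹ *
      lam M χ (classSumZ (kres M) (K i).out⁻¹) = if B' = B then 1 else 0 := by
  classical
  have hσ : ∀ i, ∃ j, K j = ConjClasses.mk (K i).out⁻¹ := fun i =>
    (hK _).2 ⟨_, ConjClasses.mem_carrier_mk, good_inv hD (good_out K hK hD i)⟩
  choose σ hσ using hσ
  have hc : ∀ i, IsConj (K i).out⁻¹ (K (σ i)).out := fun i => by
    rw [← ConjClasses.mk_eq_mk_iff_isConj, ← hσ i]
    exact (Quotient.out_eq _).symm
  have hinj : Function.Injective σ := fun i j h => hKinj (by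
    have h1 := (hc i).trans ((congrArg K h ▸ (IsConj.refl _ : IsConj (K (σ i)).out (K (σ i)).out) :
      IsConj (K (σ i)).out (K (σ j)).out).trans (hc j).symm)
    obtain ⟨t, ht⟩ := isConj_iff.1 h1
    have h2 : IsConj (K i).out (K j).out := isConj_iff.2 ⟨t, by
      rw [← inv_inv (K j).out, ← ht]; group⟩
    rwa [← ConjClasses.mk_eq_mk_iff_isConj,
      show ConjClasses.mk (K i).out = K i from Quotient.out_eq _,
      show ConjClasses.mk (K j).out = K j from Quotient.out_eq _] at h2)
  rw [← sum_coeff_lam hM K hKinj hK hD hB hB' hB'D hχ]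
  refine Fintype.sum_equiv (Equiv.ofBijective σ ⟨hinj, Finite.surjective_of_injective hinj⟩) _ _
    fun i => ?_
  show _ = _ * lam M χ (classSumZ (kres M) (K (σ i)).out)
  rw [coeff_class B' (hc i),
    show classSumZ (kres M) (K i).out⁻¹ = classSumZ (kres M) (K (σ i)).out from
      Subtype.ext (classSum_eq_of_isConj (hc i))]
  rfl

include hD hK hKinj in
/-- **Robinson's rank theorem** for a normal defect group. -/
theorem natCard_eq_rank (S : Sylow p G) :
    Nat.card {B : Set (IrrCharacter G) // IsPBlock M B ∧ IsDefectGroup p M B D} =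
      (Matrix.of fun i j : ι => ((Nat.card {yz : G × G // yz.1 ∈ (K i).carrier ∧
        yz.2 ∈ (K j).carrier ∧ yz.2 * yz.1⁻¹ ∈ (S : Subgroup G)} /
        p ^ ((Nat.card G).factorization p - (Nat.card D).factorization p) : ℕ) : ZMod p)).rank := by
  classical
  have hp : p.Prime := Fact.out
  have := Fintype.ofFinite G
  have := CfsgLib.Char.finite_irrCharacter (G := G)
  have := Fintype.ofFinite (IrrCharacter G)
  have : CharP (kres M) p := charP_kres hM
  let 𝔅 := {B : Set (IrrCharacter G) // IsPBlock M B ∧ IsDefectGroup p M B D}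
  have := Fintype.ofFinite 𝔅
  let rep : 𝔅 → IrrCharacter G := fun B => (isPBlock_nonempty B.2.1).some
  have hrep : ∀ B : 𝔅, rep B ∈ B.1 := fun B => (isPBlock_nonempty B.2.1).some_mem
  set a := (Nat.card G).factorization p with ha
  set d := (Nat.card D).factorization p with hd
  set q := p ^ (a - d) with hq
  have hq0 : q ≠ 0 := pow_ne_zero _ hp.ne_zero
  have hqC : (q : ℂ) ≠ 0 := Nat.cast_ne_zero.2 hq0
  have hfq : q.factorization p = a - d := by simp [hq, hp.factorization]
  set n := (S : Subgroup G).index with hn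
  have hnp : ¬ p ∣ n := S.not_dvd_index
  have hn0 : n ≠ 0 := Subgroup.index_ne_zero_of_finite
  have hnC : (n : ℂ) ≠ 0 := Nat.cast_ne_zero.2 hn0
  have hSn : (Nat.card (S : Subgroup G) : ℂ) * n = Nat.card G := by
    exact_mod_cast Subgroup.card_mul_index (S : Subgroup G)
  choose k hk using fun χ : IrrCharacter G => CfsgLib.BlockB.sum_conj_subgroup_eq (S : Subgroup G) χ
  let x : ι → G := fun i => (K i).out
  have hgood : ∀ i, Good p D (x i) := good_out K hK hD
  let cc : IrrCharacter G → G → ℂ := fun χ g => centralChar (χ : G → ℂ) g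
  let T : ι → ι → IrrCharacter G → ℂ := fun i j χ =>
    cc χ (x j) * cc χ (x i)⁻¹ *
      ((charDegree (χ : G → ℂ) : ℂ) / (q : ℂ) * ((k χ : ℂ) * (n : ℂ)⁻¹))
  -- the counting formula
  have hcount : ∀ i j, (Nat.card {yz : G × G // yz.1 ∈ (K i).carrier ∧
      yz.2 ∈ (K j).carrier ∧ yz.2 * yz.1⁻¹ ∈ (S : Subgroup G)} : ℂ) / q = ∑ χ, T i j χ := by
    intro i j
    have hKx : ∀ l, ConjClasses.mk (x l) = K l := fun l => Quotient.out_eq _
    have h1 := CfsgLib.BlockB.sum_conjMemCount (S : Subgroup G) (x j) (x i)⁻¹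
    rw [← Nat.cast_sum, count_mul_eq (S : Subgroup G) (x j) (x i), hKx, hKx, Nat.cast_mul,
      Nat.cast_mul] at h1
    have hcen : Subgroup.centralizer ({(x i)⁻¹} : Set G) =
        Subgroup.centralizer ({x i} : Set G) := by
      ext g
      simp only [Subgroup.mem_centralizer_singleton_iff]
      exact (Commute.inv_right_iff (a := g) (b := x i))
    set N := Nat.card {yz : G × G // yz.1 ∈ (K i).carrier ∧
      yz.2 ∈ (K j).carrier ∧ yz.2 * yz.1⁻¹ ∈ (S : Subgroup G)}
    have e1 : ∀ g : G, ((Subgroup.centralizer ({g} : Set G)).index : ℂ) *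
        Nat.card (Subgroup.centralizer ({g} : Set G)) = Nat.card G := fun g => by
      exact_mod_cast Subgroup.index_mul_card _
    have hG : (Nat.card G : ℂ) ≠ 0 := CfsgLib.Char.natCard_ne_zero
    have h2 : (N : ℂ) * (Nat.card G : ℂ) ^ 2 = (Nat.card G : ℂ) *
        ((Subgroup.centralizer ({x j} : Set G)).index *
          (Subgroup.centralizer ({x i} : Set G)).index *
        ∑ χ : IrrCharacter G, ((Nat.card (S : Subgroup G) : ℂ) * k χ) * (χ : G → ℂ) (x j) *
          (χ : G → ℂ) (x i)⁻¹ / (χ : G → ℂ) 1) := by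
      simp only [hk] at h1
      linear_combination ((Subgroup.centralizer ({x j} : Set G)).index : ℂ) *
        ((Subgroup.centralizer ({x i} : Set G)).index : ℂ) * h1 -
        (N : ℂ) * (Nat.card G : ℂ) * e1 (x i) -
        (N : ℂ) * ((Subgroup.centralizer ({x i} : Set G)).index : ℂ) *
          (Nat.card (Subgroup.centralizer ({x i} : Set G)) : ℂ) * e1 (x j)
    rw [pow_two, ← mul_assoc, mul_comm _ (Nat.card G : ℂ)] at h2
    have h3 := mul_left_cancel₀ hG h2
    rw [div_eq_iff hqC, Finset.sum_mul, ← mul_left_inj' hG, Finset.sum_mul]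
    rw [Finset.mul_sum, mul_comm] at h3
    rw [mul_comm (N : ℂ) (Nat.card G : ℂ)]
    rw [h3]
    refine Finset.sum_congr rfl fun χ _ => ?_
    have hχ1 := CfsgLib.Char.irr_apply_one_ne_zero χ.2
    simp only [T, cc, centralChar, hcen]
    rw [← charDegree_spec (CfsgLib.Char.irr_isCharacter χ.2), ← hSn]
    field_simp
  -- valuations
  have hidx : ∀ i, (Subgroup.centralizer ({x i} : Set G)).index.factorization p = a - d := fun i => by
    obtain ⟨-, -, h3⟩ := (good_iff hD).1 (hgood i)
    have h4 := factorization_index_add (p := p) (x i)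
    have : d = (Nat.card (Subgroup.centralizer ({x i} : Set G))).factorization p := by
      rw [hd, h3]; simp [hp.factorization]
    omega
  have hcent : ∀ (χ : IrrCharacter G) (g : G), MemLocalRing M (cc χ g) := fun χ g =>
    memLocalRing_centralChar χ.2 g
  have hkn : ∀ χ, MemLocalRing M ((k χ : ℂ) * (n : ℂ)⁻¹) := fun χ =>
    memLocalRing_mul (memLocalRing_natCast _) (memLocalRing_inv_natCast hM hnp)
  have hT : ∀ i j χ, MemLocalRing M (T i j χ) ∧
      (¬ IsDefectGroup p M (blockOf M (χ : G → ℂ)) D → MemLocalIdeal M (T i j χ)) := by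
    intro i j χ
    rcases lt_or_ge ((charDegree (χ : G → ℂ)).factorization p) (a - d) with hlt | hge
    · suffices MemLocalIdeal M (T i j χ) from ⟨memLocalRing_of_memLocalIdeal this, fun _ => this⟩
      have hdeg : charDegree (χ : G → ℂ) ≠ 0 := fun h => CfsgLib.Char.irr_apply_one_ne_zero χ.2
        (by rw [charDegree_spec (CfsgLib.Char.irr_isCharacter χ.2), h, Nat.cast_zero])
      have hcen : Subgroup.centralizer ({(x i)⁻¹} : Set G) =
          Subgroup.centralizer ({x i} : Set G) := by
        ext g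
        simp only [Subgroup.mem_centralizer_singleton_iff]
        exact (Commute.inv_right_iff (a := g) (b := x i))
      set u := (Subgroup.centralizer ({x j} : Set G)).index
      set w := (Subgroup.centralizer ({x i} : Set G)).index
      have e : T i j χ = ((u * w : ℕ) : ℂ) / ((charDegree (χ : G → ℂ) * q : ℕ) : ℂ) *
          (((χ : G → ℂ) (x j) * (χ : G → ℂ) (x i)⁻¹) * ((k χ : ℂ) * (n : ℂ)⁻¹)) := by
        simp only [T, cc, centralChar, hcen]
        rw [charDegree_spec (CfsgLib.Char.irr_isCharacter χ.2)]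
        have : (charDegree (χ : G → ℂ) : ℂ) ≠ 0 := Nat.cast_ne_zero.2 hdeg
        push_cast
        field_simp
        ring
      rw [e]
      refine memLocalIdeal_mul_right (memLocalRing_mul (memLocalRing_mul
        (memLocalRing_of_isIntegral (irr_apply_isIntegral (CfsgLib.Char.irr_isCharacter χ.2) _))
        (memLocalRing_of_isIntegral (irr_apply_isIntegral (CfsgLib.Char.irr_isCharacter χ.2) _)))
        (hkn χ)) (memLocalIdeal_natCast_div hM (mul_ne_zero hdeg hq0) (Or.inr ?_))
      rw [Nat.factorization_mul hdeg hq0, Nat.factorization_mul Subgroup.index_ne_zero_of_finite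
        Subgroup.index_ne_zero_of_finite, Finsupp.add_apply, Finsupp.add_apply, hidx, hidx, hfq]
      omega
    · have h1 : MemLocalRing M ((charDegree (χ : G → ℂ) : ℂ) / (q : ℂ) *
          ((k χ : ℂ) * (n : ℂ)⁻¹)) :=
        memLocalRing_mul (memLocalRing_natCast_div hM hq0 (Or.inr (hfq ▸ hge))) (hkn χ)
      refine ⟨memLocalRing_mul (memLocalRing_mul (hcent χ _) (hcent χ _)) h1, fun hnD => ?_⟩
      refine memLocalIdeal_mul_right h1 (memLocalIdeal_mul_right (hcent χ _) ?_)
      rw [← redC_eq_zero_iff (hcent χ _), ← lam_classSumZ]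
      by_contra h
      exact hnD (isDefectGroup_of_lam_ne_zero hM hD (isPBlock_blockOf χ) (mem_blockOf_self χ)
        (hgood j) h)
  -- the coefficient of a block of defect group `D`
  have hA : ∀ B : 𝔅, ∃ A : ℂ, MemLocalRing M A ∧ ¬ MemLocalIdeal M A ∧
      (∀ χ ∈ B.1, a - d ≤ (charDegree (χ : G → ℂ)).factorization p) ∧
      (∑ χ : IrrCharacter G, if χ ∈ B.1 then
        (charDegree (χ : G → ℂ) : ℂ) / (q : ℂ) * ((k χ : ℂ) * (n : ℂ)⁻¹) else 0) = A := by
    intro B
    obtain ⟨A, hA1, hA2, hA3⟩ := exists_unit_blockCoeff_one hM B.2.1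
    have hs := sInf_degree_add_blockDefect hM B.2.1
    have hdB : blockDefect p B.1 = d := by
      rw [hd, natCard_defectGroup hM B.2.1 B.2.2]
      simp [hp.factorization]
    set h := sInf ((fun χ : IrrCharacter G => (charDegree (χ : G → ℂ)).factorization p) '' B.1)
    have hh : h = a - d := by omega
    refine ⟨A, hA1, hA2, fun χ hχ => hh ▸ Nat.sInf_le ⟨χ, hχ, rfl⟩, ?_⟩
    have h1 : ∑ u : (S : Subgroup G), blockCoeff B.1 (u : G) = blockCoeff B.1 1 := by
      rw [Finset.sum_eq_single (1 : (S : Subgroup G)), Subgroup.coe_one]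
      · intro u _ hu
        refine blockCoeff_eq_zero_of_singular hM B.2.1 ?_
        obtain ⟨l, hl⟩ := IsPGroup.iff_orderOf.1 S.isPGroup' u
        rw [Subgroup.orderOf_coe, hl]
        refine dvd_pow_self p fun h0 => hu ?_
        rw [h0, pow_zero, orderOf_eq_one_iff] at hl
        exact hl
      · exact fun h => absurd (Finset.mem_univ _) h
    rw [hA3, hh] at h1
    simp only [blockCoeff_eq_sum, idemC, coeff_mkGA] at h1
    have hq' : (q : ℂ) = ((p ^ (a - d) : ℕ) : ℂ) := rfl
    rw [← hq'] at h1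
    have h2 : (∑ χ : IrrCharacter G, if χ ∈ B.1 then
        (charDegree (χ : G → ℂ) : ℂ) * (k χ : ℂ) else 0) = (q : ℂ) * A * n := by
      have hSC : (Nat.card (S : Subgroup G) : ℂ) ≠ 0 := Nat.cast_ne_zero.2 Nat.card_pos.ne'
      have hG : (Nat.card G : ℂ) ≠ 0 := CfsgLib.Char.natCard_ne_zero
      rw [← mul_right_inj' hSC, Finset.mul_sum]
      have e : (Nat.card (S : Subgroup G) : ℂ) * ((q : ℂ) * A * n) =
          (Nat.card G : ℂ) * ((q : ℂ) * A) := by rw [← hSn]; ring
      rw [e, ← h1, Finset.sum_comm, Finset.mul_sum]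
      refine Finset.sum_congr rfl fun χ _ => ?_
      split_ifs with hχ
      · rw [← Finset.mul_sum, ← Finset.mul_sum, hk χ,
          charDegree_spec (CfsgLib.Char.irr_isCharacter χ.2), ← mul_assoc (Nat.card G : ℂ),
          mul_inv_cancel₀ hG, one_mul]
        ring
      · simp
    rw [← mul_right_inj' (mul_ne_zero hqC hnC), Finset.mul_sum]
    rw [show (q : ℂ) * n * A = (q : ℂ) * A * n by ring, ← h2]
    refine Finset.sum_congr rfl fun χ _ => ?_
    split_ifs
    · field_simp
    · simp
  choose A hA1 hA2 hA3 hA4 using hA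
  let N : Matrix ι ι (kres M) := Matrix.of fun i j => redC M (∑ χ, T i j χ)
  let W : Matrix ι 𝔅 (kres M) := Matrix.of fun i B =>
    lam M (rep B) (classSumZ (kres M) (x i)⁻¹)
  let V : Matrix 𝔅 ι (kres M) := Matrix.of fun B j =>
    redC M (A B) * lam M (rep B) (classSumZ (kres M) (x j))
  let P : Matrix 𝔅 ι (kres M) := Matrix.of fun B i =>
    (blkIdem M B.1 : MonoidAlgebra (kres M) G).coeff (x i)⁻¹
  let Q : Matrix ι 𝔅 (kres M) := Matrix.of fun j B =>
    (blkIdem M B.1 : MonoidAlgebra (kres M) G).coeff (x j)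
  have hN : N = W * V := by
    ext i j
    simp only [N, Matrix.of_apply, Matrix.mul_apply]
    rw [redC_sum _ _ fun χ _ => (hT i j χ).1]
    have e : ∀ χ : IrrCharacter G, redC M (T i j χ) =
        ∑ B : 𝔅, if χ ∈ B.1 then redC M (T i j χ) else 0 := by
      intro χ
      by_cases hD' : IsDefectGroup p M (blockOf M (χ : G → ℂ)) D
      · rw [Finset.sum_eq_single (⟨_, isPBlock_blockOf χ, hD'⟩ : 𝔅),
          if_pos (mem_blockOf_self χ)]
        · intro B _ hB
          exact if_neg fun h => hB (Subtype.ext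
            (isPBlock_eq_of_mem B.2.1 (isPBlock_blockOf χ) h (mem_blockOf_self χ)))
        · exact fun h => absurd (Finset.mem_univ _) h
      · rw [(redC_eq_zero_iff (hT i j χ).1).2 ((hT i j χ).2 hD')]
        simp
    rw [Finset.sum_congr rfl (fun χ _ => e χ), Finset.sum_comm]
    refine Finset.sum_congr rfl fun B _ => ?_
    have hloc : ∀ χ ∈ B.1, MemLocalRing M ((charDegree (χ : G → ℂ) : ℂ) / (q : ℂ) *
        ((k χ : ℂ) * (n : ℂ)⁻¹)) := fun χ hχ =>
      memLocalRing_mul (memLocalRing_natCast_div hM hq0 (Or.inr (hfq ▸ hA3 B χ hχ))) (hkn χ)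
    have hl : ∀ χ ∈ B.1, lam M χ = lam M (rep B) := fun χ hχ =>
      lam_eq_of_sameBlock (sameBlock_of_mem B.2.1 hχ (hrep B))
    calc (∑ χ, if χ ∈ B.1 then redC M (T i j χ) else 0)
        = ∑ χ, lam M (rep B) (classSumZ (kres M) (x i)⁻¹) *
            (lam M (rep B) (classSumZ (kres M) (x j)) * redC M (if χ ∈ B.1 then
              (charDegree (χ : G → ℂ) : ℂ) / (q : ℂ) * ((k χ : ℂ) * (n : ℂ)⁻¹) else 0)) := by
          refine Finset.sum_congr rfl fun χ _ => ?_
          split_ifs with hχ
          · simp only [T]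
            rw [redC_mul (memLocalRing_mul (hcent χ _) (hcent χ _)) (hloc χ hχ),
              redC_mul (hcent χ _) (hcent χ _), ← hl χ hχ, lam_classSumZ, lam_classSumZ]
            ring
          · simp [redC_zero]
      _ = lam M (rep B) (classSumZ (kres M) (x i)⁻¹) *
            (lam M (rep B) (classSumZ (kres M) (x j)) * redC M (A B)) := by
          rw [← Finset.mul_sum, ← Finset.mul_sum, ← redC_sum, hA4 B]
          intro χ _
          split_ifs with hχ
          · exact hloc χ hχ
          · exact (lring M).zero_mem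
      _ = W i B * V B j := by simp only [W, V, Matrix.of_apply]; ring
  have hrank : N.rank = Nat.card 𝔅 := by
    rw [Nat.card_eq_fintype_card]
    refine le_antisymm (hN ▸ (Matrix.rank_mul_le_left W V).trans (Matrix.rank_le_card_width W)) ?_
    have h1 : P * W = 1 := by
      ext B B'
      simp only [P, W, Matrix.mul_apply, Matrix.of_apply, Matrix.one_apply, x]
      rw [sum_coeff_lam_inv hM K hKinj hK hD B'.2.1 B.2.1 B.2.2 (hrep B')]
      by_cases hBB : B = B'
      · subst hBB; simp
      · rw [if_neg fun h => hBB (Subtype.ext h), if_neg hBB]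
    have h2 : V * Q = Matrix.diagonal fun B => redC M (A B) := by
      ext B B'
      simp only [V, Q, Matrix.mul_apply, Matrix.of_apply, Matrix.diagonal_apply, x]
      rw [Finset.sum_congr rfl (fun l _ => mul_assoc _ _ _), ← Finset.mul_sum,
        Finset.sum_congr rfl (fun l _ => mul_comm _ _),
        sum_coeff_lam hM K hKinj hK hD B.2.1 B'.2.1 B'.2.2 (hrep B)]
      by_cases hBB : B = B'
      · subst hBB; simp
      · rw [if_neg fun h => hBB (Subtype.ext h).symm, if_neg hBB]
        simp
    have h3 : P * N * Q = Matrix.diagonal fun B => redC M (A B) := by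
      rw [hN, ← Matrix.mul_assoc, h1, Matrix.one_mul, h2]
    have h4 := (Matrix.rank_mul_le_left (P * N) Q).trans (Matrix.rank_mul_le_right P N)
    rw [h3, Matrix.rank_diagonal] at h4
    refine le_trans (le_of_eq ?_) h4
    exact (Fintype.card_congr (Equiv.subtypeUnivEquiv (p := fun B => redC M (A B) ≠ 0)
      fun B h => hA2 B ((redC_eq_zero_iff (hA1 B)).1 h))).symm
  have hmap : (Matrix.of fun i j : ι => ((Nat.card {yz : G × G // yz.1 ∈ (K i).carrier ∧
        yz.2 ∈ (K j).carrier ∧ yz.2 * yz.1⁻¹ ∈ (S : Subgroup G)} / q : ℕ) : ZMod p)).map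
      (ZMod.castHom (dvd_refl p) (kres M)) = N := by
    ext i j
    simp only [Matrix.map_apply, Matrix.of_apply, N, map_natCast]
    rw [← hcount i j]
    set c := Nat.card {yz : G × G // yz.1 ∈ (K i).carrier ∧
        yz.2 ∈ (K j).carrier ∧ yz.2 * yz.1⁻¹ ∈ (S : Subgroup G)}
    have hloc : MemLocalRing M ((c : ℂ) / q) := by
      rw [hcount i j]; exact memLocalRing_sum _ _ fun χ _ => (hT i j χ).1
    have hdvd : q ∣ c := by
      by_cases hc : c = 0
      · rw [hc]; exact dvd_zero _
      rw [hq, hp.pow_dvd_iff_le_factorization hc]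
      by_contra hlt
      have h1 := memLocalIdeal_mul_left hloc
        (memLocalIdeal_natCast_div hM hc (a := q) (Or.inr (by rw [hfq]; omega)))
      rw [div_mul_div_comm, mul_comm (q : ℂ), div_self (mul_ne_zero (Nat.cast_ne_zero.2 hc) hqC)]
        at h1
      exact not_memLocalIdeal_one h1
    rw [← Nat.cast_div hdvd hqC, redC_natCast]
  rw [← rank_map_field (ZMod.castHom (dvd_refl p) (kres M)), hmap, hrank]

end Main

end CfsgLib.Block.NormalDefectRank
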