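import Cfsg.Agent.Lib.Block.OddCorrTrace
import Cfsg.Agent.Lib.OddLocal.BaerTrick
import Cfsg.Agent.Lib.Char.Linear
import Mathlib.GroupTheory.FiniteAbelian.Duality
import Mathlib.FieldTheory.IsAlgClosed.Basic
import Mathlib.RingTheory.RootsOfUnity.Complex

/-!
The inverting involution in the centraliser of `L` inside the group algebra of a group `K` with
abelian quotient `K/L` on which a coprime group acts without fixed points.
-/

set_option autoImplicit false
set_option linter.unusedSectionVars false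

namespace CfsgLib.Block.OddCorr

open CfsgLib
open scoped commutatorElement ComplexConjugate

universe u v

variable {K : Type u} [Group K] {d : ℕ} (θ : K →* Mat d) (L : Subgroup K)

/-- `A` centralises `θ L`. -/
def Cent (A : Mat d) : Prop := ∀ l : L, A * θ l = θ l * A

/-- `A` is an eigenvector of the conjugation by `θ K`. -/
def Eig (ev' : K → ℂ) (A : Mat d) : Prop := ∀ k : K, θ k * A = ev' k • (A * θ k)

theorem Eig.mul {a b : K → ℂ} {A B : Mat d} (hA : Eig θ a A) (hB : Eig θ b B) :
    Eig θ (a * b) (A * B) := fun k => by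
  rw [← mul_assoc, hA k, Matrix.smul_mul, mul_assoc A, hB k, Matrix.mul_smul, smul_smul, mul_assoc]
  rfl

theorem Cent.mul {A B : Mat d} (hA : Cent θ L A) (hB : Cent θ L B) : Cent θ L (A * B) :=
  fun l => by rw [mul_assoc, hB l, ← mul_assoc, hA l, mul_assoc]

theorem isUnit_theta (k : K) : IsUnit (θ k) := (Group.isUnit k).map θ

theorem unit_ne_zero (h : IsSchur θ) (a : (Mat d)ˣ) : (a : Mat d) ≠ 0 := by
  have : Nonempty (Fin d) := ⟨⟨0, h.1⟩⟩
  exact a.ne_zero

theorem smul_one_inj (h : IsSchur θ) {c c' : ℂ} (e : c • (1 : Mat d) = c' • 1) : c = c' := by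
  have := congrFun (congrFun e ⟨0, h.1⟩) ⟨0, h.1⟩
  simpa using this

/-- Trace of a non-trivial eigenvector. -/
theorem Eig.trace_eq_zero {a : K → ℂ} {A : Mat d} (hA : Eig θ a A) {k : K} (hk : a k ≠ 1) :
    A.trace = 0 := by
  have h1 : θ k * A * θ k⁻¹ = a k • A := by
    rw [hA k, Matrix.smul_mul, mul_assoc, ← map_mul, mul_inv_cancel, map_one, mul_one]
  have h := congrArg Matrix.trace h1
  rw [Matrix.trace_mul_comm, ← mul_assoc, ← map_mul, inv_mul_cancel, map_one, one_mul,
    Matrix.trace_smul, smul_eq_mul] at h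
  by_contra h0
  exact hk (mul_right_cancel₀ h0 ((one_mul _).trans h)).symm

variable [Finite K]

/-- The normalised units in the centraliser of `θ L` that are eigenvectors. -/
def unitsP (hθ : IsSchur θ) (m : ℕ) (hm : Odd m) : Subgroup (Mat d)ˣ where
  carrier := {a | a ^ m = 1 ∧ Cent θ L (a : Mat d) ∧ ∃ ev' : K → ℂ, Eig θ ev' (a : Mat d)}
  one_mem' := ⟨one_pow _, fun l => by simp, fun _ => 1, fun k => by simp⟩
  inv_mem' := by
    rintro a ⟨hp, hc, e, he⟩
    refine ⟨by rw [inv_pow, hp, inv_one], fun l => ?_, fun k => (e k)⁻¹, fun k => ?_⟩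
    · exact ((show Commute (a : Mat d) (θ l) from hc l).units_inv_left).eq
    · have h := congrArg (fun X => ((a⁻¹ : (Mat d)ˣ) : Mat d) * X * ((a⁻¹ : (Mat d)ˣ) : Mat d)) (he k)
      simp only [Matrix.mul_smul, Matrix.smul_mul] at h
      rw [← mul_assoc ((a⁻¹ : (Mat d)ˣ) : Mat d) (a : Mat d), Units.inv_mul, one_mul,
        mul_assoc _ (θ k * _), mul_assoc (θ k), Units.mul_inv, mul_one] at h
      rw [h, smul_smul]
      have hek : e k ≠ 0 := fun h0 => by
        have hz := he k
        rw [h0, zero_smul] at hz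
        exact unit_ne_zero θ hθ a ((isUnit_theta θ k).mul_right_eq_zero.1 hz)
      rw [inv_mul_cancel₀ hek, one_smul]
  mul_mem' := by
    rintro a b ⟨hpa, hca, e, he⟩ ⟨hpb, hcb, e', he'⟩
    refine ⟨?_, by rw [Units.val_mul]; exact hca.mul θ L hcb, e * e',
      by rw [Units.val_mul]; exact he.mul θ he'⟩
    -- the commutator is a scalar
    have hcomm : ∃ w : ℂ, (b : Mat d) * a = w • ((a : Mat d) * b) := by
      obtain ⟨c, hc⟩ := hθ.2 ((b * a * b⁻¹ * a⁻¹ : (Mat d)ˣ) : Mat d) fun k => by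
        have hu : ∀ (x : (Mat d)ˣ) (f : K → ℂ), Eig θ f (x : Mat d) →
            f k ≠ 0 ∧ θ k * ((x⁻¹ : (Mat d)ˣ) : Mat d) =
              (f k)⁻¹ • (((x⁻¹ : (Mat d)ˣ) : Mat d) * θ k) := by
          intro x f hx
          have hf : f k ≠ 0 := fun h0 => by
            have hz := hx k
            rw [h0, zero_smul] at hz
            exact unit_ne_zero θ hθ x ((isUnit_theta θ k).mul_right_eq_zero.1 hz)
          refine ⟨hf, ?_⟩
          have h := congrArg (fun X => ((x⁻¹ : (Mat d)ˣ) : Mat d) * X * ((x⁻¹ : (Mat d)ˣ) : Mat d))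
            (hx k)
          simp only [Matrix.mul_smul, Matrix.smul_mul] at h
          rw [← mul_assoc ((x⁻¹ : (Mat d)ˣ) : Mat d) (x : Mat d), Units.inv_mul, one_mul,
            mul_assoc _ (θ k * _), mul_assoc (θ k), Units.mul_inv, mul_one] at h
          rw [h, smul_smul, inv_mul_cancel₀ hf, one_smul]
        obtain ⟨h1, h2⟩ := hu a e he
        obtain ⟨h3, h4⟩ := hu b e' he'
        have key : θ k * ((b * a * b⁻¹ * a⁻¹ : (Mat d)ˣ) : Mat d) =
            ((b * a * b⁻¹ * a⁻¹ : (Mat d)ˣ) : Mat d) * θ k := by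
          simp only [Units.val_mul]
          rw [← mul_assoc, ← mul_assoc, ← mul_assoc, he' k]
          simp only [Matrix.smul_mul, mul_assoc]
          rw [← mul_assoc (θ k) (a : Mat d), he k]
          simp only [Matrix.smul_mul, Matrix.mul_smul, mul_assoc]
          rw [← mul_assoc (θ k) ((b⁻¹ : (Mat d)ˣ) : Mat d), h4]
          simp only [Matrix.smul_mul, Matrix.mul_smul, mul_assoc]
          rw [h2]
          simp only [Matrix.mul_smul, smul_smul]
          rw [show e' k * (e k * ((e' k)⁻¹ * (e k)⁻¹)) = 1 by field_simp, one_smul]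
        exact key.symm
      refine ⟨c, ?_⟩
      calc (b : Mat d) * a = ((b * a * b⁻¹ * a⁻¹ : (Mat d)ˣ) : Mat d) * ((a * b : (Mat d)ˣ) : Mat d) := by
            rw [← Units.val_mul, ← Units.val_mul]; congr 1; group
        _ = c • ((a : Mat d) * b) := by rw [hc, Matrix.smul_mul, one_mul, Units.val_mul]
    obtain ⟨w, hw⟩ := hcomm
    have hbn : ∀ n : ℕ, (b : Mat d) ^ n * a = w ^ n • ((a : Mat d) * (b : Mat d) ^ n) := by
      intro n
      induction n with
      | zero => simp
      | succ n ih =>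
        rw [pow_succ', mul_assoc, ih, Matrix.mul_smul, ← mul_assoc, hw, Matrix.smul_mul, smul_smul,
          mul_assoc, ← pow_succ', ← pow_succ]
    have hwm : w ^ m = 1 := by
      have h := hbn m
      rw [← Units.val_pow_eq_pow_val, hpb, Units.val_one, one_mul, mul_one] at h
      by_contra h1
      exact unit_ne_zero θ hθ a ((smul_eq_zero.1 (show (w ^ m - 1) • (a : Mat d) = 0 by
        rw [sub_smul, one_smul, ← h, sub_self])).resolve_left (sub_ne_zero.2 h1))
    have habn : ∀ n : ℕ, ((a : Mat d) * b) ^ n =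
        w ^ (n * (n - 1) / 2) • ((a : Mat d) ^ n * (b : Mat d) ^ n) := by
      intro n
      induction n with
      | zero => simp
      | succ n ih =>
        rw [pow_succ, ih, Matrix.smul_mul, show (a : Mat d) ^ n * (b : Mat d) ^ n * (a * b) =
          (a : Mat d) ^ n * ((b : Mat d) ^ n * a) * b by simp only [mul_assoc], hbn n,
          Matrix.mul_smul, Matrix.smul_mul, smul_smul, ← pow_add]
        congr 1
        · congr 1
          obtain rfl | ⟨j, rfl⟩ := n.eq_zero_or_eq_succ_pred.imp id fun h => (⟨n.pred, h⟩ : ∃ j, n = j + 1)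
          · rfl
          · simp only [Nat.add_sub_cancel]
            rw [show (j + 1 + 1) * (j + 1) = (j + 1) * j + (j + 1) * 2 by ring,
              Nat.add_mul_div_right _ _ two_pos]
        · simp only [pow_succ, mul_assoc]
    refine Units.ext ?_
    obtain ⟨j, hj⟩ := hm
    rw [Units.val_pow_eq_pow_val, Units.val_mul, habn, ← Units.val_pow_eq_pow_val, hpa,
      ← Units.val_pow_eq_pow_val, hpb, Units.val_one, one_mul,
      show m * (m - 1) / 2 = m * j by
        rw [show m - 1 = 2 * j by omega, Nat.mul_left_comm, Nat.mul_div_cancel_left _ two_pos],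
      pow_mul, hwm, one_pow, one_smul]

variable {θ L}

theorem mem_unitsP {hθ : IsSchur θ} {m : ℕ} {hm : Odd m} {a : (Mat d)ˣ} :
    a ∈ unitsP θ L hθ m hm ↔
      a ^ m = 1 ∧ Cent θ L (a : Mat d) ∧ ∃ ev' : K → ℂ, Eig θ ev' (a : Mat d) := Iff.rfl

/-- An eigenvector fixed by conjugation is a scalar. -/
theorem Eig.scalar (hθ : IsSchur θ) {A : Mat d} (hA : Eig θ (fun _ => 1) A) :
    ∃ c : ℂ, A = c • 1 :=
  hθ.2 A fun k => by rw [hA k, one_smul]

variable [Fintype K]

/-- An eigenvector in the centraliser is invertible. -/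
theorem Eig.exists_unit (hθ : IsSchur θ) {e : K → ℂ} {A : Mat d} (hA : Eig θ e A)
    (hAc : Cent θ L A) (hA0 : A ≠ 0) (hmul : ∀ k k', e (k * k') = e k * e k')
    (hL : ∀ l : L, e l = 1) : ∃ u : (Mat d)ˣ, (u : Mat d) = A := by
  classical
  obtain ⟨i, j, hij⟩ : ∃ i j, A i j ≠ 0 := by
    by_contra h
    push Not at h
    exact hA0 (Matrix.ext h)
  set Z : Mat d := Matrix.single j i 1
  have he1 : e 1 = 1 := hL 1
  have hek : ∀ k, e k⁻¹ * e k = 1 := fun k => by rw [← hmul, inv_mul_cancel, he1]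
  set B : Mat d := ∑ k : K, e k • (θ k * Z * θ k⁻¹) with hB
  have hBe : Eig θ (fun k => e k⁻¹) B := by
    intro k
    rw [hB, Finset.mul_sum, Finset.sum_mul, Finset.smul_sum]
    refine Fintype.sum_equiv (Equiv.mulLeft k) _ _ fun x => ?_
    simp only [Equiv.coe_mulLeft, Matrix.mul_smul, Matrix.smul_mul, smul_smul, map_mul,
      mul_inv_rev, mul_assoc]
    rw [hmul, ← mul_assoc (e k⁻¹), hek, one_mul, ← map_mul θ k⁻¹ k, inv_mul_cancel, map_one, mul_one]
  have hAB : Eig θ (fun _ => 1) (A * B) := by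
    have h := hA.mul θ hBe
    convert h using 1
    funext k
    show (1 : ℂ) = e k * e k⁻¹
    rw [mul_comm, hek]
  obtain ⟨c, hc⟩ := Eig.scalar hθ hAB
  have htr : (A * B).trace = (Fintype.card K : ℂ) * A i j := by
    rw [hB, Finset.mul_sum, Matrix.trace_sum, Finset.sum_congr rfl fun k _ => ?_,
      Finset.sum_const, Finset.card_univ, nsmul_eq_mul]
    rw [Matrix.mul_smul, Matrix.trace_smul, ← mul_assoc, ← mul_assoc, Matrix.trace_mul_comm,
      ← mul_assoc, ← mul_assoc, hA k⁻¹, Matrix.smul_mul, mul_assoc A, ← map_mul, inv_mul_cancel,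
      map_one, mul_one, Matrix.smul_mul, Matrix.trace_smul, smul_smul, smul_eq_mul, mul_comm (e k),
      hek, one_mul]
    simp [Z, Matrix.trace, Matrix.mul_apply, Matrix.single, ite_and]
  have hc0 : c ≠ 0 := by
    intro h0
    rw [hc, h0, zero_smul, Matrix.trace_zero] at htr
    exact mul_ne_zero (Nat.cast_ne_zero.2 Fintype.card_ne_zero) hij htr.symm
  have h1 : A * (c⁻¹ • B) = 1 := by rw [Matrix.mul_smul, hc, smul_smul, inv_mul_cancel₀ hc0, one_smul]
  exact ⟨Units.mkOfMulEqOne _ _ h1, rfl⟩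

theorem sum_hom (Q : Type v) [CommGroup Q] [Finite Q] [Fintype (Q →* ℂˣ)] [DecidableEq Q]
    (q : Q) :
    ∑ f : Q →* ℂˣ, (f q : ℂ) = if q = 1 then (Nat.card (Q →* ℂˣ) : ℂ) else 0 := by
  classical
  split_ifs with h
  · subst h
    simp [Nat.card_eq_fintype_card]
  · obtain ⟨μ, hμ⟩ := CommGroup.exists_apply_ne_one_of_hasEnoughRootsOfUnity Q ℂ h
    have e : (μ q : ℂ) * ∑ f : Q →* ℂˣ, (f q : ℂ) = ∑ f : Q →* ℂˣ, (f q : ℂ) := by
      rw [Finset.mul_sum]
      exact Fintype.sum_equiv (Equiv.mulLeft μ) _ _ fun f => by simp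
    by_contra h0
    exact hμ (Units.ext (mul_right_cancel₀ h0 (e.trans (one_mul _).symm)))

/-- An operator commuting with all the normalised eigenvectors commutes with the centraliser. -/
theorem comm_centralizer [L.Normal] (hθ : IsSchur θ) (hm : Odd (Nat.card K))
    (hab : ∀ a b : K, ⁅a, b⁆ ∈ L) {X : Mat d}
    (hX : ∀ a ∈ unitsP θ L hθ (Nat.card K) hm, X * (a : Mat d) = a * X) {Y : Mat d}
    (hY : Cent θ L Y) : X * Y = Y * X := by
  classical
  let _ : CommGroup (K ⧸ L) :=
    { (inferInstance : Group (K ⧸ L)) with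
      mul_comm := fun a b => by
        induction a using QuotientGroup.induction_on with
        | _ a =>
          induction b using QuotientGroup.induction_on with
          | _ b =>
            rw [← commutatorElement_eq_one_iff_mul_comm]
            exact (QuotientGroup.eq_one_iff _).2 (hab a b) }
  have : Fintype ((K ⧸ L) →* ℂˣ) := Fintype.ofFinite _
  let comp : ((K ⧸ L) →* ℂˣ) → Mat d := fun f =>
    ∑ k : K, ((f (k : K ⧸ L) : ℂˣ) : ℂ) • (θ k * Y * θ k⁻¹)
  have hYc : ∀ k : K, Cent θ L (θ k * Y * θ k⁻¹) := fun k l => by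
    have hl : k⁻¹ * (l : K) * k ∈ L := by simpa using (inferInstance : L.Normal).conj_mem _ l.2 k⁻¹
    have h := hY ⟨_, hl⟩
    simp only [map_mul] at h
    calc θ k * Y * θ k⁻¹ * θ l = θ k * (Y * (θ k⁻¹ * θ l * θ k)) * θ k⁻¹ := by
          simp only [mul_assoc, ← map_mul, mul_inv_cancel, mul_one]
      _ = θ k * (θ k⁻¹ * θ l * θ k * Y) * θ k⁻¹ := by rw [h]
      _ = θ l * (θ k * Y * θ k⁻¹) := by
          simp only [← mul_assoc, ← map_mul, mul_inv_cancel, one_mul]
  have hcomm : ∀ f, X * comp f = comp f * X := by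
    intro f
    rcases eq_or_ne (comp f) 0 with h0 | h0
    · rw [h0, mul_zero, zero_mul]
    have he : Eig θ (fun k => ((f⁻¹ (k : K ⧸ L) : ℂˣ) : ℂ)) (comp f) := by
      intro k
      simp only [comp, Finset.mul_sum, Finset.sum_mul, Finset.smul_sum]
      refine Fintype.sum_equiv (Equiv.mulLeft k) _ _ fun x => ?_
      simp only [Equiv.coe_mulLeft, Matrix.mul_smul, Matrix.smul_mul, smul_smul, map_mul,
        mul_inv_rev, mul_assoc, QuotientGroup.mk_mul, MonoidHom.inv_apply, Units.val_mul]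
      rw [← map_mul θ k⁻¹ k, inv_mul_cancel, map_one, mul_one, Units.inv_mul_cancel_left]
    have hc : Cent θ L (comp f) := fun l => by
      simp only [comp, Finset.mul_sum, Finset.sum_mul, Matrix.mul_smul, Matrix.smul_mul, hYc _ l]
    obtain ⟨u, hu⟩ := he.exists_unit hθ hc h0 (fun k k' => by simp [mul_comm]) fun l => by
      simp [(QuotientGroup.eq_one_iff (l : K)).2 l.2]
    have hpow : Eig θ (fun _ => 1) ((comp f) ^ Nat.card K) := by
      have hn : ∀ n : ℕ, Eig θ (fun k => ((f⁻¹ (k : K ⧸ L) : ℂˣ) : ℂ) ^ n) ((comp f) ^ n) := by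
        intro n
        induction n with
        | zero => intro k; simp
        | succ n ih =>
          rw [pow_succ]
          convert ih.mul θ he using 1
          funext k
          exact pow_succ _ _
      convert hn (Nat.card K) using 1
      funext k
      rw [← Units.val_pow_eq_pow_val, ← map_pow, ← QuotientGroup.mk_pow, pow_card_eq_one',
        QuotientGroup.mk_one, map_one, Units.val_one]
    obtain ⟨c, hc'⟩ := Eig.scalar hθ hpow
    have hc0 : c ≠ 0 := by
      intro h
      rw [h, zero_smul, ← hu, ← Units.val_pow_eq_pow_val] at hc'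
      exact unit_ne_zero θ hθ _ hc'
    obtain ⟨r, hr⟩ := IsAlgClosed.exists_pow_nat_eq c (n := Nat.card K) Nat.card_pos
    have hr0 : r ≠ 0 := fun h => hc0 (by rw [← hr, h, zero_pow Nat.card_pos.ne'])
    let w : (Mat d)ˣ := Units.map (algebraMap ℂ (Mat d)).toMonoidHom (Units.mk0 r⁻¹ (inv_ne_zero hr0)) * u
    have hw : (w : Mat d) = r⁻¹ • comp f := by
      simp [w, hu, Algebra.algebraMap_eq_smul_one]
    have hwP : w ∈ unitsP θ L hθ (Nat.card K) hm := by
      refine ⟨Units.ext ?_, fun l => ?_, fun k => ((f⁻¹ (k : K ⧸ L) : ℂˣ) : ℂ), fun k => ?_⟩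
      · rw [Units.val_pow_eq_pow_val, hw, smul_pow, hc', smul_smul, inv_pow, hr,
          inv_mul_cancel₀ hc0, one_smul, Units.val_one]
      · rw [hw, Matrix.smul_mul, Matrix.mul_smul, hc l]
      · rw [hw, Matrix.mul_smul, Matrix.smul_mul, he k, smul_comm]
    have h := hX w hwP
    rw [hw, Matrix.mul_smul, Matrix.smul_mul] at h
    exact smul_right_injective (Mat d) (inv_ne_zero hr0) h
  have hsum : ∑ f, comp f = ((Nat.card ((K ⧸ L) →* ℂˣ) : ℂ) * Nat.card L) • Y := by
    simp only [comp]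
    rw [Finset.sum_comm]
    simp only [← Finset.sum_smul, sum_hom, QuotientGroup.eq_one_iff, ite_smul, zero_smul]
    rw [Finset.sum_ite, Finset.sum_const_zero, add_zero, Finset.sum_congr rfl (fun k hk => by
      rw [mul_assoc, hY ⟨k⁻¹, L.inv_mem (Finset.mem_filter.1 hk).2⟩, ← mul_assoc, ← map_mul,
        mul_inv_cancel, map_one, one_mul]), Finset.sum_const, ← Nat.cast_smul_eq_nsmul ℂ,
      smul_smul, mul_comm]
    congr 2
    rw [Nat.card_eq_fintype_card, Fintype.card_subtype]
  have h := congrArg (fun A => X * A) hsum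
  simp only [Finset.mul_sum, hcomm] at h
  rw [← Finset.sum_mul, hsum, Matrix.smul_mul, Matrix.mul_smul] at h
  exact (smul_right_injective (Mat d) (mul_ne_zero (Nat.cast_ne_zero.2 Nat.card_pos.ne')
    (Nat.cast_ne_zero.2 Nat.card_pos.ne')) h).symm

end CfsgLib.Block.OddCorr
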