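import Cfsg.Agent.Lib.Clifford.Correspondence
import Cfsg.Agent.Lib.Clifford.AbelianQuot
import Cfsg.Agent.Lib.Clifford.Degrees

/-!
Characters invariant under a coprime action over an invariant character of a subgroup with abelian
quotient on which the action has no fixed points.
-/

set_option autoImplicit false
set_option linter.unusedSectionVars false

namespace CfsgLib.Block.OddCorr

open CfsgLib CfsgLib.Clifford
open scoped ComplexConjugate

universe u v

theorem classInner_equiv {A B : Type u} [Group A] [Group B] [Fintype A] [Fintype B] (e : A ≃* B)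
    (f g : B → ℂ) :
    Cfsg.classInner (fun x => f (e x)) (fun x => g (e x)) = Cfsg.classInner f g := by
  rw [Char.classInner_def, Char.classInner_def, Nat.card_congr e.toEquiv]
  congr 1
  exact Fintype.sum_equiv e.toEquiv _ _ fun _ => rfl

theorem indFun_equiv {G : Type u} [Group G] [Fintype G] (α : G ≃* G) (T : Subgroup G)
    (hT : ∀ x, α x ∈ T ↔ x ∈ T) (f : T → ℂ) (g : G) :
    Cfsg.indFun T (fun t : T => f ⟨α t, (hT t).2 t.2⟩) g = Cfsg.indFun T f (α g) := by
  simp only [Char.indFun_def]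
  congr 1
  refine Fintype.sum_equiv α.toEquiv _ _ fun x => ?_
  simp only [MulEquiv.toEquiv_eq_coe, EquivLike.coe_coe, ← map_inv, ← map_mul]
  by_cases h : x⁻¹ * g * x ∈ T
  · rw [Char.extendByZero_of_mem _ h, Char.extendByZero_of_mem _ ((hT _).2 h)]
  · rw [Char.extendByZero_of_not_mem _ h, Char.extendByZero_of_not_mem _ (mt (hT _).1 h)]

theorem fixed_of_iterate {X : Type*} {a b : X → X} (hab : ∀ y, a (b y) = b (a y)) {n m : ℕ}
    (hnm : n.Coprime m) {x : X} (ha : a^[n] x = x) (hb : b^[m] x = x) (h : a x = b x) :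
    a x = x ∧ b x = x := by
  have hj : ∀ j : ℕ, a^[j] x = b^[j] x := by
    intro j
    induction j with
    | zero => rfl
    | succ j ih =>
      rw [Function.iterate_succ_apply', ih,
        (Function.Semiconj.iterate_right (f := a) (ga := b) (gb := b) hab j).eq, h,
        ← Function.iterate_succ_apply]
  have h1 : Function.IsPeriodicPt b n x := (hj n).symm.trans ha
  have h2 : Function.IsPeriodicPt b m x := hb
  have h3 := h1.gcd h2
  rw [hnm.gcd_eq_one] at h3
  exact ⟨h.trans h3, h3⟩

variable {K : Type u} [Group K] [Fintype K] {S : Type v} [Group S] [Finite S]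
  [MulDistribMulAction S K] {L : Subgroup K} [L.Normal]

/-- A fixed homomorphism trivial on `L` is trivial when the action on the quotient has no fixed
points. -/
theorem eq_one_of_fixed (hab : ∀ x y : K, x * y * x⁻¹ * y⁻¹ ∈ L)
    (hcop : (Nat.card K).Coprime (Nat.card S)) (hLS : ∀ (s : S), ∀ x ∈ L, s • x ∈ L)
    (hfpf : ∀ x : K, (∀ s : S, x⁻¹ * s • x ∈ L) → x ∈ L) {A : Type*} [CommGroup A] (f : K →* A)
    (hf : ∀ x ∈ L, f x = 1) {k : K} (hk : ∀ s : S, f (s • k) = f k) : f k = 1 := by
  classical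
  have := Fintype.ofFinite S
  let _ : CommGroup (K ⧸ L) :=
    { (inferInstance : Group (K ⧸ L)) with
      mul_comm := fun a b => by
        induction a using QuotientGroup.induction_on with
        | _ a =>
          induction b using QuotientGroup.induction_on with
          | _ b =>
            rw [← commutatorElement_eq_one_iff_mul_comm]
            exact (QuotientGroup.eq_one_iff _).2 (hab a b) }
  obtain ⟨y, hy⟩ := QuotientGroup.mk_surjective (∏ s : S, (((s • k : K) : K ⧸ L)))
  have hyL : y ∈ L := hfpf y fun t => by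
    rw [← QuotientGroup.eq]
    let tq : K ⧸ L →* K ⧸ L :=
      QuotientGroup.map L L (MulDistribMulAction.toMulEquiv K t).toMonoidHom fun z hz => hLS t z hz
    have e1 : ((t • y : K) : K ⧸ L) = tq (y : K ⧸ L) := rfl
    rw [e1, hy, map_prod]
    exact (Fintype.prod_equiv (Equiv.mulLeft t) _ _ fun s => by
      show (((t • s • k : K)) : K ⧸ L) = _
      rw [← mul_smul]; rfl).symm
  let fq : K ⧸ L →* A := QuotientGroup.lift L f fun x hx => hf x hx
  have h := congrArg fq hy
  rw [(QuotientGroup.eq_one_iff y).2 hyL, map_one, map_prod,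
    Finset.prod_congr rfl (fun s _ => (show fq ((s • k : K) : K ⧸ L) = f k from hk s)),
    Finset.prod_const, Finset.card_univ, ← Nat.card_eq_fintype_card] at h
  have h2 : f k ^ Nat.card K = 1 := by rw [← map_pow, pow_card_eq_one', map_one]
  exact orderOf_eq_one_iff.1 (Nat.eq_one_of_dvd_coprimes hcop
    (orderOf_dvd_of_pow_eq_one h2) (orderOf_dvd_of_pow_eq_one h.symm))

/-- The twist of a function by a linear character. -/
def twist (μ : K →* ℂˣ) (θ : K → ℂ) : K → ℂ := fun x => (μ x : ℂ) * θ x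

theorem twist_twist (μ ν : K →* ℂˣ) (θ : K → ℂ) : twist μ (twist ν θ) = twist (μ * ν) θ :=
  funext fun x => by simp [twist, mul_assoc]

/-- The twists fixing `θ`. -/
def twistStab (θ : K → ℂ) : Subgroup (K →* ℂˣ) where
  carrier := {μ | twist μ θ = θ}
  one_mem' := funext fun x => by simp [twist]
  mul_mem' := fun {μ ν} (hμ : twist μ θ = θ) (hν : twist ν θ = θ) =>
    show twist (μ * ν) θ = θ by rw [← twist_twist, hν, hμ]
  inv_mem' := fun {μ} (hμ : twist μ θ = θ) => show twist μ⁻¹ θ = θ by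
    conv_lhs => rw [← hμ, twist_twist, show μ⁻¹ * μ = 1 from inv_mul_cancel μ]
    exact funext fun x => by simp [twist]

theorem mem_twistStab {θ : K → ℂ} {μ : K →* ℂˣ} : μ ∈ twistStab θ ↔ twist μ θ = θ := Iff.rfl

instance twistStab_normal (θ : K → ℂ) : (twistStab θ).Normal :=
  ⟨fun n hn g => by rwa [mul_comm g n, mul_assoc, show g * g⁻¹ = 1 from mul_inv_cancel g, show n * 1 = n from mul_one n]⟩

theorem twist_eq_twist {θ : K → ℂ} {μ ν : K →* ℂˣ} (h : μ⁻¹ * ν ∈ twistStab θ) :
    twist μ θ = twist ν θ := by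
  conv_lhs => rw [← mem_twistStab.1 h, twist_twist, show μ * (μ⁻¹ * ν) = ν from mul_inv_cancel_left μ ν]

variable [Fintype L]

/-- **The invariant character over an invariant character.** -/
theorem exists_unique_invariant (hab : ∀ x y : K, x * y * x⁻¹ * y⁻¹ ∈ L)
    (hcop : (Nat.card K).Coprime (Nat.card S)) (hLS : ∀ (s : S), ∀ x ∈ L, s • x ∈ L)
    (hfpf : ∀ x : K, (∀ s : S, x⁻¹ * s • x ∈ L) → x ∈ L) {φ : L → ℂ}
    (hφ : Cfsg.IsIrrCharacter L φ) (hinv : ∀ k : K, conjFn k φ = φ)
    (hφS : ∀ (s : S) (l : L), φ ⟨s • (l : K), hLS s l l.2⟩ = φ l) :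
    ∃ θ : K → ℂ, Cfsg.IsIrrCharacter K θ ∧ Cfsg.classInner (fun l : L => θ l) φ ≠ 0 ∧
      (∀ (s : S) (x : K), θ (s • x) = θ x) ∧
      ∀ θ' : K → ℂ, Cfsg.IsIrrCharacter K θ' → Cfsg.classInner (fun l : L => θ' l) φ ≠ 0 →
        (∀ (s : S) (x : K), θ' (s • x) = θ' x) → θ' = θ := by
  classical
  have := Fintype.ofFinite S
  obtain ⟨θ, hθ, hθo⟩ := Degrees.exists_over L hφ
  let αS : S → K ≃* K := fun s => MulDistribMulAction.toMulEquiv K s
  let sh : S → (K →* ℂˣ) → (K →* ℂˣ) := fun t μ => μ.comp (αS t).toMonoidHom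
  have hshmul : ∀ t μ ν, sh t (μ * ν) = sh t μ * sh t ν := fun t μ ν => rfl
  have hex : ∀ s : S, ∃ lam : K →* ℂˣ, (∀ x ∈ L, lam x = 1) ∧
      (fun x => θ (s • x)) = twist lam θ := by
    intro s
    have h1 : Cfsg.IsIrrCharacter K (fun x => θ (s • x)) :=
      Char.isIrrCharacter_comp_surjective hθ (αS s).toMonoidHom (αS s).surjective
    let β : L ≃* L :=
      { toFun := fun l => ⟨s • (l : K), hLS s l l.2⟩
        invFun := fun l => ⟨s⁻¹ • (l : K), hLS s⁻¹ l l.2⟩
        left_inv := fun l => Subtype.ext (inv_smul_smul s _)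
        right_inv := fun l => Subtype.ext (smul_inv_smul s _)
        map_mul' := fun a b => Subtype.ext (smul_mul' s _ _) }
    have h2 : Cfsg.classInner (fun l : L => θ (s • (l : K))) φ ≠ 0 := by
      have e := classInner_equiv β (fun l : L => θ l) φ
      rw [show (fun x => φ (β x)) = φ from funext fun l => hφS s l] at e
      exact fun h0 => hθo (e.symm.trans h0)
    obtain ⟨lam, hlam, he⟩ := exists_twist_of_abelian_quot hab hφ hinv hθ h1 hθo h2
    exact ⟨lam, fun x hx => hlam ⟨x, hx⟩, he⟩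
  choose lam hlamL hlam using hex
  have htw : ∀ (t : S) (μ : K →* ℂˣ), (fun x => twist μ θ (t • x)) = twist (sh t μ * lam t) θ := by
    intro t μ
    funext x
    have := congrFun (hlam t) x
    simp only [twist] at this ⊢
    rw [this]
    simp [sh, αS, mul_assoc]
  let Q := (K →* ℂˣ) ⧸ twistStab θ
  have hcoc : ∀ s t : S,
      ((lam (s * t) : K →* ℂˣ) : Q) = ((sh t (lam s) * lam t : K →* ℂˣ) : Q) := by
    intro s t
    rw [QuotientGroup.eq, mem_twistStab]
    have e : twist (sh t (lam s) * lam t) θ = twist (lam (s * t)) θ := by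
      rw [← htw, ← hlam]
      funext x
      show θ (s • t • x) = _
      rw [← congrFun (hlam (s * t)) x, mul_smul]
    conv_lhs => rw [← twist_twist, e, twist_twist, inv_mul_cancel]
    exact funext fun x => by simp [twist]
  set n := Nat.card S
  obtain ⟨k, hk⟩ : ∃ k : ℕ, n * k ≡ 1 [MOD Nat.card K] := by
    rcases eq_or_ne (Nat.card K) 1 with h1 | h1
    · exact ⟨0, by rw [h1]; exact Nat.modEq_one⟩
    · obtain ⟨j, -, hj⟩ := Nat.exists_mul_mod_eq_one_of_coprime hcop.symm
        (lt_of_le_of_ne Nat.card_pos h1.symm)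
      refine ⟨j, ?_⟩
      rw [Nat.ModEq, hj, Nat.one_mod_eq_one.2 h1]
  set M : K →* ℂˣ := (∏ s : S, lam s) ^ k
  have hinvM : ∀ t : S, ((sh t M * lam t : K →* ℂˣ) : Q) = ((M : K →* ℂˣ) : Q) := by
    intro t
    have h1 : sh t M = (∏ s : S, sh t (lam s)) ^ k := by
      ext x
      simp [sh, M, MonoidHom.finsetProd_apply]
    have h2 : (((∏ s : S, sh t (lam s)) * lam t ^ n : K →* ℂˣ) : Q) =
        ((∏ s : S, lam s : K →* ℂˣ) : Q) := by
      rw [show lam t ^ n = ∏ _s : S, lam t by
        rw [Finset.prod_const, Finset.card_univ, ← Nat.card_eq_fintype_card],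
        ← Finset.prod_mul_distrib]
      rw [show ((∏ s : S, sh t (lam s) * lam t : K →* ℂˣ) : Q) =
        QuotientGroup.mk' (twistStab θ) (∏ s : S, sh t (lam s) * lam t) from rfl,
        show ((∏ s : S, lam s : K →* ℂˣ) : Q) =
        QuotientGroup.mk' (twistStab θ) (∏ s : S, lam s) from rfl, map_prod, map_prod]
      exact Fintype.prod_equiv (Equiv.mulRight t) _ _ fun s => (hcoc s t).symm
    have h3 : lam t ^ (n * k) = lam t := by
      ext x
      rw [MonoidHom.pow_apply]
      have hx : lam t x ^ Nat.card K = 1 := by rw [← map_pow, pow_card_eq_one', map_one]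
      congr 1
      nth_rewrite 2 [← pow_one (lam t x)]
      rw [pow_eq_pow_iff_modEq]
      exact hk.of_dvd (orderOf_dvd_of_pow_eq_one hx)
    rw [h1, QuotientGroup.mk_mul, QuotientGroup.mk_pow]
    have h3' : (lam t ^ n) ^ k = lam t := (pow_mul (lam t) n k).symm.trans h3
    conv_lhs => arg 2; rw [← h3', QuotientGroup.mk_pow]
    rw [← mul_pow, ← QuotientGroup.mk_mul, h2, ← QuotientGroup.mk_pow]
  have hML : ∀ x ∈ L, M x = 1 := fun x hx => by
    simp [M, MonoidHom.finsetProd_apply, hlamL _ _ hx]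
  refine ⟨twist M θ, Char.isIrrCharacter_mul_linear hθ M, ?_, fun t x => ?_,
    fun θ' hθ' ho' hS' => ?_⟩
  · rwa [show (fun l : L => twist M θ l) = (fun l : L => θ l) from
      funext fun l => by simp [twist, hML l l.2]]
  · exact congrFun ((htw t M).trans (twist_eq_twist (QuotientGroup.eq.1 (hinvM t)))) x
  · obtain ⟨μ, hμL, hμ⟩ := exists_twist_of_abelian_quot hab hφ hinv hθ hθ' hθo ho'
    have hμ' : θ' = twist μ θ := hμ
    set ν : K →* ℂˣ := μ * M⁻¹
    have hνL : ∀ x ∈ L, ν x = 1 := fun x hx => by simp [ν, hμL ⟨x, hx⟩, hML x hx]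
    have hfix : ∀ t : S, ((sh t ν : K →* ℂˣ) : Q) = ((ν : K →* ℂˣ) : Q) := by
      intro t
      have e1 : ((sh t μ * lam t : K →* ℂˣ) : Q) = ((μ : K →* ℂˣ) : Q) := by
        rw [QuotientGroup.eq, mem_twistStab]
        have e : twist μ θ = twist (sh t μ * lam t) θ := by
          rw [← htw, ← hμ']
          exact funext fun x => (hS' t x).symm
        conv_lhs => rw [← twist_twist, e, twist_twist, inv_mul_cancel]
        exact funext fun x => by simp [twist]
      have e2 := hinvM t
      rw [QuotientGroup.mk_mul] at e1 e2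
      rw [show sh t ν = sh t μ * (sh t M)⁻¹ from rfl, QuotientGroup.mk_mul, QuotientGroup.mk_inv,
        QuotientGroup.mk_mul, QuotientGroup.mk_inv, ← e1, ← e2, mul_inv_rev]
      group
    have hN : (∏ t : S, sh t ν) = 1 := by
      refine MonoidHom.ext fun x => eq_one_of_fixed hab hcop hLS hfpf (∏ t : S, sh t ν)
        (fun y hy => by simp [sh, αS, MonoidHom.finsetProd_apply, hνL _ (hLS _ y hy)]) fun s => ?_
      simp only [MonoidHom.finsetProd_apply]
      refine Fintype.prod_equiv (Equiv.mulRight s) _ _ fun t => ?_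
      show ν (t • s • x) = ν ((t * s) • x)
      rw [mul_smul]
    have h4 : ((ν : K →* ℂˣ) : Q) ^ n = 1 := by
      have h5 := congrArg (QuotientGroup.mk' (twistStab θ)) hN
      rw [map_prod, map_one, Finset.prod_congr rfl fun t _ =>
        (show QuotientGroup.mk' (twistStab θ) (sh t ν) = ((ν : K →* ℂˣ) : Q) from hfix t),
        Finset.prod_const, Finset.card_univ, ← Nat.card_eq_fintype_card] at h5
      exact h5
    have h5 : ((ν : K →* ℂˣ) : Q) ^ Nat.card K = 1 := by
      rw [← QuotientGroup.mk_pow, show ν ^ Nat.card K = 1 from MonoidHom.ext fun x => by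
        rw [MonoidHom.pow_apply, ← map_pow, pow_card_eq_one', map_one]; rfl]
      rfl
    have h6 : ((ν : K →* ℂˣ) : Q) = 1 := orderOf_eq_one_iff.1 (Nat.eq_one_of_dvd_coprimes hcop
      (orderOf_dvd_of_pow_eq_one h5) (orderOf_dvd_of_pow_eq_one h4))
    rw [hμ']
    refine (twist_eq_twist ?_).symm
    have := (QuotientGroup.eq_one_iff ν).1 h6
    rwa [show M⁻¹ * μ = ν from mul_comm M⁻¹ μ]

end CfsgLib.Block.OddCorr
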