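import Cfsg.Agent.Lib.Block.OddCorrElement

/-!
The inverting involution: Baer's trick inside the normalised eigenvectors.
-/

set_option autoImplicit false
set_option linter.unusedSectionVars false
set_option maxHeartbeats 800000

namespace CfsgLib.Block.OddCorr

open CfsgLib
open scoped commutatorElement ComplexConjugate

universe u v

variable {K : Type u} [Group K] [Fintype K] {d : ℕ} {θ : K →* Mat d} {L : Subgroup K}

/-- An automorphism preserving the character is realised by conjugation. -/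
theorem exists_conjugator (hθ : IsSchur θ) (α : K ≃* K) (hα : ∀ x, chr θ (α x) = chr θ x) :
    ∃ M : (Mat d)ˣ, ∀ x, (M : Mat d) * θ x = θ (α x) * M := by
  classical
  have hne : ∃ Z : Mat d, (∑ x : K, θ (α x) * Z * θ x⁻¹) ≠ 0 := by
    by_contra h
    push Not at h
    have h1 : ∀ i a, ∑ x : K, θ (α x) i i * θ x⁻¹ a a = 0 := fun i a => by
      have := congrFun (congrFun (h (Matrix.single i a 1)) i) a
      rw [Matrix.sum_apply, Matrix.zero_apply] at this
      simpa only [mul_single_mul_apply] using this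
    have h2 : ∑ x : K, chr θ x * chr θ x⁻¹ = 0 := by
      calc ∑ x : K, chr θ x * chr θ x⁻¹ = ∑ x : K, ∑ i, ∑ a, θ (α x) i i * θ x⁻¹ a a := by
            refine Finset.sum_congr rfl fun x _ => ?_
            rw [← hα x]
            exact Finset.sum_mul_sum _ _ _ _
        _ = ∑ i, ∑ a, ∑ x : K, θ (α x) i i * θ x⁻¹ a a := by
            rw [Finset.sum_comm]
            exact Finset.sum_congr rfl fun i _ => Finset.sum_comm
        _ = 0 := Finset.sum_eq_zero fun i _ => Finset.sum_eq_zero fun a _ => h1 i a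
    have h3 : (∑ x : K, ‖chr θ x‖ ^ 2 : ℝ) = 0 := by
      apply Complex.ofReal_injective
      rw [Complex.ofReal_zero, ← h2, Complex.ofReal_sum]
      refine Finset.sum_congr rfl fun x _ => ?_
      rw [chr_inv, ← Complex.normSq_eq_norm_sq, Complex.normSq_eq_conj_mul_self, mul_comm]
    have h4 := (Finset.sum_eq_zero_iff_of_nonneg (fun n _ => by positivity)).1 h3 1 (Finset.mem_univ 1)
    have h5 : chr θ 1 = (d : ℂ) := by simp [chr]
    simp [h5, hθ.1.ne'] at h4
  obtain ⟨Z, hZ⟩ := hne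
  set A : Mat d := ∑ x : K, θ (α x) * Z * θ x⁻¹ with hA
  have hAi : ∀ y, A * θ y = θ (α y) * A := by
    intro y
    rw [hA, Finset.sum_mul, Finset.mul_sum]
    refine (Fintype.sum_equiv (Equiv.mulLeft y) _ _ fun x => ?_).symm
    simp only [Equiv.coe_mulLeft, map_mul, mul_inv_rev, mul_assoc]
    rw [← map_mul θ y⁻¹ y, inv_mul_cancel, map_one, mul_one]
  obtain ⟨i, j, hij⟩ : ∃ i j, A i j ≠ 0 := by
    by_contra h
    push Not at h
    exact hZ (Matrix.ext h)
  set B : Mat d := ∑ x : K, θ x * Matrix.single j i 1 * θ (α x⁻¹) with hB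
  have hBA : ∀ y, B * A * θ y = θ y * (B * A) := by
    intro y
    rw [mul_assoc, hAi, ← mul_assoc, ← mul_assoc]
    congr 1
    rw [hB, Finset.sum_mul, Finset.mul_sum]
    refine (Fintype.sum_equiv (Equiv.mulLeft y) _ _ fun x => ?_).symm
    simp only [Equiv.coe_mulLeft, map_mul, mul_inv_rev, mul_assoc]
    rw [← map_mul θ (α y⁻¹) (α y), ← map_mul α, inv_mul_cancel, map_one, map_one, mul_one]
  obtain ⟨c, hc⟩ := hθ.2 _ hBA
  have hc0 : c ≠ 0 := by
    intro h0
    have h : (B * A).trace = (Fintype.card K : ℂ) * A i j := by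
      rw [hB, Finset.sum_mul, Matrix.trace_sum, Finset.sum_congr rfl fun x _ => ?_,
        Finset.sum_const, Finset.card_univ, nsmul_eq_mul]
      rw [mul_assoc, mul_assoc, Matrix.trace_mul_comm, mul_assoc, mul_assoc, hAi, ← mul_assoc (θ _),
        ← map_mul, ← map_mul α, inv_mul_cancel, map_one, map_one, one_mul]
      simp [Matrix.trace, Matrix.mul_apply, Matrix.single, ite_and]
    rw [hc, h0, zero_smul, Matrix.trace_zero] at h
    exact mul_ne_zero (Nat.cast_ne_zero.2 Fintype.card_ne_zero) hij h.symm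
  have h1 : c⁻¹ • B * A = 1 := by
    rw [Matrix.smul_mul, hc, smul_smul, inv_mul_cancel₀ hc0, one_smul]
  exact ⟨(Units.mkOfMulEqOne _ _ h1)⁻¹, hAi⟩

/-- Conjugators for the same automorphism agree up to a scalar. -/
theorem conjugator_unique (hθ : IsSchur θ) {α : K → K} {M M' : (Mat d)ˣ}
    (hM : ∀ x, (M : Mat d) * θ x = θ (α x) * M) (hM' : ∀ x, (M' : Mat d) * θ x = θ (α x) * M')
    (A : (Mat d)ˣ) : M * A * M⁻¹ = M' * A * M'⁻¹ := by
  obtain ⟨c, hc⟩ := hθ.2 ((M⁻¹ * M' : (Mat d)ˣ) : Mat d) fun x => by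
    have h : ((M⁻¹ : (Mat d)ˣ) : Mat d) * θ (α x) = θ x * ((M⁻¹ : (Mat d)ˣ) : Mat d) := by
      rw [Units.inv_mul_eq_iff_eq_mul, ← mul_assoc, hM, mul_assoc, Units.mul_inv, mul_one]
    rw [Units.val_mul, mul_assoc, hM', ← mul_assoc, h, mul_assoc]
  have hcomm : Commute (M⁻¹ * M') A := Units.ext (by
    show ((M⁻¹ * M' : (Mat d)ˣ) : Mat d) * A = A * ((M⁻¹ * M' : (Mat d)ˣ) : Mat d)
    rw [hc, Matrix.smul_mul, one_mul, Matrix.mul_smul, mul_one])
  calc M * A * M⁻¹ = M * (A * (M⁻¹ * M')) * M'⁻¹ := by group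
    _ = M * ((M⁻¹ * M') * A) * M'⁻¹ := by rw [hcomm.eq]
    _ = _ := by group

section Main

variable [L.Normal] (hθ : IsSchur θ) (hm : Odd (Nat.card K))

local notation "P" => unitsP θ L hθ (Nat.card K) hm

/-- The eigencharacter of a member of `P`. -/
noncomputable def lamP (a : P) : K → ℂ := (mem_unitsP.1 a.2).2.2.choose

theorem lamP_spec (a : P) : Eig θ (lamP hθ hm a) ((a : (Mat d)ˣ) : Mat d) :=
  (mem_unitsP.1 a.2).2.2.choose_spec

include hθ in
theorem mul_theta_ne_zero (a : (Mat d)ˣ) (k : K) : (a : Mat d) * θ k ≠ 0 := fun h =>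
  unit_ne_zero θ hθ a ((isUnit_theta θ k).mul_left_eq_zero.1 h)

theorem lamP_eq (a : P) {e : K → ℂ} (he : Eig θ e ((a : (Mat d)ˣ) : Mat d)) :
    lamP hθ hm a = e := by
  funext k
  by_contra h
  refine mul_theta_ne_zero hθ _ k ((smul_eq_zero.1 (show (lamP hθ hm a k - e k) •
    (((a : (Mat d)ˣ) : Mat d) * θ k) = 0 by
      rw [sub_smul, ← lamP_spec hθ hm a k, ← he k, sub_self])).resolve_left (sub_ne_zero.2 h))

theorem lamP_mul (a b : P) : lamP hθ hm (a * b) = lamP hθ hm a * lamP hθ hm b :=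
  lamP_eq hθ hm _ (by
    rw [Subgroup.coe_mul, Units.val_mul]
    exact (lamP_spec hθ hm a).mul θ (lamP_spec hθ hm b))

theorem lamP_one : lamP hθ hm (1 : P) = 1 := lamP_eq hθ hm _ fun k => by simp

theorem lamP_pow (a : P) (n : ℕ) : lamP hθ hm (a ^ n) = lamP hθ hm a ^ n := by
  induction n with
  | zero => rw [pow_zero, pow_zero, lamP_one]
  | succ n ih => rw [pow_succ, pow_succ, lamP_mul, ih]

theorem lamP_map_mul (a : P) (k k' : K) :
    lamP hθ hm a (k * k') = lamP hθ hm a k * lamP hθ hm a k' := by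
  by_contra h
  refine mul_theta_ne_zero hθ _ (k * k') ((smul_eq_zero.1 (show (lamP hθ hm a (k * k') -
    lamP hθ hm a k * lamP hθ hm a k') • (((a : (Mat d)ˣ) : Mat d) * θ (k * k')) = 0 by
      rw [sub_smul, ← lamP_spec hθ hm a, map_mul, mul_assoc, lamP_spec hθ hm a k',
        Matrix.mul_smul, ← mul_assoc (θ k), lamP_spec hθ hm a k, Matrix.smul_mul, smul_smul,
        mul_assoc, mul_comm (lamP hθ hm a k'), sub_self])).resolve_left (sub_ne_zero.2 h))

theorem lamP_map_mem (a : P) (l : L) : lamP hθ hm a l = 1 := by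
  by_contra h
  refine mul_theta_ne_zero hθ _ (l : K) ((smul_eq_zero.1 (show (lamP hθ hm a l - 1) •
    (((a : (Mat d)ˣ) : Mat d) * θ l) = 0 by
      rw [sub_smul, one_smul, ← lamP_spec hθ hm a, ← (mem_unitsP.1 a.2).2.1 l, sub_self]
      )).resolve_left (sub_ne_zero.2 h))

theorem lamP_pow_card (a : P) (k : K) : lamP hθ hm a k ^ Nat.card K = 1 := by
  have h : a ^ Nat.card K = 1 := Subtype.ext (mem_unitsP.1 a.2).1
  have h2 := congrArg (fun b : P => lamP hθ hm b k) h
  simpa only [lamP_pow, lamP_one, Pi.pow_apply, Pi.one_apply] using h2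

theorem lamP_ne_zero (a : P) (k : K) : lamP hθ hm a k ≠ 0 := fun h => by
  simpa [h, Nat.card_pos.ne'] using lamP_pow_card hθ hm a k

/-- A member is scalar iff its character is trivial. -/
theorem scalar_of_lamP (a : P) (h : lamP hθ hm a = 1) :
    ∃ c : ℂ, ((a : (Mat d)ˣ) : Mat d) = c • 1 :=
  Eig.scalar hθ (fun k => by rw [lamP_spec hθ hm a k, h, Pi.one_apply])

theorem comm_of_lamP (a : P) (h : lamP hθ hm a = 1) (x : (Mat d)ˣ) :
    Commute (a : (Mat d)ˣ) x := by
  obtain ⟨c, hc⟩ := scalar_of_lamP hθ hm a h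
  exact Units.ext (by
    show ((a : (Mat d)ˣ) : Mat d) * x = x * ((a : (Mat d)ˣ) : Mat d)
    rw [hc, Matrix.smul_mul, one_mul, Matrix.mul_smul, mul_one])

theorem lamP_commutator (a b : P) : lamP hθ hm ⁅a, b⁆ = 1 := by
  have h : ⁅a, b⁆ * (b * a) = a * b := by rw [commutatorElement_def]; group
  have h2 := congrArg (lamP hθ hm) h
  rw [lamP_mul, lamP_mul, lamP_mul] at h2
  funext k
  have h3 := congrFun h2 k
  simp only [Pi.mul_apply] at h3
  exact mul_right_cancel₀ (mul_ne_zero (lamP_ne_zero hθ hm b k) (lamP_ne_zero hθ hm a k))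
    (h3.trans (by rw [Pi.one_apply, one_mul, mul_comm]))

theorem classTwo (a b c : P) : Commute ⁅a, b⁆ c :=
  Subtype.ext (comm_of_lamP hθ hm _ (lamP_commutator hθ hm a b) (c : (Mat d)ˣ)).eq

theorem pow_card_eq (a : P) : a ^ Nat.card K = 1 := Subtype.ext (mem_unitsP.1 a.2).1

theorem finiteP : Finite P := by
  classical
  let r : P →* (K → rootsOfUnity (Nat.card K) ℂ) :=
    { toFun := fun a k => ⟨Units.mk0 _ (lamP_ne_zero hθ hm a k),
        Units.ext (by simpa using lamP_pow_card hθ hm a k)⟩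
      map_one' := funext fun k => Subtype.ext (Units.ext (by simp [lamP_one]))
      map_mul' := fun a b => funext fun k => Subtype.ext (Units.ext (by simp [lamP_mul])) }
  have hker : ∀ a : r.ker, lamP hθ hm (a : P) = 1 := fun a => funext fun k => by
    have := congrArg (fun f : K → rootsOfUnity (Nat.card K) ℂ => ((f k : ℂˣ) : ℂ)) a.2
    simpa [r] using this
  have : NeZero (Nat.card K) := ⟨Nat.card_pos.ne'⟩
  have : Finite r.ker := by
    let g : r.ker → rootsOfUnity (Nat.card K) ℂ := fun a =>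
      ⟨Units.mk0 (scalar_of_lamP hθ hm (a : P) (hker a)).choose
        (fun h0 => unit_ne_zero θ hθ ((a : P) : (Mat d)ˣ) (by
          rw [(scalar_of_lamP hθ hm (a : P) (hker a)).choose_spec, h0, zero_smul])), by
        refine Units.ext ?_
        rw [Units.val_pow_eq_pow_val, Units.val_mk0, Units.val_one]
        apply smul_one_inj θ hθ
        have h := congrArg Units.val (mem_unitsP.1 (a : P).2).1
        rw [Units.val_pow_eq_pow_val, (scalar_of_lamP hθ hm (a : P) (hker a)).choose_spec,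
          smul_pow, one_pow, Units.val_one] at h
        rw [h, one_smul]⟩
    refine Finite.of_injective g fun a b h => ?_
    have h2 := congrArg (fun z : rootsOfUnity (Nat.card K) ℂ => ((z : ℂˣ) : ℂ)) h
    simp only [g, Units.val_mk0] at h2
    refine Subtype.ext (Subtype.ext (Units.ext ?_))
    rw [(scalar_of_lamP hθ hm (a : P) (hker a)).choose_spec, h2,
      ← (scalar_of_lamP hθ hm (b : P) (hker b)).choose_spec]
  have : Finite (P ⧸ r.ker) :=
    Finite.of_injective _ (QuotientGroup.kerLift_injective r)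
  exact Finite.of_equiv ((P ⧸ r.ker) × r.ker) (Subgroup.groupEquivQuotientProdSubgroup (s := r.ker)).symm

/-- Conjugation by a conjugator preserves `P`. -/
theorem conj_mem {α : K ≃* K} (hαL : ∀ x ∈ L, α x ∈ L) {M : (Mat d)ˣ}
    (hM : ∀ x, (M : Mat d) * θ x = θ (α x) * M) (a : P) :
    M * (a : (Mat d)ˣ) * M⁻¹ ∈ P ∧
      Eig θ (fun k => lamP hθ hm a (α.symm k)) ((M * (a : (Mat d)ˣ) * M⁻¹ : (Mat d)ˣ) : Mat d) := by
  have hMi : ∀ x, ((M⁻¹ : (Mat d)ˣ) : Mat d) * θ x = θ (α.symm x) * ((M⁻¹ : (Mat d)ˣ) : Mat d) :=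
    fun x => by
      rw [Units.inv_mul_eq_iff_eq_mul, ← mul_assoc, hM, mul_assoc, Units.mul_inv, mul_one,
        MulEquiv.apply_symm_apply]
  have heig : Eig θ (fun k => lamP hθ hm a (α.symm k))
      ((M * (a : (Mat d)ˣ) * M⁻¹ : (Mat d)ˣ) : Mat d) := by
    intro k
    simp only [Units.val_mul]
    rw [mul_assoc _ _ (θ k), hMi, ← mul_assoc, ← mul_assoc]
    conv_lhs => rw [show k = α (α.symm k) from (α.apply_symm_apply k).symm, ← hM,
      mul_assoc (M : Mat d), lamP_spec hθ hm a]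
    simp only [Matrix.mul_smul, Matrix.smul_mul, mul_assoc]
  have hsymm : ∀ x ∈ L, α.symm x ∈ L := by
    have hmap : L.map α.toMonoidHom = L := by
      refine Subgroup.eq_of_le_of_card_ge ?_ (le_of_eq (Subgroup.card_map_of_injective α.injective).symm)
      rintro _ ⟨y, hy, rfl⟩
      exact hαL y hy
    intro x hx
    obtain ⟨y, hy, rfl⟩ := hmap.ge hx
    simpa using hy
  refine ⟨⟨by rw [conj_pow, (mem_unitsP.1 a.2).1, mul_one, mul_inv_cancel], fun l => ?_, _, heig⟩,
    heig⟩
  have h : θ (l : K) * _ = lamP hθ hm a (α.symm (l : K)) • (_ * θ (l : K)) := heig (l : K)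
  rw [show lamP hθ hm a (α.symm l) = 1 from
    lamP_map_mem hθ hm a ⟨_, hsymm l l.2⟩, one_smul] at h
  exact h.symm

/-- Conjugation by a conjugator, on `P`. -/
noncomputable def conjP {α : K ≃* K} (hαL : ∀ x ∈ L, α x ∈ L) {M : (Mat d)ˣ}
    (hM : ∀ x, (M : Mat d) * θ x = θ (α x) * M) : P →* P where
  toFun a := ⟨M * (a : (Mat d)ˣ) * M⁻¹, (conj_mem hθ hm hαL hM a).1⟩
  map_one' := Subtype.ext (by simp)
  map_mul' a b := Subtype.ext (by simp [mul_assoc])

variable {S : Type v} [Group S] [Finite S] [MulDistribMulAction S K]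

/-- **The inverting involution.** -/
theorem exists_inverting [Fintype L] {n : ℕ} (φ : L →* Mat n) (hφ : IsSchur φ) {e : ℂ}
    (he : ∀ l : L, chr θ l = e * chr φ l) (hab : ∀ a b : K, ⁅a, b⁆ ∈ L)
    (hcop : (Nat.card K).Coprime (Nat.card S)) (hLS : ∀ (s : S), ∀ x ∈ L, s • x ∈ L)
    (hinv : ∀ (s : S) (x : K), chr θ (s • x) = chr θ x)
    (hfpf : ∀ x : K, (∀ s : S, x⁻¹ * s • x ∈ L) → x ∈ L)
    (hθ : IsSchur θ) (hm : Odd (Nat.card K)) :
    ∃ z : K → ℂ, Cent θ L (ev θ z) ∧ ev θ z * ev θ z = 1 ∧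
      (∀ k : K, ∃ z' : L → ℂ, ev θ z * θ k * ev θ z * θ k = ev (θ.comp L.subtype) z') ∧
      ∀ α : K ≃* K, (∀ (s : S) (x : K), α (s • x) = s • α x) → (∀ x ∈ L, α x ∈ L) →
        (∀ x, chr θ (α x) = chr θ x) → ev (θ.comp α.toMonoidHom) z = ev θ z := by
  classical
  have := Fintype.ofFinite S
  have hfinP := finiteP (L := L) hθ hm
  have := Fintype.ofFinite (unitsP θ L hθ (Nat.card K) hm)
  set Q := unitsP θ L hθ (Nat.card K) hm with hQdef
  set m := Nat.card K with hmdef
  obtain ⟨k2, hk2⟩ : ∃ k2, 2 * k2 = m + 1 := by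
    obtain ⟨j, hj⟩ := hm; exact ⟨j + 1, by omega⟩
  let B := OddLocal.Baer Q k2
  let _ : CommGroup B := OddLocal.baerCommGroup (classTwo hθ hm) fun a b => by
    rw [hk2, pow_succ, pow_card_eq hθ hm, one_mul]
  have : Fintype B := Fintype.ofEquiv Q ⟨fun a => ⟨a⟩, fun x => x.val, fun _ => rfl, fun _ => rfl⟩
  have hmul : ∀ x y : B, (x * y).val = x.val * y.val * ⁅y.val, x.val⁆ ^ k2 := fun _ _ => rfl
  have hone : (1 : B).val = 1 := rfl
  have hinvB : ∀ x : B, x⁻¹.val = x.val⁻¹ := fun _ => rfl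
  have hpowB : ∀ (x : B) (j : ℕ), (x ^ j).val = x.val ^ j := by
    intro x j
    induction j with
    | zero => rfl
    | succ j ih =>
      rw [pow_succ, hmul, ih, commutatorElement_eq_one_iff_commute.2 (Commute.self_pow _ _),
        one_pow, mul_one, pow_succ]
  let lift : (Q →* Q) → (B →* B) := fun f =>
    { toFun := fun x => ⟨f x.val⟩
      map_one' := congrArg OddLocal.Baer.mk (map_one f)
      map_mul' := fun x y => congrArg OddLocal.Baer.mk (OddLocal.baer_map f x.val y.val) }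
  -- the action of `S`
  let αS : S → K ≃* K := fun s => MulDistribMulAction.toMulEquiv K s
  have hαS : ∀ s x, αS s x = s • x := fun _ _ => rfl
  choose M hM using fun s => exists_conjugator hθ (αS s) (hinv s)
  have hαL : ∀ s, ∀ x ∈ L, αS s x ∈ L := fun s x hx => hLS s x hx
  let F : S → (B →* B) := fun s => lift (conjP hθ hm (hαL s) (hM s))
  have hFF : ∀ s t x, F t (F s x) = F (t * s) x := by
    intro s t x
    refine congrArg OddLocal.Baer.mk (Subtype.ext ?_)
    show M t * (M s * (x.val : (Mat d)ˣ) * (M s)⁻¹) * (M t)⁻¹ = M (t * s) * x.val * (M (t * s))⁻¹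
    rw [← conjugator_unique hθ (α := fun y => (t * s) • y) (M := M t * M s) (M' := M (t * s))
      (fun y => by
        rw [Units.val_mul, mul_assoc, hM s, ← mul_assoc, hM t, mul_assoc, hαS, hαS, mul_smul])
      (hM (t * s))]
    group
  let Nm : B →* B := ∏ s, F s
  have hNm : ∀ x, Nm x = ∏ s, F s x := fun x => MonoidHom.finsetProd_apply _ _ _
  have hNfix : ∀ t x, F t (Nm x) = Nm x := fun t x => by
    rw [hNm, map_prod]
    exact Fintype.prod_equiv (Equiv.mulLeft t) _ _ fun s => hFF s t x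
  -- fixed points are scalars
  have hLamN : ∀ x, lamP hθ hm (Nm x).val = 1 := by
    intro x
    set a : Q := (Nm x).val with ha
    have hinvl : ∀ (t : S) k, lamP hθ hm a (t • k) = lamP hθ hm a k := by
      intro t k
      have e1 : conjP hθ hm (hαL t) (hM t) a = a := congrArg OddLocal.Baer.val (hNfix t x)
      have h := lamP_eq hθ hm
        ⟨M t * (a : (Mat d)ˣ) * (M t)⁻¹, (conj_mem hθ hm (hαL t) (hM t) a).1⟩
        (conj_mem hθ hm (hαL t) (hM t) a).2
      rw [show (⟨M t * (a : (Mat d)ˣ) * (M t)⁻¹, (conj_mem hθ hm (hαL t) (hM t) a).1⟩ : Q) = a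
        from e1] at h
      conv_lhs => rw [h]
      show lamP hθ hm a ((αS t).symm (αS t k)) = _
      rw [MulEquiv.symm_apply_apply]
    let _ : CommGroup (K ⧸ L) :=
      { (inferInstance : Group (K ⧸ L)) with
        mul_comm := fun a b => by
          induction a using QuotientGroup.induction_on with
          | _ a =>
            induction b using QuotientGroup.induction_on with
            | _ b =>
              rw [← commutatorElement_eq_one_iff_mul_comm]
              exact (QuotientGroup.eq_one_iff _).2 (hab a b) }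
    let lh : K →* ℂ :=
      { toFun := lamP hθ hm a
        map_one' := lamP_map_mem hθ hm a 1
        map_mul' := lamP_map_mul hθ hm a }
    let lq : K ⧸ L →* ℂ := QuotientGroup.lift L lh fun l hl => lamP_map_mem hθ hm a ⟨l, hl⟩
    funext k
    obtain ⟨y, hy⟩ := QuotientGroup.mk_surjective (∏ s : S, (((s • k : K) : K ⧸ L)))
    have hyL : y ∈ L := hfpf y fun t => by
      rw [← QuotientGroup.eq]
      let tq : K ⧸ L →* K ⧸ L := QuotientGroup.map L L (αS t).toMonoidHom fun z hz => hLS t z hz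
      have e1 : ((t • y : K) : K ⧸ L) = tq (y : K ⧸ L) := rfl
      rw [e1, hy, map_prod]
      exact (Fintype.prod_equiv (Equiv.mulLeft t) _ _ fun s => by
        show (((t • s • k : K)) : K ⧸ L) = _
        rw [← mul_smul]; rfl).symm
    have h1 : lamP hθ hm a k ^ Nat.card S = 1 := by
      have h := congrArg lq hy
      rw [(QuotientGroup.eq_one_iff y).2 hyL, map_one, map_prod] at h
      rw [h, Finset.prod_congr rfl (fun s _ => (show lq ((s • k : K) : K ⧸ L) = _ from hinvl s k)),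
        Finset.prod_const, Finset.card_univ, Nat.card_eq_fintype_card]
    exact orderOf_eq_one_iff.1 (Nat.eq_one_of_dvd_coprimes hcop
      (orderOf_dvd_of_pow_eq_one (lamP_pow_card hθ hm a k)) (orderOf_dvd_of_pow_eq_one h1))
  have hscalF : ∀ (s : S) (x : B), lamP hθ hm x.val = 1 → F s x = x := by
    intro s x hx
    refine congrArg OddLocal.Baer.mk (Subtype.ext ?_)
    show M s * (x.val : (Mat d)ˣ) * (M s)⁻¹ = x.val
    rw [← (comm_of_lamP hθ hm _ hx (M s)).eq, mul_inv_cancel_right]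
  have hNscal : ∀ x : B, lamP hθ hm x.val = 1 → Nm x = x ^ Nat.card S := fun x hx => by
    rw [hNm, Finset.prod_congr rfl (fun s _ => hscalF s x hx), Finset.prod_const, Finset.card_univ,
      Nat.card_eq_fintype_card]
  have hmulscal : ∀ x y : B, lamP hθ hm y.val = 1 → (x * y).val = x.val * y.val := fun x y hy => by
    rw [hmul, commutatorElement_eq_one_iff_commute.2 (show Commute y.val x.val from
      Subtype.ext (comm_of_lamP hθ hm _ hy _).eq), one_pow, mul_one]
  have hdec : ∀ x : B, ∃ w z : B, w ∈ Nm.ker ∧ lamP hθ hm z.val = 1 ∧ x = w * z := by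
    intro x
    have hord : (Nat.card S).Coprime (orderOf (Nm x)) :=
      (hcop.coprime_dvd_left (orderOf_dvd_of_pow_eq_one
        (show Nm x ^ m = 1 from OddLocal.Baer.ext (by rw [hpowB, pow_card_eq, hone])))).symm
    obtain ⟨r, hr⟩ := exists_pow_eq_self_of_coprime hord
    have hz : lamP hθ hm (Nm x ^ r).val = 1 := by rw [hpowB, lamP_pow, hLamN, one_pow]
    refine ⟨x * (Nm x ^ r)⁻¹, Nm x ^ r, ?_, hz, (inv_mul_cancel_right x _).symm⟩
    rw [MonoidHom.mem_ker, map_mul, map_inv, hNscal _ hz, ← pow_mul, mul_comm r, pow_mul, hr,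
      mul_inv_cancel]
  let val : B → Mat d := fun x => ((x.val : (Mat d)ˣ) : Mat d)
  let J : Mat d := ∑ w : Nm.ker, val w
  have hJC : Cent θ L J := fun l => by
    simp only [J, Finset.sum_mul, Finset.mul_sum]
    exact Finset.sum_congr rfl fun w _ => (mem_unitsP.1 (w : B).val.2).2.1 l
  have hJw : ∀ w : B, w ∈ Nm.ker → J * val w = val w⁻¹ * J := by
    intro w hw
    simp only [J, Finset.sum_mul, Finset.mul_sum]
    refine Fintype.sum_equiv (Equiv.mulRight (⟨w, hw⟩ * ⟨w, hw⟩ : Nm.ker)) _ _ fun v => ?_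
    simp only [Equiv.coe_mulRight, val, Subgroup.coe_mul, hinvB]
    have key : ((v : B).val * w.val : Q) = w.val⁻¹ * (((v : B) * (w * w)).val) := by
      rw [← mul_assoc (v : B), hmul, hmul]
      set a := w.val
      set b := (v : B).val
      have hc : ∀ x : Q, Commute ⁅a, b⁆ x := classTwo hθ hm a b
      have e1 : ⁅a, b * a * ⁅a, b⁆ ^ k2⁆ = ⁅a, b⁆ := by
        rw [OddLocal.commutator_mul_right_of_classTwo (classTwo hθ hm),
          OddLocal.commutator_mul_right_of_classTwo (classTwo hθ hm),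
          commutatorElement_self, mul_one,
          commutatorElement_eq_one_iff_commute.2 (((hc a).pow_left k2).symm), mul_one]
      rw [e1, mul_assoc (b * a) _ a, ((hc a).pow_left k2).eq, ← mul_assoc (b * a) a,
        mul_assoc (b * a * a), ← pow_add, ← two_mul, hk2, pow_succ, pow_card_eq hθ hm, one_mul,
        commutatorElement_def]
      calc b * a = a⁻¹ * (a * b * a⁻¹ * b⁻¹) * (b * a * a) := by group
        _ = a⁻¹ * (b * a * a * (a * b * a⁻¹ * b⁻¹)) := by
          rw [mul_assoc a⁻¹, ← commutatorElement_def, (hc _).eq]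
    rw [← Units.val_mul, ← Units.val_mul, ← Subgroup.coe_mul, key, Subgroup.coe_mul, Subgroup.coe_inv]
  have hJa : ∀ a : Q, ∃ a' : Q, J * ((a : (Mat d)ˣ) : Mat d) = ((a' : (Mat d)ˣ) : Mat d) * J ∧
      J * ((a' : (Mat d)ˣ) : Mat d) = ((a : (Mat d)ˣ) : Mat d) * J ∧
      lamP hθ hm a * lamP hθ hm a' = 1 := by
    intro a
    obtain ⟨w, z, hw, hz, hwz⟩ := hdec ⟨a⟩
    have ha : a = w.val * z.val := by
      rw [← hmulscal w z hz, ← hwz]
    obtain ⟨c, hc⟩ := scalar_of_lamP hθ hm _ hz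
    have h1 := hJw w hw
    have h2 := hJw w⁻¹ (Nm.ker.inv_mem hw)
    rw [inv_inv] at h2
    simp only [val, hinvB] at h1 h2
    refine ⟨w.val⁻¹ * z.val, ?_, ?_, ?_⟩
    · simp only [ha, Subgroup.coe_mul, Units.val_mul, hc, Matrix.mul_smul, mul_one, Matrix.smul_mul]
      rw [h1]
    · simp only [ha, Subgroup.coe_mul, Units.val_mul, hc, Matrix.mul_smul, mul_one, Matrix.smul_mul]
      rw [h2]
    · rw [ha, lamP_mul, lamP_mul, hz, mul_one, mul_one, ← lamP_mul, mul_inv_cancel, lamP_one]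
  have hJJ : ∀ a ∈ Q, J * J * (a : Mat d) = a * (J * J) := by
    intro a ha
    obtain ⟨a', h1, h2, -⟩ := hJa ⟨a, ha⟩
    rw [mul_assoc, h1, ← mul_assoc, h2, mul_assoc]
  -- an operator in the span of `θ L` commuting with it is a scalar
  have hscalar : ∀ X : Mat d, Cent θ L X →
      (∀ a ∈ Q, X * (a : Mat d) = a * X) → ∃ c : ℂ, X = c • 1 := by
    intro X hXc hXP
    have hcen : ∀ Y : Mat d, (∀ l : L, Y * θ l = θ l * Y) → X * Y = Y * X :=
      fun Y hY => comm_centralizer hθ hm hab hXP hY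
    obtain ⟨z, hz⟩ := exists_ev θ L hθ hcen
    have htr : ∀ (l : L) (f : L → ℂ), (θ (l : K) * ev (θ.comp L.subtype) f).trace =
        e * (φ l * ev φ f).trace := fun l f => by
      simp only [ev, Finset.mul_sum, Matrix.trace_sum, Matrix.mul_smul, Matrix.trace_smul,
        smul_eq_mul]
      refine Finset.sum_congr rfl fun x _ => ?_
      rw [MonoidHom.comp_apply, Subgroup.coe_subtype, ← map_mul, ← map_mul, ← Subgroup.coe_mul,
        show (θ ((l * x : L) : K)).trace = _ from he (l * x)]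
      show f x * (e * chr φ (l * x)) = e * (f x * chr φ (l * x))
      ring
    have hφz : ∀ y : L, ev φ z * φ y = φ y * ev φ z := by
      intro y
      have he0 : e ≠ 0 := fun h => by
        have := he 1
        simp [chr, h, hθ.1.ne'] at this
      refine sub_eq_zero.1 ?_
      refine @eq_zero_of_traces n L _ _ φ ⊤ _ _ hφ _ (fun Y hY => ?_) fun l => ?_
      · obtain ⟨c, hc⟩ := hφ.2 Y fun x => hY ⟨x, Subgroup.mem_top x⟩
        rw [hc, Matrix.mul_smul, Matrix.smul_mul, mul_one, one_mul]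
      · refine (mul_eq_zero.1 ?_).resolve_left he0
        rw [mul_sub, Matrix.trace_sub, mul_sub, ← mul_assoc, Matrix.trace_mul_comm,
          ← mul_assoc (φ y), ← mul_assoc, ← map_mul, ← map_mul, ← htr, ← htr, ← hz,
          Subgroup.coe_mul, map_mul, mul_assoc, Subgroup.coe_mul, map_mul, mul_assoc,
          Matrix.trace_mul_comm (θ (y : K)), mul_assoc, hXc y, sub_self]
    obtain ⟨c, hc⟩ := hφ.2 _ hφz
    refine ⟨c, sub_eq_zero.1 (eq_zero_of_traces θ L hθ (fun Y hY => ?_) fun l => ?_)⟩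
    · rw [sub_mul, mul_sub, hcen Y hY, Matrix.smul_mul, one_mul, Matrix.mul_smul, mul_one]
    · rw [mul_sub, Matrix.trace_sub, hz, htr, hc, Matrix.mul_smul, Matrix.trace_smul, mul_one,
        Matrix.mul_smul, mul_one, Matrix.trace_smul, smul_eq_mul, smul_eq_mul]
      show e * (c * chr φ l) - c * chr θ l = 0
      rw [he]
      ring
  obtain ⟨c, hc⟩ := hscalar (J * J) (hJC.mul θ L hJC) hJJ
  have hc0 : c ≠ 0 := by
    intro h0
    have h : (J * J).trace = (Fintype.card Nm.ker : ℂ) * d := by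
      simp only [J, Finset.sum_mul, Finset.mul_sum, Matrix.trace_sum]
      rw [Finset.sum_congr rfl (fun v _ => Finset.sum_eq_single (v⁻¹) ?_ (fun h => absurd
        (Finset.mem_univ _) h))]
      · rw [Finset.sum_congr rfl (fun v _ => show (val (((v⁻¹ : Nm.ker) : B)) * val (v : B)).trace = (d : ℂ) by
          simp only [val, Subgroup.coe_inv, hinvB, ← Units.val_mul, inv_mul_cancel, Units.val_one,
            Matrix.trace_one, Fintype.card_fin]), Finset.sum_const, Finset.card_univ, nsmul_eq_mul]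
      · intro w _ hw
        by_cases h1 : lamP hθ hm ((w : B).val * (v : B).val) = 1
        · refine absurd ?_ hw
          have hz : lamP hθ hm ((w : B) * v).val = 1 := by
            rw [hmul, lamP_mul, h1, lamP_pow, lamP_commutator, one_pow, one_mul]
          have h2 : ((w : B) * v) ^ Nat.card S = 1 := by
            rw [← hNscal _ hz]
            exact MonoidHom.mem_ker.1 (Nm.ker.mul_mem w.2 v.2)
          have h3 : ((w : B) * v) ^ m = 1 := OddLocal.Baer.ext (by rw [hpowB, pow_card_eq, hone])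
          exact eq_inv_of_mul_eq_one_left (Subtype.ext (orderOf_eq_one_iff.1
            (Nat.eq_one_of_dvd_coprimes hcop (orderOf_dvd_of_pow_eq_one h3)
              (orderOf_dvd_of_pow_eq_one h2))))
        · obtain ⟨k, hk⟩ : ∃ k, lamP hθ hm ((w : B).val * (v : B).val) k ≠ 1 := by
            by_contra h2
            push Not at h2
            exact h1 (funext h2)
          exact Eig.trace_eq_zero θ (lamP_spec hθ hm ((w : B).val * (v : B).val)) hk
    rw [hc, h0, zero_smul, Matrix.trace_zero] at h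
    exact mul_ne_zero (Nat.cast_ne_zero.2 Fintype.card_ne_zero)
      (Nat.cast_ne_zero.2 hθ.1.ne') h.symm
  obtain ⟨r, hr⟩ := IsAlgClosed.exists_pow_nat_eq c two_pos
  have hr0 : r ≠ 0 := fun h => hc0 (by rw [← hr, h, zero_pow two_ne_zero])
  -- as an element of the group algebra
  obtain ⟨z₀, hz₀⟩ := exists_ev θ ⊤ hθ (X := J) (fun Y hY => by
    obtain ⟨c', hc'⟩ := hθ.2 Y fun x => hY ⟨x, Subgroup.mem_top x⟩
    rw [hc', Matrix.mul_smul, Matrix.smul_mul, mul_one, one_mul])
  let z : K → ℂ := fun k => r⁻¹ * z₀ ⟨k, Subgroup.mem_top k⟩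
  have hzJ : ev θ z = r⁻¹ • J := by
    rw [hz₀, ev, ev, Finset.smul_sum]
    exact (Fintype.sum_equiv Subgroup.topEquiv.toEquiv _ _ fun x => by
      rw [smul_smul]; rfl).symm
  refine ⟨z, fun l => ?_, ?_, fun k => ?_, ?_⟩
  · rw [hzJ, Matrix.smul_mul, Matrix.mul_smul, hJC l]
  · rw [hzJ, Matrix.smul_mul, Matrix.mul_smul, smul_smul, hc, smul_smul, ← mul_inv, ← sq, hr,
      inv_mul_cancel₀ hc0, one_smul]
  · refine exists_ev θ L hθ fun Y hY => comm_centralizer hθ hm hab (fun a ha => ?_) hY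
    obtain ⟨a', h1, h2, h3⟩ := hJa ⟨a, ha⟩
    simp only at h1 h2 h3
    rw [hzJ]
    simp only [Matrix.smul_mul, Matrix.mul_smul, smul_smul]
    congr 1
    have hl := congrFun h3 k
    rw [Pi.mul_apply, Pi.one_apply] at hl
    calc J * θ k * J * θ k * (a : Mat d) = J * θ k * (J * (θ k * a)) := by simp only [mul_assoc]
      _ = lamP hθ hm ⟨a, ha⟩ k • (J * θ k * ((J * a) * θ k)) := by
        rw [lamP_spec hθ hm ⟨a, ha⟩ k, Matrix.mul_smul, Matrix.mul_smul, mul_assoc J (a : Mat d)]
      _ = lamP hθ hm ⟨a, ha⟩ k • (J * (θ k * ((a' : (Mat d)ˣ) : Mat d)) * (J * θ k)) := by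
        rw [h1]; simp only [mul_assoc]
      _ = ((J * ((a' : (Mat d)ˣ) : Mat d)) * θ k * (J * θ k)) := by
        rw [lamP_spec hθ hm a' k, Matrix.mul_smul, Matrix.smul_mul, smul_smul, hl, one_smul]
        simp only [mul_assoc]
      _ = (a : Mat d) * (J * θ k * J * θ k) := by rw [h2]; simp only [mul_assoc]
  · intro α hαs hαl hαθ
    obtain ⟨N, hN⟩ := exists_conjugator hθ α hαθ
    let G : B →* B := lift (conjP hθ hm hαl hN)
    have hGF : ∀ s x, G (F s x) = F s (G x) := by
      intro s x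
      refine congrArg OddLocal.Baer.mk (Subtype.ext ?_)
      show N * (M s * (x.val : (Mat d)ˣ) * (M s)⁻¹) * N⁻¹ =
        M s * (N * (x.val : (Mat d)ˣ) * N⁻¹) * (M s)⁻¹
      have h := conjugator_unique hθ (α := fun y => s • α y) (M := N * M s) (M' := M s * N)
        (fun y => by rw [Units.val_mul, mul_assoc, hM s, ← mul_assoc, hN, mul_assoc, hαS, hαs])
        (fun y => by rw [Units.val_mul, mul_assoc, hN, ← mul_assoc, hM s, mul_assoc, hαS])
        (x.val : (Mat d)ˣ)
      calc N * (M s * (x.val : (Mat d)ˣ) * (M s)⁻¹) * N⁻¹ = N * M s * x.val * (N * M s)⁻¹ := by group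
        _ = M s * N * x.val * (M s * N)⁻¹ := h
        _ = _ := by group
    have hGinj : Function.Injective G := fun x y h => by
      have h1 : N * (x.val : (Mat d)ˣ) * N⁻¹ = N * (y.val : (Mat d)ˣ) * N⁻¹ :=
        congrArg (fun b : B => ((b.val : Q) : (Mat d)ˣ)) h
      exact OddLocal.Baer.ext (Subtype.ext (mul_left_cancel (mul_right_cancel h1)))
    let g : Nm.ker → Nm.ker := fun w => ⟨G w, by
      rw [MonoidHom.mem_ker, hNm, Finset.prod_congr rfl (fun s _ => (hGF s w).symm), ← map_prod,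
        ← hNm, MonoidHom.mem_ker.1 w.2, map_one]⟩
    have hg : Function.Bijective g := by
      have hi : Function.Injective g := fun v w h => Subtype.ext (hGinj (congrArg Subtype.val h))
      exact ⟨hi, Finite.injective_iff_surjective.1 hi⟩
    have hNJ : (N : Mat d) * J * ((N⁻¹ : (Mat d)ˣ) : Mat d) = J := by
      simp only [J, Finset.mul_sum, Finset.sum_mul]
      exact Fintype.sum_equiv (Equiv.ofBijective g hg) _ _ fun w => rfl
    have h : ev (θ.comp α.toMonoidHom) z =
        (N : Mat d) * ev θ z * ((N⁻¹ : (Mat d)ˣ) : Mat d) := by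
      simp only [ev, Finset.mul_sum, Finset.sum_mul, Matrix.mul_smul, Matrix.smul_mul]
      refine Finset.sum_congr rfl fun x _ => ?_
      rw [hN, mul_assoc, Units.mul_inv, mul_one]
      rfl
    rw [h, hzJ, Matrix.mul_smul, Matrix.smul_mul, hNJ]

end Main

end CfsgLib.Block.OddCorr
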