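import Cfsg.Agent.Lib.Block.OddCorrElement
import Cfsg.Agent.Lib.Clifford.Constituents
import Cfsg.Agent.Lib.Clifford.Correspondence
import Mathlib.GroupTheory.FiniteAbelian.Duality
import Mathlib.FieldTheory.IsAlgClosed.Basic
import Mathlib.LinearAlgebra.Matrix.Kronecker
import Mathlib.LinearAlgebra.Trace
import Mathlib.RingTheory.RootsOfUnity.Complex

/-!
The odd-multiplicity correspondence over an invariant pair of characters.
-/

set_option autoImplicit false
set_option linter.unusedSectionVars false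
set_option maxHeartbeats 800000

namespace CfsgLib.Block.OddCorr

open CfsgLib CfsgLib.Clifford
open scoped commutatorElement ComplexConjugate Kronecker Matrix

universe u

/-- The part cut out by an idempotent in the commutant is a generalized character. -/
theorem isGeneralized_trace_idem {H : Type u} [Group H] {d : ℕ} (σ : H →* Mat d) {P : Mat d}
    (hP : P * P = P) (hc : ∀ h, P * σ h = σ h * P) :
    Cfsg.IsGeneralizedCharacter H fun h => (P * σ h).trace := by
  let σ' : H →* Mat d :=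
    { toFun := fun h => P * σ h + (1 - P)
      map_one' := by rw [map_one, mul_one, add_sub_cancel]
      map_mul' := fun a b => by
        have h1 : P * σ a * (P * σ b) = P * σ (a * b) := by
          rw [map_mul, mul_assoc P (σ a), ← mul_assoc (σ a), ← hc, mul_assoc P (σ a), ← mul_assoc,
            hP]
        have h2 : P * σ a * P = P * σ a := by rw [mul_assoc, ← hc, ← mul_assoc, hP]
        have h3 : P * (P * σ b) = P * σ b := by rw [← mul_assoc, hP]
        simp only [add_mul, mul_add, sub_mul, mul_sub, one_mul, mul_one, h1, h2, h3, hP]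
        abel }
  obtain ⟨k, hk⟩ : ∃ k : ℕ, P.trace = k := by
    let f := Matrix.toLin' P
    have hf : LinearMap.IsProj (LinearMap.range f) f := ⟨fun x => LinearMap.mem_range_self f x,
      fun x hx => by
        obtain ⟨y, rfl⟩ := hx
        simp only [f, ← LinearMap.comp_apply, ← Matrix.toLin'_mul, hP]⟩
    exact ⟨_, (Matrix.trace_toLin'_eq P).symm.trans hf.trace⟩
  have h : (fun h => (P * σ h).trace) = chr σ' - ((((d : ℤ) - (k : ℤ)) : ℤ) : ℂ) • fun _ => (1 : ℂ) := by
    funext h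
    simp [chr, σ', Matrix.trace_add, Matrix.trace_sub, hk]
  rw [h]
  exact Char.isGeneralized_sub (Char.isGeneralized_of_isCharacter (isCharacter_chr σ'))
    (Char.isGeneralized_zsmul (Char.isGeneralized_of_isCharacter Char.isCharacter_one) _)

/-- Matrices on a tensor product. -/
abbrev KMat (m n : ℕ) : Type := Matrix (Fin m × Fin n) (Fin m × Fin n) ℂ

theorem sum_kron {ι : Type*} [Fintype ι] {m n : ℕ} (z : ι → ℂ) (A : ι → Mat m) (B : Mat n) :
    (∑ i, z i • A i) ⊗ₖ B = ∑ i, z i • (A i ⊗ₖ B) := by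
  ext p q
  simp only [Matrix.kroneckerMap_apply, Matrix.sum_apply, Matrix.smul_apply, smul_eq_mul,
    Finset.sum_mul, mul_assoc]

theorem kron_sum {ι : Type*} [Fintype ι] {m n : ℕ} (z : ι → ℂ) (A : Mat m) (B : ι → Mat n) :
    A ⊗ₖ (∑ i, z i • B i) = ∑ i, z i • (A ⊗ₖ B i) := by
  ext p q
  simp only [Matrix.kroneckerMap_apply, Matrix.sum_apply, Matrix.smul_apply, smul_eq_mul,
    Finset.mul_sum]
  exact Finset.sum_congr rfl fun i _ => by ring

section Local

variable {E : Type u} [Group E] [Fintype E] {I : Subgroup E} [I.Normal] [Fintype I] {d : ℕ}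

/-- The image of the inverting element in a representation of `E`. -/
def invJ (z : I → ℂ) (ρ : E →* Mat d) : Mat d := ev (ρ.comp I.subtype) z

/-- The twisted restriction. -/
def eta (z : I → ℂ) (ρ : E →* Mat d) : E → ℂ := fun g => (invJ z ρ * ρ g).trace

theorem eta_eq (z : I → ℂ) (ρ : E →* Mat d) (g : E) :
    eta z ρ g = ∑ k : I, z k * chr ρ ((k : E) * g) := by
  simp only [eta, invJ, ev, Finset.sum_mul, Matrix.trace_sum, Matrix.smul_mul, Matrix.trace_smul,
    smul_eq_mul, MonoidHom.comp_apply, Subgroup.coe_subtype, ← map_mul]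
  rfl

theorem lift_comm {H : Type u} [Group H] (σ : H →* Mat d) (x : MonoidAlgebra ℂ H) (Y : Mat d)
    (hY : ∀ h, Y * σ h = σ h * Y) :
    MonoidAlgebra.lift ℂ _ _ σ x * Y = Y * MonoidAlgebra.lift ℂ _ _ σ x := by
  induction x using MonoidAlgebra.induction_on with
  | of g => rw [MonoidAlgebra.lift_of, hY]
  | add f g hf hg => rw [map_add, add_mul, mul_add, hf, hg]
  | smul r f hf => rw [map_smul, Matrix.smul_mul, Matrix.mul_smul, hf]

/-- Relations valid in `θ` are valid in every representation over it. -/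
theorem transfer {d' : ℕ} {θ : I →* Mat d'} {ρ : E →* Mat d} (hρ : IsSchur ρ) {f : ℂ}
    (hf : ∀ k : I, chr ρ k = f * chr θ k) {x : MonoidAlgebra ℂ I}
    (hx : MonoidAlgebra.lift ℂ _ _ θ x = 0) :
    MonoidAlgebra.lift ℂ _ _ (ρ.comp I.subtype) x = 0 := by
  refine eq_zero_of_traces ρ I hρ (fun Y hY => lift_comm _ x Y hY) fun n => ?_
  have h : ∀ y : MonoidAlgebra ℂ I,
      (ρ n * MonoidAlgebra.lift ℂ _ _ (ρ.comp I.subtype) y).trace =
        f * (θ n * MonoidAlgebra.lift ℂ _ _ θ y).trace := by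
    intro y
    induction y using MonoidAlgebra.induction_on with
    | of g =>
      rw [MonoidAlgebra.lift_of, MonoidAlgebra.lift_of, MonoidHom.comp_apply, Subgroup.coe_subtype,
        ← map_mul, ← map_mul]
      exact hf (n * g)
    | add a b ha hb => simp only [map_add, mul_add, Matrix.trace_add, ha, hb]
    | smul r a ha => simp only [map_smul, Matrix.mul_smul, Matrix.trace_smul, ha, smul_eq_mul]; ring
  rw [h, hx, mul_zero, Matrix.trace_zero, mul_zero]

variable {L H : Subgroup E} [L.Normal] [Fintype L] (hLI : L ≤ I) {d₀ : ℕ} {θ : I →* Mat d₀}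
  {z : I → ℂ}

/-- The three properties of the inverting element, in a representation over `θ`. -/
theorem invJ_props (hz2 : ev θ z * ev θ z = 1)
    (hz4 : ∀ h ∈ H, ∑ k : I, z k • θ (conjN h k) = ev θ z)
    {ρ : E →* Mat d} (hρ : IsSchur ρ) {f : ℂ} (hf : ∀ k : I, chr ρ k = f * chr θ k) :
    invJ z ρ * invJ z ρ = 1 ∧ (∀ h ∈ H, ρ h * invJ z ρ = invJ z ρ * ρ h) ∧
      ∀ (k : I) (z' : L → ℂ),
        ev θ z * θ k * ev θ z * θ k = ∑ l : L, z' l • θ ⟨l, hLI l.2⟩ →
        invJ z ρ * ρ k * invJ z ρ * ρ k = ∑ l : L, z' l • ρ l := by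
  classical
  set zb : MonoidAlgebra ℂ I := ∑ k : I, MonoidAlgebra.single k (z k) with hzb
  have hb : ∀ {m : ℕ} (σ : I →* Mat m), MonoidAlgebra.lift ℂ _ _ σ zb = ev σ z := fun σ => by
    rw [hzb, map_sum]
    exact Finset.sum_congr rfl fun k _ => MonoidAlgebra.lift_single _ _ _
  have hbJ : MonoidAlgebra.lift ℂ _ _ (ρ.comp I.subtype) zb = invJ z ρ := hb _
  refine ⟨?_, fun h hh => ?_, fun k z' hk => ?_⟩
  · have h1 := transfer hρ hf (x := zb * zb - 1) (by rw [map_sub, map_mul, map_one, hb, hz2, sub_self])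
    rw [map_sub, map_mul, map_one, hbJ, sub_eq_zero] at h1
    exact h1
  · have h1 := transfer hρ hf (x := (∑ k : I, MonoidAlgebra.single (conjN h k) (z k)) - zb) (by
      rw [map_sub, map_sum, hb, sub_eq_zero, ← hz4 h hh]
      exact Finset.sum_congr rfl fun k _ => MonoidAlgebra.lift_single _ _ _)
    rw [map_sub, map_sum, hbJ, sub_eq_zero] at h1
    simp only [MonoidAlgebra.lift_single, MonoidHom.comp_apply, Subgroup.coe_subtype, coe_conjN,
      map_mul] at h1
    conv_rhs => rw [← h1]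
    simp only [invJ, ev, Finset.mul_sum, Finset.sum_mul, Matrix.mul_smul, Matrix.smul_mul,
      MonoidHom.comp_apply, Subgroup.coe_subtype, mul_assoc, ← map_mul, inv_mul_cancel, mul_one]
  · have h1 := transfer hρ hf (x := zb * MonoidAlgebra.single k 1 * zb * MonoidAlgebra.single k 1 -
        ∑ l : L, MonoidAlgebra.single (⟨l, hLI l.2⟩ : I) (z' l)) (by
      simp only [map_sub, map_mul, map_sum, hb, MonoidAlgebra.lift_single, one_smul, hk, sub_self])
    simp only [map_sub, map_mul, map_sum, hbJ, MonoidAlgebra.lift_single, one_smul,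
      MonoidHom.comp_apply, Subgroup.coe_subtype, sub_eq_zero] at h1
    exact h1

variable (hLH : L ≤ H) [Fintype H] (hinf : I ⊓ H = L) (hsup : I ⊔ H = ⊤)
  (hab : ∀ a ∈ I, ∀ b ∈ I, ⁅a, b⁆ ∈ L) (hIodd : Odd (Nat.card I)) (hHodd : Odd (Nat.card H))

include hinf hsup hLI in
theorem sum_product (F : E → ℂ) :
    ∑ h : H, ∑ k : I, F ((h : E) * k) = (Nat.card L : ℂ) * ∑ g : E, F g := by
  classical
  have hdec : ∀ g : E, ∃ (h : H) (k : I), (h : E) * k = g := fun g => by
    have hg : g ∈ (↑(H ⊔ I) : Set E) := by rw [sup_comm, hsup]; exact Subgroup.mem_top g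
    rw [Subgroup.mul_normal] at hg
    obtain ⟨a, ha, b, hb, rfl⟩ := hg
    exact ⟨⟨a, ha⟩, ⟨b, hb⟩, rfl⟩
  choose a b hab' using hdec
  have hmem : ∀ l : L, (l : E) ∈ I ∧ (l : E) ∈ H := fun l => by
    have := hinf.ge l.2
    exact this
  let q : E × L → H × I := fun p =>
    (a p.1 * ⟨p.2, (hmem p.2).2⟩, ⟨(p.2 : E)⁻¹, I.inv_mem (hmem p.2).1⟩ * b p.1)
  have hq : ∀ p, ((q p).1 : E) * (q p).2 = p.1 := fun p => by
    simp only [q, Subgroup.coe_mul, mul_assoc, mul_inv_cancel_left]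
    exact hab' p.1
  have hbij : Function.Bijective q := by
    refine ⟨fun p p' h => ?_, fun x => ?_⟩
    · have h1 : p.1 = p'.1 := by rw [← hq p, ← hq p', h]
      refine Prod.ext h1 (Subtype.ext ?_)
      have h2 := congrArg (fun x : H × I => (x.1 : E)) h
      simpa [q, h1] using h2
    · set g := (x.1 : E) * x.2
      have hl : ((a g : H) : E)⁻¹ * x.1 ∈ L := by
        rw [← hinf]
        refine ⟨?_, H.mul_mem (H.inv_mem (a g).2) x.1.2⟩
        have e : ((a g : H) : E)⁻¹ * x.1 = (b g : E) * (x.2 : E)⁻¹ := by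
          rw [inv_mul_eq_iff_eq_mul, ← mul_assoc, hab', mul_inv_cancel_right]
        rw [e]
        exact I.mul_mem (b g).2 (I.inv_mem x.2.2)
      refine ⟨(g, ⟨_, hl⟩), Prod.ext (Subtype.ext (by simp [q])) (Subtype.ext ?_)⟩
      simp only [q, Subgroup.coe_mul, mul_inv_rev, inv_inv, mul_assoc, hab', g, inv_mul_cancel_left]
  rw [← Fintype.sum_prod_type', ← Fintype.sum_bijective q hbij (fun p => F p.1) _
    (fun p => by rw [hq]), Fintype.sum_prod_type, Finset.mul_sum]
  exact Finset.sum_congr rfl fun g _ => by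
    show ∑ _l : L, F g = _
    rw [Finset.sum_const, Finset.card_univ, nsmul_eq_mul, Nat.card_eq_fintype_card]

include hinf hsup hab hIodd hHodd hLI in
/-- Orthogonality of the twisted restrictions. -/
theorem eta_orth (hz2 : ev θ z * ev θ z = 1)
    (hz3 : ∀ k : I, ∃ z' : L → ℂ,
      ev θ z * θ k * ev θ z * θ k = ∑ l : L, z' l • θ ⟨l, hLI l.2⟩)
    (hz4 : ∀ h ∈ H, ∑ k : I, z k • θ (conjN h k) = ev θ z)
    {d₁ d₂ : ℕ} {ρ₁ : E →* Mat d₁} {ρ₂ : E →* Mat d₂} (hρ₁ : IsSchur ρ₁) (hρ₂ : IsSchur ρ₂)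
    {f₁ f₂ : ℂ} (hf₁ : ∀ k : I, chr ρ₁ k = f₁ * chr θ k)
    (hf₂ : ∀ k : I, chr ρ₂ k = f₂ * chr θ k) :
    ∑ h : H, eta z ρ₂ h * eta z ρ₁ (h : E)⁻¹ =
      (Nat.card H : ℂ) * Cfsg.classInner (chr ρ₂) (chr ρ₁) := by
  classical
  obtain ⟨hJ1, hc1, hX1⟩ := invJ_props (H := H) hLI hz2 hz4 hρ₁ hf₁
  obtain ⟨hJ2, hc2, hX2⟩ := invJ_props (H := H) hLI hz2 hz4 hρ₂ hf₂
  set J1 := invJ z ρ₁ with hJ1d
  set J2 := invJ z ρ₂ with hJ2d
  let R : E →* KMat d₂ d₁ :=
    { toFun := fun g => ρ₂ g ⊗ₖ (ρ₁ g⁻¹)ᵀ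
      map_one' := by rw [inv_one, map_one, map_one, Matrix.transpose_one, Matrix.one_kronecker_one]
      map_mul' := fun a b => by
        rw [mul_inv_rev, map_mul, map_mul, Matrix.transpose_mul, Matrix.mul_kronecker_mul] }
  have hR : ∀ g, R g = ρ₂ g ⊗ₖ (ρ₁ g⁻¹)ᵀ := fun _ => rfl
  let JJ : KMat d₂ d₁ := J2 ⊗ₖ J1ᵀ
  let P : (I →* ℂˣ) → KMat d₂ d₁ := fun c => ∑ k : I, (c k : ℂ) • R k
  have htr : ∀ h : H, (JJ * R h).trace = eta z ρ₂ h * eta z ρ₁ (h : E)⁻¹ := fun h => by
    simp only [JJ, hR, ← Matrix.mul_kronecker_mul, Matrix.trace_kronecker, ← Matrix.transpose_mul,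
      Matrix.trace_transpose, eta, ← hJ1d, ← hJ2d, hc1 _ (H.inv_mem h.2)]
  have hJR : ∀ h : H, JJ * R h = R h * JJ := fun h => by
    simp only [JJ, hR, ← Matrix.mul_kronecker_mul, ← Matrix.transpose_mul, hc2 _ h.2,
      hc1 _ (H.inv_mem h.2)]
  have hRP : ∀ (c : I →* ℂˣ) (k : I), R k * P c = ((c k⁻¹ : ℂˣ) : ℂ) • P c := fun c k => by
    simp only [P, Finset.mul_sum, Finset.smul_sum, Matrix.mul_smul, smul_smul]
    refine Fintype.sum_equiv (Equiv.mulLeft k) _ _ fun x => ?_
    rw [← map_mul, Equiv.coe_mulLeft, ← Units.val_mul, ← map_mul, inv_mul_cancel_left]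
    rfl
  have hPR : ∀ (c : I →* ℂˣ) (k : I), P c * R k = ((c k⁻¹ : ℂˣ) : ℂ) • P c := fun c k => by
    simp only [P, Finset.sum_mul, Finset.smul_sum, Matrix.smul_mul, smul_smul]
    refine Fintype.sum_equiv (Equiv.mulRight k) _ _ fun x => ?_
    rw [← map_mul, Equiv.coe_mulRight, ← Units.val_mul, mul_comm (c k⁻¹), ← map_mul,
      mul_inv_cancel_right]
    rfl
  have hPP : ∀ c : I →* ℂˣ, P c * P c = (Nat.card I : ℂ) • P c := fun c => by
    conv_lhs => enter [1]; simp only [P]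
    rw [Finset.sum_mul, Finset.sum_congr rfl fun k _ => by
      rw [Matrix.smul_mul, hRP, smul_smul, ← Units.val_mul, ← map_mul, mul_inv_cancel, map_one,
        Units.val_one, one_smul], Finset.sum_const, Finset.card_univ, ← Nat.cast_smul_eq_nsmul ℂ,
      Nat.card_eq_fintype_card]
  -- intertwining property of fixed vectors
  have hmove : ∀ (x : E) (A : KMat d₂ d₁), R x * A = A →
      (ρ₂ x ⊗ₖ (1 : Mat d₁)) * A = ((1 : Mat d₂) ⊗ₖ (ρ₁ x)ᵀ) * A := fun x A hA => by
    conv_rhs => rw [← hA]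
    rw [← mul_assoc, hR, ← Matrix.mul_kronecker_mul, one_mul, ← Matrix.transpose_mul, ← map_mul,
      inv_mul_cancel, map_one, Matrix.transpose_one]
  have hmoveL : ∀ {ι : Type u} [Fintype ι] (x : ι → E) (w : ι → ℂ) (A : KMat d₂ d₁),
      (∀ i, R (x i) * A = A) → ((∑ i, w i • ρ₂ (x i)) ⊗ₖ (1 : Mat d₁)) * A =
        ((1 : Mat d₂) ⊗ₖ (∑ i, w i • ρ₁ (x i))ᵀ) * A := fun x w A hA => by
    simp only [sum_kron, Matrix.transpose_sum, Matrix.transpose_smul, kron_sum, Finset.sum_mul,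
      Matrix.smul_mul]
    exact Finset.sum_congr rfl fun i _ => by rw [hmove _ A (hA i)]
  have hJP : JJ * P 1 = P 1 := by
    have h := hmoveL (fun k : I => (k : E)) z (P 1) fun k => by rw [hRP]; simp
    have e : JJ = ((1 : Mat d₂) ⊗ₖ J1ᵀ) * (J2 ⊗ₖ (1 : Mat d₁)) := by
      simp only [JJ, ← Matrix.mul_kronecker_mul, one_mul, mul_one]
    rw [e, mul_assoc, show J2 ⊗ₖ (1 : Mat d₁) * P 1 = (1 : Mat d₂) ⊗ₖ J1ᵀ * P 1 from h, ← mul_assoc,
      ← Matrix.mul_kronecker_mul, one_mul, ← Matrix.transpose_mul, hJ1, Matrix.transpose_one,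
      Matrix.one_kronecker_one, one_mul]
  -- the inverting element inverts the characters
  have hflip : ∀ (c : I →* ℂˣ), (∀ k : I, (k : E) ∈ L → c k = 1) → ∀ k : I,
      R k * (JJ * P c) = (c k : ℂ) • (JJ * P c) := by
    intro c hc k
    obtain ⟨z', hz'⟩ := hz3 k
    set X1 := ∑ l : L, z' l • ρ₁ l
    set X2 := ∑ l : L, z' l • ρ₂ l
    set Y1 := ρ₁ (k : E)⁻¹ * J1 * ρ₁ (k : E)⁻¹ * J1
    have hk1 : ρ₁ (k : E) * ρ₁ (k : E)⁻¹ = 1 := by rw [← map_mul, mul_inv_cancel, map_one]
    have hk2 : ρ₂ (k : E) * ρ₂ (k : E)⁻¹ = 1 := by rw [← map_mul, mul_inv_cancel, map_one]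
    have hXY : X1 * Y1 = 1 := by
      rw [show X1 = _ from (hX1 k z' hz').symm]
      simp only [Y1, mul_assoc]
      rw [← mul_assoc (ρ₁ (k : E)) (ρ₁ (k : E)⁻¹), hk1, one_mul, ← mul_assoc J1 J1, hJ1, one_mul,
        ← mul_assoc (ρ₁ (k : E)), hk1, one_mul, hJ1]
    have e1 : J1 * ρ₁ (k : E)⁻¹ = ρ₁ (k : E) * Y1 * J1 := by
      simp only [Y1, mul_assoc]
      rw [← mul_assoc (ρ₁ (k : E)) (ρ₁ (k : E)⁻¹), hk1, one_mul, hJ1, mul_one]
    have e2 : ρ₂ (k : E) * J2 = J2 * X2 * ρ₂ (k : E)⁻¹ := by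
      rw [show X2 = _ from (hX2 k z' hz').symm]
      simp only [mul_assoc]
      rw [hk2, mul_one, ← mul_assoc J2 J2, hJ2, one_mul]
    have hfix : (X2 ⊗ₖ Y1ᵀ) * P c = P c := by
      have h := hmoveL (fun l : L => (l : E)) z' (P c) fun l => by
        have := hRP c ⟨l, hLI l.2⟩
        rw [hc _ (L.inv_mem l.2), Units.val_one, one_smul] at this
        exact this
      have e : X2 ⊗ₖ Y1ᵀ = ((1 : Mat d₂) ⊗ₖ Y1ᵀ) * (X2 ⊗ₖ (1 : Mat d₁)) := by
        simp only [← Matrix.mul_kronecker_mul, one_mul, mul_one]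
      rw [e, mul_assoc, show X2 ⊗ₖ (1 : Mat d₁) * P c = (1 : Mat d₂) ⊗ₖ X1ᵀ * P c from h,
        ← mul_assoc, ← Matrix.mul_kronecker_mul, one_mul, ← Matrix.transpose_mul, hXY,
        Matrix.transpose_one, Matrix.one_kronecker_one, one_mul]
    have e3 : R k * JJ = JJ * (X2 ⊗ₖ Y1ᵀ) * R (k⁻¹ : I) := by
      simp only [JJ, hR, Subgroup.coe_inv, inv_inv, ← Matrix.mul_kronecker_mul, e2,
        ← Matrix.transpose_mul, e1, mul_assoc]
    rw [← mul_assoc, e3, mul_assoc, hRP, inv_inv, Matrix.mul_smul, mul_assoc, hfix]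
  have hzero : ∀ c c' : I →* ℂˣ, (∀ k : I, (k : E) ∈ L → c' k = 1) → ∀ k : I, c k * c' k ≠ 1 →
      P c * JJ * P c' = 0 := by
    intro c c' hc' k hne
    have h := congrArg (fun A => P c * A) (hflip c' hc' k)
    simp only [← mul_assoc, hPR, Matrix.smul_mul, Matrix.mul_smul] at h
    refine (smul_eq_zero.1 (sub_eq_zero.2 h |> fun h' => (sub_smul _ _ _).trans h')).resolve_left ?_
    intro h'
    rw [sub_eq_zero] at h'
    apply hne
    rw [← Units.ext h', map_inv, mul_inv_cancel]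
  -- only the trivial character contributes
  have hone : ∀ (h : H) (c : I →* ℂˣ), (∀ k : I, (k : E) ∈ L → c k = 1) → c ≠ 1 →
      (JJ * R h * P c).trace = 0 := by
    intro h c hc hne
    let α : I →* I :=
      { toFun := fun k => conjN (h : E)⁻¹ k
        map_one' := Subtype.ext (by simp)
        map_mul' := fun a b => Subtype.ext (by simp [mul_assoc]) }
    have hcomm : R h * P c = P (c.comp α) * R h := by
      simp only [P, Finset.mul_sum, Finset.sum_mul, Matrix.mul_smul, Matrix.smul_mul, ← map_mul]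
      refine Fintype.sum_equiv ⟨fun k => conjN (h : E) k, fun k => α k,
        fun k => Subtype.ext (by simp [α, mul_assoc]),
        fun k => Subtype.ext (by simp [α, mul_assoc])⟩ _ _ fun k => ?_
      simp only [Equiv.coe_fn_mk, MonoidHom.comp_apply, coe_conjN, inv_mul_cancel_right]
      rw [show α (conjN (h : E) k) = k from Subtype.ext (by simp [α, mul_assoc])]
    have hαc : ∀ k : I, (k : E) ∈ L → (c.comp α) k = 1 := fun k hk => hc _
      (by simpa [α] using (inferInstance : L.Normal).conj_mem _ hk (h : E)⁻¹)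
    have hk : ∃ k, c k * c (α k) ≠ 1 := by
      by_contra hcon
      push Not at hcon
      obtain ⟨n, hn⟩ : Odd (orderOf h) := hHodd.of_dvd_nat (orderOf_dvd_natCard h)
      have hit : ∀ (j : ℕ) (k : I),
          c (conjN (((h : E)⁻¹) ^ (2 * j)) k) = c k := by
        intro j
        induction j with
        | zero => intro k; rw [mul_zero, pow_zero, conjN_one]
        | succ j ih =>
          intro k
          rw [show (h : E)⁻¹ ^ (2 * (j + 1)) = (h : E)⁻¹ * ((h : E)⁻¹ * (h : E)⁻¹ ^ (2 * j)) by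
            rw [← mul_assoc, mul_add, pow_add]; group, conjN_mul, conjN_mul]
          rw [show c (conjN (h : E)⁻¹ _) = (c (conjN (h : E)⁻¹ (conjN _ k)))⁻¹ from
            eq_inv_of_mul_eq_one_right (hcon (conjN (h : E)⁻¹ (conjN _ k))),
            show c (conjN (h : E)⁻¹ (conjN _ k)) = (c (conjN _ k))⁻¹ from
            eq_inv_of_mul_eq_one_right (hcon (conjN _ k)), inv_inv]
          exact ih k
      refine hne (MonoidHom.ext fun k => ?_)
      have hpow : ((h : E)⁻¹) ^ (2 * n) = (h : E) := by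
        have h1 : ((h : E)) ^ (2 * n + 1) = 1 := by
          rw [← hn, ← Subgroup.coe_pow, pow_orderOf_eq_one, Subgroup.coe_one]
        rw [inv_pow, inv_eq_of_mul_eq_one_right]
        rwa [← pow_succ]
      have h1 := hit n k
      rw [hpow] at h1
      have h2 := hcon (conjN (h : E) k)
      rw [h1, show α (conjN (h : E) k) = k from Subtype.ext (by simp [α, mul_assoc])] at h2
      have h3 : c k ^ Nat.card I = 1 := by rw [← map_pow, pow_card_eq_one', map_one]
      obtain ⟨m, hm⟩ := hIodd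
      rw [hm, pow_succ, pow_mul, sq, h2, one_pow, one_mul] at h3
      exact h3
    obtain ⟨k, hk⟩ := hk
    have h0 := hzero c (c.comp α) hαc k hk
    have h1 : (P c * JJ * R h * P c).trace = 0 := by
      rw [mul_assoc (P c * JJ), hcomm, ← mul_assoc, h0, zero_mul, Matrix.trace_zero]
    rw [mul_assoc, mul_assoc, Matrix.trace_mul_comm, mul_assoc, mul_assoc, hPP, Matrix.mul_smul,
      Matrix.mul_smul, Matrix.trace_smul, smul_eq_zero, ← mul_assoc] at h1
    exact h1.resolve_left (Nat.cast_ne_zero.2 Nat.card_pos.ne')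
  -- sum over the characters of the quotient
  let N := L.subgroupOf I
  let _ : CommGroup (I ⧸ N) :=
    { (inferInstance : Group (I ⧸ N)) with
      mul_comm := fun a b => by
        induction a using QuotientGroup.induction_on with
        | _ a =>
          induction b using QuotientGroup.induction_on with
          | _ b =>
            rw [← commutatorElement_eq_one_iff_mul_comm]
            exact (QuotientGroup.eq_one_iff _).2 (hab a a.2 b b.2) }
  have : Fintype ((I ⧸ N) →* ℂˣ) := Fintype.ofFinite _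
  have hsum : ∑ c : (I ⧸ N) →* ℂˣ, P (c.comp (QuotientGroup.mk' N)) =
      (Nat.card (I ⧸ N) : ℂ) • ∑ l : L, R l := by
    simp only [P]
    rw [Finset.sum_comm]
    simp only [← Finset.sum_smul, MonoidHom.comp_apply, QuotientGroup.mk'_apply]
    have horth : ∀ q : I ⧸ N, ∑ c : (I ⧸ N) →* ℂˣ, (c q : ℂ) =
        if q = 1 then (Nat.card (I ⧸ N) : ℂ) else 0 := fun q => by
      rw [sum_hom (I ⧸ N) q, CommGroup.card_monoidHom_of_hasEnoughRootsOfUnity]
    simp only [horth, QuotientGroup.eq_one_iff, ite_smul, zero_smul]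
    rw [Finset.sum_ite, Finset.sum_const_zero, add_zero, Finset.smul_sum,
      Finset.sum_subtype (p := (· ∈ N)) _ (fun k => by simp)]
    exact Fintype.sum_equiv (Subgroup.subgroupOfEquivOfLe hLI).toEquiv _ _ fun k => rfl
  have hcol : ∀ h : H, (Nat.card (I ⧸ N) : ℂ) * ∑ l : L, (JJ * R ((h : E) * l)).trace =
      ∑ k : I, chr ρ₂ ((h : E) * k) * chr ρ₁ ((h : E) * k)⁻¹ := by
    intro h
    have h1 := congrArg (fun A => (JJ * R h * A).trace) hsum
    simp only [Finset.mul_sum, Matrix.trace_sum, Matrix.mul_smul, Matrix.trace_smul, smul_eq_mul,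
      mul_assoc, ← map_mul] at h1
    rw [Finset.sum_eq_single (1 : (I ⧸ N) →* ℂˣ)] at h1
    · rw [← Finset.mul_sum] at h1
      refine h1.symm.trans ?_
      rw [← mul_assoc, hJR, mul_assoc, show P (MonoidHom.comp 1 (QuotientGroup.mk' N)) = P 1 from rfl,
        hJP]
      simp only [P, Finset.mul_sum, Matrix.trace_sum, MonoidHom.one_apply, Units.val_one, one_smul,
        hR, ← Matrix.mul_kronecker_mul, Matrix.trace_kronecker, ← Matrix.transpose_mul,
        Matrix.trace_transpose, chr, mul_inv_rev, map_mul]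
    · intro c _ hc
      rw [← mul_assoc]
      refine hone h _ (fun k hk => ?_) fun h0 => hc ?_
      · rw [MonoidHom.comp_apply, QuotientGroup.mk'_apply,
          (QuotientGroup.eq_one_iff k).2 hk, map_one]
      · exact MonoidHom.ext fun q => by
          induction q using QuotientGroup.induction_on with
          | _ k => exact DFunLike.congr_fun h0 k
    · exact fun h0 => absurd (Finset.mem_univ _) h0
  have htot := Finset.sum_congr rfl fun (h : H) (_ : h ∈ Finset.univ) => hcol h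
  rw [sum_product hLI hinf hsup fun g => chr ρ₂ g * chr ρ₁ g⁻¹, ← Finset.mul_sum,
    Finset.sum_comm] at htot
  have hshift : ∀ l : L, ∑ h : H, (JJ * R ((h : E) * l)).trace =
      ∑ h : H, eta z ρ₂ h * eta z ρ₁ (h : E)⁻¹ := fun l => by
    simp only [← htr]
    exact Fintype.sum_equiv (Equiv.mulRight (⟨l, (hinf.ge l.2).2⟩ : H)) _ _ fun h => rfl
  simp only [hshift, Finset.sum_const, Finset.card_univ, nsmul_eq_mul] at htot
  have hcard : Nat.card H * Nat.card I = Nat.card L * Nat.card E := by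
    have h := sum_product hLI hinf hsup (fun _ => (1 : ℂ))
    simp only [Finset.sum_const, Finset.card_univ, nsmul_eq_mul, mul_one,
      ← Nat.card_eq_fintype_card] at h
    exact_mod_cast h
  have hIL : Nat.card (I ⧸ N) * Nat.card L = Nat.card I := by
    rw [← Nat.card_congr (Subgroup.subgroupOfEquivOfLe hLI).toEquiv]
    exact (Subgroup.card_eq_card_quotient_mul_card_subgroup N).symm
  rw [← mul_assoc, ← Nat.card_eq_fintype_card, ← Nat.cast_mul, hIL] at htot
  have hinner : Cfsg.classInner (chr ρ₂) (chr ρ₁) =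
      (Nat.card E : ℂ)⁻¹ * ∑ g : E, chr ρ₂ g * chr ρ₁ g⁻¹ := by
    rw [Char.classInner_def]
    exact congrArg _ (Finset.sum_congr rfl fun g _ => by rw [chr_inv])
  rw [hinner]
  have hE : (Nat.card E : ℂ) ≠ 0 := Nat.cast_ne_zero.2 Nat.card_pos.ne'
  have hI : (Nat.card I : ℂ) ≠ 0 := Nat.cast_ne_zero.2 Nat.card_pos.ne'
  have hcard' : (Nat.card H : ℂ) * Nat.card I = Nat.card L * Nat.card E := by exact_mod_cast hcard
  apply mul_left_cancel₀ hI
  rw [htot, ← mul_assoc (Nat.card I : ℂ), mul_comm (Nat.card I : ℂ), hcard', mul_assoc,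
    mul_inv_cancel_left₀ hE]

include hinf hsup hab hIodd hHodd hLI in
/-- The twisted restriction is, up to sign, the unique constituent of odd multiplicity. -/
theorem exists_odd_constituent (hz2 : ev θ z * ev θ z = 1)
    (hz3 : ∀ k : I, ∃ z' : L → ℂ,
      ev θ z * θ k * ev θ z * θ k = ∑ l : L, z' l • θ ⟨l, hLI l.2⟩)
    (hz4 : ∀ h ∈ H, ∑ k : I, z k • θ (conjN h k) = ev θ z)
    {ρ : E →* Mat d} (hρ : IsSchur ρ) (hirr : Cfsg.IsIrrCharacter E (chr ρ)) {f : ℂ}
    (hf : ∀ k : I, chr ρ k = f * chr θ k) :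
    ∃ (ψ : H → ℂ) (ε : ℂ), Cfsg.IsIrrCharacter H ψ ∧ ε * ε = 1 ∧
      (∀ h : H, eta z ρ h = ε * ψ h) ∧
      ∀ ψ' : H → ℂ, Cfsg.IsIrrCharacter H ψ' →
        ((∃ m : ℕ, Cfsg.classInner (fun h : H => chr ρ h) ψ' = m ∧ Odd m) ↔ ψ' = ψ) := by
  classical
  obtain ⟨hJ, hc, -⟩ := invJ_props (H := H) hLI hz2 hz4 hρ hf
  set J := invJ z ρ with hJd
  set σ : H →* Mat d := ρ.comp H.subtype
  have hcσ : ∀ h, J * σ h = σ h * J := fun h => (hc _ h.2).symm
  set η : H → ℂ := fun h => eta z ρ h with hη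
  set P : Mat d := (2 : ℂ)⁻¹ • (1 + J) with hPd
  set Q : Mat d := (2 : ℂ)⁻¹ • (1 - J) with hQd
  have hP : P * P = P := by
    rw [hPd, Matrix.smul_mul, Matrix.mul_smul, mul_add, add_mul, add_mul, hJ]
    simp only [one_mul, mul_one]
    module
  have hQ : Q * Q = Q := by
    rw [hQd, Matrix.smul_mul, Matrix.mul_smul, mul_sub, sub_mul, sub_mul, hJ]
    simp only [one_mul, mul_one]
    module
  have hPc : ∀ h, P * σ h = σ h * P := fun h => by
    rw [hPd, Matrix.smul_mul, Matrix.mul_smul, add_mul, mul_add, hcσ, one_mul, mul_one]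
  have hQc : ∀ h, Q * σ h = σ h * Q := fun h => by
    rw [hQd, Matrix.smul_mul, Matrix.mul_smul, sub_mul, mul_sub, hcσ, one_mul, mul_one]
  have gα := isGeneralized_trace_idem σ hP hPc
  have gβ := isGeneralized_trace_idem σ hQ hQc
  set β : H → ℂ := fun h => (Q * σ h).trace
  have hηeq : η = (fun h => (P * σ h).trace) - β := by
    funext h
    simp only [Pi.sub_apply, β, η, eta, ← hJd, ← Matrix.trace_sub, ← sub_mul]
    rw [show P - Q = J by rw [hPd, hQd]; module]
    rfl
  have hres : (fun h : H => chr ρ h) = η + (2 : ℂ) • β := by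
    funext h
    simp only [Pi.add_apply, Pi.smul_apply, β, η, eta, chr, ← hJd, ← Matrix.trace_smul,
      ← Matrix.smul_mul, ← Matrix.trace_add]
    rw [show σ h = ρ h from rfl, ← add_mul, show J + (2 : ℂ) • Q = 1 by rw [hQd]; module, one_mul]
  have gη : Cfsg.IsGeneralizedCharacter H η := hηeq ▸ Char.isGeneralized_sub gα gβ
  have hconj : ∀ h : H, η h⁻¹ = conj (η h) := fun h => by
    obtain ⟨a, b, ha, hb, e⟩ := gη
    simp only [e, Pi.sub_apply, map_sub, Char.char_inv ha, Char.char_inv hb]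
  have hnorm : Cfsg.classInner η η = 1 := by
    have h := eta_orth hLI hinf hsup hab hIodd hHodd hz2 hz3 hz4 hρ hρ hf hf
    rw [Char.irr_classInner_self hirr, mul_one] at h
    rw [Char.classInner_def, Finset.sum_congr rfl fun h _ => by rw [← hconj h]]
    show (Nat.card H : ℂ)⁻¹ * ∑ h : H, eta z ρ h * eta z ρ ((h⁻¹ : H) : E) = 1
    simp only [Subgroup.coe_inv]
    rw [h, inv_mul_cancel₀ (Nat.cast_ne_zero.2 Nat.card_pos.ne')]
  obtain ⟨ψ, ε, hψ, hε, hεψ⟩ : ∃ (ψ : H → ℂ) (ε : ℤ), Cfsg.IsIrrCharacter H ψ ∧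
      (ε = 1 ∨ ε = -1) ∧ η = (ε : ℂ) • ψ := by
    rcases Char.isGeneralized_norm_one gη hnorm with h | h
    · exact ⟨η, 1, h, Or.inl rfl, by simp⟩
    · exact ⟨-η, -1, h, Or.inr rfl, by simp⟩
  refine ⟨ψ, ε, hψ, by rcases hε with rfl | rfl <;> norm_num,
    fun h => congrFun hεψ h, fun ψ' hψ' => ?_⟩
  obtain ⟨k, hk⟩ := Char.classInner_isGeneralized_int gβ
    (Char.isGeneralized_of_isCharacter (Char.irr_isCharacter hψ'))
  obtain ⟨m, hm⟩ := Char.classInner_isCharacter_nat
    (φ := fun h : H => chr ρ h) (Char.isCharacter_restrict (isCharacter_chr ρ) H)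
    (Char.irr_isCharacter hψ')
  have hval : (m : ℂ) = (ε : ℂ) * (if ψ = ψ' then 1 else 0) + 2 * k := by
    rw [← hm, hres, Char.classInner_add_left, Char.classInner_smul_left, hk, hεψ,
      Char.classInner_smul_left, Char.irr_classInner hψ hψ']
  constructor
  · rintro ⟨m', hm', hodd⟩
    have hmm : m' = m := by exact_mod_cast hm'.symm.trans hm
    by_contra hne
    rw [if_neg (fun h => hne h.symm), mul_zero, zero_add] at hval
    have h2 : (m : ℤ) = 2 * k := by exact_mod_cast hval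
    obtain ⟨j, hj⟩ := hmm ▸ hodd
    omega
  · rintro rfl
    rw [if_pos rfl, mul_one] at hval
    have h2 : (m : ℤ) = ε + 2 * k := by exact_mod_cast hval
    refine ⟨m, hm, ?_⟩
    rw [Nat.odd_iff]
    rcases hε with rfl | rfl <;> omega

/-- Restriction to a subgroup between `L` and the inertia group. -/
theorem restrict_eq_smul_sub (hLH : L ≤ H) {φ : L → ℂ} (hφ : Cfsg.IsIrrCharacter L φ)
    (hinv : ∀ h ∈ H, conjFn h φ = φ) {ψ : H → ℂ} (hψ : Cfsg.IsIrrCharacter H ψ)
    (h : Cfsg.classInner (fun l : L => ψ ⟨(l : E), hLH l.2⟩) φ ≠ 0) :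
    (fun l : L => ψ ⟨(l : E), hLH l.2⟩) =
      Cfsg.classInner (fun l : L => ψ ⟨(l : E), hLH l.2⟩) φ • φ := by
  have := Fintype.ofFinite (L.subgroupOf H)
  let e : L.subgroupOf H ≃* L := Subgroup.subgroupOfEquivOfLe hLH
  have hin : Cfsg.classInner (fun m : L.subgroupOf H => ψ m) (φ ∘ e) =
      Cfsg.classInner (fun n : L => ψ ⟨(n : E), hLH n.2⟩) φ := by
    rw [Char.classInner_def, Char.classInner_def, Nat.card_congr e.toEquiv]
    congr 1
    exact Fintype.sum_equiv e.toEquiv _ _ fun m => rfl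
  have hφ' : Cfsg.IsIrrCharacter (L.subgroupOf H) (φ ∘ e) :=
    Char.isIrrCharacter_comp_surjective hφ e.toMonoidHom e.surjective
  have h1 := restrict_eq_smul_of_invariant (N := L.subgroupOf H) hψ hφ'
    (fun t => funext fun m => congrFun (hinv t t.2) ⟨((m : H) : E), Subgroup.mem_subgroupOf.mp m.2⟩)
    (hin ▸ h)
  funext n
  have h2 := congrFun h1 (e.symm n)
  rw [hin] at h2
  simp only [Pi.smul_apply, Function.comp_apply, MulEquiv.apply_symm_apply] at h2 ⊢
  exact h2

include hinf hsup hab hIodd hHodd hLI in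
/-- **The odd correspondence over an invariant pair.** -/
theorem local_correspondence (hLH : L ≤ H) (hθ : IsSchur θ)
    (hθirr : Cfsg.IsIrrCharacter I (chr θ)) (hθinv : ∀ g : E, conjFn g (chr θ) = chr θ)
    {φ : L → ℂ} (hφ : Cfsg.IsIrrCharacter L φ) (hφinv : ∀ g : E, conjFn g φ = φ) {e : ℂ}
    (he : ∀ l : L, chr θ ⟨l, hLI l.2⟩ = e * φ l) (hz2 : ev θ z * ev θ z = 1)
    (hz3 : ∀ k : I, ∃ z' : L → ℂ,
      ev θ z * θ k * ev θ z * θ k = ∑ l : L, z' l • θ ⟨l, hLI l.2⟩)
    (hz4 : ∀ h ∈ H, ∑ k : I, z k • θ (conjN h k) = ev θ z) :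
    (∀ τ : E → ℂ, Cfsg.IsIrrCharacter E τ →
      Cfsg.classInner (fun k : I => τ k) (chr θ) ≠ 0 →
      ∃ ψ : H → ℂ, Cfsg.IsIrrCharacter H ψ ∧
        Cfsg.classInner (fun l : L => ψ ⟨(l : E), hLH l.2⟩) φ ≠ 0 ∧
        ∀ ψ' : H → ℂ, Cfsg.IsIrrCharacter H ψ' →
          ((∃ m : ℕ, Cfsg.classInner (fun h : H => τ h) ψ' = m ∧ Odd m) ↔ ψ' = ψ)) ∧
    (∀ τ τ' : E → ℂ, Cfsg.IsIrrCharacter E τ → Cfsg.IsIrrCharacter E τ' →
      Cfsg.classInner (fun k : I => τ k) (chr θ) ≠ 0 →
      Cfsg.classInner (fun k : I => τ' k) (chr θ) ≠ 0 →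
      ∀ ψ : H → ℂ, Cfsg.IsIrrCharacter H ψ →
      (∃ m : ℕ, Cfsg.classInner (fun h : H => τ h) ψ = m ∧ Odd m) →
      (∃ m : ℕ, Cfsg.classInner (fun h : H => τ' h) ψ = m ∧ Odd m) → τ = τ') ∧
    (∀ ψ : H → ℂ, Cfsg.IsIrrCharacter H ψ →
      Cfsg.classInner (fun l : L => ψ ⟨(l : E), hLH l.2⟩) φ ≠ 0 →
      ∃ τ : E → ℂ, Cfsg.IsIrrCharacter E τ ∧ Cfsg.classInner (fun k : I => τ k) (chr θ) ≠ 0 ∧
        ∃ m : ℕ, Cfsg.classInner (fun h : H => τ h) ψ = m ∧ Odd m) := by
  classical
  have := Fintype.ofFinite (Cfsg.IrrCharacter E)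
  let Ov : Finset (Cfsg.IrrCharacter E) := Finset.univ.filter
    fun τ : Cfsg.IrrCharacter E => Cfsg.classInner (fun k : I => (τ : E → ℂ) k) (chr θ) ≠ 0
  have hdata : ∀ τ : E → ℂ, Cfsg.IsIrrCharacter E τ →
      Cfsg.classInner (fun k : I => τ k) (chr θ) ≠ 0 →
      ∃ (d' : ℕ) (ρ : E →* Mat d') (f : ℂ) (ψ : H → ℂ) (ε a : ℂ), IsSchur ρ ∧ chr ρ = τ ∧
        (∀ k : I, chr ρ k = f * chr θ k) ∧ Cfsg.IsIrrCharacter H ψ ∧ ε * ε = 1 ∧
        (∀ h : H, eta z ρ h = ε * ψ h) ∧
        (∀ l : L, ψ ⟨(l : E), hLH l.2⟩ = a * φ l) ∧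
        Cfsg.classInner (fun l : L => ψ ⟨(l : E), hLH l.2⟩) φ ≠ 0 ∧
        ∀ ψ' : H → ℂ, Cfsg.IsIrrCharacter H ψ' →
          ((∃ m : ℕ, Cfsg.classInner (fun h : H => τ h) ψ' = m ∧ Odd m) ↔ ψ' = ψ) := by
    intro τ hτ hov
    obtain ⟨d', ρ, hρ, hρτ⟩ := exists_isSchur hτ
    have hres := restrict_eq_smul_of_invariant hτ hθirr hθinv hov
    have hf : ∀ k : I, chr ρ k = Cfsg.classInner (fun k : I => τ k) (chr θ) * chr θ k := fun k => by
      rw [hρτ]; exact congrFun hres k
    obtain ⟨ψ, ε, hψ, hε, hηψ, huniq⟩ := exists_odd_constituent hLI hinf hsup hab hIodd hHodd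
      hz2 hz3 hz4 hρ (hρτ ▸ hτ) hf
    rw [hρτ] at huniq
    have hover : Cfsg.classInner (fun l : L => ψ ⟨(l : E), hLH l.2⟩) φ ≠ 0 := by
      obtain ⟨m, hm, hodd⟩ := (huniq ψ hψ).2 rfl
      obtain ⟨R, hR, hRe⟩ := exists_add_of_constituent
        (Char.isCharacter_restrict (Char.irr_isCharacter hτ) H) hψ (by
          rw [hm]; exact_mod_cast hodd.pos.ne')
      set ψL : L → ℂ := fun l => ψ ⟨(l : E), hLH l.2⟩ with hψL
      have hψLc : Cfsg.IsCharacter L ψL :=
        Char.isCharacter_comp (Char.irr_isCharacter hψ) (Subgroup.inclusion hLH)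
      obtain ⟨φ', hφ', hne⟩ := exists_irr_constituent hψLc fun h0 =>
        Char.irr_apply_one_ne_zero hψ (congrFun h0 1)
      suffices φ' = φ by rwa [← this]
      by_contra hneq
      apply hne
      have hsum : ψL + (fun l : L => R ⟨(l : E), hLH l.2⟩) =
          (Cfsg.classInner (fun k : I => τ k) (chr θ) * e) • φ := by
        funext l
        rw [Pi.smul_apply, smul_eq_mul, mul_assoc, ← he, ← hf ⟨l, hLI l.2⟩, hρτ]
        exact (congrFun hRe ⟨(l : E), hLH l.2⟩).symm
      have h1 := congrArg (fun F => Cfsg.classInner F φ') hsum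
      simp only [Char.classInner_add_left, Char.classInner_smul_left,
        Char.irr_classInner_ne hφ hφ' (fun h => hneq h.symm), mul_zero] at h1
      obtain ⟨i, hi⟩ := Char.classInner_isCharacter_nat hψLc (Char.irr_isCharacter hφ')
      obtain ⟨j, hj⟩ := Char.classInner_isCharacter_nat
        (Char.isCharacter_comp hR (Subgroup.inclusion hLH)) (Char.irr_isCharacter hφ')
      rw [hi, show (fun l : L => R ⟨(l : E), hLH l.2⟩) = R ∘ Subgroup.inclusion hLH from rfl,
        hj] at h1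
      have : i + j = 0 := by exact_mod_cast h1
      rw [hi, show i = 0 by omega, Nat.cast_zero]
    exact ⟨d', ρ, _, ψ, ε, _, hρ, hρτ, hf, hψ, hε, hηψ,
      fun l => congrFun (restrict_eq_smul_sub hLH hφ (fun h _ => hφinv h) hψ hover) l, hover, huniq⟩
  refine ⟨fun τ hτ hov => ?_, fun τ τ' hτ hτ' hov hov' ψ hψ hodd hodd' => ?_, fun ψ hψ hover => ?_⟩
  · obtain ⟨_, _, _, ψ, _, _, -, -, -, hψ, -, -, -, hover, huniq⟩ := hdata τ hτ hov
    exact ⟨ψ, hψ, hover, huniq⟩
  · obtain ⟨_, ρ, f, ψ₁, ε, _, hρ, hρτ, hf, hψ₁, hε, hη, -, -, huniq⟩ := hdata τ hτ hov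
    obtain ⟨_, ρ', f', ψ₂, ε', _, hρ', hρτ', hf', hψ₂, hε', hη', -, -, huniq'⟩ := hdata τ' hτ' hov'
    obtain rfl := (huniq ψ hψ).1 hodd
    obtain rfl := (huniq' ψ hψ).1 hodd'
    by_contra hne
    have h := eta_orth hLI hinf hsup hab hIodd hHodd hz2 hz3 hz4 hρ' hρ hf' hf
    rw [hρτ, hρτ', Char.irr_classInner_ne hτ hτ' hne, mul_zero] at h
    have h2 : ∀ x : H, eta z ρ x * eta z ρ' (x : E)⁻¹ = ε * ε' * (ψ x * conj (ψ x)) := fun x => by
      rw [← Subgroup.coe_inv, hη, hη', Char.char_inv (Char.irr_isCharacter hψ)]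
      ring
    rw [Finset.sum_congr rfl fun x _ => h2 x, ← Finset.mul_sum, mul_eq_zero] at h
    rcases h with h | h
    · rcases mul_eq_zero.1 h with h | h
      · simp [h] at hε
      · simp [h] at hε'
    · have h1 := Char.irr_classInner_self hψ
      rw [Char.classInner_def, h, mul_zero] at h1
      exact zero_ne_one h1
  · set Φ := Cfsg.indFun I (chr θ) with hΦ
    let F : H → ℂ := fun h => ∑ k : I, z k * Φ ((k : E) * h)
    have hΦc : Cfsg.IsClassFunction E Φ := Char.indFun_isClassFunction I (chr θ)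
    have hrec : ∀ τ : Cfsg.IrrCharacter E, Cfsg.classInner Φ (τ : E → ℂ) =
        conj (Cfsg.classInner (fun k : I => (τ : E → ℂ) k) (chr θ)) := fun τ => by
      rw [hΦ, Char.frobenius_reciprocity I _ _ (Char.irr_isClassFunction τ.2),
        Char.classInner_conj_symm]
    choose dd ρ f ψτ ε a hρ hρτ hf hψτ hε hη ha hov huniq using
      fun τ : Ov => hdata τ.1 τ.1.2 (Finset.mem_filter.1 τ.2).2
    have hF : ∀ h : H, F h =
        ∑ τ : Ov, Cfsg.classInner Φ (τ.1 : E → ℂ) * (ε τ * ψτ τ h) := by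
      intro h
      have e1 : ∀ g, Φ g = ∑ τ : Ov, Cfsg.classInner Φ (τ.1 : E → ℂ) * (τ.1 : E → ℂ) g := by
        intro g
        rw [Char.classFunction_apply_eq_sum hΦc g, Finset.sum_coe_sort Ov
          (fun τ : Cfsg.IrrCharacter E => Cfsg.classInner Φ (τ : E → ℂ) * (τ : E → ℂ) g)]
        refine (Finset.sum_subset (Finset.subset_univ Ov) fun τ _ hτ => ?_).symm
        rw [hrec, show Cfsg.classInner (fun k : I => (τ : E → ℂ) k) (chr θ) = 0 by
          simpa [Ov] using hτ, map_zero, zero_mul]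
      simp only [F, e1, Finset.mul_sum]
      rw [Finset.sum_comm]
      refine Finset.sum_congr rfl fun τ _ => ?_
      rw [← hη, eta_eq, Finset.mul_sum]
      refine Finset.sum_congr rfl fun k _ => ?_
      rw [hρτ]; ring
    have hFoff : ∀ h : H, (h : E) ∉ L → F h = 0 := fun h hh => by
      refine Finset.sum_eq_zero fun k _ => ?_
      rw [hΦ, indFun_eq_zero_of_not_mem _ fun hk => hh ?_, mul_zero]
      rw [← hinf]
      exact ⟨by simpa [← mul_assoc] using I.mul_mem (I.inv_mem k.2) hk, h.2⟩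
    obtain ⟨c, hFL, hc0⟩ : ∃ c : ℂ, (∀ l : L, F ⟨l, hLH l.2⟩ = c * φ l) ∧ c ≠ 0 := by
      refine ⟨∑ τ : Ov, Cfsg.classInner Φ (τ.1 : E → ℂ) * (ε τ * a τ), fun l => ?_, fun h0 => ?_⟩
      · rw [hF, Finset.sum_mul]
        exact Finset.sum_congr rfl fun τ _ => by rw [ha]; ring
      · have hzero : ∀ h : H, F h = 0 := fun h => by
          by_cases hh : (h : E) ∈ L
          · have e1 := hF ⟨(h : E), hLH hh⟩
            simp only [ha _ ⟨(h : E), hh⟩, ← mul_assoc] at e1
            rw [← Finset.sum_mul] at e1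
            rw [e1]
            simp only [mul_assoc] at h0 ⊢
            rw [h0, zero_mul]
          · exact hFoff h hh
        obtain ⟨τ₀, hτ₀, hover₀, hne₀⟩ := exists_constituent_over (H := I)
          (Char.isCharacter_indFun I (Char.irr_isCharacter hθirr)) (θ := chr θ) (by
          rw [classInner_indFun_restrict hθirr hθirr]
          refine mul_ne_zero (inv_ne_zero (Nat.cast_ne_zero.2 Nat.card_pos.ne')) ?_
          have : Nonempty {x : E // conjFn x (chr θ) = chr θ} := ⟨⟨1, hθinv 1⟩⟩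
          exact Nat.cast_ne_zero.2 Nat.card_pos.ne')
        let t₀ : Ov := ⟨⟨τ₀, hτ₀⟩, Finset.mem_filter.2 ⟨Finset.mem_univ _, hne₀⟩⟩
        have h1 : Cfsg.classInner F (ψτ t₀) = 0 := by
          rw [show F = 0 from funext hzero, Char.classInner_def]; simp
        rw [show F = ∑ τ : Ov, (Cfsg.classInner Φ (τ.1 : E → ℂ) * ε τ) • ψτ τ from funext fun h => by
          rw [hF, Finset.sum_apply]
          exact Finset.sum_congr rfl fun τ _ => by rw [Pi.smul_apply, smul_eq_mul, mul_assoc],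
          Char.classInner_sum_left, Finset.sum_eq_single t₀] at h1
        · rw [Char.classInner_smul_left, Char.irr_classInner_self (hψτ t₀), mul_one,
            mul_eq_zero] at h1
          rcases h1 with h1 | h1
          · exact hover₀ h1
          · simpa [h1] using hε t₀
        · intro τ _ hτne
          rw [Char.classInner_smul_left, Char.irr_classInner_ne (hψτ τ) (hψτ t₀), mul_zero]
          intro heq
          apply hτne
          have h := eta_orth hLI hinf hsup hab hIodd hHodd hz2 hz3 hz4 (hρ t₀) (hρ τ) (hf t₀) (hf τ)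
          by_contra hne'
          rw [hρτ, hρτ, Char.irr_classInner_ne τ.1.2 t₀.1.2
            (fun h' => hne' (Subtype.ext (Subtype.ext h'))), mul_zero] at h
          have h2 : ∀ x : H, eta z (ρ τ) x * eta z (ρ t₀) (x : E)⁻¹ =
              ε τ * ε t₀ * (ψτ τ x * conj (ψτ τ x)) := fun x => by
            rw [← Subgroup.coe_inv, hη, hη, ← heq, Char.char_inv (Char.irr_isCharacter (hψτ τ))]
            ring
          rw [Finset.sum_congr rfl fun x _ => h2 x, ← Finset.mul_sum, mul_eq_zero] at h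
          rcases h with h | h
          · rcases mul_eq_zero.1 h with h | h
            · simpa [h] using hε τ
            · simpa [h] using hε t₀
          · have h3 := Char.irr_classInner_self (hψτ τ)
            rw [Char.classInner_def, h, mul_zero] at h3
            exact zero_ne_one h3
        · exact fun h => absurd (Finset.mem_univ _) h
    have hres := restrict_eq_smul_sub hLH hφ (fun h _ => hφinv h) hψ hover
    have hFψ : Cfsg.classInner F ψ ≠ 0 := by
      set b := Cfsg.classInner (fun l : L => ψ ⟨(l : E), hLH l.2⟩) φ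
      have hs : ∑ h : H, F h * conj (ψ h) = c * conj b * ∑ l : L, φ l * conj (φ l) := by
        rw [Finset.mul_sum, ← Finset.sum_filter_of_ne (p := fun h : H => (h : E) ∈ L)
          (fun h _ hne => by
            by_contra hh
            exact hne (by rw [hFoff h hh, zero_mul])),
          Finset.sum_subtype (p := fun h : H => (h : E) ∈ L) _ (fun h => by simp)]
        refine Fintype.sum_equiv (Equiv.mk (fun x => ⟨((x.1 : H) : E), x.2⟩)
          (fun l => ⟨⟨l, hLH l.2⟩, l.2⟩) (fun _ => rfl) (fun _ => rfl)) _ _ fun x => ?_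
        have e1 := hFL ⟨((x.1 : H) : E), x.2⟩
        have e2 := congrFun hres ⟨((x.1 : H) : E), x.2⟩
        simp only [Subtype.coe_eta, Pi.smul_apply, smul_eq_mul] at e1 e2
        simp only [Equiv.coe_fn_mk, e1, e2, map_mul]
        ring
      rw [Char.classInner_def, hs]
      have hn := Char.irr_classInner_self hφ
      rw [Char.classInner_def] at hn
      refine mul_ne_zero (inv_ne_zero (Nat.cast_ne_zero.2 Nat.card_pos.ne'))
        (mul_ne_zero (mul_ne_zero hc0 ?_) fun h0 => by simp [h0] at hn)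
      simpa using hover
    by_contra hcon
    push Not at hcon
    apply hFψ
    rw [show F = ∑ τ : Ov, (Cfsg.classInner Φ (τ.1 : E → ℂ) * ε τ) • ψτ τ from funext fun h => by
      rw [hF, Finset.sum_apply]
      exact Finset.sum_congr rfl fun τ _ => by rw [Pi.smul_apply, smul_eq_mul, mul_assoc],
      Char.classInner_sum_left]
    refine Finset.sum_eq_zero fun τ _ => ?_
    rw [Char.classInner_smul_left, Char.irr_classInner_ne (hψτ τ) hψ, mul_zero]
    intro heq
    obtain ⟨m, hm, hodd⟩ := (huniq τ ψ hψ).2 heq.symm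
    exact absurd hodd (hcon τ.1 τ.1.2 (Finset.mem_filter.1 τ.2).2 m hm)

end Local

end CfsgLib.Block.OddCorr
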