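import Cfsg.Agent.Lib.Block.OddCorrPair

/-!
The odd correspondence for a coprime action and an abelian section.
-/

set_option autoImplicit false
set_option linter.unusedSectionVars false
set_option maxHeartbeats 800000

namespace CfsgLib.Block.OddCorr

open CfsgLib CfsgLib.Clifford
open scoped commutatorElement ComplexConjugate

universe u v

variable {G : Type u} [Group G] [Fintype G] {S : Type v} [Group S] [Finite S]
  [MulDistribMulAction S G]

/-- The automorphism of an invariant subgroup. -/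
def subAut (T : Subgroup G) (h : ∀ (s : S), ∀ x ∈ T, s • x ∈ T) (s : S) : T ≃* T where
  toFun x := ⟨s • (x : G), h s x x.2⟩
  invFun x := ⟨s⁻¹ • (x : G), h s⁻¹ x x.2⟩
  left_inv x := Subtype.ext (inv_smul_smul s _)
  right_inv x := Subtype.ext (smul_inv_smul s _)
  map_mul' a b := Subtype.ext (smul_mul' s _ _)

theorem Inv'.comp_subAut {T : Subgroup G} {h : ∀ (s : S), ∀ x ∈ T, s • x ∈ T} {f : T → ℂ}
    (hf : Inv' S f) (s : S) : (fun x => f (subAut T h s x)) = f :=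
  funext fun x => hf s x _ rfl

/-- Induction preserves invariance. -/
theorem indFun_invariant (T : Subgroup G) (hTS : ∀ (s : S), ∀ x ∈ T, s • x ∈ T) {τ : T → ℂ}
    (hτ : Inv' S τ) (s : S) (x : G) : Cfsg.indFun T τ (s • x) = Cfsg.indFun T τ x := by
  have h := indFun_equiv (MulDistribMulAction.toMulEquiv G s) T (fun y => ⟨fun hy => by
    have := hTS s⁻¹ _ hy
    rwa [MulDistribMulAction.toMulEquiv_apply, inv_smul_smul] at this, fun hy => hTS s y hy⟩) τ x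
  rw [show (fun t : T => τ ⟨MulDistribMulAction.toMulEquiv G s (t : G), _⟩) = τ from
    funext fun t => hτ s t _ rfl] at h
  exact h.symm

/-- The Clifford correspondent of an invariant character is invariant. -/
theorem exists_inv_correspondent (N T : Subgroup G) [N.Normal] [Fintype N] [Fintype T]
    (hNT : N ≤ T) (hNS : ∀ (s : S), ∀ x ∈ N, s • x ∈ N) (hTS : ∀ (s : S), ∀ x ∈ T, s • x ∈ T)
    {φ : N → ℂ} (hφ : Cfsg.IsIrrCharacter N φ) (hφS : Inv' S φ)
    (hT : ∀ g, g ∈ T ↔ conjFn g φ = φ) {χ : G → ℂ} (hχ : Cfsg.IsIrrCharacter G χ)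
    (hχS : ∀ (s : S) (x : G), χ (s • x) = χ x)
    (h : Cfsg.classInner (fun n : N => χ n) φ ≠ 0) :
    ∃ τ : T → ℂ, Cfsg.IsIrrCharacter T τ ∧ Inv' S τ ∧ Cfsg.indFun T τ = χ ∧
      Cfsg.classInner (fun n : N => τ ⟨(n : G), hNT n.2⟩) φ ≠ 0 := by
  obtain ⟨τ, hτ, hind, hmul⟩ := exists_indFun_inertia T hNT hφ hT hχ h
  have ho : Cfsg.classInner (fun n : N => τ ⟨(n : G), hNT n.2⟩) φ ≠ 0 := by rw [hmul]; exact h
  refine ⟨τ, hτ, fun s x y hy => ?_, hind, ho⟩
  set τs : T → ℂ := fun t => τ (subAut T hTS s t) with hτs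
  have hτs' : Cfsg.IsIrrCharacter T τs :=
    Char.isIrrCharacter_comp_surjective hτ (subAut T hTS s).toMonoidHom (subAut T hTS s).surjective
  have hos : Cfsg.classInner (fun n : N => τs ⟨(n : G), hNT n.2⟩) φ ≠ 0 := by
    have e := classInner_equiv (subAut N hNS s) (fun n : N => τ ⟨(n : G), hNT n.2⟩) φ
    rw [hφS.comp_subAut] at e
    exact fun h0 => ho (e.symm.trans h0)
  obtain ⟨hirr, huniq⟩ := indFun_inertia T hNT hφ hT hτ ho
  have hinds : Cfsg.indFun T τs = χ := by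
    funext g
    have e := indFun_equiv (MulDistribMulAction.toMulEquiv G s) T (fun y => ⟨fun hy => by
      have := hTS s⁻¹ _ hy
      rwa [MulDistribMulAction.toMulEquiv_apply, inv_smul_smul] at this, fun hy => hTS s y hy⟩) τ g
    rw [hind] at e
    exact e.trans (hχS s g)
  have heq := huniq τs hτs' hos (by
    rw [hind, hinds, Char.irr_classInner_self hχ]; exact one_ne_zero)
  rw [show y = subAut T hTS s x from Subtype.ext hy]
  exact (congrFun heq x).symm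

variable {C K L H : Subgroup G} [K.Normal] [L.Normal] [Fintype L] [Fintype H]

/-- The invariant constituents below an invariant character of `H`. -/
theorem Setup.constituent_H (hd : Setup S C K L H) {ψ : H → ℂ} (hψ : Cfsg.IsIrrCharacter H ψ)
    (hψS : Inv' S ψ) :
    (∃ φ : L → ℂ, Cfsg.IsIrrCharacter L φ ∧ Inv' S φ ∧
      Cfsg.classInner (fun l : L => ψ ⟨l, hd.leH l.2⟩) φ ≠ 0) ∧
    ∀ φ : L → ℂ, Cfsg.IsIrrCharacter L φ →
      Cfsg.classInner (fun l : L => ψ ⟨l, hd.leH l.2⟩) φ ≠ 0 → Inv' S φ := by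
  classical
  letI := subAct (S := S) H fun s x hx => hd.smul_memH s hx
  let LH : Subgroup H := L.subgroupOf H
  let e : LH ≃* L := Subgroup.subgroupOfEquivOfLe hd.leH
  have hall : ∀ φ : L → ℂ, Cfsg.IsIrrCharacter L φ →
      Cfsg.classInner (fun l : L => ψ ⟨l, hd.leH l.2⟩) φ ≠ 0 → Inv' S φ := by
    intro φ hφ hne s x y hy
    have hφ' : Cfsg.IsIrrCharacter LH (fun z => φ (e z)) :=
      Char.isIrrCharacter_comp_surjective hφ e.toMonoidHom e.surjective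
    have h := constituent_invariant (S := S) LH (fun t z hz => hd.invL t _ hz)
      (hd.cop.coprime_dvd_left (Subgroup.card_subgroup_dvd_card H)) (fun h => by
        obtain ⟨l, hl, c, hc, e'⟩ := hd.decH h h.2
        exact ⟨⟨l, hd.leH hl⟩, hl, ⟨c, hd.cLeH hc⟩, fun t => Subtype.ext (hd.fixed c hc t),
          Subtype.ext e'⟩) hψ (fun t z => hψS t z _ rfl) hφ'
      (by
        have e1 := classInner_equiv e (fun l : L => ψ ⟨l, hd.leH l.2⟩) φ
        exact fun h0 => hne (e1.symm.trans h0))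
    have h1 := h s (e.symm x) (e.symm y) (Subtype.ext hy)
    simpa using h1
  obtain ⟨φ, hφ, hne⟩ := exists_irr_constituent
    (F := fun l : L => ψ ⟨l, hd.leH l.2⟩)
    (Char.isCharacter_comp (Char.irr_isCharacter hψ) (Subgroup.inclusion hd.leH))
    fun h0 => Char.irr_apply_one_ne_zero hψ (congrFun h0 1)
  exact ⟨⟨φ, hφ, hall φ hφ hne, hne⟩, hall⟩

theorem constituent_trans {χ : G → ℂ} (hχ : Cfsg.IsIrrCharacter G χ) {ψ : H → ℂ}
    (hψ : Cfsg.IsIrrCharacter H ψ) (hLH : L ≤ H) {φ : L → ℂ} (hφ : Cfsg.IsIrrCharacter L φ)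
    (h1 : Cfsg.classInner (fun h : H => χ h) ψ ≠ 0)
    (h2 : Cfsg.classInner (fun l : L => ψ ⟨l, hLH l.2⟩) φ ≠ 0) :
    Cfsg.classInner (fun l : L => χ l) φ ≠ 0 := by
  obtain ⟨R, hR, hRe⟩ :=
    exists_add_of_constituent (Char.isCharacter_restrict (Char.irr_isCharacter hχ) H) hψ h1
  obtain ⟨i, hi⟩ := Char.classInner_isCharacter_nat
    (φ := fun l : L => ψ ⟨l, hLH l.2⟩)
    (Char.isCharacter_comp (Char.irr_isCharacter hψ) (Subgroup.inclusion hLH))
    (Char.irr_isCharacter hφ)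
  obtain ⟨j, hj⟩ := Char.classInner_isCharacter_nat (φ := fun l : L => R ⟨l, hLH l.2⟩)
    (Char.isCharacter_comp hR (Subgroup.inclusion hLH)) (Char.irr_isCharacter hφ)
  rw [show (fun l : L => χ l) =
    (fun l : L => ψ ⟨l, hLH l.2⟩) + (fun l : L => R ⟨l, hLH l.2⟩) from
    funext fun l => congrFun hRe ⟨l, hLH l.2⟩, Char.classInner_add_left, hi, hj]
  intro h0
  have : i + j = 0 := by exact_mod_cast h0
  exact h2 (by rw [hi, show i = 0 by omega, Nat.cast_zero])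

/-- An invariant constituent below `χ` lies below every invariant constituent of `χ` on `H`. -/
theorem Setup.switch (hd : Setup S C K L H) {χ : G → ℂ} (hχ : Cfsg.IsIrrCharacter G χ)
    {φ : L → ℂ} (hφ : Cfsg.IsIrrCharacter L φ) (hφS : Inv' S φ)
    (h1 : Cfsg.classInner (fun l : L => χ l) φ ≠ 0) {ψ : H → ℂ} (hψ : Cfsg.IsIrrCharacter H ψ)
    (hψS : Inv' S ψ) (h2 : Cfsg.classInner (fun h : H => χ h) ψ ≠ 0) :
    Cfsg.classInner (fun l : L => ψ ⟨l, hd.leH l.2⟩) φ ≠ 0 := by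
  obtain ⟨⟨φ₂, hφ₂, hφ₂S, hne⟩, -⟩ := hd.constituent_H hψ hψS
  obtain ⟨g, hg⟩ :=
    exists_conj_of_constituents hχ hφ hφ₂ h1 (constituent_trans hχ hψ hd.leH hφ₂ h2 hne)
  obtain ⟨k, hk, c, hc, rfl⟩ := hd.dec g
  rw [← conjFn_conjFn] at hg
  have hkφ : conjFn k φ = conjFn c⁻¹ φ₂ := by
    rw [← hg, conjFn_conjFn, mul_inv_cancel, conjFn_one]
  have hkS : Inv' S (conjFn k φ) := by
    rw [hkφ]
    intro s x y hy
    exact hφ₂S s _ _ (by simp [smul_mul', smul_inv', hy, hd.fixed c hc])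
  rw [hd.conj_eq hφ hφS hk hkS] at hg
  let β : L ≃* L := MulAut.conjNormal c
  have e := classInner_equiv β (fun l : L => ψ ⟨l, hd.leH l.2⟩) φ
  rw [show (fun x => (fun l : L => ψ ⟨l, hd.leH l.2⟩) (β x)) =
      fun l : L => ψ ⟨l, hd.leH l.2⟩ from funext fun l => by
    refine Eq.trans (congrArg ψ (Subtype.ext ?_))
      (Char.irr_isClassFunction hψ ⟨(l : G), hd.leH l.2⟩ ⟨c, hd.cLeH hc⟩)
    rfl,
    show (fun x => φ (β x)) = φ₂ from (show (fun x => φ (β x)) = conjFn c φ from rfl).trans hg] at e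
  exact fun h0 => hne (e.trans h0)

/-- **The correspondence above one invariant character of `L`.** -/
theorem Setup.at_phi (hd : Setup S C K L H) {φ : L → ℂ} (hφ : Cfsg.IsIrrCharacter L φ)
    (hφS : Inv' S φ) :
    (∀ χ : G → ℂ, Cfsg.IsIrrCharacter G χ → (∀ (s : S) (x : G), χ (s • x) = χ x) →
      Cfsg.classInner (fun l : L => χ l) φ ≠ 0 →
      ∃ ψ : H → ℂ, Cfsg.IsIrrCharacter H ψ ∧ Inv' S ψ ∧
        (∃ m : ℕ, Cfsg.classInner (fun h : H => χ h) ψ = m ∧ Odd m) ∧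
        ∀ ψ₂ : H → ℂ, Cfsg.IsIrrCharacter H ψ₂ → Inv' S ψ₂ →
          Cfsg.classInner (fun l : L => ψ₂ ⟨l, hd.leH l.2⟩) φ ≠ 0 →
          (∃ m : ℕ, Cfsg.classInner (fun h : H => χ h) ψ₂ = m ∧ Odd m) → ψ₂ = ψ) ∧
    (∀ χ χ' : G → ℂ, Cfsg.IsIrrCharacter G χ → Cfsg.IsIrrCharacter G χ' →
      (∀ (s : S) (x : G), χ (s • x) = χ x) → (∀ (s : S) (x : G), χ' (s • x) = χ' x) →
      Cfsg.classInner (fun l : L => χ l) φ ≠ 0 → Cfsg.classInner (fun l : L => χ' l) φ ≠ 0 →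
      ∀ ψ : H → ℂ, Cfsg.IsIrrCharacter H ψ → Inv' S ψ →
      Cfsg.classInner (fun l : L => ψ ⟨l, hd.leH l.2⟩) φ ≠ 0 →
      (∃ m : ℕ, Cfsg.classInner (fun h : H => χ h) ψ = m ∧ Odd m) →
      (∃ m : ℕ, Cfsg.classInner (fun h : H => χ' h) ψ = m ∧ Odd m) → χ = χ') ∧
    (∀ ψ : H → ℂ, Cfsg.IsIrrCharacter H ψ → Inv' S ψ →
      Cfsg.classInner (fun l : L => ψ ⟨l, hd.leH l.2⟩) φ ≠ 0 →
      ∃ χ : G → ℂ, Cfsg.IsIrrCharacter G χ ∧ (∀ (s : S) (x : G), χ (s • x) = χ x) ∧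
        ∃ m : ℕ, Cfsg.classInner (fun h : H => χ h) ψ = m ∧ Odd m) := by
  classical
  set T := inertia φ with hTdef
  have hT : ∀ g, g ∈ T ↔ conjFn g φ = φ := fun g => mem_inertia_iff_conjFn
  have hLT : L ≤ T := le_inertia (Char.irr_isClassFunction hφ)
  have hTS : ∀ (s : S), ∀ x ∈ T, s • x ∈ T := (hd.inertia_facts hφ hφS).1
  obtain ⟨Q1, Q2, Q3⟩ := hd.pair_correspondence hφ hφS T hT hLT
  letI := subAct (S := S) H fun s x hx => hd.smul_memH s hx
  let LH : Subgroup H := L.subgroupOf H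
  let TH : Subgroup H := T.subgroupOf H
  let eH : LH ≃* L := Subgroup.subgroupOfEquivOfLe hd.leH
  let φH : LH → ℂ := fun x => φ (eH x)
  have hφH : Cfsg.IsIrrCharacter LH φH :=
    Char.isIrrCharacter_comp_surjective hφ eH.toMonoidHom eH.surjective
  have hLHT : LH ≤ TH := fun x hx => Subgroup.mem_subgroupOf.2 (hLT (Subgroup.mem_subgroupOf.1 hx))
  have hTH : ∀ h : H, h ∈ TH ↔ conjFn h φH = φH := by
    intro h
    refine ⟨fun hh => funext fun m =>
      congrFun ((hT h).1 hh) ⟨((m : H) : G), Subgroup.mem_subgroupOf.mp m.2⟩, fun hh => ?_⟩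
    refine (hT h).2 (funext fun l => ?_)
    have h1 := congrFun hh (eH.symm l)
    simp only [φH, MulEquiv.apply_symm_apply] at h1
    refine Eq.trans ?_ h1
    exact congrArg φ (Subtype.ext rfl)
  have hTHS : ∀ (s : S), ∀ x ∈ TH, s • x ∈ TH := fun s x hx => hTS s _ hx
  have hLHS : ∀ (s : S), ∀ x ∈ LH, s • x ∈ LH := fun s x hx => hd.invL s _ hx
  have hφHS : Inv' S φH := fun s x y hy => hφS s _ _ (congrArg (fun z : H => (z : G)) hy)
  let eT : TH ≃* H.subgroupOf T :=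
    { toFun := fun x => ⟨⟨((x : H) : G), x.2⟩, (x : H).2⟩
      invFun := fun x => ⟨⟨((x : T) : G), x.2⟩, (x : T).2⟩
      left_inv := fun x => rfl
      right_inv := fun x => rfl
      map_mul' := fun a b => rfl }
  have hover : ∀ f : TH → ℂ,
      Cfsg.classInner (fun n : LH => f ⟨(n : H), hLHT n.2⟩) φH =
        Cfsg.classInner (fun l : L => f (eT.symm ⟨⟨l, hLT l.2⟩, hd.leH l.2⟩)) φ := fun f =>
    classInner_equiv eH (fun l : L => f (eT.symm ⟨⟨l, hLT l.2⟩, hd.leH l.2⟩)) φ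
  -- lifting on `H`
  have hliftH : ∀ ψ : H → ℂ, Cfsg.IsIrrCharacter H ψ → Inv' S ψ →
      Cfsg.classInner (fun l : L => ψ ⟨l, hd.leH l.2⟩) φ ≠ 0 →
      ∃ f : H.subgroupOf T → ℂ, Cfsg.IsIrrCharacter (H.subgroupOf T) f ∧
        (∀ (s : S) (x y : H.subgroupOf T), ((y : T) : G) = s • ((x : T) : G) → f y = f x) ∧
        Cfsg.classInner (fun l : L => f ⟨⟨l, hLT l.2⟩, hd.leH l.2⟩) φ ≠ 0 ∧
        Cfsg.indFun TH (fun x => f (eT x)) = ψ := by
    intro ψ hψ hψS ho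
    obtain ⟨f, hf, hfS, hind, hfo⟩ := exists_inv_correspondent LH TH hLHT hLHS hTHS hφH hφHS hTH hψ
      (fun s x => hψS s x _ rfl) (by
        have e := classInner_equiv eH (fun l : L => ψ ⟨l, hd.leH l.2⟩) φ
        exact fun h0 => ho (e.symm.trans h0))
    refine ⟨fun x => f (eT.symm x),
      Char.isIrrCharacter_comp_surjective hf eT.symm.toMonoidHom eT.symm.surjective,
      fun s x y hy => hfS s _ _ (Subtype.ext hy), hover f ▸ hfo, ?_⟩
    simpa using hind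
  -- multiplicities
  have hmult : ∀ τ : T → ℂ, Cfsg.IsIrrCharacter T τ →
      Cfsg.classInner (fun l : L => τ ⟨l, hLT l.2⟩) φ ≠ 0 →
      ∀ f : H.subgroupOf T → ℂ, Cfsg.IsIrrCharacter (H.subgroupOf T) f →
      Cfsg.classInner (fun l : L => f ⟨⟨l, hLT l.2⟩, hd.leH l.2⟩) φ ≠ 0 →
      Cfsg.classInner (fun h : H => Cfsg.indFun T τ h) (Cfsg.indFun TH fun x => f (eT x)) =
        Cfsg.classInner (fun h : H.subgroupOf T => τ h) f := by
    intro τ hτ hτo f hf hfo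
    have hχc := Char.indFun_isClassFunction T τ
    have hres : Cfsg.IsClassFunction H fun h : H => Cfsg.indFun T τ h := fun a b => hχc a b
    rw [← Char.classInner_conj_symm, Char.frobenius_reciprocity TH _ _ hres,
      Char.classInner_conj_symm]
    obtain ⟨hirr, -⟩ := indFun_inertia T hLT hφ hT hτ hτo
    set F : T → ℂ := fun t => Cfsg.indFun T τ t with hFdef
    have hF : Cfsg.IsCharacter T F := Char.isCharacter_restrict (Char.irr_isCharacter hirr) T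
    have hne : Cfsg.classInner F τ ≠ 0 := by
      rw [← Char.classInner_conj_symm, ← Char.frobenius_reciprocity T τ _ hχc,
        Char.classInner_conj_symm, Char.irr_classInner_self hirr]
      exact one_ne_zero
    obtain ⟨R, hR, hRe⟩ := exists_add_of_constituent hF hτ hne
    have hR0 : Cfsg.classInner (fun l : L => R ⟨l, hLT l.2⟩) φ = 0 := by
      have h1 := indFun_inertia_restrict T hLT hφ hT hτ hτo
      rw [show (fun n : L => Cfsg.indFun T τ n) = (fun n : L => τ ⟨n, hLT n.2⟩) +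
        fun n : L => R ⟨n, hLT n.2⟩ from funext fun n => congrFun hRe ⟨n, hLT n.2⟩,
        Char.classInner_add_left, add_eq_left] at h1
      exact h1
    have hRf : Cfsg.classInner (fun h : H.subgroupOf T => R h) f = 0 := by
      by_contra hcon
      obtain ⟨R', hR', hRe'⟩ :=
        exists_add_of_constituent (Char.isCharacter_restrict hR (H.subgroupOf T)) hf hcon
      let ι : L →* H.subgroupOf T :=
        { toFun := fun l => ⟨⟨l, hLT l.2⟩, hd.leH l.2⟩, map_one' := rfl, map_mul' := fun _ _ => rfl }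
      obtain ⟨i, hi⟩ := Char.classInner_isCharacter_nat
        (φ := fun l : L => f ⟨⟨l, hLT l.2⟩, hd.leH l.2⟩)
        (Char.isCharacter_comp (Char.irr_isCharacter hf) ι) (Char.irr_isCharacter hφ)
      obtain ⟨j, hj⟩ := Char.classInner_isCharacter_nat
        (φ := fun l : L => R' ⟨⟨l, hLT l.2⟩, hd.leH l.2⟩)
        (Char.isCharacter_comp hR' ι) (Char.irr_isCharacter hφ)
      rw [show (fun l : L => R ⟨l, hLT l.2⟩) =
        (fun l : L => f ⟨⟨l, hLT l.2⟩, hd.leH l.2⟩) +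
          (fun l : L => R' ⟨⟨l, hLT l.2⟩, hd.leH l.2⟩) from
        funext fun l => congrFun hRe' ⟨⟨l, hLT l.2⟩, hd.leH l.2⟩,
        Char.classInner_add_left, hi, hj] at hR0
      have : i + j = 0 := by exact_mod_cast hR0
      exact hfo (by rw [hi, show i = 0 by omega, Nat.cast_zero])
    rw [show (fun x : TH => Cfsg.indFun T τ ((x : H) : G)) =
      fun x => ((fun h : H.subgroupOf T => τ h) + fun h : H.subgroupOf T => R h) (eT x) from
      funext fun x => congrFun hRe ⟨((x : H) : G), x.2⟩, classInner_equiv eT,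
      Char.classInner_add_left, hRf, add_zero]
  refine ⟨fun χ hχ hχS ho => ?_, fun χ χ' hχ hχ' hχS hχS' ho ho' ψ hψ hψS hψo h h' => ?_,
    fun ψ hψ hψS hψo => ?_⟩
  · obtain ⟨τ, hτ, hτS, rfl, hτo⟩ :=
      exists_inv_correspondent L T hLT hd.invL hTS hφ hφS hT hχ hχS ho
    obtain ⟨f, hf, hfS, hfo, huniq⟩ := Q1 τ hτ hτS hτo
    have hf'o : Cfsg.classInner (fun n : LH => f (eT ⟨(n : H), hLHT n.2⟩)) φH ≠ 0 := by
      rw [hover fun x => f (eT x)]
      simpa using hfo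
    have hf' : Cfsg.IsIrrCharacter TH fun x => f (eT x) :=
      Char.isIrrCharacter_comp_surjective hf eT.toMonoidHom eT.surjective
    refine ⟨_, (indFun_inertia TH hLHT hφH hTH hf' hf'o).1, fun s x y hy => ?_, ?_,
      fun ψ₂ hψ₂ hψ₂S hψ₂o hodd => ?_⟩
    · rw [show y = s • x from Subtype.ext hy]
      exact indFun_invariant TH hTHS (fun t a b hab => hfS t _ _
        (congrArg (fun z : H => (z : G)) hab)) s x
    · obtain ⟨m, hm, hodd⟩ := (huniq f hf).2 rfl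
      exact ⟨m, (hmult τ hτ hτo f hf hfo).trans hm, hodd⟩
    · obtain ⟨f₂, hf₂, -, hf₂o, rfl⟩ := hliftH ψ₂ hψ₂ hψ₂S hψ₂o
      obtain ⟨m, hm, hm'⟩ := hodd
      rw [(huniq f₂ hf₂).1 ⟨m, (hmult τ hτ hτo f₂ hf₂ hf₂o).symm.trans hm, hm'⟩]
  · obtain ⟨τ, hτ, hτS, rfl, hτo⟩ :=
      exists_inv_correspondent L T hLT hd.invL hTS hφ hφS hT hχ hχS ho
    obtain ⟨τ', hτ', hτS', rfl, hτo'⟩ :=
      exists_inv_correspondent L T hLT hd.invL hTS hφ hφS hT hχ' hχS' ho'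
    obtain ⟨f, hf, -, hfo, rfl⟩ := hliftH ψ hψ hψS hψo
    rw [hmult τ hτ hτo f hf hfo] at h
    rw [hmult τ' hτ' hτo' f hf hfo] at h'
    rw [Q2 τ τ' hτ hτ' hτS hτS' hτo hτo' f hf h h']
  · obtain ⟨f, hf, hfS, hfo, rfl⟩ := hliftH ψ hψ hψS hψo
    obtain ⟨τ, hτ, hτS, hτo, hodd⟩ := Q3 f hf hfS hfo
    refine ⟨_, (indFun_inertia T hLT hφ hT hτ hτo).1, indFun_invariant T hTS hτS, ?_⟩
    rw [hmult τ hτ hτo f hf hfo]
    exact hodd

/-- **The odd correspondence** for fixed-point-free abelian sections. -/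
theorem Setup.correspondence (hd : Setup S C K L H)
    (hconst : ∀ χ : G → ℂ, Cfsg.IsIrrCharacter G χ → (∀ (s : S) (x : G), χ (s • x) = χ x) →
      ∃ φ : L → ℂ, Cfsg.IsIrrCharacter L φ ∧ Inv' S φ ∧
        Cfsg.classInner (fun l : L => χ l) φ ≠ 0) :
    (∀ χ : G → ℂ, Cfsg.IsIrrCharacter G χ → (∀ (s : S) (x : G), χ (s • x) = χ x) →
      ∃ ψ : H → ℂ, Cfsg.IsIrrCharacter H ψ ∧ Inv' S ψ ∧
        (∃ m : ℕ, Cfsg.classInner (fun h : H => χ h) ψ = m ∧ Odd m) ∧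
        ∀ ψ₂ : H → ℂ, Cfsg.IsIrrCharacter H ψ₂ → Inv' S ψ₂ →
          (∃ m : ℕ, Cfsg.classInner (fun h : H => χ h) ψ₂ = m ∧ Odd m) → ψ₂ = ψ) ∧
    (∀ χ χ' : G → ℂ, Cfsg.IsIrrCharacter G χ → Cfsg.IsIrrCharacter G χ' →
      (∀ (s : S) (x : G), χ (s • x) = χ x) → (∀ (s : S) (x : G), χ' (s • x) = χ' x) →
      ∀ ψ : H → ℂ, Cfsg.IsIrrCharacter H ψ → Inv' S ψ →
      (∃ m : ℕ, Cfsg.classInner (fun h : H => χ h) ψ = m ∧ Odd m) →
      (∃ m : ℕ, Cfsg.classInner (fun h : H => χ' h) ψ = m ∧ Odd m) → χ = χ') ∧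
    (∀ ψ : H → ℂ, Cfsg.IsIrrCharacter H ψ → Inv' S ψ →
      ∃ χ : G → ℂ, Cfsg.IsIrrCharacter G χ ∧ (∀ (s : S) (x : G), χ (s • x) = χ x) ∧
        ∃ m : ℕ, Cfsg.classInner (fun h : H => χ h) ψ = m ∧ Odd m) := by
  have hne : ∀ {χ : G → ℂ} {ψ : H → ℂ},
      (∃ m : ℕ, Cfsg.classInner (fun h : H => χ h) ψ = m ∧ Odd m) →
      Cfsg.classInner (fun h : H => χ h) ψ ≠ 0 := by
    rintro χ ψ ⟨m, hm, hodd⟩
    rw [hm]
    exact_mod_cast hodd.pos.ne'
  refine ⟨fun χ hχ hχS => ?_, fun χ χ' hχ hχ' hχS hχS' ψ hψ hψS h h' => ?_, fun ψ hψ hψS => ?_⟩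
  · obtain ⟨φ, hφ, hφS, ho⟩ := hconst χ hχ hχS
    obtain ⟨ψ, hψ, hψS, hodd, huniq⟩ := (hd.at_phi hφ hφS).1 χ hχ hχS ho
    exact ⟨ψ, hψ, hψS, hodd, fun ψ₂ hψ₂ hψ₂S h =>
      huniq ψ₂ hψ₂ hψ₂S (hd.switch hχ hφ hφS ho hψ₂ hψ₂S (hne h)) h⟩
  · obtain ⟨⟨φ, hφ, hφS, hψo⟩, -⟩ := hd.constituent_H hψ hψS
    exact (hd.at_phi hφ hφS).2.1 χ χ' hχ hχ' hχS hχS'
      (constituent_trans hχ hψ hd.leH hφ (hne h) hψo)
      (constituent_trans hχ' hψ hd.leH hφ (hne h') hψo) ψ hψ hψS hψo h h'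
  · obtain ⟨⟨φ, hφ, hφS, hψo⟩, -⟩ := hd.constituent_H hψ hψS
    exact (hd.at_phi hφ hφS).2.2 ψ hψ hψS hψo

/-- Shrinking `K` so that the action on `K / L` has no fixed points. -/
theorem exists_setup (C K L H : Subgroup G) [K.Normal] [L.Normal]
    (fixed : ∀ x ∈ C, ∀ s : S, s • x = x) (hLK : L ≤ K)
    (invL : ∀ (s : S), ∀ x ∈ L, s • x ∈ L) (invK : ∀ (s : S), ∀ x ∈ K, s • x ∈ K)
    (hab : ∀ a ∈ K, ∀ b ∈ K, ⁅a, b⁆ ∈ L) (hcop : (Nat.card G).Coprime (Nat.card S))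
    (hodd : Odd (Nat.card G)) (hsup : K ⊔ C = ⊤) (hH : H = L ⊔ C)
    (hcoset : ∀ x : G, (∀ s : S, x⁻¹ * s • x ∈ L) → ∃ c ∈ C, x⁻¹ * c ∈ L) :
    ∃ K' : Subgroup G, K'.Normal ∧ Setup S C K' L H := by
  classical
  have := Fintype.ofFinite S
  let gen : Set G := {x | ∃ k ∈ K, ∃ s : S, k⁻¹ * s • k = x}
  let K' : Subgroup G := L ⊔ Subgroup.closure gen
  have hgenK : gen ⊆ K := by
    rintro _ ⟨k, hk, s, rfl⟩
    exact K.mul_mem (K.inv_mem hk) (invK s k hk)
  have hK'K : K' ≤ K := sup_le hLK ((Subgroup.closure_le K).2 hgenK)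
  have hgen : ∀ k ∈ K, ∀ s : S, k⁻¹ * s • k ∈ K' := fun k hk s =>
    Subgroup.mem_sup_right (Subgroup.subset_closure ⟨k, hk, s, rfl⟩)
  have hLK' : L ≤ K' := le_sup_left
  have hKnorm : ∀ k ∈ K, ∀ x ∈ K', k * x * k⁻¹ ∈ K' := by
    intro k hk x hx
    have h := hab k hk x (hK'K hx)
    rw [show k * x * k⁻¹ = ⁅k, x⁆ * x by rw [commutatorElement_def]; group]
    exact K'.mul_mem (hLK' h) hx
  have hCnorm : ∀ c ∈ C, ∀ x ∈ K', c * x * c⁻¹ ∈ K' := by
    intro c hc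
    have h : K' ≤ K'.comap (MulAut.conj c).toMonoidHom := by
      refine sup_le (fun x hx => hLK' ((inferInstance : L.Normal).conj_mem x hx c))
        ((Subgroup.closure_le _).2 ?_)
      rintro _ ⟨k, hk, s, rfl⟩
      show c * (k⁻¹ * s • k) * c⁻¹ ∈ K'
      have h1 := hgen (c * k * c⁻¹) ((inferInstance : K.Normal).conj_mem k hk c) s
      rw [smul_mul', smul_mul', smul_inv', fixed c hc] at h1
      convert h1 using 1
      group
    exact fun x hx => h hx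
  have hdecG : ∀ g : G, ∃ k ∈ K, ∃ c ∈ C, g = k * c := fun g => by
    have hg : g ∈ (↑(K ⊔ C) : Set G) := by rw [hsup]; exact Subgroup.mem_top g
    rw [Subgroup.normal_mul] at hg
    obtain ⟨k, hk, c, hc, rfl⟩ := hg
    exact ⟨k, hk, c, hc, rfl⟩
  haveI hn : K'.Normal := ⟨fun x hx g => by
    obtain ⟨k, hk, c, hc, rfl⟩ := hdecG g
    rw [show k * c * x * (k * c)⁻¹ = k * (c * x * c⁻¹) * k⁻¹ by group]
    exact hKnorm k hk _ (hCnorm c hc x hx)⟩
  have hK'S : ∀ (s : S), ∀ x ∈ K', s • x ∈ K' := by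
    intro t
    have h : K' ≤ K'.comap (MulDistribMulAction.toMulEquiv G t).toMonoidHom := by
      refine sup_le (fun x hx => hLK' (invL t x hx)) ((Subgroup.closure_le _).2 ?_)
      rintro _ ⟨k, hk, s, rfl⟩
      show t • (k⁻¹ * s • k) ∈ K'
      have h1 := hgen (t • k) (invK t k hk) (t * s * t⁻¹)
      rw [mul_smul, mul_smul, inv_smul_smul] at h1
      rwa [smul_mul', smul_inv']
    exact fun x hx => h hx
  -- the norm map
  let KL := (↥K) ⧸ L.subgroupOf K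
  let _ : CommGroup KL :=
    { (inferInstance : Group KL) with
      mul_comm := fun a b => by
        induction a using QuotientGroup.induction_on with
        | _ a =>
          induction b using QuotientGroup.induction_on with
          | _ b =>
            rw [← commutatorElement_eq_one_iff_mul_comm]
            exact (QuotientGroup.eq_one_iff _).2 (hab a a.2 b b.2) }
  let sK : S → (↥K →* ↥K) := fun s =>
    { toFun := fun x => ⟨s • (x : G), invK s x x.2⟩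
      map_one' := Subtype.ext (smul_one s)
      map_mul' := fun a b => Subtype.ext (smul_mul' s _ _) }
  let Nm : ↥K →* KL := ∏ s : S, (QuotientGroup.mk' (L.subgroupOf K)).comp (sK s)
  have hNm : ∀ x : K, Nm x = ∏ s : S, (QuotientGroup.mk (sK s x) : KL) := fun x =>
    MonoidHom.finsetProd_apply _ _ _
  have hNmS : ∀ (s : S) (x : K), Nm (sK s x) = Nm x := fun s x => by
    rw [hNm, hNm]
    exact Fintype.prod_equiv (Equiv.mulRight s) _ _ fun t =>
      congrArg QuotientGroup.mk (Subtype.ext (mul_smul t s (x : G)).symm)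
  have hker : ∀ x ∈ K', ∀ hx : x ∈ K, Nm ⟨x, hx⟩ = 1 := by
    have h : K' ≤ (Nm.ker).map K.subtype := by
      refine sup_le (fun x hx => ⟨⟨x, hLK hx⟩, MonoidHom.mem_ker.2 ?_, rfl⟩)
        ((Subgroup.closure_le _).2 ?_)
      · rw [hNm]
        exact Finset.prod_eq_one fun s _ => (QuotientGroup.eq_one_iff _).2 (invL s x hx)
      · rintro _ ⟨k, hk, s, rfl⟩
        refine ⟨(⟨k, hk⟩ : K)⁻¹ * sK s ⟨k, hk⟩, MonoidHom.mem_ker.2 ?_, rfl⟩
        rw [map_mul, map_inv, hNmS, inv_mul_cancel]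
    intro x hx hxK
    obtain ⟨y, hy, e⟩ := h hx
    rw [show (⟨x, hxK⟩ : K) = y from Subtype.ext e.symm]
    exact hy
  have hpow : ∀ {P : Subgroup G} {x : G}, x ^ Nat.card S ∈ P → x ∈ P := fun {P x} h => by
    obtain ⟨r, hr⟩ := exists_pow_eq_self_of_coprime
      ((hcop.coprime_dvd_left (orderOf_dvd_natCard x)).symm)
    rw [← hr]
    exact P.pow_mem h r
  have hfpf : ∀ x ∈ K', (∀ s : S, x⁻¹ * s • x ∈ L) → x ∈ L := by
    intro x hx h
    refine hpow ?_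
    have h1 := hker x hx (hK'K hx)
    rw [hNm, Finset.prod_congr rfl (fun s _ =>
      (show (QuotientGroup.mk (sK s ⟨x, hK'K hx⟩) : KL) = QuotientGroup.mk ⟨x, hK'K hx⟩ from
        ((QuotientGroup.eq (s := L.subgroupOf K) (a := (⟨x, hK'K hx⟩ : K)) (b := sK s ⟨x, hK'K hx⟩)).2 (h s)).symm)), Finset.prod_const, Finset.card_univ,
      ← QuotientGroup.mk_pow, QuotientGroup.eq_one_iff, ← Nat.card_eq_fintype_card] at h1
    exact h1
  have hsup' : ∀ k ∈ K, k ∈ K' ⊔ C := by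
    intro k hk
    refine hpow ?_
    obtain ⟨y, hy⟩ := QuotientGroup.mk_surjective (Nm ⟨k, hk⟩)
    have hyfix : ∀ s : S, (y : G)⁻¹ * s • (y : G) ∈ L := fun s => by
      let sq : KL →* KL := QuotientGroup.map _ _ (sK s) fun z hz => invL s _ hz
      have e : (QuotientGroup.mk (sK s y) : KL) = QuotientGroup.mk y := by
        rw [show (QuotientGroup.mk (sK s y) : KL) = sq (QuotientGroup.mk y) from rfl, hy, hNm,
          map_prod]
        exact Fintype.prod_equiv (Equiv.mulLeft s) _ _ fun t =>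
          congrArg QuotientGroup.mk (Subtype.ext (mul_smul s t k).symm)
      exact (QuotientGroup.eq (s := L.subgroupOf K) (a := y) (b := sK s y)).1 e.symm
    obtain ⟨c, hc, hyc⟩ := hcoset y hyfix
    have hyS : (y : G) ∈ K' ⊔ C := by
      rw [show (y : G) = c * ((y : G)⁻¹ * c)⁻¹ by group]
      exact mul_mem (Subgroup.mem_sup_right hc) (Subgroup.mem_sup_left (hLK' (L.inv_mem hyc)))
    let q := QuotientGroup.mk' (L.subgroupOf K)
    have hmem : q (⟨k, hk⟩ ^ Nat.card S) * (Nm ⟨k, hk⟩)⁻¹ ∈ (K'.subgroupOf K).map q := by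
      rw [hNm, map_pow, show (q ⟨k, hk⟩) ^ Nat.card S = ∏ _s : S, q ⟨k, hk⟩ by
        rw [Finset.prod_const, Finset.card_univ, Nat.card_eq_fintype_card],
        ← Finset.prod_inv_distrib, ← Finset.prod_mul_distrib]
      refine Subgroup.prod_mem _ fun s _ =>
        ⟨⟨k, hk⟩ * (sK s ⟨k, hk⟩)⁻¹, ?_, by rw [map_mul, map_inv]; rfl⟩
      show k * (s • k)⁻¹ ∈ K'
      have h1 := hn.conj_mem _ (K'.inv_mem (hgen k hk s)) k
      simpa [mul_assoc] using h1
    obtain ⟨w, hw, hw'⟩ := hmem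
    rw [← hy] at hw'
    have h2 : q (w * y) = q (⟨k, hk⟩ ^ Nat.card S) := by
      rw [map_mul, hw']
      exact inv_mul_cancel_right _ _
    have h3 : ((w * y : K) : G)⁻¹ * k ^ Nat.card S ∈ L := (QuotientGroup.eq (s := L.subgroupOf K) (a := w * y) (b := (⟨k, hk⟩ : K) ^ Nat.card S)).1 h2
    rw [show k ^ Nat.card S = ((w * y : K) : G) * (((w * y : K) : G)⁻¹ * k ^ Nat.card S) by group]
    refine mul_mem ?_ (Subgroup.mem_sup_left (hLK' h3))
    rw [Subgroup.coe_mul]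
    exact mul_mem (Subgroup.mem_sup_left hw) hyS
  have hdec : ∀ g : G, ∃ k ∈ K', ∃ c ∈ C, g = k * c := fun g => by
    have hg : g ∈ (↑(K' ⊔ C) : Set G) := by
      refine (le_trans hsup.ge (sup_le hsup' le_sup_right)) (Subgroup.mem_top g)
    rw [Subgroup.normal_mul] at hg
    obtain ⟨k, hk, c, hc, rfl⟩ := hg
    exact ⟨k, hk, c, hc, rfl⟩
  have hdecH : ∀ h ∈ H, ∃ l ∈ L, ∃ c ∈ C, h = l * c := fun h hh => by
    have hh' : h ∈ (↑(L ⊔ C) : Set G) := by rw [← hH]; exact hh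
    rw [Subgroup.normal_mul] at hh'
    obtain ⟨l, hl, c, hc, rfl⟩ := hh'
    exact ⟨l, hl, c, hc, rfl⟩
  refine ⟨K', hn, fixed, hLK', invL, hK'S, fun a ha b hb => hab a (hK'K ha) b (hK'K hb), hcop,
    hodd, hH ▸ le_sup_left, hH ▸ le_sup_right, hdecH, hdec, ?_, hfpf⟩
  refine le_antisymm ?_ (le_inf hLK' (hH ▸ le_sup_left))
  rintro x ⟨hxK, hxH⟩
  obtain ⟨l, hl, c, hc, rfl⟩ := hdecH x hxH
  refine L.mul_mem hl (hfpf c ?_ fun s => ?_)
  · simpa using K'.mul_mem (K'.inv_mem (hLK' hl)) hxK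
  · rw [fixed c hc s, inv_mul_cancel]
    exact L.one_mem

end CfsgLib.Block.OddCorr
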