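import Cfsg.Agent.Lib.Block.OddCorrInvert
import Cfsg.Agent.Lib.Block.OddCorrLocal
import Cfsg.Agent.Lib.Block.OddCorrInvariant

/-!
The odd correspondence above one invariant character of `L`.
-/

set_option autoImplicit false
set_option linter.unusedSectionVars false
set_option maxHeartbeats 800000

namespace CfsgLib.Block.OddCorr

open CfsgLib CfsgLib.Clifford
open scoped commutatorElement ComplexConjugate

universe u v

variable {G : Type u} [Group G] {S : Type v} [Group S] [MulDistribMulAction S G]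

/-- Invariance of a function on a subgroup under the acting group. -/
def Inv' (S : Type v) [Group S] [MulDistribMulAction S G] {X : Subgroup G} (f : X → ℂ) : Prop :=
  ∀ (s : S) (x y : X), (y : G) = s • (x : G) → f y = f x

/-- The action on an invariant subgroup. -/
@[reducible] def subAct (T : Subgroup G) (h : ∀ (s : S), ∀ x ∈ T, s • x ∈ T) :
    MulDistribMulAction S T where
  smul s x := ⟨s • (x : G), h s x x.2⟩
  one_smul x := Subtype.ext (one_smul S (x : G))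
  mul_smul a b x := Subtype.ext (mul_smul a b (x : G))
  smul_mul s x y := Subtype.ext (smul_mul' s (x : G) (y : G))
  smul_one s := Subtype.ext (smul_one s : s • (1 : G) = 1)

/-- A constituent of a character summing to a multiple of an irreducible one. -/
theorem constituent_of_multiple {A : Type u} [Group A] [Fintype A] {ψ R φ : A → ℂ} {a : ℂ}
    (hψ : Cfsg.IsCharacter A ψ) (hR : Cfsg.IsCharacter A R) (hφ : Cfsg.IsIrrCharacter A φ)
    (h : ψ + R = a • φ) (hne : ψ ≠ 0) : Cfsg.classInner ψ φ ≠ 0 := by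
  obtain ⟨φ', hφ', hne'⟩ := exists_irr_constituent hψ hne
  suffices φ' = φ by rwa [← this]
  by_contra hneq
  apply hne'
  have h1 := congrArg (fun F => Cfsg.classInner F φ') h
  simp only [Char.classInner_add_left, Char.classInner_smul_left,
    Char.irr_classInner_ne hφ hφ' (fun h => hneq h.symm), mul_zero] at h1
  obtain ⟨i, hi⟩ := Char.classInner_isCharacter_nat hψ (Char.irr_isCharacter hφ')
  obtain ⟨j, hj⟩ := Char.classInner_isCharacter_nat hR (Char.irr_isCharacter hφ')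
  rw [hi, hj] at h1
  have : i + j = 0 := by exact_mod_cast h1
  rw [hi, show i = 0 by omega, Nat.cast_zero]

variable [Fintype G] [Finite S]

/-- If every coset of `N` has a fixed element, the constituents on `N` of an invariant character
are invariant. -/
theorem constituent_invariant (N : Subgroup G) [N.Normal] [Fintype N]
    (hNS : ∀ (s : S), ∀ x ∈ N, s • x ∈ N) (hcop : (Nat.card G).Coprime (Nat.card S))
    (hdec : ∀ g : G, ∃ n ∈ N, ∃ c : G, (∀ s : S, s • c = c) ∧ g = n * c) {χ : G → ℂ}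
    (hχ : Cfsg.IsIrrCharacter G χ) (hχS : ∀ (s : S) (x : G), χ (s • x) = χ x) {θ : N → ℂ}
    (hθ : Cfsg.IsIrrCharacter N θ) (h : Cfsg.classInner (fun n : N => χ n) θ ≠ 0) :
    Inv' S θ := by
  intro s x y hy
  let tw : S → (N → ℂ) → (N → ℂ) := fun t f n => f ⟨t • (n : G), hNS t n n.2⟩
  let β : N ≃* N :=
    { toFun := fun l => ⟨s • (l : G), hNS s l l.2⟩
      invFun := fun l => ⟨s⁻¹ • (l : G), hNS s⁻¹ l l.2⟩
      left_inv := fun l => Subtype.ext (inv_smul_smul s _)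
      right_inv := fun l => Subtype.ext (smul_inv_smul s _)
      map_mul' := fun a b => Subtype.ext (smul_mul' s _ _) }
  have h1 : Cfsg.IsIrrCharacter N (tw s θ) :=
    Char.isIrrCharacter_comp_surjective hθ β.toMonoidHom β.surjective
  have h2 : Cfsg.classInner (fun n : N => χ n) (tw s θ) ≠ 0 := by
    have e := classInner_equiv β (fun n : N => χ n) θ
    rw [show (fun z => (fun n : N => χ n) (β z)) = fun n : N => χ n from
      funext fun n => hχS s n] at e
    exact fun h0 => h (e.symm.trans h0)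
  obtain ⟨g, hg⟩ := exists_conj_of_constituents hχ hθ h1 h h2
  obtain ⟨n, hn, c, hc, rfl⟩ := hdec g
  rw [← conjFn_conjFn, mem_inertia_iff_conjFn.1 (le_inertia (Char.irr_isClassFunction hθ) hn)] at hg
  have hcomm : ∀ f, tw s (conjFn c f) = conjFn c (tw s f) := fun f => funext fun m => by
    show f _ = f _
    exact congrArg f (Subtype.ext (by simp [smul_mul', smul_inv', hc]))
  have hit : ∀ j : ℕ, (tw s)^[j] θ = tw (s ^ j) θ := by
    intro j
    induction j with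
    | zero => exact funext fun m => congrArg θ (Subtype.ext (by simp))
    | succ j ih =>
      rw [Function.iterate_succ_apply', ih]
      exact funext fun m => congrArg θ (Subtype.ext (by simp [pow_succ, mul_smul]))
  have hit' : ∀ j : ℕ, (conjFn c)^[j] θ = conjFn (c ^ j) θ := by
    intro j
    induction j with
    | zero => rw [Function.iterate_zero_apply, pow_zero, conjFn_one]
    | succ j ih => rw [Function.iterate_succ_apply', ih, conjFn_conjFn, ← pow_succ]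
  obtain ⟨hfix, -⟩ := fixed_of_iterate hcomm hcop.symm (x := θ) (by
    rw [hit, pow_card_eq_one']
    exact funext fun m => congrArg θ (Subtype.ext (one_smul S _)))
    (by rw [hit', pow_card_eq_one', conjFn_one]) hg.symm
  rw [show y = ⟨s • (x : G), hNS s x x.2⟩ from Subtype.ext hy]
  exact congrFun hfix x

/-- The standing hypotheses. -/
structure Setup (S : Type v) [Group S] [MulDistribMulAction S G] (C K L H : Subgroup G) : Prop where
  fixed : ∀ x ∈ C, ∀ s : S, s • x = x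
  le : L ≤ K
  invL : ∀ (s : S), ∀ x ∈ L, s • x ∈ L
  invK : ∀ (s : S), ∀ x ∈ K, s • x ∈ K
  ab : ∀ a ∈ K, ∀ b ∈ K, ⁅a, b⁆ ∈ L
  cop : (Nat.card G).Coprime (Nat.card S)
  odd : Odd (Nat.card G)
  leH : L ≤ H
  cLeH : C ≤ H
  decH : ∀ h ∈ H, ∃ l ∈ L, ∃ c ∈ C, h = l * c
  dec : ∀ g : G, ∃ k ∈ K, ∃ c ∈ C, g = k * c
  inf : K ⊓ H = L
  fpf : ∀ x ∈ K, (∀ s : S, x⁻¹ * s • x ∈ L) → x ∈ L

variable {C K L H : Subgroup G} [K.Normal] [L.Normal] [Fintype L]

theorem Setup.smul_memH (hd : Setup S C K L H) (s : S) {x : G} (hx : x ∈ H) : s • x ∈ H := by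
  obtain ⟨l, hl, c, hc, rfl⟩ := hd.decH x hx
  rw [smul_mul', hd.fixed c hc]
  exact H.mul_mem (hd.leH (hd.invL s l hl)) (hd.cLeH hc)

/-- Invariant conjugates by elements of `K` coincide. -/
theorem Setup.conj_eq (hd : Setup S C K L H) {φ : L → ℂ} (hφ : Cfsg.IsIrrCharacter L φ)
    (hS : Inv' S φ) {k : G} (hk : k ∈ K) (hkS : Inv' S (conjFn k φ)) : conjFn k φ = φ := by
  let K' : Subgroup G := K
  letI := subAct (S := S) K' hd.invK
  let L' : Subgroup K' := L.subgroupOf K'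
  let St : Subgroup K' := (inertia φ).subgroupOf K'
  have hLSt : L' ≤ St := fun x hx =>
    Subgroup.mem_subgroupOf.2 (le_inertia (Char.irr_isClassFunction hφ) (Subgroup.mem_subgroupOf.1 hx))
  have habK : ∀ a b : K', a * b * a⁻¹ * b⁻¹ ∈ L' := fun a b =>
    Subgroup.mem_subgroupOf.2 (hd.ab a a.2 b b.2)
  haveI : St.Normal := ⟨fun n hn g => by
    have h := hLSt (habK g n)
    simpa using St.mul_mem h hn⟩
  let _ : CommGroup (K' ⧸ St) :=
    { (inferInstance : Group (K' ⧸ St)) with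
      mul_comm := fun a b => by
        induction a using QuotientGroup.induction_on with
        | _ a =>
          induction b using QuotientGroup.induction_on with
          | _ b =>
            rw [← commutatorElement_eq_one_iff_mul_comm]
            exact (QuotientGroup.eq_one_iff _).2 (hLSt (habK a b)) }
  have hfix : ∀ s : S, conjFn (s • k) φ = conjFn k φ := fun s => funext fun l => by
    have h1 : φ (conjN k ⟨s⁻¹ • (l : G), hd.invL s⁻¹ l l.2⟩) = φ (conjN k l) :=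
      hkS s⁻¹ l ⟨s⁻¹ • (l : G), hd.invL s⁻¹ l l.2⟩ rfl
    refine Eq.trans ?_ h1
    exact hS s _ _ (by simp [smul_mul', smul_inv', smul_inv_smul])
  haveI := Fintype.ofFinite K'
  have h := eq_one_of_fixed (S := S) habK (hd.cop.coprime_dvd_left (Subgroup.card_subgroup_dvd_card K'))
    (fun s x hx => Subgroup.mem_subgroupOf.2 (hd.invL s x (Subgroup.mem_subgroupOf.1 hx)))
    (fun x hx => Subgroup.mem_subgroupOf.2
      (hd.fpf x x.2 fun s => Subgroup.mem_subgroupOf.1 (hx s)))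
    (QuotientGroup.mk' St) (fun x hx => (QuotientGroup.eq_one_iff x).2 (hLSt hx))
    (k := ⟨k, hk⟩) fun s => by
      simp only [QuotientGroup.mk'_apply]
      rw [eq_comm, QuotientGroup.eq, Subgroup.mem_subgroupOf, mem_inertia_iff_conjFn]
      show conjFn (k⁻¹ * (s • k)) φ = φ
      have e : k⁻¹ * (s • k) = ⁅k⁻¹, s • k⁆ * ((s • k) * k⁻¹) := by
        rw [commutatorElement_def]; group
      rw [e, ← conjFn_conjFn, mem_inertia_iff_conjFn.1 (le_inertia (Char.irr_isClassFunction hφ)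
        (hd.ab _ (K.inv_mem hk) _ (hd.invK s k hk))), ← conjFn_conjFn, hfix, conjFn_conjFn,
        mul_inv_cancel, conjFn_one]
  have h' := (QuotientGroup.eq_one_iff _).1 h
  exact mem_inertia_iff_conjFn.1 (Subgroup.mem_subgroupOf.1 h')

variable [Fintype H]

/-- The inertia group is invariant and factorises. -/
theorem Setup.inertia_facts (hd : Setup S C K L H) {φ : L → ℂ} (hφ : Cfsg.IsIrrCharacter L φ)
    (hS : Inv' S φ) :
    (∀ (s : S), ∀ x ∈ inertia φ, s • x ∈ inertia φ) ∧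
      ∀ g ∈ inertia φ, ∃ k ∈ K, ∃ c ∈ C, k ∈ inertia φ ∧ c ∈ inertia φ ∧ g = k * c := by
  refine ⟨fun s x hx n => ?_, fun g hg => ?_⟩
  · have hn : s⁻¹ • (n : G) ∈ L := hd.invL s⁻¹ n n.2
    have h1 := hS s (conjN x ⟨_, hn⟩) (conjN (s • x) n)
      (by simp [smul_mul', smul_inv', smul_inv_smul])
    rw [h1, hx]
    exact (hS s ⟨_, hn⟩ n (by simp)).symm
  · obtain ⟨k, hk, c, hc, rfl⟩ := hd.dec g
    have hg' : conjFn c (conjFn k φ) = φ := by
      rw [conjFn_conjFn]; exact mem_inertia_iff_conjFn.1 hg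
    have hk' : conjFn k φ = conjFn c⁻¹ φ := by
      conv_rhs => rw [← hg', conjFn_conjFn, mul_inv_cancel, conjFn_one]
    have hkS : Inv' S (conjFn k φ) := by
      rw [hk']
      intro s x y hy
      exact hS s _ _ (by simp [smul_mul', smul_inv', hy, hd.fixed c hc])
    have hkI := hd.conj_eq hφ hS hk hkS
    refine ⟨k, hk, c, hc, mem_inertia_iff_conjFn.2 hkI, mem_inertia_iff_conjFn.2 ?_, rfl⟩
    rw [hkI] at hg'
    exact hg'

/-- **The correspondence between the inertia groups.** -/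
theorem Setup.pair_correspondence (hd : Setup S C K L H) {φ : L → ℂ}
    (hφ : Cfsg.IsIrrCharacter L φ) (hS : Inv' S φ) (T : Subgroup G) [Fintype T]
    [Fintype (H.subgroupOf T)] (hT : ∀ g, g ∈ T ↔ conjFn g φ = φ) (hLT : L ≤ T) :
    (∀ τ : T → ℂ, Cfsg.IsIrrCharacter T τ → Inv' S τ →
      Cfsg.classInner (fun l : L => τ ⟨l, hLT l.2⟩) φ ≠ 0 →
      ∃ ψ : H.subgroupOf T → ℂ, Cfsg.IsIrrCharacter (H.subgroupOf T) ψ ∧
        (∀ (s : S) (x y : H.subgroupOf T),
          ((y : T) : G) = s • ((x : T) : G) → ψ y = ψ x) ∧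
        Cfsg.classInner (fun l : L => ψ ⟨⟨l, hLT l.2⟩, hd.leH l.2⟩) φ ≠ 0 ∧
        ∀ ψ' : H.subgroupOf T → ℂ, Cfsg.IsIrrCharacter (H.subgroupOf T) ψ' →
          ((∃ m : ℕ, Cfsg.classInner (fun h : H.subgroupOf T => τ h) ψ' = m ∧ Odd m) ↔
            ψ' = ψ)) ∧
    (∀ τ τ' : T → ℂ, Cfsg.IsIrrCharacter T τ →
      Cfsg.IsIrrCharacter T τ' → Inv' S τ → Inv' S τ' →
      Cfsg.classInner (fun l : L => τ ⟨l, hLT l.2⟩) φ ≠ 0 →
      Cfsg.classInner (fun l : L => τ' ⟨l, hLT l.2⟩) φ ≠ 0 →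
      ∀ ψ : H.subgroupOf T → ℂ, Cfsg.IsIrrCharacter (H.subgroupOf T) ψ →
      (∃ m : ℕ, Cfsg.classInner (fun h : H.subgroupOf T => τ h) ψ = m ∧ Odd m) →
      (∃ m : ℕ, Cfsg.classInner (fun h : H.subgroupOf T => τ' h) ψ = m ∧ Odd m) →
      τ = τ') ∧
    (∀ ψ : H.subgroupOf T → ℂ, Cfsg.IsIrrCharacter (H.subgroupOf T) ψ →
      (∀ (s : S) (x y : H.subgroupOf T),
        ((y : T) : G) = s • ((x : T) : G) → ψ y = ψ x) →
      Cfsg.classInner (fun l : L => ψ ⟨⟨l, hLT l.2⟩, hd.leH l.2⟩) φ ≠ 0 →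
      ∃ τ : T → ℂ, Cfsg.IsIrrCharacter T τ ∧ Inv' S τ ∧
        Cfsg.classInner (fun l : L => τ ⟨l, hLT l.2⟩) φ ≠ 0 ∧
        ∃ m : ℕ, Cfsg.classInner (fun h : H.subgroupOf T => τ h) ψ = m ∧ Odd m) := by
  classical
  have hTi : ∀ g, g ∈ T ↔ g ∈ inertia φ := fun g => (hT g).trans mem_inertia_iff_conjFn.symm
  obtain ⟨hTS', hTdec⟩ := hd.inertia_facts hφ hS
  simp only [← hTi] at hTS' hTdec
  have hTS : ∀ (s : S), ∀ x ∈ T, s • x ∈ T := hTS'
  letI := subAct (S := S) T hTS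
  let L₁ : Subgroup T := L.subgroupOf T
  let I₁ : Subgroup T := K.subgroupOf T
  let H₁ : Subgroup T := H.subgroupOf T
  have hLI : L₁ ≤ I₁ := fun x hx => Subgroup.mem_subgroupOf.2 (hd.le (Subgroup.mem_subgroupOf.1 hx))
  have hLH : L₁ ≤ H₁ := fun x hx => Subgroup.mem_subgroupOf.2 (hd.leH (Subgroup.mem_subgroupOf.1 hx))
  let e₁ : L₁ ≃* L := Subgroup.subgroupOfEquivOfLe hLT
  let φ₁ : L₁ → ℂ := fun x => φ (e₁ x)
  have hφ₁ : Cfsg.IsIrrCharacter L₁ φ₁ :=
    Char.isIrrCharacter_comp_surjective hφ e₁.toMonoidHom e₁.surjective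
  have hφ₁inv : ∀ t : T, conjFn t φ₁ = φ₁ := fun t => funext fun m =>
    congrFun ((hT t).1 t.2) ⟨((m : T) : G), Subgroup.mem_subgroupOf.mp m.2⟩
  have hin₁ : ∀ f : L → ℂ, Cfsg.classInner (fun x => f (e₁ x)) φ₁ = Cfsg.classInner f φ :=
    fun f => classInner_equiv e₁ f φ
  have hIS : ∀ (s : S), ∀ x ∈ I₁, s • x ∈ I₁ := fun s x hx =>
    Subgroup.mem_subgroupOf.2 (hd.invK s x (Subgroup.mem_subgroupOf.1 hx))
  letI := subAct (S := S) I₁ hIS
  let L₂ : Subgroup I₁ := L₁.subgroupOf I₁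
  let e₂ : L₂ ≃* L₁ := Subgroup.subgroupOfEquivOfLe hLI
  let φ₂ : L₂ → ℂ := fun x => φ₁ (e₂ x)
  have hφ₂ : Cfsg.IsIrrCharacter L₂ φ₂ :=
    Char.isIrrCharacter_comp_surjective hφ₁ e₂.toMonoidHom e₂.surjective
  have hab₂ : ∀ a b : I₁, a * b * a⁻¹ * b⁻¹ ∈ L₂ := fun a b =>
    hd.ab _ a.2 _ b.2
  have hcopT : (Nat.card T).Coprime (Nat.card S) :=
    hd.cop.coprime_dvd_left (Subgroup.card_subgroup_dvd_card T)
  have hcop₂ : (Nat.card I₁).Coprime (Nat.card S) :=
    hcopT.coprime_dvd_left (Subgroup.card_subgroup_dvd_card I₁)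
  have hLS₂ : ∀ (s : S), ∀ x ∈ L₂, s • x ∈ L₂ := fun s x hx => hd.invL s _ hx
  have hfpf₂ : ∀ x : I₁, (∀ s : S, x⁻¹ * s • x ∈ L₂) → x ∈ L₂ := fun x hx =>
    hd.fpf _ x.2 fun s => hx s
  have hφ₂inv : ∀ k : I₁, conjFn k φ₂ = φ₂ := fun k => funext fun m =>
    congrFun (hφ₁inv k) ⟨((m : I₁) : T), Subgroup.mem_subgroupOf.mp m.2⟩
  have hφ₂S : ∀ (s : S) (l : L₂), φ₂ ⟨s • (l : I₁), hLS₂ s l l.2⟩ = φ₂ l := fun s l =>
    hS s _ _ rfl
  obtain ⟨θ₀, hθ₀, hθ₀o, hθ₀S, hθ₀u⟩ :=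
    exists_unique_invariant (S := S) hab₂ hcop₂ hLS₂ hfpf₂ hφ₂ hφ₂inv hφ₂S
  have hTdec' : ∀ t : T, ∃ n ∈ I₁, ∃ c : T, (∀ s : S, s • c = c) ∧ t = n * c := fun t => by
    obtain ⟨k, hk, c, hc, hkT, hcT, e⟩ := hTdec t t.2
    exact ⟨⟨k, hkT⟩, hk, ⟨c, hcT⟩, fun s => Subtype.ext (hd.fixed c hc s), Subtype.ext e⟩
  have hθ₀inv : ∀ t : T, conjFn t θ₀ = θ₀ := fun t => by
    obtain ⟨n, hn, c, hc, rfl⟩ := hTdec' t
    rw [← conjFn_conjFn, mem_inertia_iff_conjFn.1 (le_inertia (Char.irr_isClassFunction hθ₀) hn)]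
    refine hθ₀u _ (isIrrCharacter_conjFn hθ₀ c) ?_ fun s x => ?_
    · let β : L₂ ≃* L₂ :=
        { toFun := fun l => ⟨conjN c (l : I₁), (inferInstance : L₁.Normal).conj_mem _
            (Subgroup.mem_subgroupOf.1 l.2) c⟩
          invFun := fun l => ⟨conjN c⁻¹ (l : I₁), (inferInstance : L₁.Normal).conj_mem _
            (Subgroup.mem_subgroupOf.1 l.2) c⁻¹⟩
          left_inv := fun l => Subtype.ext (show conjN c⁻¹ (conjN c (l : I₁)) = _ by
            rw [← conjN_mul, inv_mul_cancel, conjN_one])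
          right_inv := fun l => Subtype.ext (show conjN c (conjN c⁻¹ (l : I₁)) = _ by
            rw [← conjN_mul, mul_inv_cancel, conjN_one])
          map_mul' := fun a b => Subtype.ext (Subtype.ext (by simp [mul_assoc])) }
      have h := classInner_equiv β (fun l : L₂ => θ₀ l) φ₂
      rw [show (fun x => φ₂ (β x)) = φ₂ from funext fun l =>
        congrFun (hφ₁inv c) ⟨((l : I₁) : T), Subgroup.mem_subgroupOf.mp l.2⟩] at h
      exact fun h0 => hθ₀o (h.symm.trans h0)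
    · rw [conjFn_apply, conjFn_apply, ← hθ₀S s (conjN c x)]
      refine congrArg θ₀ (Subtype.ext ?_)
      show c * (s • (x : T)) * c⁻¹ = s • (c * (x : T) * c⁻¹)
      rw [smul_mul', smul_mul', smul_inv', hc]
  obtain ⟨d₀, θ, hθ, hθeq⟩ := exists_isSchur hθ₀
  obtain ⟨n₀, φρ, hφρ, hφρeq⟩ := exists_isSchur hφ₂
  have hres := restrict_eq_smul_of_invariant (N := L₂) hθ₀ hφ₂ hφ₂inv hθ₀o
  set e := Cfsg.classInner (fun l : L₂ => θ₀ l) φ₂ with hedef
  have he : ∀ l : L₂, chr θ l = e * chr φρ l := fun l => by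
    rw [hθeq, hφρeq]; exact congrFun hres l
  have hIodd : Odd (Nat.card I₁) := (hd.odd.of_dvd_nat (Subgroup.card_subgroup_dvd_card T)).of_dvd_nat
    (Subgroup.card_subgroup_dvd_card I₁)
  have hHodd : Odd (Nat.card H₁) := (hd.odd.of_dvd_nat (Subgroup.card_subgroup_dvd_card T)).of_dvd_nat
    (Subgroup.card_subgroup_dvd_card H₁)
  obtain ⟨z, hzc, hz2, hz3, hz4⟩ := exists_inverting φρ hφρ he hab₂ hcop₂ hLS₂
    (fun s x => by rw [hθeq]; exact hθ₀S s x) hfpf₂ hθ hIodd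
  have hz3' : ∀ k : I₁, ∃ z' : L₁ → ℂ,
      ev θ z * θ k * ev θ z * θ k = ∑ l : L₁, z' l • θ ⟨l, hLI l.2⟩ := fun k => by
    obtain ⟨z', hz'⟩ := hz3 k
    refine ⟨fun l => z' (e₂.symm l), hz'.trans ?_⟩
    exact Fintype.sum_equiv e₂.toEquiv _ _ fun l => by simp; rfl
  have hz4' : ∀ h ∈ H₁, ∑ k : I₁, z k • θ (conjN h k) = ev θ z := by
    intro h hh
    obtain ⟨l, hl, c, hc, hlc⟩ := hd.decH h hh
    have hlT : l ∈ T := hLT hl
    have hcT : c ∈ T := by
      rw [show c = l⁻¹ * (h : G) by rw [hlc]; group]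
      exact T.mul_mem (T.inv_mem hlT) h.2
    set lT : I₁ := ⟨⟨l, hlT⟩, hd.le hl⟩
    set cT : T := ⟨c, hcT⟩
    have hh' : h = (lT : T) * cT := Subtype.ext hlc
    let α : I₁ ≃* I₁ := MulAut.conjNormal cT
    have hcs : ∀ s : S, s • cT = cT := fun s => Subtype.ext (hd.fixed c hc s)
    have hα : ev (θ.comp α.toMonoidHom) z = ev θ z := hz4 α (fun s x => Subtype.ext (by
        show cT * (s • (x : T)) * cT⁻¹ = s • (cT * (x : T) * cT⁻¹)
        rw [smul_mul', smul_mul', smul_inv', hcs]))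
      (fun x hx => (inferInstance : L₁.Normal).conj_mem _ hx cT)
      (fun x => by rw [hθeq]; exact congrFun (hθ₀inv cT) x)
    calc ∑ k : I₁, z k • θ (conjN h k) = θ lT * ev (θ.comp α.toMonoidHom) z * θ lT⁻¹ := by
          simp only [ev, Finset.mul_sum, Finset.sum_mul, Matrix.mul_smul, Matrix.smul_mul]
          refine Finset.sum_congr rfl fun k _ => ?_
          rw [MonoidHom.comp_apply, ← map_mul, ← map_mul]
          congr 2
          exact Subtype.ext (by simp [hh', α, mul_assoc])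
      _ = ev θ z * θ lT * θ lT⁻¹ := by rw [hα, hzc ⟨lT, hl⟩]
      _ = ev θ z := by rw [mul_assoc, ← map_mul, mul_inv_cancel, map_one, mul_one]
  have hinf : I₁ ⊓ H₁ = L₁ := by
    ext x
    exact SetLike.ext_iff.1 hd.inf (x : G)
  have hsup : I₁ ⊔ H₁ = ⊤ := eq_top_iff.2 fun t _ => by
    obtain ⟨k, hk, c, hc, hkT, hcT, e⟩ := hTdec t t.2
    rw [show t = (⟨k, hkT⟩ : T) * ⟨c, hcT⟩ from Subtype.ext e]
    exact Subgroup.mul_mem_sup hk (hd.cLeH hc)
  have he₁ : ∀ l : L₁, chr θ ⟨l, hLI l.2⟩ = e * φ₁ l := fun l => by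
    rw [hθeq]
    have := congrFun hres (e₂.symm l)
    simp only [Pi.smul_apply, smul_eq_mul, φ₂, MulEquiv.apply_symm_apply] at this
    exact this
  obtain ⟨hl1, hl2, hl3⟩ := local_correspondence (I := I₁) (L := L₁) (H := H₁) hLI hinf hsup
    (fun a ha b hb => hd.ab a ha b hb) hIodd hHodd hLH hθ (hθeq ▸ hθ₀) (hθeq ▸ hθ₀inv) hφ₁ hφ₁inv
    he₁ hz2 hz3' hz4'
  rw [hθeq] at hl1 hl2 hl3
  -- the automorphisms of `H₁`
  let β : S → H₁ ≃* H₁ := fun s =>
    { toFun := fun x => ⟨s • (x : T), hd.smul_memH s x.2⟩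
      invFun := fun x => ⟨s⁻¹ • (x : T), hd.smul_memH s⁻¹ x.2⟩
      left_inv := fun x => Subtype.ext (inv_smul_smul s _)
      right_inv := fun x => Subtype.ext (smul_inv_smul s _)
      map_mul' := fun a b => Subtype.ext (smul_mul' s _ _) }
  -- from `φ` to `θ₀`
  have hover : ∀ τ : T → ℂ, Cfsg.IsIrrCharacter T τ → Inv' S τ →
      Cfsg.classInner (fun l : L => τ ⟨l, hLT l.2⟩) φ ≠ 0 →
      Cfsg.classInner (fun k : I₁ => τ k) θ₀ ≠ 0 := by
    intro τ hτ hτS ho
    have hrc := Char.isCharacter_restrict (Char.irr_isCharacter hτ) I₁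
    obtain ⟨θ', hθ', hne⟩ := exists_irr_constituent hrc fun h0 =>
      Char.irr_apply_one_ne_zero hτ (congrFun h0 1)
    suffices θ' = θ₀ by rwa [← this]
    refine hθ₀u θ' hθ' ?_ fun s x => constituent_invariant I₁ hIS hcopT hTdec' hτ
      (fun s x => hτS s x _ rfl) hθ' hne s x _ rfl
    obtain ⟨R, hR, hRe⟩ := exists_add_of_constituent hrc hθ' hne
    refine constituent_of_multiple (R := fun l : L₂ => R l)
      (Char.isCharacter_restrict (Char.irr_isCharacter hθ') L₂) (Char.isCharacter_restrict hR L₂)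
      hφ₂ (a := Cfsg.classInner (fun l : L => τ ⟨l, hLT l.2⟩) φ) (funext fun l => ?_)
      fun h0 => Char.irr_apply_one_ne_zero hθ' (congrFun h0 1)
    have hτ1 : Cfsg.classInner (fun n : L₁ => τ n) φ₁ =
        Cfsg.classInner (fun l : L => τ ⟨l, hLT l.2⟩) φ := hin₁ fun l : L => τ ⟨l, hLT l.2⟩
    have h1 := congrFun (restrict_eq_smul_of_invariant (N := L₁) hτ hφ₁ hφ₁inv (by
      rw [hτ1]; exact ho)) (e₂ l)
    rw [hτ1] at h1
    exact (congrFun hRe (l : I₁)).symm.trans h1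
  have hψo : ∀ ψ : H₁ → ℂ,
      Cfsg.classInner (fun l : L₁ => ψ ⟨l, hLH l.2⟩) φ₁ =
        Cfsg.classInner (fun l : L => ψ ⟨⟨l, hLT l.2⟩, hd.leH l.2⟩) φ := fun ψ => by
    rw [← hin₁]; rfl
  refine ⟨fun τ hτ hτS ho => ?_, fun τ τ' hτ hτ' hτS hτS' ho ho' ψ hψ h h' =>
    hl2 τ τ' hτ hτ' (hover τ hτ hτS ho) (hover τ' hτ' hτS' ho') ψ hψ h h',
    fun ψ hψ hψS ho => ?_⟩
  · obtain ⟨ψ, hψ, hψover, huniq⟩ := hl1 τ hτ (hover τ hτ hτS ho)
    refine ⟨ψ, hψ, fun s x y hy => ?_, hψo ψ ▸ hψover, huniq⟩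
    have h1 : (fun x => ψ (β s x)) = ψ := by
      refine (huniq _ (Char.isIrrCharacter_comp_surjective hψ (β s).toMonoidHom (β s).surjective)).1 ?_
      obtain ⟨m, hm, hodd⟩ := (huniq ψ hψ).2 rfl
      refine ⟨m, ?_, hodd⟩
      rw [← hm, ← classInner_equiv (β s) (fun h : H₁ => τ h) ψ]
      congr 1
      exact funext fun h => (hτS s _ _ rfl).symm
    rw [show y = β s x from Subtype.ext (Subtype.ext hy)]
    exact congrFun h1 x
  · obtain ⟨τ, hτ, hτo, m, hm, hodd⟩ := hl3 ψ hψ (by rw [hψo]; exact ho)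
    refine ⟨τ, hτ, fun s x y hy => ?_, ?_, m, hm, hodd⟩
    · let αs : T ≃* T := MulDistribMulAction.toMulEquiv T s
      let αI : I₁ ≃* I₁ := MulDistribMulAction.toMulEquiv I₁ s
      have h1 : (fun x => τ (αs x)) = τ := by
        refine hl2 _ τ (Char.isIrrCharacter_comp_surjective hτ αs.toMonoidHom αs.surjective) hτ ?_ hτo
          ψ hψ ⟨m, ?_, hodd⟩ ⟨m, hm, hodd⟩
        · have h := classInner_equiv αI (fun k : I₁ => τ k) θ₀
          rw [show (fun x => θ₀ (αI x)) = θ₀ from funext fun k => hθ₀S s k] at h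
          exact fun h0 => hτo (h.symm.trans h0)
        · have h := classInner_equiv (β s) (fun h : H₁ => τ h) ψ
          rw [show (fun x => ψ (β s x)) = ψ from funext fun k => hψS s k _ rfl] at h
          exact h.trans hm
      rw [show y = αs x from Subtype.ext hy]
      exact congrFun h1 x
    · have h1 := restrict_eq_smul_of_invariant (N := I₁) hτ hθ₀ hθ₀inv hτo
      rw [← hin₁, show (fun x => (fun l : L => τ ⟨l, hLT l.2⟩) (e₁ x)) =
        (Cfsg.classInner (fun k : I₁ => τ k) θ₀ * e) • φ₁ from funext fun l => by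
          rw [Pi.smul_apply, smul_eq_mul, mul_assoc, ← he₁, hθeq]
          exact congrFun h1 ⟨l, hLI l.2⟩,
        Char.classInner_smul_left, Char.irr_classInner_self hφ₁, mul_one]
      exact mul_ne_zero hτo hθ₀o

end CfsgLib.Block.OddCorr
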