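import Cfsg.Agent.Lib.Clifford.Intertwiner
import Cfsg.Agent.Lib.Char.Diag
import Mathlib.LinearAlgebra.Matrix.ToLin

/-!
Matrix representations: a double centraliser theorem for normal subgroups, by a trace formula.
-/

set_option autoImplicit false
set_option linter.unusedSectionVars false

namespace CfsgLib.Block.OddCorr

open CfsgLib
open scoped ComplexConjugate

universe u

variable {d : ℕ}

/-- Square complex matrices. -/
abbrev Mat (d : ℕ) : Type := Matrix (Fin d) (Fin d) ℂ

/-- Every matrix commuting with the representation is a scalar. -/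
def IsSchur {E : Type u} [Group E] (ρ : E →* Mat d) : Prop :=
  0 < d ∧ ∀ X : Mat d, (∀ x, X * ρ x = ρ x * X) → ∃ c : ℂ, X = c • 1

/-- The trace function. -/
def chr {E : Type u} [Group E] (ρ : E →* Mat d) : E → ℂ := fun x => (ρ x).trace

/-- The representation attached to a matrix representation. -/
noncomputable def toRep {E : Type u} [Group E] (ρ : E →* Mat d) :
    Representation ℂ E (Fin d → ℂ) :=
  (Matrix.toLinAlgEquiv' (R := ℂ) (n := Fin d)).toAlgHom.toMonoidHom.comp ρ

theorem toRep_character {E : Type u} [Group E] (ρ : E →* Mat d) :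
    (toRep ρ).character = chr ρ := funext fun _ => Matrix.trace_toLin'_eq _

theorem isCharacter_chr {E : Type u} [Group E] (ρ : E →* Mat d) : Cfsg.IsCharacter E (chr ρ) :=
  ⟨d, toRep ρ, toRep_character ρ⟩

theorem exists_isSchur {E : Type u} [Group E] {χ : E → ℂ} (hχ : Cfsg.IsIrrCharacter E χ) :
    ∃ (d : ℕ) (ρ : E →* Mat d), IsSchur ρ ∧ chr ρ = χ := by
  obtain ⟨n, σ, hσ, rfl⟩ := hχ
  let e := LinearMap.toMatrixAlgEquiv' (R := ℂ) (n := Fin n)
  refine ⟨n, e.toAlgHom.toMonoidHom.comp σ, ⟨?_, fun X hX => ?_⟩, funext fun x => ?_⟩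
  · have := Char.nontrivial_of_isIrreducible σ
    refine Nat.pos_of_ne_zero fun h => ?_
    subst h
    exact not_nontrivial (Fin 0 → ℂ) this
  · let I : Representation.IntertwiningMap σ σ := ⟨e.symm X, fun x =>
      (e.injective (by simpa using hX x) : e.symm X * σ x = σ x * e.symm X)⟩
    obtain ⟨c, hc⟩ :=
      (Representation.IsIrreducible.algebraMap_intertwiningMap_bijective_of_isAlgClosed
        (ρ := σ) (k := ℂ)).2 I
    replace hc : e.symm X = algebraMap ℂ _ c := LinearMap.ext fun v => by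
      have := congr_arg (fun J : Representation.IntertwiningMap σ σ => J.toLinearMap v) hc
      simpa [I, Algebra.algebraMap_eq_smul_one] using this.symm
    exact ⟨c, by rw [← e.apply_symm_apply X, hc, AlgEquiv.commutes, Algebra.algebraMap_eq_smul_one]⟩
  · exact (LinearMap.trace_eq_matrix_trace ℂ (Pi.basisFun ℂ (Fin n)) (σ x)).symm

theorem chr_conj {E : Type u} [Group E] (ρ : E →* Mat d) (g h : E) :
    chr ρ (g * h * g⁻¹) = chr ρ h := by
  unfold chr
  rw [map_mul, map_mul, Matrix.trace_mul_comm, ← mul_assoc, ← map_mul, inv_mul_cancel, map_one,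
    one_mul]

theorem chr_inv {E : Type u} [Group E] [Finite E] (ρ : E →* Mat d) (g : E) :
    chr ρ g⁻¹ = conj (chr ρ g) := by
  rw [← toRep_character]
  exact Char.char_inv_eq_conj (toRep ρ) g

variable {E : Type u} [Group E] [Finite E] (ρ : E →* Mat d) (N : Subgroup E) [Fintype N]

/-- Averaging over `N` lands in the centraliser of `ρ N`. -/
theorem avg_comm (Z : Mat d) (m : N) :
    (∑ n : N, ρ n * Z * ρ (n : E)⁻¹) * ρ m = ρ m * ∑ n : N, ρ n * Z * ρ (n : E)⁻¹ := by
  rw [Finset.sum_mul, Finset.mul_sum]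
  refine (Fintype.sum_equiv (Equiv.mulLeft m) _ _ fun n => ?_).symm
  simp only [Equiv.coe_mulLeft, Subgroup.coe_mul, ← mul_assoc, ← map_mul, mul_inv_rev]
  rw [mul_assoc _ (ρ _) (ρ _), ← map_mul, inv_mul_cancel_right]

variable [hN : N.Normal]

/-- The class sum weighted by the inverse character is a non-zero scalar. -/
theorem exists_weight (hρ : IsSchur ρ) :
    ∃ c : ℂ, c ≠ 0 ∧ (∑ n : N, chr ρ (n : E)⁻¹ • ρ n) = c • 1 := by
  classical
  obtain ⟨c, hc⟩ := hρ.2 (∑ n : N, chr ρ (n : E)⁻¹ • ρ n) fun x => by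
    rw [Finset.sum_mul, Finset.mul_sum]
    refine Fintype.sum_equiv (MulAut.conjNormal (H := N) x⁻¹).toEquiv _ _ fun n => ?_
    simp only [MulEquiv.toEquiv_eq_coe, EquivLike.coe_coe, MulAut.conjNormal_apply, inv_inv]
    rw [show chr ρ (x⁻¹ * (n : E) * x)⁻¹ = chr ρ (n : E)⁻¹ by
      rw [mul_inv_rev, mul_inv_rev, inv_inv, ← mul_assoc]
      simpa using chr_conj ρ x⁻¹ (n : E)⁻¹, Matrix.smul_mul, Matrix.mul_smul, ← map_mul, ← map_mul]
    congr 2
    group
  refine ⟨c, fun h0 => ?_, hc⟩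
  have h := congrArg Matrix.trace hc
  rw [Matrix.trace_sum, h0, zero_smul, Matrix.trace_zero] at h
  simp only [Matrix.trace_smul, smul_eq_mul] at h
  have h2 : (∑ n : N, ‖chr ρ (n : E)‖ ^ 2 : ℝ) = 0 := by
    apply Complex.ofReal_injective
    rw [Complex.ofReal_zero, ← h, Complex.ofReal_sum]
    refine Finset.sum_congr rfl fun n _ => ?_
    rw [chr_inv, ← Complex.normSq_eq_norm_sq, Complex.normSq_eq_conj_mul_self]
    rfl
  have h3 := (Finset.sum_eq_zero_iff_of_nonneg (fun n _ => by positivity)).1 h2 1 (Finset.mem_univ 1)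
  have h4 : chr ρ 1 = (d : ℂ) := by simp [chr]
  simp [h4, hρ.1.ne'] at h3

theorem mul_single_mul_apply (A B : Mat d) (j a i k : Fin d) :
    (A * Matrix.single j a (1 : ℂ) * B) i k = A i j * B a k := by
  simp [Matrix.mul_apply, Matrix.single, ite_and]

/-- **Double centraliser**: an operator commuting with the centraliser of `ρ N` is determined by
its traces against `ρ N`. -/
theorem span_formula (hρ : IsSchur ρ) {X : Mat d}
    (hX : ∀ Y : Mat d, (∀ n : N, Y * ρ n = ρ n * Y) → X * Y = Y * X) :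
    ∃ c : ℂ, c ≠ 0 ∧ c • X = ∑ n : N, (ρ (n : E)⁻¹ * X).trace • ρ n := by
  classical
  obtain ⟨c, hc0, hc⟩ := exists_weight ρ N hρ
  refine ⟨c, hc0, ?_⟩
  have h1 : c • X = ∑ n : N, chr ρ (n : E)⁻¹ • (X * ρ n) := by
    rw [← mul_one (c • X), Matrix.smul_mul, ← Matrix.mul_smul, ← hc, Finset.mul_sum]
    exact Finset.sum_congr rfl fun n _ => Matrix.mul_smul _ _ _
  rw [h1]
  ext i j
  simp only [Matrix.sum_apply, Matrix.smul_apply, smul_eq_mul]
  have key : ∀ a : Fin d, ∑ n : N, (X * ρ n) i j * ρ (n : E)⁻¹ a a =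
      ∑ n : N, ρ n i j * (ρ (n : E)⁻¹ * X) a a := by
    intro a
    have h := congrFun (congrFun (hX _ fun n => avg_comm ρ N (Matrix.single j a 1) n) i) a
    rw [Finset.mul_sum, Finset.sum_mul, Matrix.sum_apply, Matrix.sum_apply] at h
    refine Eq.trans ?_ (h.trans ?_)
    · exact Finset.sum_congr rfl fun n _ => by
        rw [← mul_assoc, ← mul_assoc, mul_single_mul_apply]
    · exact Finset.sum_congr rfl fun n _ => by
        rw [mul_assoc (ρ n * _), mul_single_mul_apply]
  calc ∑ n : N, chr ρ (n : E)⁻¹ * (X * ρ n) i j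
      = ∑ a, ∑ n : N, (X * ρ n) i j * ρ (n : E)⁻¹ a a := by
        rw [Finset.sum_comm]
        refine Finset.sum_congr rfl fun n _ => ?_
        rw [← Finset.mul_sum, mul_comm]; rfl
    _ = ∑ a, ∑ n : N, ρ n i j * (ρ (n : E)⁻¹ * X) a a := Finset.sum_congr rfl fun a _ => key a
    _ = ∑ n : N, (ρ (n : E)⁻¹ * X).trace * ρ n i j := by
        rw [Finset.sum_comm]
        refine Finset.sum_congr rfl fun n _ => ?_
        rw [← Finset.mul_sum, mul_comm]; rfl

/-- An operator commuting with the centraliser of `ρ N` and orthogonal to `ρ N` is zero. -/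
theorem eq_zero_of_traces (hρ : IsSchur ρ) {X : Mat d}
    (hX : ∀ Y : Mat d, (∀ n : N, Y * ρ n = ρ n * Y) → X * Y = Y * X)
    (h0 : ∀ n : N, (ρ n * X).trace = 0) : X = 0 := by
  obtain ⟨c, hc0, hc⟩ := span_formula ρ N hρ hX
  rw [Finset.sum_eq_zero (fun n _ => by
    rw [← Subgroup.coe_inv, h0 n⁻¹, zero_smul])] at hc
  exact (smul_eq_zero.1 hc).resolve_left hc0

/-- The element of the group algebra as a matrix. -/
def ev {H : Type u} [Group H] [Fintype H] (σ : H →* Mat d) (z : H → ℂ) : Mat d := ∑ h, z h • σ h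

theorem ev_mem_centralizer {H : Type u} [Group H] [Fintype H] (σ : H →* Mat d) (z : H → ℂ)
    (Y : Mat d) (hY : ∀ h, Y * σ h = σ h * Y) : ev σ z * Y = Y * ev σ z := by
  rw [ev, Finset.sum_mul, Finset.mul_sum]
  exact Finset.sum_congr rfl fun h _ => by rw [Matrix.smul_mul, Matrix.mul_smul, hY]

theorem exists_ev (hρ : IsSchur ρ) {X : Mat d}
    (hX : ∀ Y : Mat d, (∀ n : N, Y * ρ n = ρ n * Y) → X * Y = Y * X) :
    ∃ z : N → ℂ, X = ev (ρ.comp N.subtype) z := by
  obtain ⟨c, hc0, hc⟩ := span_formula ρ N hρ hX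
  refine ⟨fun n => c⁻¹ * (ρ (n : E)⁻¹ * X).trace, ?_⟩
  calc X = c⁻¹ • (c • X) := (inv_smul_smul₀ hc0 X).symm
    _ = _ := by
      rw [hc, Finset.smul_sum, ev]
      exact Finset.sum_congr rfl fun n _ => by rw [smul_smul]; rfl

end CfsgLib.Block.OddCorr
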