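import Cfsg.Agent.Lib.Block.DefectOneBase
import Cfsg.Agent.Lib.Block.StableBlock
import Cfsg.Agent.Lib.Block.CoprimeAlgebra

/-!
The stable data of an idempotent of the centralizer of an element of order `p`.
-/

set_option autoImplicit false
set_option linter.unusedSectionVars false

namespace CfsgLib.Block

open MonoidAlgebra

universe u v

/-- An element of order `p` exactly dividing the group order, the regular part `O` of its
centralizer, and a subgroup `T` of the normalizer fixing a matrix algebra idempotent `e` of `O`. -/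
structure OrderPData (G : Type u) [Group G] [Finite G] (k : Type v) [Field k] (p : ℕ) where
  x : G
  hxo : orderOf x = p
  hsq : ¬ p ^ 2 ∣ Nat.card G
  O : Subgroup G
  hOC : O ≤ Subgroup.centralizer ({x} : Set G)
  hOmem : ∀ c ∈ Subgroup.centralizer ({x} : Set G), c ∈ O ↔ ¬ p ∣ orderOf c
  T : Subgroup G
  hCT : Subgroup.centralizer ({x} : Set G) ≤ T
  hTN : T ≤ Subgroup.normalizer ((Subgroup.zpowers x : Subgroup G) : Set G)
  e : MonoidAlgebra k G
  heO : SuppIn O e
  hee : e * e = e
  heT : ∀ t ∈ T, of k G t * e = e * of k G t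
  n : ℕ
  E : Fin (n + 1) → Fin (n + 1) → MonoidAlgebra k G
  hEO : ∀ i j, SuppIn O (E i j)
  heE : ∀ i j, e * E i j = E i j
  hEmul : ∀ i j l m, E i j * E l m = if j = l then E i m else 0
  hEsum : ∑ i, E i i = e
  hE0 : E 0 0 ≠ 0
  hspan : ∀ a, SuppIn O a → ∃ c : Fin (n + 1) → Fin (n + 1) → k, e * a = ∑ i, ∑ j, c i j • E i j
  hoff : ∀ g ∈ Subgroup.normalizer ((Subgroup.zpowers x : Subgroup G) : Set G), g ∉ T →
    of k G g * e * of k G g⁻¹ * e = 0

namespace OrderPData

variable {G : Type u} [Group G] [Finite G] {k : Type v} [Field k] {p : ℕ} [hp : Fact p.Prime]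
  [CharP k p]
variable (D : OrderPData G k p)

local notation "Cx" => Subgroup.centralizer (Singleton.singleton (OrderPData.x D) : Set G)

/-- The sum of the powers of `x`. -/
noncomputable def Sx : MonoidAlgebra k G := ∑ i ∈ Finset.range p, of k G D.x ^ i

theorem Sx_eq : D.Sx = (of k G D.x - 1) ^ (p - 1) := by
  have hpoly : ∑ i ∈ Finset.range p, (Polynomial.X : Polynomial k) ^ i =
      (Polynomial.X - 1) ^ (p - 1) := by
    refine mul_right_cancel₀ (Polynomial.X_sub_C_ne_zero 1) ?_
    rw [map_one, geom_sum_mul, ← pow_succ, Nat.sub_add_cancel hp.out.one_le, sub_pow_char, one_pow]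
  have h := congrArg (Polynomial.aeval (of k G D.x)) hpoly
  simp only [map_sum, map_pow, map_sub, Polynomial.aeval_X, map_one] at h
  rw [Sx, ← h]

theorem of_x_pow_p : of k G D.x ^ p = 1 := by
  rw [← map_pow, show D.x ^ p = 1 by simpa [D.hxo] using pow_orderOf_eq_one D.x, map_one]

theorem x_e : of k G D.x * D.e = D.e * of k G D.x :=
  D.heT _ (D.hCT DefectOne.mem_cen_self)

theorem Sx_mul_sub : D.Sx * (of k G D.x - 1) = 0 := by
  rw [Sx, geom_sum_mul, D.of_x_pow_p, sub_self]

/-- The uniserial generator. -/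
noncomputable def X : MonoidAlgebra k G := (of k G D.x - 1) * D.e

theorem commute_sub_e : Commute (of k G D.x - 1) D.e :=
  Commute.sub_left D.x_e (Commute.one_left _)

theorem e_X : D.e * D.X = D.X := by
  rw [X, ← mul_assoc, ← D.commute_sub_e.eq, mul_assoc, D.hee]

theorem X_pow {n : ℕ} (hn : n ≠ 0) : D.X ^ n = (of k G D.x - 1) ^ n * D.e := by
  rw [X, D.commute_sub_e.mul_pow]
  congr 1
  obtain ⟨m, rfl⟩ := Nat.exists_eq_succ_of_ne_zero hn
  exact IsIdempotentElem.pow_succ_eq m D.hee

theorem Sx_mul_X : D.Sx * D.X = 0 := by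
  rw [X, ← mul_assoc, D.Sx_mul_sub, zero_mul]

theorem commute_e_of_supp {a : MonoidAlgebra k G} (ha : SuppIn D.T a) : a * D.e = D.e * a := by
  classical
  have := Fintype.ofFinite G
  rw [eq_sum_of_suppIn ha, Finset.sum_mul, Finset.mul_sum]
  exact Finset.sum_congr rfl fun g hg => by
    rw [smul_mul_assoc, mul_smul_comm, D.heT g (Finset.mem_filter.1 hg).2]

theorem hOT : D.O ≤ D.T := D.hOC.trans D.hCT

theorem suppIn_X : SuppIn Cx D.X :=
  suppIn_mul (suppIn_sub (suppIn_of DefectOne.mem_cen_self) (suppIn_one _))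
    (suppIn_mono D.hOC D.heO)

/-- Elements of the centralizer commute with `x`. -/
theorem of_x_comm {a : MonoidAlgebra k G} (ha : SuppIn Cx a) :
    a * of k G D.x = of k G D.x * a := by
  classical
  have := Fintype.ofFinite G
  rw [eq_sum_of_suppIn ha, Finset.sum_mul, Finset.mul_sum]
  exact Finset.sum_congr rfl fun g hg => by
    rw [smul_mul_assoc, mul_smul_comm, ← map_mul, ← map_mul,
      Subgroup.mem_centralizer_singleton_iff.1 (Finset.mem_filter.1 hg).2]

theorem X_comm {a : MonoidAlgebra k G} (ha : SuppIn Cx a) : a * D.X = D.X * a := by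
  have h1 : a * (of k G D.x - 1) = (of k G D.x - 1) * a := by
    rw [mul_sub, sub_mul, mul_one, one_mul, D.of_x_comm ha]
  rw [X, ← mul_assoc, h1, mul_assoc, D.commute_e_of_supp (suppIn_mono D.hCT ha), mul_assoc]

/-- The decomposition of an element supported in the centralizer. -/
theorem exists_expansion [Fintype G] {a : MonoidAlgebra k G} (ha : SuppIn Cx a) :
    ∃ c : ℕ → MonoidAlgebra k G, (∀ i, SuppIn D.O (c i)) ∧
      a = ∑ i ∈ Finset.range p, of k G D.x ^ i * c i := by
  classical
  refine ⟨fun i => projT D.O (of k G (D.x ^ i)⁻¹ * a), fun i => suppIn_projT _ _, ?_⟩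
  ext g
  rw [coeff_sum, Finsupp.finsetSum_apply]
  have hterm : ∀ i, (of k G D.x ^ i * projT D.O (of k G (D.x ^ i)⁻¹ * a)).coeff g =
      if (D.x ^ i)⁻¹ * g ∈ D.O then a.coeff g else 0 := fun i => by
    rw [← map_pow, of_apply, coeff_single_mul_apply, one_mul, coeff_projT, of_apply,
      coeff_single_mul_apply, one_mul, inv_inv, mul_inv_cancel_left]
  rw [Finset.sum_congr rfl fun i _ => hterm i]
  by_cases hg : g ∈ Cx
  · obtain ⟨i, y, hy, hyr, rfl⟩ := DefectOne.exists_decomp D.hxo D.hsq hg
    rw [Finset.sum_eq_single i.val]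
    · rw [if_pos]
      rw [inv_mul_cancel_left]
      exact (D.hOmem y hy).2 hyr
    · intro j hj hne
      rw [if_neg]
      intro hmem
      apply hne
      have hjC := D.hOC hmem
      have h : D.x ^ i.val * y = D.x ^ ((j : ZMod p)).val * ((D.x ^ j)⁻¹ * (D.x ^ i.val * y)) := by
        rw [DefectOne.pow_val_natCast D.hxo, mul_inv_cancel_left]
      have hji := (DefectOne.decomp_unique D.hxo D.hsq hy hjC hyr ((D.hOmem _ hjC).1 hmem) h).1
      rw [hji, ZMod.val_natCast, Nat.mod_eq_of_lt (Finset.mem_range.1 hj)]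
    · intro h
      exact absurd (Finset.mem_range.2 (ZMod.val_lt i)) h
  · rw [ha g hg]
    exact (Finset.sum_eq_zero fun i _ => by split <;> rfl).symm

theorem x_pow_e (i : ℕ) :
    of k G D.x ^ i * D.e = ∑ l ∈ Finset.range (i + 1), (i.choose l : k) • (D.X ^ l * D.e) := by
  conv_lhs => rw [show of k G D.x = (of k G D.x - 1) + 1 by rw [sub_add_cancel],
    (Commute.one_right _).add_pow, Finset.sum_mul]
  refine Finset.sum_congr rfl fun l _ => ?_
  rw [one_pow, mul_one, ← nsmul_eq_mul', smul_mul_assoc, ← Nat.cast_smul_eq_nsmul k]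
  congr 1
  rcases eq_or_ne l 0 with rfl | hl
  · simp
  · rw [D.X_pow hl, mul_assoc, D.hee]

theorem e_E00 : D.e * D.E 0 0 = D.E 0 0 := D.heE 0 0

theorem exists_eps_scalar {a : MonoidAlgebra k G} (ha : SuppIn D.O a) :
    ∃ f : k, D.E 0 0 * a * D.E 0 0 = f • D.E 0 0 := by
  classical
  obtain ⟨c, hc⟩ := D.hspan a ha
  refine ⟨c 0 0, ?_⟩
  have h : D.E 0 0 * a = D.E 0 0 * (D.e * a) := by
    rw [← mul_assoc, D.commute_e_of_supp (suppIn_mono D.hOT (D.hEO 0 0)), D.e_E00]
  rw [h, hc]
  simp [Finset.mul_sum, Finset.sum_mul, mul_smul_comm, smul_mul_assoc, D.hEmul]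

theorem natCast_card_O_ne_zero : (Nat.card D.O : k) ≠ 0 := by
  intro h
  rw [CharP.cast_eq_zero_iff k p] at h
  obtain ⟨y, hy⟩ := exists_prime_orderOf_dvd_card' (G := D.O) p h
  exact (D.hOmem (y : G) (D.hOC y.2)).1 y.2 (by rw [Subgroup.orderOf_coe, hy])

/-- The stable data. -/
theorem exists_stableData :
    ∃ S : StableData G k p, S.T = D.T ∧ S.C = Cx ∧ S.b = D.e ∧ S.X = D.X ∧ S.q = p ∧
      S.eps = D.E 0 0 := by
  classical
  have := Fintype.ofFinite G
  have hCe : SuppIn Cx D.e := suppIn_mono D.hOC D.heO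
  have hxC : D.x ∈ Cx := DefectOne.mem_cen_self
  have hconj : ∀ t ∈ D.T, ∃ j : ℕ, t * D.x * t⁻¹ = D.x ^ j := fun t ht => by
    obtain ⟨j, hj⟩ := mem_powers_iff_mem_zpowers.2
      ((Subgroup.mem_normalizer_iff.1 (D.hTN ht) D.x).1 (Subgroup.mem_zpowers D.x))
    exact ⟨j, hj.symm⟩
  have hgeom : ∀ j : ℕ, of k G D.x ^ j - 1 =
      (of k G D.x - 1) * ∑ i ∈ Finset.range j, of k G D.x ^ i := fun j => (mul_geom_sum _ _).symm
  have hgeomT : ∀ j : ℕ, SuppIn D.T (∑ i ∈ Finset.range j, of k G D.x ^ i) := fun j =>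
    Finset.sum_induction _ (SuppIn D.T) (fun _ _ => suppIn_add) (suppIn_zero _)
      fun i _ => suppIn_pow (suppIn_of (D.hCT hxC)) i
  have hnorm : ∀ t ∈ D.T, ∀ c ∈ Cx, t * c * t⁻¹ ∈ Cx := fun t ht c hc => by
    obtain ⟨j, hj⟩ := hconj t⁻¹ (inv_mem ht)
    rw [inv_inv] at hj
    have h1 : Commute c (t⁻¹ * D.x * t) :=
      hj ▸ Commute.pow_right (Subgroup.mem_centralizer_singleton_iff.1 hc) j
    rw [Subgroup.mem_centralizer_singleton_iff]
    calc t * c * t⁻¹ * D.x = t * (c * (t⁻¹ * D.x * t)) * t⁻¹ := by group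
      _ = D.x * (t * c * t⁻¹) := by rw [h1.eq]; group
  refine ⟨
    { T := D.T
      C := Cx
      D := Subgroup.zpowers D.x
      hCT := D.hCT
      hDC := DefectOne.zpowers_le_cen
      hnorm := hnorm
      hidx := ?_
      b := D.e
      hbC := hCe
      hbb := D.hee
      hbT := D.heT
      X := D.X
      hXC := D.suppIn_X
      hXb := by rw [X, mul_assoc, D.hee]
      hXcomm := fun c hc => by
        rw [mul_assoc, D.X_comm (suppIn_of hc), ← mul_assoc, D.e_X]
      hXT := ?_
      hXT' := ?_
      q := p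
      hq := hp.out.two_le
      hXq := by
        have h := D.Sx_mul_sub
        rw [D.Sx_eq, ← pow_succ, Nat.sub_add_cancel hp.out.one_le] at h
        rw [D.X_pow hp.out.ne_zero, h, zero_mul]
      hann := ?_
      eps := D.E 0 0
      hepsC := suppIn_mono D.hOC (D.hEO 0 0)
      hee := by rw [D.hEmul, if_pos rfl]
      hepsb := by rw [D.commute_e_of_supp (suppIn_mono D.hOT (D.hEO 0 0)), D.e_E00]
      heps := ?_
      hfull := ⟨D.n + 1, fun i => D.E i 0, fun i => D.E 0 i,
        fun i => suppIn_mono D.hOC (D.hEO i 0), fun i => suppIn_mono D.hOC (D.hEO 0 i), by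
          simp only [D.hEmul, if_pos]
          exact D.hEsum.symm⟩
      β := (Nat.card D.O : k)⁻¹ • D.e
      hβC := suppIn_smul _ hCe
      hβD := fun y hy => by
        rw [mul_smul_comm, smul_mul_assoc, D.heT y (D.hCT (DefectOne.zpowers_le_cen hy))]
      hβ := ?_
      hTI := ?_ }, rfl, rfl, rfl, rfl, rfl, rfl⟩
  · -- the index
    intro hdvd
    apply D.hsq
    rw [pow_two]
    have h1 : p ∣ Nat.card Cx := by
      have h := orderOf_dvd_natCard (⟨D.x, hxC⟩ : Cx)
      rwa [Subgroup.orderOf_mk, D.hxo] at h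
    have h2 : Nat.card Cx * Subgroup.relIndex Cx D.T = Nat.card D.T := by
      rw [Subgroup.relIndex, ← Nat.card_congr (Subgroup.subgroupOfEquivOfLe D.hCT).toEquiv,
        Subgroup.card_mul_index]
    exact (Nat.mul_dvd_mul h1 hdvd).trans (h2 ▸ Subgroup.card_subgroup_dvd_card D.T)
  · intro t ht
    obtain ⟨j, hj⟩ := hconj t ht
    refine ⟨(∑ i ∈ Finset.range j, of k G D.x ^ i) * of k G t * D.e,
      suppIn_mul (suppIn_mul (hgeomT j) (suppIn_of ht)) (suppIn_mono D.hOT D.heO), ?_⟩
    calc of k G t * D.X = (of k G t * (of k G D.x - 1)) * D.e := by rw [X, mul_assoc]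
      _ = ((of k G D.x ^ j - 1) * of k G t) * D.e := by
          rw [sub_mul, mul_sub, ← map_pow, ← map_mul, ← map_mul, ← hj, inv_mul_cancel_right,
            mul_one, one_mul]
      _ = (of k G D.x - 1) * ((∑ i ∈ Finset.range j, of k G D.x ^ i) * of k G t) * D.e := by
          rw [hgeom]; simp only [mul_assoc]
      _ = (of k G D.x - 1) * D.e * ((∑ i ∈ Finset.range j, of k G D.x ^ i) * of k G t * D.e) := by
          rw [mul_assoc (of k G D.x - 1) D.e, ← mul_assoc D.e, ← D.commute_e_of_supp (suppIn_mul (hgeomT j) (suppIn_of ht))]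
          simp only [mul_assoc, D.hee]
  · intro t ht
    obtain ⟨j, hj⟩ := hconj t⁻¹ (inv_mem ht)
    rw [inv_inv] at hj
    refine ⟨of k G t * (∑ i ∈ Finset.range j, of k G D.x ^ i) * D.e,
      suppIn_mul (suppIn_mul (suppIn_of ht) (hgeomT j)) (suppIn_mono D.hOT D.heO), ?_⟩
    calc D.X * of k G t = ((of k G D.x - 1) * of k G t) * D.e := by
          rw [X, mul_assoc, ← D.heT t ht, mul_assoc]
      _ = (of k G t * (of k G D.x ^ j - 1)) * D.e := by
          rw [sub_mul, mul_sub, ← map_pow, ← map_mul, ← map_mul, ← hj, mul_one, one_mul]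
          congr 3
          group
      _ = of k G t * ((∑ i ∈ Finset.range j, of k G D.x ^ i) * (of k G D.x - 1)) * D.e := by
          rw [geom_sum_mul]
      _ = of k G t * (∑ i ∈ Finset.range j, of k G D.x ^ i) * D.e *
          ((of k G D.x - 1) * D.e) := by
          rw [mul_assoc (of k G t * _) D.e, ← mul_assoc D.e (of k G D.x - 1), ← D.commute_sub_e.eq]
          simp only [mul_assoc, D.hee]
  · -- annihilators
    intro a haC hea hXa
    have hxa : of k G D.x * a = a := by
      rw [X, mul_assoc, hea, sub_mul, one_mul, sub_eq_zero] at hXa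
      exact hXa
    have hpow : ∀ i : ℕ, of k G (D.x ^ i) * a = a := fun i => by
      induction i with
      | zero => rw [pow_zero, map_one, one_mul]
      | succ i ih => rw [pow_succ, map_mul, mul_assoc, hxa, ih]
    obtain ⟨c, hc, hac⟩ := D.exists_expansion haC
    have ha0 : a = D.Sx * projT D.O a := by
      rw [Sx, Finset.sum_mul]
      ext g
      rw [coeff_sum, Finsupp.finsetSum_apply]
      have hterm : ∀ i, (of k G D.x ^ i * projT D.O a).coeff g =
          if (D.x ^ i)⁻¹ * g ∈ D.O then a.coeff g else 0 := fun i => by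
        rw [← map_pow, of_apply, coeff_single_mul_apply, one_mul, coeff_projT]
        split_ifs
        · conv_rhs => rw [← hpow i, of_apply, coeff_single_mul_apply, one_mul]
        · rfl
      rw [Finset.sum_congr rfl fun i _ => hterm i]
      by_cases hg : g ∈ Cx
      · obtain ⟨i, y, hy, hyr, rfl⟩ := DefectOne.exists_decomp D.hxo D.hsq hg
        rw [Finset.sum_eq_single i.val]
        · rw [if_pos]
          rw [inv_mul_cancel_left]
          exact (D.hOmem y hy).2 hyr
        · intro j hj hne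
          rw [if_neg]
          intro hmem
          apply hne
          have hjC := D.hOC hmem
          have h : D.x ^ i.val * y =
              D.x ^ ((j : ZMod p)).val * ((D.x ^ j)⁻¹ * (D.x ^ i.val * y)) := by
            rw [DefectOne.pow_val_natCast D.hxo, mul_inv_cancel_left]
          have hji := (DefectOne.decomp_unique D.hxo D.hsq hy hjC hyr ((D.hOmem _ hjC).1 hmem) h).1
          rw [hji, ZMod.val_natCast, Nat.mod_eq_of_lt (Finset.mem_range.1 hj)]
        · intro h
          exact absurd (Finset.mem_range.2 (ZMod.val_lt i)) h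
      · rw [haC g hg]
        exact (Finset.sum_eq_zero fun i _ => by split <;> rfl).symm
    refine ⟨projT D.O a, suppIn_mono D.hOC (suppIn_projT _ _), ?_⟩
    rw [D.X_pow (by have := hp.out.two_le; omega), ← D.Sx_eq]
    conv_lhs => rw [← hea, ha0, ← mul_assoc, ← D.commute_e_of_supp (a := D.Sx)
      (Finset.sum_induction _ (SuppIn D.T) (fun _ _ => suppIn_add) (suppIn_zero _)
        fun i _ => suppIn_pow (suppIn_of (D.hCT hxC)) i : SuppIn D.T D.Sx)]
  · -- primitivity of the matrix unit
    intro a ha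
    obtain ⟨c, hc, rfl⟩ := D.exists_expansion ha
    choose f hf using fun i => D.exists_eps_scalar (hc i)
    refine ⟨fun l => ∑ i ∈ Finset.range p, f i * (i.choose l : k), ?_⟩
    rw [Finset.mul_sum, Finset.sum_mul]
    have hterm : ∀ i ∈ Finset.range p, D.E 0 0 * (of k G D.x ^ i * c i) * D.E 0 0 =
        ∑ l ∈ Finset.range p, (f i * (i.choose l : k)) • (D.X ^ l * D.E 0 0) := by
      intro i hi
      have hcomm : D.E 0 0 * of k G D.x ^ i = of k G D.x ^ i * D.E 0 0 :=
        (Commute.pow_right (D.of_x_comm (suppIn_mono D.hOC (D.hEO 0 0))) i).eq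
      rw [← mul_assoc, hcomm, mul_assoc, mul_assoc, ← mul_assoc (D.E 0 0), hf i, mul_smul_comm,
        ← D.e_E00, ← mul_assoc, D.x_pow_e, Finset.sum_mul, Finset.smul_sum,
        Finset.sum_subset (Finset.range_subset_range.2
          (show i + 1 ≤ p by have := Finset.mem_range.1 hi; omega))]
      · refine Finset.sum_congr rfl fun l _ => ?_
        rw [smul_mul_assoc, smul_smul, mul_assoc, D.e_E00]
      · intro l hl hl'
        rw [Nat.choose_eq_zero_of_lt (by simpa using hl'), Nat.cast_zero, zero_smul, zero_mul,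
          smul_zero]
    rw [Finset.sum_congr rfl hterm, Finset.sum_comm]
    exact Finset.sum_congr rfl fun l _ => (Finset.sum_smul).symm
  · -- the relative trace
    intro V hV hVC
    have hcard : (V.card : k) = (Nat.card D.O : k) := by
      congr 1
      let D' := (Subgroup.zpowers D.x).subgroupOf Cx
      rw [← Nat.card_eq_finsetCard]
      refine (Nat.card_eq_of_bijective (fun y : D.O => (⟨(hV (y : G) (D.hOC y.2)).exists.choose,
        (hV (y : G) (D.hOC y.2)).exists.choose_spec.1⟩ : V)) ⟨?_, ?_⟩).symm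
      · intro y y' h
        have h' := congrArg Subtype.val h
        simp only at h'
        have h1 := (hV (y : G) (D.hOC y.2)).exists.choose_spec.2
        have h2 := (hV (y' : G) (D.hOC y'.2)).exists.choose_spec.2
        rw [← h'] at h2
        have h3 := mul_mem (inv_mem h1) h2
        rw [mul_inv_rev, inv_inv, mul_assoc, mul_inv_cancel_left] at h3
        obtain ⟨j, hj⟩ := mem_powers_iff_mem_zpowers.2 h3
        have hmem : D.x ^ ((j : ZMod p)).val ∈ D.O := by
          rw [DefectOne.pow_val_natCast D.hxo, show D.x ^ j = (y : G)⁻¹ * y' from hj]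
          exact mul_mem (inv_mem y.2) y'.2
        have hjC := D.hOC hmem
        have he : D.x ^ ((j : ZMod p)).val * 1 =
            D.x ^ (0 : ZMod p).val * D.x ^ ((j : ZMod p)).val := by
          rw [ZMod.val_zero, pow_zero, one_mul, mul_one]
        have h0 := (DefectOne.decomp_unique D.hxo D.hsq (one_mem _) hjC
          (by rw [orderOf_one]; exact hp.out.not_dvd_one) ((D.hOmem _ hjC).1 hmem) he).2
        rw [DefectOne.pow_val_natCast D.hxo, show D.x ^ j = (y : G)⁻¹ * y' from hj] at h0
        exact Subtype.ext (inv_mul_eq_one.1 h0.symm)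
      · rintro ⟨d, hd⟩
        obtain ⟨i, y, hy, hyr, hdy⟩ := DefectOne.exists_decomp D.hxo D.hsq (hVC d hd)
        refine ⟨⟨y, (D.hOmem y hy).2 hyr⟩, Subtype.ext ?_⟩
        refine (hV y hy).unique (hV y hy).exists.choose_spec ⟨hd, ?_⟩
        show d⁻¹ * y ∈ _
        rw [hdy, mul_inv_rev, mul_assoc, (Commute.pow_left
          (Subgroup.mem_centralizer_singleton_iff.1 hy).symm i.val).inv_left.eq, inv_mul_cancel_left]
        exact inv_mem (pow_mem (Subgroup.mem_zpowers _) _)
    rw [Finset.sum_congr rfl (g := fun _ => (Nat.card D.O : k)⁻¹ • D.e) fun d hd => ?_,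
      Finset.sum_const, ← Nat.cast_smul_eq_nsmul k, smul_smul, hcard,
      mul_inv_cancel₀ D.natCast_card_O_ne_zero, one_smul]
    rw [mul_smul_comm, smul_mul_assoc, D.heT d (D.hCT (hVC d hd)), mul_assoc, ← map_mul,
      mul_inv_cancel, map_one, mul_one]
  · -- trivial intersections
    intro g hg
    by_cases hgN : g ∈ Subgroup.normalizer ((Subgroup.zpowers D.x : Subgroup G) : Set G)
    · exact Or.inl (D.hoff g hgN hg)
    · refine Or.inr fun y hy hyg => ?_
      by_contra hy1
      apply hgN
      have : Fact (Nat.card (Subgroup.zpowers D.x)).Prime :=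
        ⟨by rw [Nat.card_zpowers, D.hxo]; exact hp.out⟩
      have hgen : ∀ {z : G}, z ∈ Subgroup.zpowers D.x → z ≠ 1 →
          Subgroup.zpowers z = Subgroup.zpowers D.x := by
        intro z hz hz1
        refine Subgroup.eq_of_le_of_card_ge (Subgroup.zpowers_le.2 hz) ?_
        rw [Nat.card_zpowers, Nat.card_zpowers, D.hxo]
        refine Nat.le_of_dvd (orderOf_pos z) ?_
        have h1 : orderOf z ∣ p := by
          rw [← Subgroup.orderOf_mk z hz]
          exact (orderOf_dvd_natCard _).trans (by rw [Nat.card_zpowers, D.hxo])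
        rcases (Nat.dvd_prime hp.out).1 h1 with h | h
        · exact absurd (orderOf_eq_one_iff.1 h) hz1
        · rw [h]
      have hy2 : g⁻¹ * y * g ≠ 1 := fun h => hy1 (by
        have := congrArg (fun z => g * z * g⁻¹) h
        simpa [mul_assoc] using this)
      have hmap : (Subgroup.zpowers D.x).map (MulAut.conj g⁻¹).toMonoidHom =
          Subgroup.zpowers D.x := by
        conv_lhs => rw [← hgen hy hy1]
        rw [MonoidHom.map_zpowers, ← hgen hyg hy2]
        congr 1
        simp [mul_assoc]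
      rw [Subgroup.mem_normalizer_iff]
      intro z
      have hz := Subgroup.mem_map_iff_mem (f := (MulAut.conj g⁻¹).toMonoidHom)
        (MulAut.conj g⁻¹).injective (K := Subgroup.zpowers D.x) (x := g * z * g⁻¹)
      rw [hmap] at hz
      simpa [mul_assoc] using hz

end OrderPData

end CfsgLib.Block
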