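import Cfsg.Agent.Lib.Block.OrderPData
import Mathlib.RingTheory.RootsOfUnity.AlgebraicallyClosed
import Mathlib.RingTheory.IntegralDomain

/-!
The weights of the stable data of an element of order `p`: one for each character of `T / C`.
-/

set_option autoImplicit false
set_option linter.unusedSectionVars false

namespace CfsgLib.Block

open MonoidAlgebra

universe u v

namespace OrderPData

variable {G : Type u} [Group G] [Finite G] {k : Type v} [Field k] {p : ℕ} [hp : Fact p.Prime]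
  [CharP k p]
variable (D : OrderPData G k p)

local notation "Cx" => Subgroup.centralizer (Singleton.singleton (OrderPData.x D) : Set G)

theorem conj_mem_cen {t : G} (ht : t ∈ D.T) {c : G} (hc : c ∈ Cx) : t * c * t⁻¹ ∈ Cx := by
  obtain ⟨j, hj⟩ := mem_powers_iff_mem_zpowers.2
    ((Subgroup.mem_normalizer_iff.1 (D.hTN (inv_mem ht)) D.x).1 (Subgroup.mem_zpowers D.x))
  rw [inv_inv] at hj
  have h1 : Commute c (t⁻¹ * D.x * t) := by
    rw [← show D.x ^ j = t⁻¹ * D.x * t from hj]
    exact Commute.pow_right (Subgroup.mem_centralizer_singleton_iff.1 hc) j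
  rw [Subgroup.mem_centralizer_singleton_iff]
  calc t * c * t⁻¹ * D.x = t * (c * (t⁻¹ * D.x * t)) * t⁻¹ := by group
    _ = D.x * (t * c * t⁻¹) := by rw [h1.eq]; group

theorem conj_mem_O {t : G} (ht : t ∈ D.T) {y : G} (hy : y ∈ D.O) : t * y * t⁻¹ ∈ D.O := by
  refine (D.hOmem _ (D.conj_mem_cen ht (D.hOC hy))).2 ?_
  rw [show orderOf (t * y * t⁻¹) = orderOf y from
    orderOf_injective (MulAut.conj t).toMonoidHom (MulAut.conj t).injective y]
  exact (D.hOmem y (D.hOC hy)).1 hy

theorem suppIn_conj {t : G} (ht : t ∈ D.T) {a : MonoidAlgebra k G} (ha : SuppIn D.O a) :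
    SuppIn D.O (of k G t * a * of k G t⁻¹) := by
  intro g hg
  rw [of_apply, of_apply, coeff_mul_single_apply, coeff_single_mul_apply, inv_inv, mul_one, one_mul]
  refine ha _ fun h => hg ?_
  have := D.conj_mem_O ht h
  simpa [mul_assoc] using this

/-- A regular generator of `T` modulo the centralizer. -/
theorem exists_generator : ∃ γ ∈ D.T,
    γ ^ Subgroup.relIndex Cx D.T ∈ D.O ∧
    (∀ l < Subgroup.relIndex Cx D.T, γ ^ l ∈ Cx → l = 0) ∧
    ∀ t ∈ D.T, ∃ c ∈ Cx, ∃ l < Subgroup.relIndex Cx D.T, t = c * γ ^ l := by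
  classical
  set C' := (Subgroup.centralizer ({D.x} : Set G)).subgroupOf D.T with hC'
  have : C'.Normal := ⟨fun c hc t => Subgroup.mem_subgroupOf.2
    (D.conj_mem_cen t.2 (Subgroup.mem_subgroupOf.1 hc))⟩
  have key : ∀ t : D.T, ∃ a : ZMod p, (t : G) * D.x * (t : G)⁻¹ = D.x ^ a.val := fun t => by
    obtain ⟨j, hj⟩ := mem_powers_iff_mem_zpowers.2
      ((Subgroup.mem_normalizer_iff.1 (D.hTN t.2) D.x).1 (Subgroup.mem_zpowers D.x))
    exact ⟨(j : ZMod p), by rw [DefectOne.pow_val_natCast D.hxo]; exact hj.symm⟩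
  choose a ha using key
  let f : D.T →* ZMod p :=
    { toFun := a
      map_one' := DefectOne.pow_val_inj D.hxo (by
        rw [← ha 1, ZMod.val_one, pow_one, Subgroup.coe_one, one_mul, inv_one, mul_one])
      map_mul' := fun s t => DefectOne.pow_val_inj D.hxo (by
        rw [← ha (s * t), ← DefectOne.pow_val_mul D.hxo, ← ha s, conj_pow, ← ha t, Subgroup.coe_mul]
        group) }
  have hker : ∀ t : D.T, f t = 1 ↔ t ∈ C' := by
    intro t
    rw [Subgroup.mem_subgroupOf, Subgroup.mem_centralizer_singleton_iff]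
    constructor
    · intro h
      have h' := ha t
      rw [show a t = 1 from h, ZMod.val_one, pow_one, mul_inv_eq_iff_eq_mul] at h'
      exact h'
    · intro h
      refine DefectOne.pow_val_inj D.hxo ?_
      rw [ZMod.val_one, pow_one]
      exact (ha t).symm.trans (by rw [h, mul_inv_cancel_right])
  let f' : (D.T ⧸ C') →* ZMod p := QuotientGroup.lift C' f fun t ht => (hker t).2 ht
  have : IsCyclic (D.T ⧸ C') := isCyclic_of_injective_ringHom f' (by
    intro q₁ q₂
    obtain ⟨s, rfl⟩ := QuotientGroup.mk_surjective q₁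
    obtain ⟨t, rfl⟩ := QuotientGroup.mk_surjective q₂
    intro h
    change f s = f t at h
    refine QuotientGroup.eq.2 ((hker _).1 ?_)
    rw [map_mul, ← h, ← map_mul, inv_mul_cancel, map_one])
  obtain ⟨q, hq⟩ := IsCyclic.exists_generator (α := D.T ⧸ C')
  obtain ⟨g, rfl⟩ := QuotientGroup.mk_surjective q
  have hm : Nat.card (D.T ⧸ C') = Subgroup.relIndex Cx D.T := rfl
  have hpm : ¬ p ∣ Nat.card (D.T ⧸ C') := by
    intro h
    apply D.hsq
    rw [pow_two]
    have h1 : p ∣ Nat.card C' := by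
      rw [Nat.card_congr (Subgroup.subgroupOfEquivOfLe D.hCT).toEquiv]
      have h' := orderOf_dvd_natCard (⟨D.x, DefectOne.mem_cen_self⟩ : Cx)
      rwa [Subgroup.orderOf_mk, D.hxo] at h'
    refine (Nat.mul_dvd_mul h1 h).trans ?_
    rw [mul_comm, ← Subgroup.card_eq_card_quotient_mul_card_subgroup]
    exact Subgroup.card_subgroup_dvd_card D.T
  obtain ⟨u, hu⟩ := exists_isPPart hp.out g
  obtain ⟨y, huy, hcomm, ⟨i, hi⟩, hyr⟩ := hu
  have hu1 : ((u : D.T) : D.T ⧸ C') = 1 := by
    rw [← orderOf_eq_one_iff]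
    have h1 : orderOf ((u : D.T) : D.T ⧸ C') ∣ p ^ i :=
      hi ▸ orderOf_map_dvd (QuotientGroup.mk' C') u
    exact Nat.eq_one_of_dvd_coprimes
      ((hp.out.coprime_iff_not_dvd.2 hpm).pow_left i) h1 (orderOf_dvd_natCard _)
  have hyg : ((y : D.T) : D.T ⧸ C') = (g : D.T ⧸ C') := by
    rw [← huy, QuotientGroup.mk_mul, hu1, one_mul]
  have hord : orderOf ((y : D.T) : D.T ⧸ C') = Subgroup.relIndex Cx D.T := by
    rw [hyg, ← hm]
    exact orderOf_eq_card_of_forall_mem_zpowers hq
  refine ⟨(y : G), y.2, ?_, fun l hl hlC => ?_, fun t ht => ?_⟩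
  · have hC : (y ^ Subgroup.relIndex Cx D.T : D.T) ∈ C' := by
      rw [← QuotientGroup.eq_one_iff, QuotientGroup.mk_pow, ← hord, pow_orderOf_eq_one]
    have hC2 := Subgroup.mem_subgroupOf.1 hC
    rw [Subgroup.coe_pow] at hC2
    refine (D.hOmem _ hC2).2 fun h => hyr ?_
    rw [← Subgroup.orderOf_coe]
    exact h.trans (orderOf_pow_dvd _)
  · have h1 : ((y ^ l : D.T) : D.T ⧸ C') = 1 :=
      (QuotientGroup.eq_one_iff _).2 (Subgroup.mem_subgroupOf.2 (by simpa using hlC))
    rw [QuotientGroup.mk_pow, ← orderOf_dvd_iff_pow_eq_one, hord] at h1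
    exact Nat.eq_zero_of_dvd_of_lt h1 hl
  · obtain ⟨n, hn⟩ := mem_powers_iff_mem_zpowers.2 (hq ((⟨t, ht⟩ : D.T) : D.T ⧸ C'))
    set l := n % Subgroup.relIndex Cx D.T
    refine ⟨t * ((y : G) ^ l)⁻¹, ?_, l, Nat.mod_lt _ ?_, by rw [inv_mul_cancel_right]⟩
    · have h1 : ((⟨t, ht⟩ : D.T) : D.T ⧸ C') = ((y ^ l : D.T) : D.T ⧸ C') := by
        rw [← show ((g : D.T) : D.T ⧸ C') ^ n = ((⟨t, ht⟩ : D.T) : D.T ⧸ C') from hn,
          QuotientGroup.mk_pow, ← hyg]
        simp only [l, ← hord]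
        exact (pow_mod_orderOf _ _).symm
      have h2 := Subgroup.mem_subgroupOf.1 (QuotientGroup.eq.1 h1.symm)
      rw [Subgroup.coe_mul, Subgroup.coe_inv, Subgroup.coe_pow] at h2
      have h3 := D.conj_mem_cen (t := (y : G) ^ l) (pow_mem y.2 l) h2
      rwa [← mul_assoc, mul_inv_cancel, one_mul] at h3
    · rw [← hm]; exact Nat.card_pos

/-- Skolem–Noether for the conjugation by an element of `T`. -/
theorem exists_intertwiner {t : G} (ht : t ∈ D.T) :
    ∃ v w : MonoidAlgebra k G, SuppIn D.O v ∧ SuppIn D.O w ∧ D.e * v = v ∧ D.e * w = w ∧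
      v * w = D.e ∧ w * v = D.e ∧
      ∀ a, SuppIn D.O a → D.e * a = a → v * (of k G t * a * of k G t⁻¹) = a * v := by
  classical
  set F := fun i j => of k G t * D.E i j * of k G t⁻¹ with hF
  have hFO : ∀ i j, SuppIn D.O (F i j) := fun i j => D.suppIn_conj ht (D.hEO i j)
  have hinv : of k G t⁻¹ * of k G t = 1 := by rw [← map_mul, inv_mul_cancel, map_one]
  have hinv' : of k G t * of k G t⁻¹ = 1 := by rw [← map_mul, mul_inv_cancel, map_one]
  have hFmul : ∀ i j l m, F i j * F l m = if j = l then F i m else 0 := fun i j l m => by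
    simp only [hF]
    rw [show of k G t * D.E i j * of k G t⁻¹ * (of k G t * D.E l m * of k G t⁻¹) =
      of k G t * (D.E i j * (of k G t⁻¹ * of k G t) * D.E l m) * of k G t⁻¹ by
        simp only [mul_assoc], hinv, mul_one, D.hEmul]
    split_ifs <;> simp
  have hFe : ∀ i j, D.e * F i j = F i j := fun i j => by
    simp only [hF, ← mul_assoc]
    rw [← D.heT t ht, mul_assoc (of k G t) D.e, D.heE]
  have hFsum : ∑ i, F i i = D.e := by
    simp only [hF, ← Finset.sum_mul, ← Finset.mul_sum, D.hEsum]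
    rw [D.heT t ht, mul_assoc, hinv', mul_one]
  obtain ⟨c, hc⟩ := D.hspan (F 0 0) (hFO 0 0)
  rw [hFe] at hc
  obtain ⟨a₀, b₀, hab⟩ : ∃ i j, c i j ≠ 0 := by
    by_contra h
    push Not at h
    apply D.hE0
    have h0 : F 0 0 = 0 := by simp [hc, h]
    have h1 : of k G t⁻¹ * F 0 0 * of k G t = D.E 0 0 := by
      simp only [hF, ← mul_assoc]
      rw [hinv, one_mul, mul_assoc, hinv, mul_one]
    rw [← h1, h0, mul_zero, zero_mul]
  -- `u ∈ F₀₀ A E₀₀`, `u' ∈ E₀₀ A F₀₀`
  set u := F 0 0 * D.E b₀ 0 with hu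
  set u' := (c a₀ b₀)⁻¹ • (D.E 0 a₀ * F 0 0) with hu'
  have huu : u' * u = D.E 0 0 := by
    rw [hu, hu', smul_mul_assoc, mul_assoc, ← mul_assoc (F 0 0) (F 0 0), hFmul, if_pos rfl, hc]
    simp [Finset.mul_sum, Finset.sum_mul, mul_smul_comm, smul_mul_assoc, D.hEmul, smul_smul,
      inv_mul_cancel₀ hab]
  have heu : u' * F 0 0 = u' := by
    rw [hu', smul_mul_assoc, mul_assoc, hFmul, if_pos rfl]
  have hFu : F 0 0 * u = u := by rw [hu, ← mul_assoc, hFmul, if_pos rfl]
  have huE : u * D.E 0 0 = u := by rw [hu, mul_assoc, D.hEmul, if_pos rfl]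
  have hEu : D.E 0 0 * u' = u' := by
    rw [hu', mul_smul_comm, ← mul_assoc, D.hEmul, if_pos rfl]
  set v := ∑ i, D.E i 0 * u' * F 0 i with hv
  set w := ∑ i, F i 0 * u * D.E 0 i with hw
  have hOu : SuppIn D.O u' := suppIn_smul _ (suppIn_mul (D.hEO _ _) (hFO _ _))
  have hOu2 : SuppIn D.O u := suppIn_mul (hFO _ _) (D.hEO _ _)
  have hvE : ∀ i j, v * F i j = D.E i 0 * u' * F 0 j := fun i j => by
    rw [hv, Finset.sum_mul, Finset.sum_eq_single i]
    · rw [mul_assoc, hFmul, if_pos rfl]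
    · intro l _ hl; rw [mul_assoc, hFmul, if_neg hl, mul_zero]
    · simp
  have hEv : ∀ i j, D.E i j * v = D.E i 0 * u' * F 0 j := fun i j => by
    rw [hv, Finset.mul_sum, Finset.sum_eq_single j]
    · rw [← mul_assoc (D.E i j), ← mul_assoc (D.E i j), D.hEmul, if_pos rfl]
    · intro l _ hl
      rw [← mul_assoc (D.E i j), ← mul_assoc (D.E i j), D.hEmul, if_neg (Ne.symm hl), zero_mul,
        zero_mul]
    · simp
  have hvw : v * w = D.e := by
    rw [hw, Finset.mul_sum, ← D.hEsum]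
    refine Finset.sum_congr rfl fun i _ => ?_
    rw [← mul_assoc, ← mul_assoc, hvE, mul_assoc (D.E i 0 * u'), hFu,
      mul_assoc (D.E i 0), huu, D.hEmul, if_pos rfl, D.hEmul, if_pos rfl]
  -- `u u' = F₀₀`
  obtain ⟨d, hd⟩ : ∃ d : k, u * u' = d • F 0 0 := by
    obtain ⟨s, hs⟩ := D.exists_eps_scalar (a := of k G t⁻¹ * (D.E b₀ 0 * D.E 0 a₀) * of k G t)
      (by simpa using D.suppIn_conj (inv_mem ht) (suppIn_mul (D.hEO b₀ 0) (D.hEO 0 a₀)))
    refine ⟨(c a₀ b₀)⁻¹ * s, ?_⟩
    rw [hu, hu', mul_smul_comm, ← smul_smul]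
    congr 1
    rw [hF]
    dsimp only
    calc of k G t * D.E 0 0 * of k G t⁻¹ * D.E b₀ 0 *
          (D.E 0 a₀ * (of k G t * D.E 0 0 * of k G t⁻¹))
        = of k G t * (D.E 0 0 * (of k G t⁻¹ * (D.E b₀ 0 * D.E 0 a₀) * of k G t) * D.E 0 0) *
            of k G t⁻¹ := by simp only [mul_assoc]
      _ = _ := by rw [hs, mul_smul_comm, smul_mul_assoc]
  have hd1 : d = 1 := by
    have h1 : u' * (u * u') = u' := by rw [← mul_assoc, huu, hEu]
    rw [hd, mul_smul_comm, heu] at h1
    have hu'0 : u' ≠ 0 := fun h => D.hE0 (by rw [← huu, h, zero_mul])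
    by_contra hne
    exact hne (smul_left_injective k hu'0 (h1.trans (one_smul k u').symm))
  rw [hd1, one_smul] at hd
  have hwv : w * v = D.e := by
    rw [hv, Finset.mul_sum, ← hFsum]
    refine Finset.sum_congr rfl fun i _ => ?_
    rw [hw, Finset.sum_mul, Finset.sum_eq_single i]
    · rw [mul_assoc (F i 0 * u), ← mul_assoc (D.E 0 i), ← mul_assoc (D.E 0 i), D.hEmul, if_pos rfl,
        hEu, ← mul_assoc, mul_assoc (F i 0), hd, hFmul, if_pos rfl, hFmul, if_pos rfl]
    · intro l _ hl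
      rw [mul_assoc (F l 0 * u), ← mul_assoc (D.E 0 l), ← mul_assoc (D.E 0 l), D.hEmul, if_neg hl,
        zero_mul, zero_mul, mul_zero]
    · simp
  refine ⟨v, w, ?_, ?_, ?_, ?_, hvw, hwv, fun a ha hea => ?_⟩
  · exact Finset.sum_induction _ (SuppIn D.O) (fun _ _ => suppIn_add) (suppIn_zero _) fun i _ =>
      suppIn_mul (suppIn_mul (D.hEO _ _) hOu) (hFO _ _)
  · exact Finset.sum_induction _ (SuppIn D.O) (fun _ _ => suppIn_add) (suppIn_zero _) fun i _ =>
      suppIn_mul (suppIn_mul (hFO _ _) hOu2) (D.hEO _ _)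
  · simp only [hv, Finset.mul_sum, ← mul_assoc, D.heE]
  · simp only [hw, Finset.mul_sum, ← mul_assoc, hFe]
  · obtain ⟨c', hc'⟩ := D.hspan a ha
    rw [hea] at hc'
    have hconj : of k G t * a * of k G t⁻¹ = ∑ i, ∑ j, c' i j • F i j := by
      simp only [hc', hF, Finset.mul_sum, Finset.sum_mul, mul_smul_comm, smul_mul_assoc]
    rw [hconj, hc']
    simp only [Finset.mul_sum, Finset.sum_mul, mul_smul_comm, smul_mul_assoc, hvE, hEv]

variable [IsAlgClosed k]

/-- A normalized element inducing the identity on the matrix algebra. -/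
theorem exists_weight_element {γ : G} (hγ : γ ∈ D.T) {m : ℕ} (hm : 0 < m) (hγm : γ ^ m ∈ D.O) :
    ∃ gh w : MonoidAlgebra k G, SuppIn D.O w ∧ D.e * of k G γ = w * gh ∧ D.e * gh = gh ∧
      gh * D.e = gh ∧ gh ^ m = D.e ∧
      (∀ a, SuppIn D.O a → D.e * a = a → a * gh = gh * a) ∧
      (∀ l, l ≠ 0 → ∃ v, SuppIn D.O v ∧ gh ^ l = v * of k G (γ ^ l)) := by
  classical
  obtain ⟨v, w, hvO, hwO, hev, hew, hvw, hwv, hint⟩ := D.exists_intertwiner hγ
  set g₁ := v * of k G γ with hg₁
  have hcomm : ∀ a, SuppIn D.O a → D.e * a = a → a * g₁ = g₁ * a := fun a ha hea => by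
    rw [hg₁, ← mul_assoc, ← hint a ha hea, mul_assoc v, mul_assoc v, mul_assoc (of k G γ * a),
      ← map_mul, inv_mul_cancel, map_one, mul_one]
  have hpow : ∀ l, l ≠ 0 → ∃ v', SuppIn D.O v' ∧ g₁ ^ l = v' * of k G (γ ^ l) := by
    intro l hl
    induction l with
    | zero => exact absurd rfl hl
    | succ l ih =>
      rcases eq_or_ne l 0 with rfl | hl0
      · exact ⟨v, hvO, by rw [zero_add, pow_one, pow_one, hg₁]⟩
      obtain ⟨v', hv', hl'⟩ := ih hl0
      refine ⟨v' * (of k G (γ ^ l) * v * of k G (γ ^ l)⁻¹),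
        suppIn_mul hv' (D.suppIn_conj (pow_mem hγ l) hvO), ?_⟩
      rw [pow_succ, hl', hg₁, pow_succ γ, map_mul]
      simp only [mul_assoc]
      rw [← mul_assoc (of k G (γ ^ l)⁻¹), ← map_mul, inv_mul_cancel, map_one, one_mul]
  have heg : D.e * g₁ = g₁ := by rw [hg₁, ← mul_assoc, hev]
  have hge : g₁ * D.e = g₁ := by
    rw [← hcomm _ D.heO D.hee, heg]
  obtain ⟨vm, hvm, hgm⟩ := hpow m hm.ne'
  have hA : SuppIn D.O (g₁ ^ m) := by rw [hgm]; exact suppIn_mul hvm (suppIn_of hγm)
  have hAe : D.e * g₁ ^ m = g₁ ^ m := by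
    obtain ⟨n, rfl⟩ := Nat.exists_eq_succ_of_ne_zero hm.ne'
    rw [pow_succ', ← mul_assoc, heg]
  have hscal : ∃ c : k, g₁ ^ m = c • D.e := by
    obtain ⟨c, hc⟩ := D.hspan _ hA
    rw [hAe] at hc
    have hcen : ∀ i j, g₁ ^ m * D.E i j = D.E i j * g₁ ^ m := fun i j =>
      ((Commute.pow_right (hcomm _ (D.hEO i j) (D.heE i j)) m).eq).symm
    refine ⟨c 0 0, ?_⟩
    calc g₁ ^ m = g₁ ^ m * ∑ i, D.E i i := by
          rw [D.hEsum, ← D.commute_e_of_supp (suppIn_mono D.hOT hA) |>.trans hAe]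
          rw [mul_assoc, D.hee]
      _ = ∑ i, D.E i 0 * g₁ ^ m * D.E 0 i := by
          rw [Finset.mul_sum]
          refine Finset.sum_congr rfl fun i _ => ?_
          rw [← hcen i 0, mul_assoc, D.hEmul, if_pos rfl]
      _ = c 0 0 • D.e := by
          rw [← D.hEsum, Finset.smul_sum]
          refine Finset.sum_congr rfl fun i _ => ?_
          rw [hc]
          simp [Finset.mul_sum, Finset.sum_mul, mul_smul_comm, smul_mul_assoc, D.hEmul]
  obtain ⟨c, hc⟩ := hscal
  have hc0 : c ≠ 0 := by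
    intro h
    rw [h, zero_smul] at hc
    apply D.hE0
    -- `g₁` is invertible in the corner
    have hri : g₁ * (of k G γ⁻¹ * w) = D.e := by
      rw [hg₁, mul_assoc, ← mul_assoc (of k G γ), ← map_mul, mul_inv_cancel, map_one, one_mul, hvw]
    have hall : ∀ l, g₁ ^ l * (D.e * (of k G γ⁻¹ * w) ^ l) = D.e := by
      intro l
      induction l with
      | zero => rw [pow_zero, pow_zero, one_mul, mul_one]
      | succ l ih =>
        have hTw : SuppIn D.T (of k G γ⁻¹ * w) :=
          suppIn_mul (suppIn_of (inv_mem hγ)) (suppIn_mono D.hOT hwO)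
        rw [pow_succ, pow_succ' (of k G γ⁻¹ * w), ← mul_assoc D.e, ← D.commute_e_of_supp hTw,
          mul_assoc (g₁ ^ l), ← mul_assoc g₁, ← mul_assoc g₁, hri, D.hee, ih]
    rw [← D.e_E00, ← hall m, hc, zero_mul, zero_mul]
  obtain ⟨r, hr⟩ := IsAlgClosed.exists_pow_nat_eq c⁻¹ hm
  have hr0 : r ≠ 0 := fun h => by
    rw [h, zero_pow hm.ne'] at hr
    exact inv_ne_zero hc0 hr.symm
  refine ⟨r • g₁, r⁻¹ • w, suppIn_smul _ hwO, ?_, by rw [mul_smul_comm, heg],
    by rw [smul_mul_assoc, hge], ?_, fun a ha hea => ?_, fun l hl => ?_⟩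
  · rw [smul_mul_smul_comm, inv_mul_cancel₀ hr0, one_smul, hg₁, ← mul_assoc, hwv]
  · rw [smul_pow, hc, smul_smul, hr, inv_mul_cancel₀ hc0, one_smul]
  · rw [mul_smul_comm, smul_mul_assoc, hcomm a ha hea]
  · obtain ⟨v', hv', h⟩ := hpow l hl
    exact ⟨r ^ l • v', suppIn_smul _ hv', by rw [smul_pow, h, smul_mul_assoc]⟩

/-- The weights. -/
theorem exists_weights :
    ∃ (S : StableData G k p) (η : Fin (Subgroup.relIndex Cx D.T) → MonoidAlgebra k G),
      S.T = D.T ∧ (∀ j, S.Weight (η j)) ∧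
      (∀ i j, i ≠ j → ∀ a, SuppIn S.T a → S.InI (η i * a * η j)) ∧
      ∀ Z : MonoidAlgebra k G, D.Sx * (Z * D.e) = D.Sx * D.e → ∀ j, ¬ S.InI (Z * η j) := by
  classical
  have := Fintype.ofFinite G
  obtain ⟨S, hST, -, hSb, hSX, -, -⟩ := D.exists_stableData
  obtain ⟨γ, hγ, hγm, hsep, hdec⟩ := D.exists_generator
  set m := Subgroup.relIndex Cx D.T with hm
  have hm0 : 0 < m := Nat.pos_of_ne_zero (Subgroup.index_ne_zero_of_finite)
  have hmk : (m : k) ≠ 0 := by
    intro h
    apply S.hidx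
    rw [CharP.cast_eq_zero_iff k p] at h
    have h1 : (Nat.card Cx * m : ℕ) = Nat.card D.T := by
      rw [hm, Subgroup.relIndex, ← Nat.card_congr (Subgroup.subgroupOfEquivOfLe D.hCT).toEquiv,
        Subgroup.card_mul_index]
    exfalso
    apply D.hsq
    rw [pow_two]
    have h2 : p ∣ Nat.card Cx := by
      have h' := orderOf_dvd_natCard (⟨D.x, DefectOne.mem_cen_self⟩ : Cx)
      rwa [Subgroup.orderOf_mk, D.hxo] at h'
    exact (Nat.mul_dvd_mul h2 h).trans (h1 ▸ Subgroup.card_subgroup_dvd_card D.T)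
  obtain ⟨gh, w, hwO, hwg, heg, hge, hghm, hcomm, hghpow⟩ := D.exists_weight_element hγ hm0 hγm
  have : NeZero (m : k) := ⟨hmk⟩
  have : NeZero m := ⟨hm0.ne'⟩
  obtain ⟨ζ, hζ⟩ := HasEnoughRootsOfUnity.exists_primitiveRoot k m
  have hghT : SuppIn D.T gh := by
    obtain ⟨v, hv, h⟩ := hghpow 1 one_ne_zero
    rw [pow_one, pow_one] at h
    rw [h]
    exact suppIn_mul (suppIn_mono D.hOT hv) (suppIn_of hγ)
  let g' : ℕ → MonoidAlgebra k G := fun l => D.e * gh ^ l
  have hg'T : ∀ l, SuppIn D.T (g' l) := fun l =>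
    suppIn_mul (suppIn_mono D.hOT D.heO) (suppIn_pow hghT l)
  have hcommpow : ∀ a, SuppIn D.O a → D.e * a = a → ∀ l, a * g' l = g' l * a := by
    intro a ha hea l
    simp only [g', ← mul_assoc]
    rw [D.commute_e_of_supp (suppIn_mono D.hOT ha), mul_assoc D.e, mul_assoc D.e,
      (Commute.pow_right (hcomm a ha hea) l).eq]
  have heg' : Commute D.e gh := (heg.trans hge.symm)
  have hgmul : ∀ i j, g' i * g' j = g' (i + j) := fun i j => by
    simp only [g']
    rw [pow_add, mul_assoc, ← mul_assoc (gh ^ i), ← (heg'.pow_right i).eq, ← mul_assoc,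
      ← mul_assoc, D.hee, mul_assoc]
  have hgper : ∀ i, g' (i % m) = g' i := fun i => by
    conv_rhs => rw [← Nat.mod_add_div i m]
    simp only [g']
    rw [pow_add, pow_mul, hghm]
    rcases eq_or_ne (i / m) 0 with h | h
    · rw [h, pow_zero, mul_one]
    · obtain ⟨n, hn⟩ := Nat.exists_eq_succ_of_ne_zero h
      rw [hn, IsIdempotentElem.pow_succ_eq n D.hee, ← (Commute.pow_right heg' (i % m)).eq,
        ← mul_assoc, D.hee]
  let ω : Fin m → k := fun j => (ζ ^ (j : ℕ))⁻¹
  have hωm : ∀ j, ω j ^ m = 1 := fun j => by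
    simp only [ω, inv_pow]
    rw [← pow_mul, mul_comm, pow_mul, hζ.pow_eq_one, one_pow, inv_one]
  let π : Fin m → MonoidAlgebra k G := fun j =>
    (m : k)⁻¹ • ∑ l ∈ Finset.range m, ω j ^ l • g' l
  have hπT : ∀ j, SuppIn D.T (π j) := fun j => suppIn_smul _ (Finset.sum_induction _ (SuppIn D.T)
    (fun _ _ => suppIn_add) (suppIn_zero _) fun l _ => suppIn_smul _ (hg'T l))
  have hgπ : ∀ j l, g' l * π j = (ω j)⁻¹ ^ l • π j := by
    intro j l
    have hω0 : ω j ≠ 0 := fun h => by simpa [h, zero_pow hm0.ne'] using hωm j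
    simp only [π, mul_smul_comm, Finset.mul_sum, Finset.smul_sum, smul_smul, hgmul]
    refine Finset.sum_bij (fun i _ => (l + i) % m) (fun i _ => Finset.mem_range.2 (Nat.mod_lt _ hm0))
      ?_ ?_ fun i _ => ?_
    · intro i hi i' hi' h
      rw [Finset.mem_range] at hi hi'
      have := Nat.ModEq.add_left_cancel' l (show l + i ≡ l + i' [MOD m] from h)
      rwa [Nat.ModEq, Nat.mod_eq_of_lt hi, Nat.mod_eq_of_lt hi'] at this
    · intro i hi
      rw [Finset.mem_range] at hi
      refine ⟨(i + (m - l % m)) % m, Finset.mem_range.2 (Nat.mod_lt _ hm0), ?_⟩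
      rw [Nat.add_mod_mod]
      have h1 : l + (i + (m - l % m)) = i + m * (l / m + 1) := by
        have := Nat.mod_add_div l m
        have := Nat.mod_lt l hm0
        rw [Nat.mul_add, mul_one]; omega
      rw [h1, Nat.add_mul_mod_self_left, Nat.mod_eq_of_lt hi]
    · rw [hgper, ← pow_eq_pow_mod _ (hωm j), pow_add]
      congr 1
      rw [inv_pow (ω j) l, mul_left_comm, inv_mul_cancel_left₀ (pow_ne_zero _ hω0)]
  have hππ : ∀ i j, π i * π j = if i = j then π j else 0 := by
    intro i j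
    conv_lhs => rw [show π i = (m : k)⁻¹ • ∑ l ∈ Finset.range m, ω i ^ l • g' l from rfl]
    rw [smul_mul_assoc, Finset.sum_mul]
    simp only [smul_mul_assoc, hgπ, smul_smul, ← mul_pow]
    rw [← Finset.sum_smul, smul_smul]
    have hω0 : ω j ≠ 0 := fun h => by simpa [h, zero_pow hm0.ne'] using hωm j
    split_ifs with h
    · subst h
      rw [mul_inv_cancel₀ hω0]
      simp [inv_mul_cancel₀ hmk]
    · have hne : ω i * (ω j)⁻¹ ≠ 1 := by
        intro h1
        rw [mul_inv_eq_one₀ hω0] at h1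
        simp only [ω, inv_inj] at h1
        exact h (Fin.ext (hζ.pow_inj i.2 j.2 h1))
      rw [geom_sum_eq hne, mul_pow, hωm, inv_pow (ω j), hωm, inv_one, mul_one, sub_self, zero_div,
        mul_zero, zero_smul]
  have hπcomm : ∀ j a, SuppIn D.O a → D.e * a = a → a * π j = π j * a := fun j a ha hea => by
    simp only [π, mul_smul_comm, smul_mul_assoc, Finset.mul_sum, Finset.sum_mul,
      hcommpow a ha hea]
  have heπ : ∀ j, D.e * π j = π j := fun j => by
    simp only [π, g', mul_smul_comm, Finset.mul_sum, ← mul_assoc, D.hee]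
  let η : Fin m → MonoidAlgebra k G := fun j => D.E 0 0 * π j
  have hE00 : SuppIn D.O (D.E 0 0) := D.hEO 0 0
  have hηT : ∀ j, SuppIn D.T (η j) := fun j => suppIn_mul (suppIn_mono D.hOT hE00) (hπT j)
  have hηe : ∀ j, D.e * η j = η j := fun j => by simp only [η, ← mul_assoc, D.e_E00]
  have hηeq : ∀ j, η j = π j * D.E 0 0 := fun j => hπcomm j _ hE00 D.e_E00
  -- everything supported in `T` is, modulo `X`, in the span of the matrix algebra times `g'`
  have hsub : ∀ {a c}, S.InI a → S.InI c → S.InI (a - c) := fun {a c} ha hc => by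
    obtain ⟨a', ha', rfl⟩ := ha
    obtain ⟨c', hc', rfl⟩ := hc
    exact ⟨a' - c', suppIn_sub ha' hc', (mul_sub _ _ _).symm⟩
  have hI0 : S.InI 0 := ⟨0, suppIn_zero _, (mul_zero _).symm⟩
  have hIsum : ∀ {ι : Type v} (s : Finset ι) (f : ι → MonoidAlgebra k G),
      (∀ i ∈ s, S.InI (f i)) → S.InI (∑ i ∈ s, f i) := fun s f h =>
    Finset.sum_induction _ S.InI (fun _ _ => S.inI_add) hI0 h
  have hIsmul : ∀ {a} (c : k), S.InI a → S.InI (c • a) := fun {a} c ha => by
    obtain ⟨a', ha', rfl⟩ := ha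
    exact ⟨c • a', suppIn_smul _ ha', (mul_smul_comm _ _ _).symm⟩
  have hxI : ∀ i : ℕ, S.InI (of k G D.x ^ i * D.e - D.e) := fun i => by
    refine ⟨(∑ l ∈ Finset.range i, of k G D.x ^ l) * D.e, ?_, ?_⟩
    · rw [hST]
      exact suppIn_mul (Finset.sum_induction _ (SuppIn D.T) (fun _ _ => suppIn_add) (suppIn_zero _)
        fun l _ => suppIn_pow (suppIn_of (D.hCT DefectOne.mem_cen_self)) l)
        (suppIn_mono D.hOT D.heO)
    · rw [hSX, X, mul_assoc, ← mul_assoc D.e, ← D.commute_e_of_supp (a := ∑ l ∈ Finset.range i, _)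
        (Finset.sum_induction _ (SuppIn D.T) (fun _ _ => suppIn_add) (suppIn_zero _)
          fun l _ => suppIn_pow (suppIn_of (D.hCT DefectOne.mem_cen_self)) l),
        mul_assoc, D.hee, ← mul_assoc, mul_geom_sum, sub_mul, one_mul]
  have hnorm : ∀ a, SuppIn D.T a → ∃ c : ℕ → MonoidAlgebra k G,
      (∀ l, SuppIn D.O (c l)) ∧ (∀ l, D.e * c l = c l) ∧
      S.InI (D.e * a - ∑ l ∈ Finset.range m, c l * g' l) := by
    have hone : ∀ t ∈ D.T, ∃ c : ℕ → MonoidAlgebra k G,
        (∀ l, SuppIn D.O (c l)) ∧ (∀ l, D.e * c l = c l) ∧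
        S.InI (D.e * of k G t - ∑ l ∈ Finset.range m, c l * g' l) := by
      intro t ht
      obtain ⟨c₀, hc₀, l₀, hl₀, rfl⟩ := hdec t ht
      obtain ⟨i, y, hy, hyr, rfl⟩ := DefectOne.exists_decomp D.hxo D.hsq hc₀
      have hyO : y ∈ D.O := (D.hOmem y hy).2 hyr
      -- the power of `γ`
      have hγl : ∃ w', SuppIn D.O w' ∧ D.e * w' = w' ∧ D.e * of k G (γ ^ l₀) = w' * g' l₀ := by
        clear hl₀
        induction l₀ with
        | zero => exact ⟨D.e, D.heO, D.hee, by rw [pow_zero, map_one]; simp [g', D.hee]⟩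
        | succ l ih =>
          obtain ⟨w', hw', hew', h⟩ := ih (mul_mem (D.hCT hc₀) (pow_mem hγ l))
          refine ⟨w' * (D.e * w), suppIn_mul hw' (suppIn_mul D.heO hwO), by
            rw [← mul_assoc, hew'], ?_⟩
          have hg1 : g' l * (D.e * w) = D.e * w * g' l :=
            (hcommpow _ (suppIn_mul D.heO hwO) (by rw [← mul_assoc, D.hee]) l).symm
          calc D.e * of k G (γ ^ (l + 1)) = D.e * of k G (γ ^ l) * (D.e * of k G γ) := by
                rw [← mul_assoc, mul_assoc D.e, D.heT _ (pow_mem hγ l), ← mul_assoc, D.hee,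
                  mul_assoc, ← map_mul, ← pow_succ]
            _ = w' * g' l * ((D.e * w) * g' 1) := by
                rw [h, hwg]
                congr 1
                simp only [g', pow_one, heg]
                rw [show D.e * w * gh = D.e * (w * gh) from mul_assoc _ _ _, ← hwg, ← mul_assoc,
                  D.hee]
            _ = w' * (D.e * w) * g' (l + 1) := by
                rw [mul_assoc w' (g' l), ← mul_assoc (g' l), hg1, ← hgmul l 1]
                simp only [mul_assoc]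
      obtain ⟨w', hw', hew', hwl⟩ := hγl
      refine ⟨fun l => if l = l₀ then D.e * of k G y * w' else 0, fun l => ?_, fun l => ?_, ?_⟩
      · dsimp only; split_ifs
        · exact suppIn_mul (suppIn_mul D.heO (suppIn_of hyO)) hw'
        · exact suppIn_zero _
      · dsimp only; split_ifs
        · rw [← mul_assoc, ← mul_assoc, D.hee]
        · exact mul_zero _
      · simp only [ite_mul, zero_mul, Finset.sum_ite_eq', Finset.mem_range, hl₀, if_true]
        have h1 : D.e * of k G (D.x ^ i.val * y * γ ^ l₀) =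
            of k G D.x ^ i.val * D.e * (D.e * of k G y * w' * g' l₀) := by
          rw [mul_assoc (D.e * of k G y), ← hwl, ← map_pow]
          simp only [map_mul, ← mul_assoc]
          rw [mul_assoc (of k G (D.x ^ i.val)) D.e D.e, D.hee,
            mul_assoc (of k G (D.x ^ i.val) * D.e) (of k G y) D.e,
            D.heT y (D.hOT hyO), ← mul_assoc (of k G (D.x ^ i.val) * D.e) D.e,
            mul_assoc (of k G (D.x ^ i.val)) D.e D.e, D.hee,
            D.heT _ (D.hCT (pow_mem DefectOne.mem_cen_self _))]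
        have h2 : D.e * (D.e * of k G y * w' * g' l₀) = D.e * of k G y * w' * g' l₀ := by
          simp only [← mul_assoc, D.hee]
        have h3 := S.inI_mul_right (hxI i.val) (c := D.e * of k G y * w' * g' l₀) (by
          rw [hST]
          exact suppIn_mul (suppIn_mul (suppIn_mul (suppIn_mono D.hOT D.heO) (suppIn_of (D.hOT hyO)))
            (suppIn_mono D.hOT hw')) (hg'T _))
        rw [sub_mul, h2] at h3
        rwa [h1]
    intro a ha
    choose! c hc hce hcI using hone
    refine ⟨fun l => ∑ t ∈ Finset.univ.filter (· ∈ D.T), a.coeff t • c t l, fun l => ?_, fun l => ?_,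
      ?_⟩
    · exact Finset.sum_induction _ (SuppIn D.O) (fun _ _ => suppIn_add) (suppIn_zero _) fun t ht =>
        suppIn_smul _ (hc t (Finset.mem_filter.1 ht).2 l)
    · rw [Finset.mul_sum]
      exact Finset.sum_congr rfl fun t ht => by
        rw [mul_smul_comm, hce t (Finset.mem_filter.1 ht).2]
    · conv => arg 2; arg 1; rw [eq_sum_of_suppIn ha, Finset.mul_sum]
      simp only [mul_smul_comm, Finset.sum_mul, smul_mul_assoc]
      rw [Finset.sum_comm, ← Finset.sum_sub_distrib]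
      refine Finset.sum_induction _ S.InI (fun _ _ => S.inI_add) hI0 fun t ht => ?_
      rw [← Finset.smul_sum, ← smul_sub]
      exact hIsmul _ (hcI t (Finset.mem_filter.1 ht).2)
  -- reduction of `a η`
  have hred : ∀ a, SuppIn D.T a → ∀ j, ∃ a', SuppIn D.O a' ∧ D.e * a' = a' ∧
      S.InI (a * η j - a' * η j) := by
    intro a ha j
    obtain ⟨c, hc, hce, hcI⟩ := hnorm a ha
    refine ⟨∑ l ∈ Finset.range m, (ω j)⁻¹ ^ l • c l, Finset.sum_induction _ (SuppIn D.O)
      (fun _ _ => suppIn_add) (suppIn_zero _) (fun l _ => suppIn_smul _ (hc l)), by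
        simp only [Finset.mul_sum, mul_smul_comm, hce], ?_⟩
    have h1 : (∑ l ∈ Finset.range m, c l * g' l) * η j =
        (∑ l ∈ Finset.range m, (ω j)⁻¹ ^ l • c l) * η j := by
      simp only [Finset.sum_mul]
      refine Finset.sum_congr rfl fun l _ => ?_
      rw [mul_assoc, hηeq, ← mul_assoc (g' l), hgπ]
      simp only [smul_mul_assoc, mul_smul_comm]
    rw [← h1, ← hηe j, ← mul_assoc, D.commute_e_of_supp ha]
    rw [hηe, ← sub_mul]
    exact S.inI_mul_right hcI (by rw [hST]; exact hηT j)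
  have hsand : ∀ i j, ∀ a, SuppIn D.T a → ∃ f : k,
      S.InI (η i * a * η j - if i = j then f • η j else 0) := by
    intro i j a ha
    obtain ⟨a', ha', hea', hI⟩ := hred a ha j
    obtain ⟨f, hf⟩ := D.exists_eps_scalar ha'
    refine ⟨f, ?_⟩
    have h := S.inI_mul_left hI (c := η i) (by rw [hST]; exact hηT i)
    rw [mul_sub, ← mul_assoc] at h
    have h1 : η i * (a' * η j) = if i = j then f • η j else 0 := by
      rw [hηeq i]
      show π i * D.E 0 0 * (a' * (D.E 0 0 * π j)) = if i = j then f • (D.E 0 0 * π j) else 0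
      rw [mul_assoc (π i), ← mul_assoc a', ← mul_assoc (D.E 0 0), ← mul_assoc (D.E 0 0), hf,
        smul_mul_assoc f (D.E 0 0), mul_smul_comm f, ← mul_assoc (π i), ← hπcomm i _ hE00 D.e_E00,
        mul_assoc (D.E 0 0), hππ]
      split_ifs <;> simp
    rwa [h1] at h
  have hmain : ∀ Z : MonoidAlgebra k G, D.Sx * (Z * D.e) = D.Sx * D.e →
      ∀ j, ¬ S.InI (Z * η j) := by
    intro Z hZ j hI
    obtain ⟨c, hc, hc'⟩ := hI
    have h0 : D.Sx * η j = 0 := by
      calc D.Sx * η j = D.Sx * D.e * η j := by rw [mul_assoc, hηe]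
        _ = D.Sx * (Z * η j) := by rw [← hZ, mul_assoc, mul_assoc, hηe]
        _ = 0 := by rw [hc', hSX, ← mul_assoc, Sx_mul_X, zero_mul]
    have hSxC : SuppIn Cx D.Sx := Finset.sum_induction _ (SuppIn Cx) (fun _ _ => suppIn_add)
      (suppIn_zero _) fun i _ => suppIn_pow (suppIn_of DefectOne.mem_cen_self) i
    have hproj : projT Cx (η j) = (m : k)⁻¹ • D.E 0 0 := by
      have hzero : ∀ l, l ≠ 0 → l < m → projT Cx (D.E 0 0 * g' l) = 0 := by
        intro l hl hlm
        obtain ⟨v, hv, hgl⟩ := hghpow l hl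
        simp only [g', hgl, ← mul_assoc]
        ext g
        rw [coeff_projT]
        split_ifs with hg
        · rw [of_apply, coeff_mul_single_apply, mul_one]
          refine (suppIn_mul (suppIn_mul hE00 D.heO) hv) _ fun hmem => hl (hsep l hlm ?_)
          have h := mul_mem (inv_mem (D.hOC hmem)) hg
          simpa [mul_assoc] using h
        · rfl
      have hzero' : projT Cx (D.E 0 0 * g' 0) = D.E 0 0 := by
        simp only [g', pow_zero, mul_one]
        rw [D.commute_e_of_supp (suppIn_mono D.hOT hE00), D.e_E00]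
        ext g
        rw [coeff_projT]
        split_ifs with hg
        · rfl
        · exact ((suppIn_mono D.hOC hE00) g hg).symm
      simp only [η, π, mul_smul_comm, Finset.mul_sum, map_smul, map_sum]
      congr 1
      rw [Finset.sum_eq_single 0]
      · rw [pow_zero, one_smul, hzero']
      · intro l hl hl0
        rw [hzero l hl0 (Finset.mem_range.1 hl), smul_zero]
      · intro h; exact absurd (Finset.mem_range.2 hm0) h
    have h1 := congrArg (projT Cx) h0
    rw [projT_mul_left hSxC, hproj, map_zero, mul_smul_comm, smul_eq_zero] at h1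
    replace h1 := h1.resolve_left (inv_ne_zero hmk)
    apply D.hE0
    ext g
    by_cases hg : g ∈ D.O
    · have h2 := congrArg (fun a : MonoidAlgebra k G => a.coeff g) h1
      simp only [Sx, Finset.sum_mul, coeff_sum, Finsupp.finsetSum_apply] at h2
      rw [Finset.sum_eq_single 0] at h2
      · rw [pow_zero, one_mul] at h2
        exact h2
      · intro i hi hi0
        rw [← map_pow, of_apply, coeff_single_mul_apply, one_mul]
        refine hE00 _ fun hmem => hi0 ?_
        have hj : D.x ^ ((i : ZMod p)).val ∈ D.O := by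
          rw [DefectOne.pow_val_natCast D.hxo]
          simpa using mul_mem hg (inv_mem hmem)
        by_contra hne
        refine (D.hOmem _ (D.hOC hj)).1 hj ?_
        rw [DefectOne.orderOf_pow_val D.hxo]
        rw [Ne, ← ZMod.val_eq_zero, ZMod.val_natCast, Nat.mod_eq_of_lt (Finset.mem_range.1 hi)]
        exact hne
      · intro h; exact absurd (Finset.mem_range.2 hp.out.pos) h
    · exact hE00 g hg
  refine ⟨S, η, hST, fun j => ⟨by rw [hST]; exact hηT j, ?_, by rw [hSb]; exact hηe j, ?_, ?_, ?_⟩,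
    fun i j hij a ha => ?_, hmain⟩
  · simp only [η]
    rw [mul_assoc, ← mul_assoc (π j), ← hπcomm j _ hE00 D.e_E00, mul_assoc, hππ, if_pos rfl,
      ← mul_assoc, D.hEmul, if_pos rfl]
  · intro hI
    exact hmain 1 (by rw [one_mul]) j (by rwa [one_mul])
  · intro a ha
    rw [hST] at ha
    obtain ⟨f, hf⟩ := hsand j j a ha
    exact ⟨f, by simpa using hf⟩
  · intro a ha hnot
    rw [hST] at ha
    by_contra hall
    push Not at hall
    apply hnot
    obtain ⟨a', ha', hea', hI⟩ := hred a ha j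
    have hb : ∀ i, S.InI (D.E i 0 * (D.E 0 i * (a' * η j))) := by
      intro i
      refine S.inI_mul_left ?_ (by rw [hST]; exact suppIn_mono D.hOT (D.hEO i 0))
      have h1 := hall (D.E 0 i) (by rw [hST]; exact suppIn_mono D.hOT (D.hEO 0 i))
      have h2 : S.InI (η j * D.E 0 i * (a * η j - a' * η j)) :=
        S.inI_mul_left hI (by rw [hST]; exact suppIn_mul (hηT j) (suppIn_mono D.hOT (D.hEO 0 i)))
      have h3 := hsub h1 h2
      rw [mul_sub, ← mul_assoc _ a, sub_sub_cancel] at h3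
      have hO : SuppIn D.O (D.E 0 i * a') := suppIn_mul (D.hEO 0 i) ha'
      have hOe : D.e * (D.E 0 i * a') = D.E 0 i * a' := by rw [← mul_assoc, D.heE]
      suffices η j * D.E 0 i * (a' * η j) = D.E 0 i * (a' * η j) by rwa [this] at h3
      simp only [η]
      rw [mul_assoc (D.E 0 0) (π j), ← hπcomm j _ (D.hEO 0 i) (D.heE 0 i), ← mul_assoc (D.E 0 0),
        D.hEmul, if_pos rfl, mul_assoc (D.E 0 i), ← mul_assoc (π j), ← hπcomm j _ ha' hea',
        mul_assoc a', ← mul_assoc (π j), ← hπcomm j _ hE00 D.e_E00, mul_assoc (D.E 0 0) (π j),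
        hππ, if_pos rfl]
    have hsum : a' * η j = ∑ i, D.E i 0 * (D.E 0 i * (a' * η j)) := by
      simp only [← mul_assoc, D.hEmul, if_pos, ← Finset.sum_mul, D.hEsum, hea']
    have h4 : S.InI (a' * η j) := by
      rw [hsum]
      exact Finset.sum_induction _ S.InI (fun _ _ => S.inI_add) hI0 fun i _ => hb i
    simpa using S.inI_add hI h4
  · rw [hST] at ha
    obtain ⟨f, hf⟩ := hsand i j a ha
    rwa [if_neg hij, sub_zero] at hf

end OrderPData

end CfsgLib.Block
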