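import Mathlib

/-!
Integer vectors as rows: orthonormal families, residuals and the linear functionals on them.
-/

set_option autoImplicit false
set_option linter.all false

namespace CfsgLib.Block.OrthoRows

variable {ι : Type*} [Fintype ι]

/-- the inner product of integer vectors -/
def ip (u v : ι → ℤ) : ℤ := ∑ χ, u χ * v χ

/-- evaluation of a function on a vector -/
def ev (F : ι → ℂ) (v : ι → ℤ) : ℂ := ∑ χ, (v χ : ℂ) * F χ

/-- the quadratic function of two rows -/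
noncomputable def qf (d : ι → ℤ) (Z W : ι → ℂ) : ι → ℂ := fun χ => Z χ * W χ / (d χ : ℂ)

theorem ip_comm (u v : ι → ℤ) : ip u v = ip v u :=
  Finset.sum_congr rfl fun _ _ => mul_comm _ _

@[simp] theorem ip_add_left (u v w : ι → ℤ) : ip (u + v) w = ip u w + ip v w := by
  simp [ip, add_mul, Finset.sum_add_distrib]

@[simp] theorem ip_add_right (u v w : ι → ℤ) : ip w (u + v) = ip w u + ip w v := by
  simp [ip, mul_add, Finset.sum_add_distrib]

@[simp] theorem ip_sub_left (u v w : ι → ℤ) : ip (u - v) w = ip u w - ip v w := by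
  simp [ip, sub_mul, Finset.sum_sub_distrib]

@[simp] theorem ip_sub_right (u v w : ι → ℤ) : ip w (u - v) = ip w u - ip w v := by
  simp [ip, mul_sub, Finset.sum_sub_distrib]

@[simp] theorem ip_neg_left (u v : ι → ℤ) : ip (-u) v = -ip u v := by
  simp [ip, neg_mul, Finset.sum_neg_distrib]

@[simp] theorem ip_neg_right (u v : ι → ℤ) : ip v (-u) = -ip v u := by
  simp [ip, mul_neg, Finset.sum_neg_distrib]

@[simp] theorem ip_smul_left (c : ℤ) (u v : ι → ℤ) : ip (c • u) v = c * ip u v := by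
  simp [ip, Finset.mul_sum, mul_assoc]

theorem ip_sum_left {κ : Type*} (s : Finset κ) (f : κ → ι → ℤ) (v : ι → ℤ) :
    ip (∑ k ∈ s, f k) v = ∑ k ∈ s, ip (f k) v := by
  simp only [ip, Finset.sum_apply, Finset.sum_mul]
  rw [Finset.sum_comm]

@[simp] theorem ev_add (F : ι → ℂ) (u v : ι → ℤ) : ev F (u + v) = ev F u + ev F v := by
  simp [ev, add_mul, Finset.sum_add_distrib]

@[simp] theorem ev_sub (F : ι → ℂ) (u v : ι → ℤ) : ev F (u - v) = ev F u - ev F v := by
  simp [ev, sub_mul, Finset.sum_sub_distrib]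

@[simp] theorem ev_neg (F : ι → ℂ) (u : ι → ℤ) : ev F (-u) = -ev F u := by
  simp [ev, neg_mul, Finset.sum_neg_distrib]

@[simp] theorem ev_smul (F : ι → ℂ) (c : ℤ) (u : ι → ℤ) : ev F (c • u) = (c : ℂ) * ev F u := by
  simp [ev, Finset.mul_sum, mul_assoc]

@[simp] theorem ev_zero (F : ι → ℂ) : ev F 0 = 0 := by simp [ev]

@[simp] theorem ip_zero_left (v : ι → ℤ) : ip 0 v = 0 := by simp [ip]

theorem ip_self_nonneg (v : ι → ℤ) : 0 ≤ ip v v :=
  Finset.sum_nonneg fun _ _ => mul_self_nonneg _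

theorem eq_zero_of_ip_self {v : ι → ℤ} (h : ip v v = 0) : v = 0 :=
  funext fun χ => mul_self_eq_zero.mp
    ((Finset.sum_eq_zero_iff_of_nonneg fun _ _ => mul_self_nonneg _).mp h χ (Finset.mem_univ _))

open scoped Classical in
/-- a coordinate vector -/
noncomputable def dl (L : ι) : ι → ℤ := fun χ => if χ = L then 1 else 0

@[simp] theorem ip_dl (v : ι → ℤ) (L : ι) : ip v (dl L) = v L := by
  classical
  simp [ip, dl]

@[simp] theorem ev_dl (F : ι → ℂ) (L : ι) : ev F (dl L) = F L := by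
  classical
  simp [ev, dl]

theorem ip_dl_self (L : ι) : ip (dl L) (dl L) = 1 := by simp [dl]

theorem unit_eq {u : ι → ℤ} (hu : ip u u = 1) :
    ∃ (L : ι) (σ : ℤ), σ * σ = 1 ∧ u = σ • dl L := by
  classical
  obtain ⟨L, hL⟩ : ∃ L, u L ≠ 0 := by
    by_contra hc
    push Not at hc
    simp [ip, hc] at hu
  have h := Finset.add_sum_erase Finset.univ (fun χ => u χ * u χ) (Finset.mem_univ L)
  have h0 : 0 ≤ ∑ χ ∈ Finset.univ.erase L, u χ * u χ :=
    Finset.sum_nonneg fun _ _ => mul_self_nonneg _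
  have h1 : 1 ≤ u L * u L := by
    have := mul_self_pos.mpr hL
    omega
  have hu' : ∑ χ, u χ * u χ = 1 := hu
  simp only [hu'] at h
  refine ⟨L, u L, by omega, funext fun χ => ?_⟩
  by_cases hχ : χ = L
  · subst hχ; simp [dl]
  · have hz : ∑ χ ∈ Finset.univ.erase L, u χ * u χ = 0 := by omega
    have := (Finset.sum_eq_zero_iff_of_nonneg fun _ _ => mul_self_nonneg _).mp hz χ
      (Finset.mem_erase.mpr ⟨hχ, Finset.mem_univ _⟩)
    simp [dl, hχ, mul_self_eq_zero.mp this]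

theorem unit_deg {u : ι → ℤ} (hu : ip u u = 1) {d : ι → ℤ} (hd : ∀ χ, 0 < d χ) : ip u d ≠ 0 := by
  obtain ⟨L, σ, hσ, rfl⟩ := unit_eq hu
  rw [ip_smul_left, ip_comm, ip_dl]
  exact mul_ne_zero (fun h => by simp [h] at hσ) (hd L).ne'

theorem unit_qf {u : ι → ℤ} (hu : ip u u = 1) {d : ι → ℤ} (hd : ∀ χ, 0 < d χ) (Z W : ι → ℂ) :
    ev (qf d Z W) u = ev Z u * ev W u / (ip u d : ℂ) := by
  obtain ⟨L, σ, hσ, rfl⟩ := unit_eq hu
  rw [ev_smul, ev_smul, ev_smul, ev_dl, ev_dl, ev_dl, ip_smul_left, ip_comm, ip_dl]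
  have h1 : (d L : ℂ) ≠ 0 := by exact_mod_cast (hd L).ne'
  have h2 : (σ : ℂ) ≠ 0 := by
    have : σ ≠ 0 := fun h => by simp [h] at hσ
    exact_mod_cast this
  simp only [qf]
  push_cast
  field_simp

theorem unit_ip_cases {u v : ι → ℤ} (hu : ip u u = 1) (hv : ip v v = 1) :
    ip u v = 0 ∨ (ip u v = 1 ∧ u = v) ∨ (ip u v = -1 ∧ u = -v) := by
  obtain ⟨L, σ, hσ, rfl⟩ := unit_eq hu
  obtain ⟨M, τ, hτ, rfl⟩ := unit_eq hv
  by_cases h : L = M
  · subst h
    have hσ1 : σ = 1 ∨ σ = -1 := mul_self_eq_one_iff.mp hσ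
    have hτ1 : τ = 1 ∨ τ = -1 := mul_self_eq_one_iff.mp hτ
    rcases hσ1 with rfl | rfl <;> rcases hτ1 with rfl | rfl <;> simp [dl]
  · left
    rw [ip_smul_left, ip_comm, ip_smul_left, ip_dl]
    simp [dl, h]

theorem exists_two {v : ι → ℤ} (hv : ip v v = 2) :
    ∃ a b : ι → ℤ, v = a + b ∧ ip a a = 1 ∧ ip b b = 1 ∧ ip a b = 0 := by
  classical
  obtain ⟨L, hL⟩ : ∃ L, v L ≠ 0 := by
    by_contra hc
    push Not at hc
    simp [ip, hc] at hv
  have hn := ip_self_nonneg (v - v L • dl L)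
  simp only [ip_sub_left, ip_sub_right, ip_smul_left, ip_comm v (v L • dl L), ip_comm (dl L) v,
    ip_comm (dl L) (v L • dl L), ip_dl, hv] at hn
  simp [dl] at hn
  have h1 : 1 ≤ v L * v L := by
    have := mul_self_pos.mpr hL
    omega
  have hb1 : v L ≤ 1 := by nlinarith
  have hb2 : -1 ≤ v L := by nlinarith
  have hs : v L * v L = 1 := by
    have : v L = 1 ∨ v L = -1 := by omega
    rcases this with h | h <;> rw [h] <;> norm_num
  refine ⟨v L • dl L, v - v L • dl L, by simp, ?_, ?_, ?_⟩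
  · rw [ip_smul_left, ip_comm, ip_smul_left, ip_dl_self]; linarith
  · simp only [ip_sub_left, ip_sub_right, ip_smul_left, ip_comm v (v L • dl L), ip_comm (dl L) v,
      ip_comm (dl L) (v L • dl L), ip_dl, hv]
    simp [dl]; linarith
  · simp only [ip_sub_right, ip_smul_left, ip_comm (dl L) v, ip_comm (dl L) (v L • dl L), ip_dl]
    simp [dl]

/-- an orthonormal family -/
def ON {n : ℕ} (e : Fin n → ι → ℤ) : Prop := ∀ i j, ip (e i) (e j) = if i = j then 1 else 0

theorem ON.cons {n : ℕ} {e : Fin n → ι → ℤ} (he : ON e) {r : ι → ℤ} (hr : ip r r = 1)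
    (hre : ∀ i, ip r (e i) = 0) : ON (Matrix.vecCons r e) := by
  intro i j
  refine Fin.cases ?_ (fun i => ?_) i <;> refine Fin.cases ?_ (fun j => ?_) j
  · simpa using hr
  · simpa [(Fin.succ_ne_zero j).symm] using hre j
  · simpa [ip_comm _ r, Fin.succ_ne_zero] using hre i
  · simpa using he i j

theorem ON.single {u : ι → ℤ} (hu : ip u u = 1) : ON ![u] := by
  intro i j
  fin_cases i; fin_cases j; simpa using hu

theorem ON.split {n : ℕ} {e : Fin n → ι → ℤ} (he : ON e) (v : ι → ℤ) :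
    ∃ r, v = (∑ i, ip v (e i) • e i) + r ∧ (∀ i, ip r (e i) = 0) ∧
      (∑ i, ip v (e i) * ip v (e i)) + ip r r = ip v v := by
  set r := v - ∑ i, ip v (e i) • e i with hr
  have hre : ∀ i, ip r (e i) = 0 := fun i => by
    rw [hr, ip_sub_left, ip_sum_left]
    simp only [ip_smul_left, he _ i, mul_ite, mul_one, mul_zero, Finset.sum_ite_eq',
      Finset.mem_univ, if_true, sub_self]
  refine ⟨r, by rw [hr]; abel, hre, ?_⟩
  have hv : ip v v = ip ((∑ i, ip v (e i) • e i) + r) v := by rw [hr]; simp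
  rw [hv, ip_add_left, ip_sum_left]
  simp only [ip_smul_left, ip_comm (e _) v]
  congr 1
  have : ip r v = ip r ((∑ i, ip v (e i) • e i) + r) := by rw [hr]; simp
  rw [this, ip_add_right, ip_comm r (∑ i, ip v (e i) • e i), ip_sum_left]
  simp only [ip_smul_left, ip_comm (e _) r, hre, mul_zero, Finset.sum_const_zero, zero_add]

end CfsgLib.Block.OrthoRows
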