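import Cfsg.Agent.Lib.Solvable.PCore
import Cfsg.Prelude.Def_Local
import Mathlib.GroupTheory.SchurZassenhaus

/-!
In a `p`-solvable group without normal `p'`-subgroups, `O_p` contains its centralizer.
-/

set_option autoImplicit false

namespace CfsgLib.Block

open Cfsg

universe u

theorem centralizer_pCore_le_of_isPSolvable {G : Type u} [Group G] [Finite G] {p : ℕ}
    [Fact p.Prime] (hsolv : IsPSolvable p G) (hcore : pPrimeCore p G = ⊥) :
    Subgroup.centralizer (pCore p G : Set G) ≤ pCore p G := by
  classical
  have hp : p.Prime := Fact.out
  have hQn := CfsgLib.Solvable.pCore_normal p G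
  have hQp : IsPGroup p (pCore p G) := CfsgLib.Solvable.pCore_isPGroup p
  obtain ⟨n, H, h0, hl, hmono, hn, hfac⟩ := hsolv
  have key : ∀ i : Fin (n + 1), Subgroup.centralizer (pCore p G : Set G) ⊓ H i ≤ pCore p G := by
    intro i
    induction i using Fin.induction with
    | zero => rw [h0]; simp
    | succ i ih =>
      have := hn i.castSucc
      have := hn i.succ
      set C := Subgroup.centralizer (pCore p G : Set G) with hC
      set B := C ⊓ H i.succ with hB
      set A := C ⊓ H i.castSucc with hA
      have hBn : B.Normal := inferInstance
      have hAn : A.Normal := inferInstance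
      have hAB : A ≤ B := inf_le_inf_left C (hmono Fin.castSucc_lt_succ.le)
      have hAp : IsPGroup p A := hQp.to_le ih
      have hrel : A.relIndex B ∣ (H i.castSucc).relIndex (H i.succ) := by
        have e1 : A.relIndex B = (H i.castSucc).relIndex B := by
          have hAeq : A = H i.castSucc ⊓ B := by
            rw [hA, hB, inf_left_comm (H i.castSucc),
              inf_eq_left.2 (hmono Fin.castSucc_lt_succ.le)]
          rw [hAeq, Subgroup.inf_relIndex_right]
        have e2 : ∀ K : Subgroup G, (H i.castSucc).relIndex K =
            Nat.card (K.map (QuotientGroup.mk' (H i.castSucc))) := by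
          intro K
          rw [← Subgroup.relIndex_bot_left, ← Subgroup.relIndex_comap
            (f := QuotientGroup.mk' (H i.castSucc)), MonoidHom.comap_bot, QuotientGroup.ker_mk']
        rw [e1, e2, e2]
        exact Subgroup.card_dvd_of_le (Subgroup.map_mono inf_le_right)
      have hAidx : (A.subgroupOf B).index = A.relIndex B := rfl
      have hcardB : Nat.card (A.subgroupOf B) = Nat.card A :=
        Nat.card_congr (Subgroup.subgroupOfEquivOfLe hAB).toEquiv
      rcases hfac i with ⟨m, hm⟩ | hco
      · -- a normal `p`-subgroup
        obtain ⟨j, -, hj⟩ := (Nat.dvd_prime_pow hp).1 (hm ▸ hrel)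
        obtain ⟨l, hl'⟩ := IsPGroup.iff_card.1 hAp
        refine CfsgLib.Solvable.le_pCore hBn (IsPGroup.of_card (n := l + j) ?_)
        rw [← (A.subgroupOf B).card_mul_index, hcardB, hl', hAidx, hj, pow_add]
      · -- the complement is a normal `p'`-subgroup
        have hco' : Nat.Coprime (A.relIndex B) p := Nat.Coprime.coprime_dvd_left hrel hco
        have hcop : Nat.Coprime (Nat.card (A.subgroupOf B)) (A.subgroupOf B).index := by
          obtain ⟨l, hl'⟩ := IsPGroup.iff_card.1 hAp
          rw [hAidx, hcardB, hl']
          exact hco'.symm.pow_left l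
        obtain ⟨R, hR⟩ := Subgroup.exists_right_complement'_of_coprime hcop
        have hRcard : Nat.card R = A.relIndex B := by
          rw [← hAidx, hR.symm.index_eq_card]
        have hAc : ∀ a ∈ A.subgroupOf B, ∀ b : B, b * a = a * b := by
          intro a ha b
          apply Subtype.ext
          push_cast
          exact (Subgroup.mem_centralizer_iff.1 (Subgroup.mem_inf.1 b.2).1 _ (ih ha)).symm
        -- `R` is the set of regular elements of `B`
        have hReg : ∀ b : B, b ∈ R ↔ ¬ p ∣ orderOf b := by
          intro b
          constructor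
          · intro hb hd
            exact hp.coprime_iff_not_dvd.1 hco'.symm (hRcard ▸ hd.trans
              (by simpa using orderOf_dvd_natCard (⟨b, hb⟩ : R)))
          · intro hb
            obtain ⟨⟨⟨a, ha⟩, ⟨r, hr⟩⟩, har⟩ := hR.existsUnique b |>.exists
            change a * r = b at har
            have hcom : Commute a r := (hAc a ha r).symm
            obtain ⟨l, hl'⟩ := IsPGroup.iff_orderOf.1 (hAp.comap_subtype (K := B)) ⟨a, ha⟩
            have hl2 : orderOf a = p ^ l := by rw [← hl']; exact (Subgroup.orderOf_mk a ha).symm
            have hrr : ¬ p ∣ orderOf r := fun hd =>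
              hp.coprime_iff_not_dvd.1 hco'.symm (hRcard ▸ hd.trans
                (by simpa using orderOf_dvd_natCard (⟨r, hr⟩ : R)))
            have ho := hcom.orderOf_mul_eq_mul_orderOf_of_coprime (by
              rw [hl2]; exact Nat.Coprime.pow_left l (hp.coprime_iff_not_dvd.2 hrr))
            rw [har, hl2] at ho
            have : l = 0 := by
              by_contra h
              exact hb (ho ▸ (dvd_pow_self p h).mul_right _)
            rw [this, pow_zero, orderOf_eq_one_iff] at hl2
            rw [← har, hl2, one_mul]
            exact hr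
        have hRn : (R.map B.subtype).Normal := by
          constructor
          rintro _ ⟨b, hb, rfl⟩ g
          refine ⟨⟨g * b * g⁻¹, hBn.conj_mem _ b.2 g⟩, ?_, rfl⟩
          change ⟨g * b * g⁻¹, hBn.conj_mem _ b.2 g⟩ ∈ R
          rw [SetLike.mem_coe] at hb
          rw [hReg] at hb ⊢
          rwa [Subgroup.orderOf_mk, show orderOf (g * (b : G) * g⁻¹) = orderOf (b : G) by
            simpa using orderOf_injective (MulAut.conj g).toMonoidHom (MulAut.conj g).injective
              (b : G), Subgroup.orderOf_coe]
        have hR1 : R.map B.subtype = ⊥ := le_bot_iff.1 (hcore ▸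
          CfsgLib.Solvable.le_pPrimeCore hRn (by
            rw [Subgroup.card_map_of_injective B.subtype_injective, hRcard]; exact hco'))
        have hRb : R = ⊥ := by
          rwa [Subgroup.map_eq_bot_iff_of_injective _ B.subtype_injective] at hR1
        intro b hb
        obtain ⟨⟨⟨a, ha⟩, ⟨r, hr⟩⟩, har⟩ := hR.existsUnique ⟨b, hb⟩ |>.exists
        change a * r = _ at har
        rw [SetLike.mem_coe, hRb, Subgroup.mem_bot] at hr
        rw [hr, mul_one] at har
        subst har
        exact ih ha
  have := key (Fin.last n)
  rwa [hl, inf_top_eq] at this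

end CfsgLib.Block
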