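import Cfsg.Prelude.Def_BlockLocal
import Cfsg.Agent.Lib.Block.LocalRing
import Cfsg.Agent.Lib.Block.Omega
import Cfsg.Agent.Lib.Char.Column
import Cfsg.Agent.Lib.BlockA.Regular

/-!
# Two perfect isometries out of one group give one between their targets
-/

set_option autoImplicit false
set_option linter.unusedSectionVars false

namespace CfsgLib.Block

open Cfsg
open scoped ComplexConjugate

universe u v w

variable {p : ℕ} {M : Ideal AlgInt} {G : Type u} [Group G] {H : Type v} [Group H] [Finite H]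
  {F : Type w} [Group F] [Finite F]

/-- **Composition.** -/
theorem exists_perfectIsometry_comp (hM : IsPModular p M) {B : Set (IrrCharacter G)}
    {c : Set (IrrCharacter H)} {I : IrrCharacter F → IrrCharacter G} {ε : IrrCharacter F → ℤ}
    (hI : IsPerfectIsometry p M (Set.univ : Set (IrrCharacter F)) B I ε)
    {I' : IrrCharacter F → IrrCharacter H} {ε' : IrrCharacter F → ℤ}
    (hI' : IsPerfectIsometry p M (Set.univ : Set (IrrCharacter F)) c I' ε') :
    ∃ (J : IrrCharacter H → IrrCharacter G) (δ : IrrCharacter H → ℤ),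
      IsPerfectIsometry p M c B J δ := by
  classical
  have := isPrime_of_pmodular hM
  have := Fintype.ofFinite F
  have := Fintype.ofFinite H
  have := Fintype.ofFinite (IrrCharacter F)
  have : Nonempty (IrrCharacter F) := ⟨⟨_, CfsgLib.Char.isIrrCharacter_one⟩⟩
  have : Finite (ConjClasses F) := Finite.of_surjective ConjClasses.mk ConjClasses.mk_surjective
  have := Fintype.ofFinite (ConjClasses F)
  obtain ⟨hb, hε, hp1⟩ := hI
  obtain ⟨hb', hε', hp2⟩ := hI'
  let K : IrrCharacter H → IrrCharacter F := fun θ =>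
    if h : θ ∈ c then (hb'.surjOn h).choose else Classical.arbitrary _
  have hK : ∀ θ ∈ c, I' (K θ) = θ := fun θ h => by
    simp only [K, dif_pos h]
    exact (hb'.surjOn h).choose_spec.2
  have hKI : ∀ η, K (I' η) = η := fun η =>
    hb'.injOn (Set.mem_univ _) (Set.mem_univ _) (hK _ (hb'.mapsTo (Set.mem_univ η)))
  let J : IrrCharacter H → IrrCharacter G := fun θ => I (K θ)
  let δ : IrrCharacter H → ℤ := fun θ => ε (K θ) * ε' (K θ)
  refine ⟨J, δ, ⟨fun θ _ => hb.mapsTo (Set.mem_univ _), fun θ hθ θ' hθ' h => ?_,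
    fun χ hχ => ?_⟩, fun θ _ => ?_, ?_⟩
  · rw [← hK θ hθ, ← hK θ' hθ', hb.injOn (Set.mem_univ _) (Set.mem_univ _) h]
  · obtain ⟨η, -, hη⟩ := hb.surjOn hχ
    exact ⟨I' η, hb'.mapsTo (Set.mem_univ η), by simp only [J, hKI, hη]⟩
  · rcases hε (K θ) (Set.mem_univ _) with h | h <;>
      rcases hε' (K θ) (Set.mem_univ _) with h' | h' <;> simp [δ, h, h']
  intro x y
  set μ₁ := signedBijectionKernel (Set.univ : Set (IrrCharacter F)) I ε with hμ₁
  set μ₂ := signedBijectionKernel (Set.univ : Set (IrrCharacter F)) I' ε' with hμ₂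
  have hk1 : ∀ z, μ₁ x z = ∑ η : IrrCharacter F, (ε η : ℂ) * (I η : G → ℂ) x * (η : F → ℂ) z :=
    fun z => by rw [hμ₁, signedBijectionKernel, finsum_mem_univ, finsum_eq_sum_of_fintype]
  have hk2 : ∀ z, μ₂ y z = ∑ η : IrrCharacter F, (ε' η : ℂ) * (I' η : H → ℂ) y * (η : F → ℂ) z :=
    fun z => by rw [hμ₂, signedBijectionKernel, finsum_mem_univ, finsum_eq_sum_of_fintype]
  have hμ : signedBijectionKernel c J δ x y =
      ∑ C : ConjClasses F, (Nat.card (Subgroup.centralizer ({C.out} : Set F)) : ℂ)⁻¹ *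
        (μ₁ x C.out * μ₂ y C.out⁻¹) := by
    have hleft : signedBijectionKernel c J δ x y =
        ∑ η : IrrCharacter F, (ε η : ℂ) * (ε' η : ℂ) * (I η : G → ℂ) x * (I' η : H → ℂ) y := by
      rw [signedBijectionKernel, finsum_mem_eq_finite_toFinset_sum _ c.toFinite]
      refine Finset.sum_bij' (fun θ _ => K θ) (fun η _ => I' η) (fun _ _ => Finset.mem_univ _)
        (fun η _ => by simpa using hb'.mapsTo (Set.mem_univ η)) (fun θ h => hK θ (by simpa using h))
        (fun η _ => hKI η) (fun θ h => ?_)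
      simp only [J, δ, Int.cast_mul, hK θ (by simpa using h)]
    have hz : ∑ z : F, μ₁ x z * μ₂ y z⁻¹ = (Nat.card F : ℂ) *
        ∑ η : IrrCharacter F, (ε η : ℂ) * (ε' η : ℂ) * (I η : G → ℂ) x * (I' η : H → ℂ) y := by
      simp only [hk1, hk2, Finset.sum_mul, Finset.mul_sum]
      rw [Finset.sum_comm]
      refine Finset.sum_congr rfl fun η _ => ?_
      rw [Finset.sum_comm]
      have horth : ∀ η' : IrrCharacter F, ∑ z : F, (η' : F → ℂ) z * (η : F → ℂ) z⁻¹ =
          if η' = η then (Nat.card F : ℂ) else 0 := fun η' => by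
        have h := CfsgLib.Char.irr_classInner η'.2 η.2
        rw [CfsgLib.Char.classInner_def, inv_mul_eq_iff_eq_mul₀ CfsgLib.Char.natCard_ne_zero] at h
        rw [Finset.sum_congr rfl (fun z _ => by rw [← irr_conj_eq η.2]), h]
        simp only [Subtype.coe_inj, mul_ite, mul_one, mul_zero]
      have hin : ∀ η' : IrrCharacter F, ∑ z : F, (ε η' : ℂ) * (I η' : G → ℂ) x * (η' : F → ℂ) z *
          ((ε' η : ℂ) * (I' η : H → ℂ) y * (η : F → ℂ) z⁻¹) =
          (ε η' : ℂ) * (I η' : G → ℂ) x * ((ε' η : ℂ) * (I' η : H → ℂ) y) *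
            (if η' = η then (Nat.card F : ℂ) else 0) := fun η' => by
        rw [← horth η', Finset.mul_sum]
        exact Finset.sum_congr rfl fun z _ => by ring
      rw [Finset.sum_congr rfl fun η' _ => hin η', Finset.sum_eq_single η]
      · rw [if_pos rfl]; ring
      · intro η' _ hne; rw [if_neg hne, mul_zero]
      · intro h; exact absurd (Finset.mem_univ _) h
    rw [hleft, ← mul_right_inj' (CfsgLib.Char.natCard_ne_zero (G := F)), ← hz,
      ← Finset.sum_fiberwise Finset.univ (fun z : F => ConjClasses.mk z), Finset.mul_sum]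
    refine Finset.sum_congr rfl fun C _ => ?_
    have hconst : ∀ z ∈ Finset.univ.filter (fun z : F => ConjClasses.mk z = C),
        μ₁ x z * μ₂ y z⁻¹ = μ₁ x C.out * μ₂ y C.out⁻¹ := by
      intro z hz
      have hc : IsConj z C.out := by
        rw [← ConjClasses.mk_eq_mk_iff_isConj, (Finset.mem_filter.1 hz).2]
        exact (Quotient.out_eq C).symm
      obtain ⟨a, ha⟩ := isConj_iff.1 hc
      have hinv : a * z⁻¹ * a⁻¹ = C.out⁻¹ := by rw [← ha]; group
      rw [hk1, hk2, hk1, hk2]
      congr 1 <;> refine Finset.sum_congr rfl fun η _ => ?_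
      · rw [← ha, CfsgLib.Char.irr_isClassFunction η.2 z a]
      · rw [← hinv, CfsgLib.Char.irr_isClassFunction η.2 z⁻¹ a]
    rw [Finset.sum_eq_card_nsmul hconst, nsmul_eq_mul]
    have h1 : (Finset.univ.filter (fun z : F => ConjClasses.mk z = C)).card =
        (Subgroup.centralizer ({C.out} : Set F)).index := by
      rw [← CfsgLib.Char.natCard_carrier_eq_index, Nat.card_eq_fintype_card,
        Fintype.card_of_subtype]
      intro z
      rw [Finset.mem_filter, ConjClasses.mem_carrier_iff_mk_eq,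
        show ConjClasses.mk C.out = C from Quotient.out_eq C]
      simp
    have h2 : (Nat.card F : ℂ) = ((Subgroup.centralizer ({C.out} : Set F)).index : ℂ) *
        (Nat.card (Subgroup.centralizer ({C.out} : Set F)) : ℂ) := by
      exact_mod_cast (Subgroup.index_mul_card _).symm
    have h3 : (Nat.card (Subgroup.centralizer ({C.out} : Set F)) : ℂ) ≠ 0 :=
      Nat.cast_ne_zero.2 Nat.card_pos.ne'
    rw [h1, h2]
    field_simp
  have hreg : ∀ z : F, IsPRegular p z⁻¹ ↔ IsPRegular p z := fun z => by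
    simp only [IsPRegular, orderOf_inv]
  have hcinv : ∀ z : F, Subgroup.centralizer ({z⁻¹} : Set F) = Subgroup.centralizer ({z} : Set F) :=
    fun z => by
      ext a
      rw [Subgroup.mem_centralizer_singleton_iff, Subgroup.mem_centralizer_singleton_iff]
      exact Commute.inv_right_iff (a := a) (b := z)
  rw [hμ]
  refine ⟨?_, ?_, ?_⟩
  · rw [Finset.sum_div]
    refine memLocalRing_sum _ _ fun C _ => ?_
    have h := memLocalRing_mul (hp1 x C.out).1 (hp2 y C.out⁻¹).2.1
    rw [hcinv] at h
    convert h using 1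
    ring
  · rw [Finset.sum_div]
    refine memLocalRing_sum _ _ fun C _ => ?_
    have h := memLocalRing_mul (hp1 x C.out).2.1 (hp2 y C.out⁻¹).1
    convert h using 1
    ring
  · by_cases hxy : IsPRegular p x ↔ IsPRegular p y
    · exact Or.inl hxy
    refine Or.inr (Finset.sum_eq_zero fun C _ => ?_)
    rcases (hp1 x C.out).2.2 with h | h
    · rcases (hp2 y C.out⁻¹).2.2 with h' | h'
      · exact absurd (h.trans ((hreg C.out).symm.trans h'.symm)) hxy
      · rw [h', mul_zero, mul_zero]
    · rw [h, zero_mul, mul_zero]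

end CfsgLib.Block
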