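import Cfsg.Agent.Lib.Block.LocalRing
import Cfsg.Agent.Lib.Block.GroupAlg
import Mathlib.LinearAlgebra.Matrix.Charpoly.Eigs
import Mathlib.LinearAlgebra.Matrix.Charpoly.Coeff
import Mathlib.Analysis.Complex.Polynomial.Basic
import Mathlib.GroupTheory.Perm.Cycle.Basic
import Mathlib.RingTheory.RootsOfUnity.Complex
import Mathlib.Dynamics.PeriodicPts.Lemmas

/-!
The trace lemma behind block orthogonality and the Second Main Theorem: if an idempotent matrix
over the local ring commutes with a permutation `σ` and is congruent to zero on the points fixed by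
the `p`-part of `σ`, then the trace of its product with `σ` vanishes.
-/

set_option autoImplicit false
set_option linter.unusedSectionVars false

namespace CfsgLib.Block

open Cfsg Polynomial Matrix

section Idem

variable {n : Type*} [Fintype n] [DecidableEq n] {A : Matrix n n ℂ}

theorem idem_roots_charpoly (hA : A * A = A) {t : ℂ} (ht : t ∈ A.charpoly.roots) :
    t = 0 ∨ t = 1 := by
  by_contra h
  push Not at h
  have hroot := (mem_roots'.1 ht).2
  rw [IsRoot.def, eval_charpoly] at hroot
  set a : ℂ := t⁻¹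
  set b : ℂ := (t * (t - 1))⁻¹
  have hid : (Matrix.scalar n t - A) * (a • 1 + b • A) = 1 := by
    have h1 : t * a = 1 := mul_inv_cancel₀ h.1
    have h2 : t * b - a - b = 0 := by
      have : t - 1 ≠ 0 := sub_ne_zero.2 h.2
      simp only [a, b]
      field_simp
      ring
    have hs : Matrix.scalar n t = t • (1 : Matrix n n ℂ) := by
      simp [Matrix.smul_one_eq_diagonal]
    rw [hs, sub_mul, mul_add, mul_add, smul_mul_assoc, smul_mul_assoc, one_mul, one_mul,
      mul_smul_comm, mul_smul_comm, mul_one, hA, smul_smul, smul_smul, h1, one_smul]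
    calc (1 : Matrix n n ℂ) + (t * b) • A - (a • A + b • A)
        = 1 + (t * b - a - b) • A := by rw [sub_smul, sub_smul]; abel
      _ = 1 := by rw [h2, zero_smul, add_zero]
  have := congrArg Matrix.det hid
  rw [det_mul, hroot, zero_mul, det_one] at this
  exact zero_ne_one this

/-- An idempotent matrix over `ℂ`: its trace is a natural number read off from the characteristic
polynomial. -/
theorem idem_charpoly (hA : A * A = A) : ∃ a r : ℕ,
    A.charpoly = X ^ a * (X - C 1) ^ r ∧ A.trace = r := by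
  classical
  refine ⟨A.charpoly.roots.count 0, A.charpoly.roots.count 1, ?_, ?_⟩
  · conv_lhs => rw [(IsAlgClosed.splits A.charpoly).eq_prod_roots_of_monic A.charpoly_monic]
    rw [Finset.prod_multiset_map_count]
    have hsub : A.charpoly.roots.toFinset ⊆ {0, 1} := by
      intro t ht
      rw [Multiset.mem_toFinset] at ht
      simpa using idem_roots_charpoly hA ht
    rw [Finset.prod_subset hsub, Finset.prod_pair zero_ne_one]
    · simp
    · intro t _ ht
      rw [Multiset.mem_toFinset] at ht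
      simp [Multiset.count_eq_zero.2 ht]
  · rw [trace_eq_sum_roots_charpoly, Finset.sum_multiset_count]
    have hsub : A.charpoly.roots.toFinset ⊆ {0, 1} := by
      intro t ht
      rw [Multiset.mem_toFinset] at ht
      simpa using idem_roots_charpoly hA ht
    rw [Finset.sum_subset hsub, Finset.sum_pair zero_ne_one]
    · simp
    · intro t _ ht
      rw [Multiset.mem_toFinset] at ht
      simp [Multiset.count_eq_zero.2 ht]

theorem eq_of_map_X_pow_mul_eq {k : Type*} [Field k] {a b c d : ℕ}
    (h : (X : k[X]) ^ a * (X - C 1) ^ b = X ^ c * (X - C 1) ^ d) : b = d := by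
  have h0 : ∀ e f : ℕ, rootMultiplicity 1 ((X : k[X]) ^ e * (X - C 1) ^ f) = f := fun e f => by
    rw [rootMultiplicity_mul (mul_ne_zero (pow_ne_zero _ X_ne_zero) (pow_ne_zero _ (X_sub_C_ne_zero 1))),
      rootMultiplicity_X_sub_C_pow, rootMultiplicity_eq_zero (by simp), zero_add]
  rw [← h0 a b, h, h0]

end Idem

section Perm

variable {Ω : Type*} [Fintype Ω]

/-- Powers of `μ` along the cycle through `r`. -/
noncomputable def cycleVec (σ : Equiv.Perm Ω) (μ : ℂ) (r a : Ω) : ℂ :=
  open Classical in if h : ∃ i : ℕ, (σ ^ i) r = a then μ ^ Nat.find h else 0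

variable {σ : Equiv.Perm Ω} {μ : ℂ}

theorem perm_pow_eq_iff (r : Ω) (i j : ℕ) :
    (σ ^ i) r = (σ ^ j) r ↔ i ≡ j [MOD Function.minimalPeriod σ r] := by
  rw [Equiv.Perm.coe_pow, Equiv.Perm.coe_pow]
  have key : ∀ a b : ℕ, a ≤ b → ((⇑σ)^[a] r = (⇑σ)^[b] r ↔
      a ≡ b [MOD Function.minimalPeriod σ r]) := by
    intro a b hab
    obtain ⟨c, rfl⟩ := Nat.exists_eq_add_of_le hab
    rw [Nat.modEq_iff_dvd' hab, Nat.add_sub_cancel_left, Function.iterate_add_apply]
    have h1 := (Function.isPeriodicPt_iff_minimalPeriod_dvd (f := ⇑σ) (x := r) (n := c))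
    rw [← h1]
    constructor
    · exact fun h => (σ.injective.iterate a h).symm
    · intro h
      exact congrArg _ h.eq.symm
  rcases le_total i j with h | h
  · exact key i j h
  · rw [eq_comm, key j i h]
    exact ⟨Nat.ModEq.symm, Nat.ModEq.symm⟩

theorem pow_eq_pow_of_modEq {l : ℕ} (hμ : μ ^ l = 1) {i j : ℕ} (h : i ≡ j [MOD l]) :
    μ ^ i = μ ^ j := by
  rcases le_total i j with hij | hij
  · obtain ⟨c, hc⟩ := (Nat.modEq_iff_dvd' hij).1 h
    rw [show j = i + l * c by omega, pow_add, pow_mul, hμ, one_pow, mul_one]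
  · obtain ⟨c, hc⟩ := (Nat.modEq_iff_dvd' hij).1 h.symm
    rw [show i = j + l * c by omega, pow_add, pow_mul, hμ, one_pow, mul_one]

theorem cycleVec_pow {r : Ω} (hμ : μ ^ Function.minimalPeriod σ r = 1) {a : Ω} {i : ℕ}
    (hi : (σ ^ i) r = a) : cycleVec σ μ r a = μ ^ i := by
  classical
  have h : ∃ i : ℕ, (σ ^ i) r = a := ⟨i, hi⟩
  rw [cycleVec, dif_pos h]
  exact pow_eq_pow_of_modEq hμ ((perm_pow_eq_iff r _ _).1 ((Nat.find_spec h).trans hi.symm))

theorem cycleVec_of_not_sameCycle {r a : Ω} (h : ¬ σ.SameCycle r a) : cycleVec σ μ r a = 0 := by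
  classical
  rw [cycleVec, dif_neg]
  rintro ⟨i, hi⟩
  exact h ⟨i, by simpa using hi⟩

theorem exists_pow_of_sameCycle {r a : Ω} (h : σ.SameCycle r a) :
    ∃ i : ℕ, (σ ^ i) r = a := by
  obtain ⟨i, _, hi⟩ := h.exists_pow_eq'
  exact ⟨i, hi⟩

theorem cycleVec_apply {r : Ω} (hμ : μ ^ Function.minimalPeriod σ r = 1) (a : Ω) :
    cycleVec σ μ r (σ a) = μ * cycleVec σ μ r a := by
  by_cases h : σ.SameCycle r a
  · obtain ⟨i, hi⟩ := exists_pow_of_sameCycle h
    rw [cycleVec_pow hμ hi, cycleVec_pow hμ (i := i + 1) (by rw [pow_succ', Equiv.Perm.mul_apply, hi]),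
      pow_succ, mul_comm]
  · rw [cycleVec_of_not_sameCycle h, cycleVec_of_not_sameCycle, mul_zero]
    rwa [Equiv.Perm.sameCycle_apply_right]

variable (σ) in
/-- Representatives of the cycles (fixed points included) on which `μ` is admissible. -/
def CycleRep (μ : ℂ) : Type _ :=
  {q : Quotient (Equiv.Perm.SameCycle.setoid σ) // μ ^ Function.minimalPeriod σ q.out = 1}

noncomputable instance cycleRep_fintype : Fintype (CycleRep σ μ) :=
  have : Finite (Quotient (Equiv.Perm.SameCycle.setoid σ)) :=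
    Finite.of_surjective _ (Quotient.mk_surjective (s := Equiv.Perm.SameCycle.setoid σ))
  Fintype.ofFinite {q : Quotient (Equiv.Perm.SameCycle.setoid σ) //
    μ ^ Function.minimalPeriod σ q.out = 1}

noncomputable instance cycleRep_decEq : DecidableEq (CycleRep σ μ) := Classical.decEq _

/-- The representative of a cycle. -/
noncomputable def CycleRep.pt (o : CycleRep σ μ) : Ω := o.1.out

theorem CycleRep.adm (o : CycleRep σ μ) : μ ^ Function.minimalPeriod σ o.pt = 1 := o.2

theorem eigen_pow {w : Ω → ℂ} (hw : ∀ a, w (σ a) = μ * w a) (i : ℕ) (a : Ω) :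
    w ((σ ^ i) a) = μ ^ i * w a := by
  induction i with
  | zero => simp
  | succ i ih => rw [pow_succ', Equiv.Perm.mul_apply, hw, ih, pow_succ]; ring

/-- An eigenfunction is a combination of the cycle vectors. -/
theorem eigen_eq_sum {w : Ω → ℂ} (hw : ∀ a, w (σ a) = μ * w a) (a : Ω) :
    w a = ∑ o : CycleRep σ μ, w o.pt * cycleVec σ μ o.pt a := by
  classical
  set q : Quotient (Equiv.Perm.SameCycle.setoid σ) := Quotient.mk _ a with hq
  have hqa : σ.SameCycle q.out a := Quotient.exact (s := Equiv.Perm.SameCycle.setoid σ) (by rw [Quotient.out_eq])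
  obtain ⟨i, hi⟩ := exists_pow_of_sameCycle hqa
  have hwa : w a = μ ^ i * w q.out := by rw [← hi, eigen_pow hw]
  by_cases hq' : μ ^ Function.minimalPeriod σ q.out = 1
  · let oq : CycleRep σ μ := ⟨q, hq'⟩
    rw [Fintype.sum_eq_single oq]
    · rw [hwa, cycleVec_pow (CycleRep.adm oq) hi, mul_comm]
      rfl
    · intro o ho
      rw [cycleVec_of_not_sameCycle, mul_zero]
      intro h
      apply ho
      apply Subtype.ext
      change o.1 = q
      rw [← Quotient.out_eq o.1, hq]
      exact Quotient.sound h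
  · have h0 : w q.out = 0 := by
      have h1 := eigen_pow hw (Function.minimalPeriod σ q.out) q.out
      rw [Equiv.Perm.coe_pow, Function.iterate_minimalPeriod] at h1
      have h2 : (μ ^ Function.minimalPeriod σ q.out - 1) * w q.out = 0 := by linear_combination -h1
      exact (mul_eq_zero.1 h2).resolve_left (sub_ne_zero.2 hq')
    rw [hwa, h0, mul_zero, Finset.sum_eq_zero]
    intro o _
    rw [cycleVec_of_not_sameCycle, mul_zero]
    intro h
    apply hq'
    have : o.1 = q := by
      rw [← Quotient.out_eq o.1, hq]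
      exact Quotient.sound h
    rw [← this]
    exact o.2

/-- The matrix of `X` on the `μ`-eigenspace of `σ`, in the basis of cycle vectors. -/
noncomputable def eigenMat (X : Matrix Ω Ω ℂ) (σ : Equiv.Perm Ω) (μ : ℂ) :
    Matrix (CycleRep σ μ) (CycleRep σ μ) ℂ :=
  Matrix.of fun o' o => ∑ a, X o'.pt a * cycleVec σ μ o.pt a

theorem eigenMat_idem {X : Matrix Ω Ω ℂ} (hX : X * X = X)
    (hσ : ∀ a b, X (σ a) (σ b) = X a b) : eigenMat X σ μ * eigenMat X σ μ = eigenMat X σ μ := by
  ext o'' o
  simp only [Matrix.mul_apply, eigenMat, Matrix.of_apply]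
  set w : Ω → ℂ := fun c => ∑ a, X c a * cycleVec σ μ o.pt a with hw
  have hweig : ∀ c, w (σ c) = μ * w c := by
    intro c
    simp only [hw, Finset.mul_sum]
    refine (Fintype.sum_equiv σ _ _ fun a => ?_).symm
    rw [hσ, cycleVec_apply o.adm]
    ring
  have hw2 : ∀ o' : CycleRep σ μ, ∑ a, X o'.pt a * cycleVec σ μ o.pt a = w o'.pt := fun _ => rfl
  simp only [hw2, Finset.sum_mul]
  rw [Finset.sum_comm]
  calc ∑ a, ∑ o' : CycleRep σ μ, X o''.pt a * cycleVec σ μ o'.pt a * w o'.pt
      = ∑ a, X o''.pt a * w a := by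
        refine Finset.sum_congr rfl fun a _ => ?_
        rw [eigen_eq_sum hweig a, Finset.mul_sum]
        exact Finset.sum_congr rfl fun o' _ => by ring
    _ = w o''.pt := by
        simp only [hw, Finset.mul_sum]
        rw [Finset.sum_comm]
        refine Finset.sum_congr rfl fun b _ => ?_
        conv_rhs => rw [← hX, Matrix.mul_apply, Finset.sum_mul]
        exact Finset.sum_congr rfl fun a _ => by ring

section Modular

variable {p : ℕ} {M : Ideal AlgInt} [M.IsPrime]

theorem memLocalRing_cycleVec (hμ : MemLocalRing M μ) (r a : Ω) :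
    MemLocalRing M (cycleVec σ μ r a) := by
  classical
  unfold cycleVec
  split
  · exact (lring M).pow_mem hμ _
  · exact (lring M).zero_mem

theorem memLocalRing_of_pow_eq_one {z : ℂ} {n : ℕ} (hn : 0 < n) (hz : z ^ n = 1) :
    MemLocalRing M z :=
  memLocalRing_of_isIntegral (IsIntegral.of_pow hn (by rw [hz]; exact isIntegral_one))

/-- A `p`-th root of unity is `1` modulo `M`. -/
theorem memLocalIdeal_root_sub_one (hM : IsPModular p M) {ζ : ℂ} {n : ℕ} (hζ : ζ ^ p ^ n = 1) :
    MemLocalIdeal M (ζ - 1) := by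
  have hz : MemLocalRing M ζ := memLocalRing_of_pow_eq_one (pow_pos hM.1.pos n) hζ
  have := charP_kres hM
  have := Fact.mk hM.1
  have h1 : (redC M ζ) ^ p ^ n = 1 := by
    rw [redC_eq hz, ← map_pow, ← map_one (red M)]
    congr 1
    exact Subtype.ext hζ
  have h2 : redC M ζ = 1 := by
    have h3 : (redC M ζ - 1) ^ p ^ n = 0 := by
      rw [sub_pow_char_pow, h1, one_pow, sub_self]
    exact sub_eq_zero.1 (pow_eq_zero_iff'.1 h3).1
  rw [← redC_eq_iff hz (lring M).one_mem, h2, redC_one]

variable (M) in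
/-- The characteristic polynomial of the reduced eigenspace matrix is that of its block on cycles of
length divisible by `p`, times a power of `X`. -/
theorem eigenMat_charpoly_red (hM : IsPModular p M) {X : Matrix Ω Ω ℂ}
    (hXR : ∀ a b, MemLocalRing M (X a b)) (hσ : ∀ a b, X (σ a) (σ b) = X a b)
    (hfix : ∀ a b, ¬ p ∣ Function.minimalPeriod σ a → ¬ p ∣ Function.minimalPeriod σ b →
      MemLocalIdeal M (X a b))
    (hμR : MemLocalRing M μ) :
    ∃ (Y : Matrix (CycleRep σ μ) (CycleRep σ μ) (lring M)) (c : ℕ),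
      Y.map (lring M).subtype = eigenMat X σ μ ∧
      (Y.map (red M)).charpoly = Polynomial.X ^ c *
        ((Y.map (red M)).submatrix
          (Subtype.val : {o : CycleRep σ μ // p ∣ Function.minimalPeriod σ o.pt} → _)
          (Subtype.val : {o : CycleRep σ μ // p ∣ Function.minimalPeriod σ o.pt} → _)).charpoly := by
  classical
  have hR : ∀ o' o : CycleRep σ μ, MemLocalRing M (eigenMat X σ μ o' o) := fun o' o =>
    memLocalRing_sum _ _ fun a _ => memLocalRing_mul (hXR _ _) (memLocalRing_cycleVec hμR _ _)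
  refine ⟨Matrix.of fun o' o => ⟨eigenMat X σ μ o' o, hR o' o⟩,
    Fintype.card {o : CycleRep σ μ // ¬ p ∣ Function.minimalPeriod σ o.pt}, ?_, ?_⟩
  · ext o' o; rfl
  have hrow : ∀ o' o : CycleRep σ μ, ¬ p ∣ Function.minimalPeriod σ o'.pt →
      MemLocalIdeal M (eigenMat X σ μ o' o) := by
    intro o' o ho'
    simp only [eigenMat, Matrix.of_apply]
    by_cases ho : p ∣ Function.minimalPeriod σ o.pt
    · -- the summand is invariant under `σ ^ l'`
      set l' := Function.minimalPeriod σ o'.pt with hl'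
      have hinv : ∀ a, X o'.pt ((σ ^ l') a) * cycleVec σ μ o.pt ((σ ^ l') a)
          = X o'.pt a * cycleVec σ μ o.pt a := by
        intro a
        have h1 : (σ ^ l') o'.pt = o'.pt := by
          rw [Equiv.Perm.coe_pow, hl']
          exact Function.iterate_minimalPeriod
        have h2 : X ((σ ^ l') o'.pt) ((σ ^ l') a) = X o'.pt a := by
          have : ∀ (i : ℕ) (u v : Ω), X ((σ ^ i) u) ((σ ^ i) v) = X u v := by
            intro i
            induction i with
            | zero => simp
            | succ i ih => intro u v; rw [pow_succ', Equiv.Perm.mul_apply, Equiv.Perm.mul_apply, hσ, ih]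
          exact this l' _ _
        rw [h1] at h2
        rw [h2, eigen_pow (fun c => cycleVec_apply o.adm c), o'.adm, one_mul]
      -- regroup the sum along the powers of `τ = σ ^ (l' * k)` acting as a `p`-element
      set N := orderOf σ
      have hN : 0 < N := orderOf_pos σ
      obtain ⟨e, u, hu, hNu⟩ := Nat.exists_eq_pow_mul_and_not_dvd hN.ne' p hM.1.ne_one
      set τ := σ ^ (l' * u) with hτ
      have hτp : τ ^ p ^ e = 1 := by
        rw [hτ, ← pow_mul, show l' * u * p ^ e = N * l' by rw [hNu]; ring, pow_mul,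
          pow_orderOf_eq_one, one_pow]
      have hP : IsPGroup p (Subgroup.zpowers τ) := by
        rintro ⟨x, hx⟩
        obtain ⟨j, rfl⟩ := Subgroup.mem_zpowers_iff.1 hx
        refine ⟨e, Subtype.ext ?_⟩
        simp only [SubmonoidClass.coe_pow, OneMemClass.coe_one]
        rw [← zpow_natCast, ← _root_.zpow_mul, mul_comm, _root_.zpow_mul, zpow_natCast, hτp, _root_.one_zpow]
      have := Fact.mk hM.1
      have := charP_kres hM
      let f : Ω → kres M := fun a => redC M (X o'.pt a * cycleVec σ μ o.pt a)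
      have hfR : ∀ a, MemLocalRing M (X o'.pt a * cycleVec σ μ o.pt a) := fun a =>
        memLocalRing_mul (hXR _ _) (memLocalRing_cycleVec hμR _ _)
      rw [← redC_eq_zero_iff (memLocalRing_sum _ _ fun a _ => hfR a)]
      rw [show redC M (∑ a, X o'.pt a * cycleVec σ μ o.pt a) = ∑ a, f a from by
        induction (Finset.univ : Finset Ω) using Finset.induction with
        | empty => simp [redC_zero]
        | insert a s ha ih =>
          rw [Finset.sum_insert ha, Finset.sum_insert ha,
            redC_add (hfR a) (memLocalRing_sum _ _ fun a _ => hfR a), ih]]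
      have hsum : ∑ a, f a = ∑ a with a ∈ MulAction.fixedPoints (Subgroup.zpowers τ) Ω, f a := by
        have hinvτ : ∀ (g : Subgroup.zpowers τ) (a : Ω), f (g • a) = f a := by
          rintro ⟨g, hg⟩ a
          change f (g a) = f a
          obtain ⟨j, rfl⟩ := mem_powers_iff_mem_zpowers.2 hg
          simp only [f, hτ, ← pow_mul]
          congr 1
          have hiter : ∀ (i : ℕ) (c : Ω), X o'.pt ((σ ^ (l' * i)) c) *
              cycleVec σ μ o.pt ((σ ^ (l' * i)) c) = X o'.pt c * cycleVec σ μ o.pt c := by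
            intro i
            induction i with
            | zero => simp
            | succ i ih =>
              intro c
              rw [Nat.mul_succ, pow_add, Equiv.Perm.mul_apply, ih, hinv]
          rw [mul_assoc]
          exact hiter _ _
        exact sum_eq_sum_fixed hP (p := p) (fun v => by simp [nsmul_eq_mul]) f hinvτ
      rw [hsum]
      refine Finset.sum_eq_zero fun a ha => ?_
      simp only [Finset.mem_filter, Finset.mem_univ, true_and] at ha
      have h1 : τ a = a := ha ⟨τ, Subgroup.mem_zpowers τ⟩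
      simp only [f]
      rw [cycleVec_of_not_sameCycle, mul_zero, redC_zero]
      intro h
      have hl : Function.minimalPeriod σ o.pt ∣ l' * u := by
        obtain ⟨i, hi⟩ := exists_pow_of_sameCycle h
        have h2 : (σ ^ (l' * u + i)) o.pt = (σ ^ i) o.pt := by
          rw [pow_add, Equiv.Perm.mul_apply, hi, ← hτ, h1]
        have := (perm_pow_eq_iff _ _ _).1 h2
        have h3 : l' * u + i ≡ 0 + i [MOD Function.minimalPeriod σ o.pt] := by simpa using this
        exact Nat.modEq_zero_iff_dvd.1 (Nat.ModEq.add_right_cancel' i h3)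
      rcases hM.1.dvd_mul.1 (ho.trans hl) with h4 | h4
      · exact ho' h4
      · exact hu h4
    · refine memLocalIdeal_sum _ _ fun a _ => ?_
      by_cases h : σ.SameCycle o.pt a
      · obtain ⟨i, hi⟩ := exists_pow_of_sameCycle h
        refine memLocalIdeal_mul_right (memLocalRing_cycleVec hμR _ _) (hfix _ _ ho' ?_)
        rw [← hi, Equiv.Perm.coe_pow, Function.minimalPeriod_apply_iterate]
        · exact ho
        · exact Function.Injective.mem_periodicPts σ.injective _
      · rw [cycleVec_of_not_sameCycle h, mul_zero]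
        exact memLocalIdeal_zero
  set e := (Equiv.sumCompl fun o : CycleRep σ μ => p ∣ Function.minimalPeriod σ o.pt).symm
  set Z := (Matrix.of fun o' o => (⟨eigenMat X σ μ o' o, hR o' o⟩ : lring M)).map (red M)
  have hblk : Matrix.reindex e e Z = Matrix.fromBlocks
      (Z.submatrix Subtype.val Subtype.val) (Z.submatrix Subtype.val Subtype.val) 0 0 := by
    ext (i | i) (j | j) <;> simp [e, Z, red_eq_zero]
    · exact hrow _ _ i.2
    · exact hrow _ _ i.2
  rw [← Matrix.charpoly_reindex e Z, hblk, Matrix.charpoly_fromBlocks_zero₂₁, Matrix.charpoly_zero,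
    mul_comm]

theorem trace_eigenMat_eq (hM : IsPModular p M) {X : Matrix Ω Ω ℂ} (hX : X * X = X)
    (hXR : ∀ a b, MemLocalRing M (X a b)) (hσ : ∀ a b, X (σ a) (σ b) = X a b)
    (hfix : ∀ a b, ¬ p ∣ Function.minimalPeriod σ a → ¬ p ∣ Function.minimalPeriod σ b →
      MemLocalIdeal M (X a b))
    (hμR : MemLocalRing M μ) {ζ : ℂ} (hζ : ζ ^ p = 1) :
    (eigenMat X σ (ζ * μ)).trace = (eigenMat X σ μ).trace := by
  classical
  have hζR : MemLocalRing M ζ := memLocalRing_of_pow_eq_one hM.1.pos hζ
  have hζ1 : redC M ζ = 1 := by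
    rw [← redC_one, redC_eq_iff hζR (lring M).one_mem]
    exact memLocalIdeal_root_sub_one hM (n := 1) (by rwa [pow_one])
  have hζpow : ∀ l : ℕ, p ∣ l → ζ ^ l = 1 := by
    rintro l ⟨c, rfl⟩
    rw [pow_mul, hζ, one_pow]
  have hμ'R : MemLocalRing M (ζ * μ) := memLocalRing_mul hζR hμR
  obtain ⟨a₁, r₁, h₁, t₁⟩ := idem_charpoly (eigenMat_idem (μ := μ) hX hσ)
  obtain ⟨a₂, r₂, h₂, t₂⟩ := idem_charpoly (eigenMat_idem (μ := ζ * μ) hX hσ)
  obtain ⟨Y₁, c₁, hY₁, e₁⟩ := eigenMat_charpoly_red M (σ := σ) (μ := μ) hM hXR hσ hfix hμR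
  obtain ⟨Y₂, c₂, hY₂, e₂⟩ := eigenMat_charpoly_red M (σ := σ) (μ := ζ * μ) hM hXR hσ hfix hμ'R
  let e : {o : CycleRep σ μ // p ∣ Function.minimalPeriod σ o.pt} ≃
      {o : CycleRep σ (ζ * μ) // p ∣ Function.minimalPeriod σ o.pt} :=
    { toFun := fun o => ⟨⟨o.1.1, by
        have h2 : p ∣ Function.minimalPeriod σ o.1.1.out := o.2
        rw [mul_pow, hζpow _ h2, one_mul]; exact o.1.2⟩, o.2⟩
      invFun := fun o => ⟨⟨o.1.1, by
        have h := o.1.2
        have h2 : p ∣ Function.minimalPeriod σ o.1.1.out := o.2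
        rw [mul_pow, hζpow _ h2, one_mul] at h
        exact h⟩, o.2⟩
      left_inv := fun o => rfl
      right_inv := fun o => rfl }
  have hvec : ∀ r a : Ω, redC M (cycleVec σ (ζ * μ) r a) = redC M (cycleVec σ μ r a) := by
    intro r a
    unfold cycleVec
    split
    · next h =>
      rw [mul_pow, redC_mul ((lring M).pow_mem hζR _) ((lring M).pow_mem hμR _)]
      have : redC M (ζ ^ Nat.find h) = 1 := by
        rw [redC_eq ((lring M).pow_mem hζR _)]
        rw [redC_eq hζR] at hζ1
        rw [← one_pow (Nat.find h), ← hζ1, ← map_pow]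
        rfl
      rw [this, one_mul]
    · rfl
  have hent : ∀ o o', redC M (eigenMat X σ (ζ * μ) (e o).1 (e o').1)
      = redC M (eigenMat X σ μ o.1 o'.1) := by
    intro o o'
    simp only [eigenMat, Matrix.of_apply]
    rw [redC_eq_iff (memLocalRing_sum _ _ fun a _ =>
      memLocalRing_mul (hXR _ _) (memLocalRing_cycleVec hμ'R _ _))
      (memLocalRing_sum _ _ fun a _ => memLocalRing_mul (hXR _ _) (memLocalRing_cycleVec hμR _ _)),
      ← Finset.sum_sub_distrib]
    refine memLocalIdeal_sum _ _ fun a _ => ?_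
    change MemLocalIdeal M (X o.1.pt a * cycleVec σ (ζ * μ) o'.1.pt a -
      X o.1.pt a * cycleVec σ μ o'.1.pt a)
    rw [← mul_sub]
    exact memLocalIdeal_mul_left (hXR _ _) ((redC_eq_iff (memLocalRing_cycleVec hμ'R _ _)
      (memLocalRing_cycleVec hμR _ _)).1 (hvec _ _))
  have hblock : Matrix.reindex e e ((Y₁.map (red M)).submatrix Subtype.val Subtype.val) =
      (Y₂.map (red M)).submatrix Subtype.val Subtype.val := by
    ext i j
    obtain ⟨i, rfl⟩ := e.surjective i
    obtain ⟨j, rfl⟩ := e.surjective j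
    simp only [Matrix.reindex_apply, Matrix.submatrix_apply, Equiv.symm_apply_apply, Matrix.map_apply]
    have u₁ : ((Y₁ i.1 j.1 : lring M) : ℂ) = eigenMat X σ μ i.1 j.1 := by rw [← hY₁]; rfl
    have u₂ : ((Y₂ (e i).1 (e j).1 : lring M) : ℂ) = eigenMat X σ (ζ * μ) (e i).1 (e j).1 := by
      rw [← hY₂]; rfl
    rw [← redC_coe, ← redC_coe, u₁, u₂, hent]
  rw [← hblock, Matrix.charpoly_reindex] at e₂
  have key : ∀ {m : Type _} [Fintype m] [DecidableEq m] (Y : Matrix m m (lring M))
      (A : Matrix m m ℂ) (a r : ℕ), Y.map (lring M).subtype = A →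
      A.charpoly = Polynomial.X ^ a * (Polynomial.X - Polynomial.C 1) ^ r →
      (Y.map (red M)).charpoly = Polynomial.X ^ a * (Polynomial.X - Polynomial.C 1) ^ r := by
    intro m _ _ Y A a r hY hA
    have : Y.charpoly = Polynomial.X ^ a * (Polynomial.X - Polynomial.C 1) ^ r := by
      apply Polynomial.map_injective (lring M).subtype (Subring.subtype_injective _)
      rw [← Matrix.charpoly_map, hY, hA]
      simp
    rw [Matrix.charpoly_map, this]
    simp
  rw [key Y₁ _ a₁ r₁ hY₁ h₁] at e₁
  rw [key Y₂ _ a₂ r₂ hY₂ h₂] at e₂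
  set Q := ((Y₁.map (red M)).submatrix
        (Subtype.val : {o : CycleRep σ μ // p ∣ Function.minimalPeriod σ o.pt} → _)
        (Subtype.val : {o : CycleRep σ μ // p ∣ Function.minimalPeriod σ o.pt} → _)).charpoly with hQ
  have hmult : ∀ e' : ℕ, rootMultiplicity 1 (Polynomial.X ^ e' * Q) = rootMultiplicity 1 Q := by
    intro e'
    have hQ0 : Q ≠ 0 := (Matrix.charpoly_monic _).ne_zero
    rw [rootMultiplicity_mul (mul_ne_zero (pow_ne_zero _ X_ne_zero) hQ0),
      rootMultiplicity_eq_zero (p := (Polynomial.X : (kres M)[X]) ^ e') (by simp), zero_add]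
  have h0 : ∀ e' f : ℕ, rootMultiplicity 1
      ((Polynomial.X : (kres M)[X]) ^ e' * (Polynomial.X - Polynomial.C 1) ^ f) = f := fun e' f => by
    rw [rootMultiplicity_mul (mul_ne_zero (pow_ne_zero _ X_ne_zero)
      (pow_ne_zero _ (X_sub_C_ne_zero 1))), rootMultiplicity_X_sub_C_pow,
      rootMultiplicity_eq_zero (p := (Polynomial.X : (kres M)[X]) ^ e') (by simp), zero_add]
  have hr₁ := congrArg (rootMultiplicity 1) e₁
  have hr₂ := congrArg (rootMultiplicity 1) e₂
  rw [h0, hmult] at hr₁ hr₂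
  rw [t₁, t₂, hr₁, hr₂]

/-- The trace lemma. -/
theorem sum_apply_perm_eq_zero (hM : IsPModular p M) {X : Matrix Ω Ω ℂ} (hX : X * X = X)
    (hXR : ∀ a b, MemLocalRing M (X a b)) (hσ : ∀ a b, X (σ a) (σ b) = X a b)
    (hfix : ∀ a b, ¬ p ∣ Function.minimalPeriod σ a → ¬ p ∣ Function.minimalPeriod σ b →
      MemLocalIdeal M (X a b)) :
    ∑ a, X a (σ a) = 0 := by
  classical
  set n := p * orderOf σ with hn
  have hn0 : 0 < n := Nat.mul_pos hM.1.pos (orderOf_pos σ)
  set S : Finset ℂ := Polynomial.nthRootsFinset n (1 : ℂ) with hS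
  have hmem : ∀ x, x ∈ S ↔ x ^ n = 1 := fun x => Polynomial.mem_nthRootsFinset hn0 1
  have hl : ∀ r : Ω, Function.minimalPeriod σ r ∣ n := by
    intro r
    refine Dvd.dvd.mul_left ?_ p
    apply Function.IsPeriodicPt.minimalPeriod_dvd
    change (⇑σ)^[orderOf σ] r = r
    rw [← Equiv.Perm.coe_pow, pow_orderOf_eq_one]
    rfl
  -- the twisted sum of traces is zero
  have hzero : ∑ μ ∈ S, μ ^ (n - 1) * (eigenMat X σ μ).trace = 0 := by
    have hzeta : ∃ ζ : ℂ, ζ ^ p = 1 ∧ ζ ^ (n - 1) ≠ 1 := by
      obtain ⟨ζ, hζ⟩ : ∃ ζ : ℂ, IsPrimitiveRoot ζ p :=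
        ⟨_, Complex.isPrimitiveRoot_exp p hM.1.ne_zero⟩
      refine ⟨ζ, hζ.pow_eq_one, fun h => ?_⟩
      have hpd := (hζ.pow_eq_one_iff_dvd _).1 h
      have h1 : p ∣ n - (n - 1) := Nat.dvd_sub (Dvd.intro _ hn.symm) hpd
      rw [show n - (n - 1) = 1 by omega] at h1
      exact hM.1.ne_one (Nat.dvd_one.1 h1)
    obtain ⟨ζ, hζ, hζn⟩ := hzeta
    have hmap : ∑ μ ∈ S, μ ^ (n - 1) * (eigenMat X σ μ).trace =
        ∑ μ ∈ S, (ζ * μ) ^ (n - 1) * (eigenMat X σ (ζ * μ)).trace := by
      have hζn' : ζ ^ n = 1 := by rw [hn, pow_mul, hζ, one_pow]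
      have hζ0 : ζ ≠ 0 := fun h => by simp [h, zero_pow hM.1.ne_zero] at hζ
      refine (Finset.sum_nbij' (fun μ => ζ * μ) (fun μ => ζ⁻¹ * μ) ?_ ?_ ?_ ?_ ?_).symm
      · intro μ hμ
        have hμ' := (hmem μ).1 hμ
        refine (hmem _).2 ?_
        rw [mul_pow, hζn', hμ', one_mul]
      · intro μ hμ
        have hμ' := (hmem μ).1 hμ
        refine (hmem _).2 ?_
        rw [mul_pow, inv_pow, hζn', hμ', inv_one, one_mul]
      · intro μ _; simp [hζ0]
      · intro μ _; simp [hζ0]
      · intro μ _; rfl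
    have h2 : ∑ μ ∈ S, (ζ * μ) ^ (n - 1) * (eigenMat X σ (ζ * μ)).trace =
        ζ ^ (n - 1) * ∑ μ ∈ S, μ ^ (n - 1) * (eigenMat X σ μ).trace := by
      rw [Finset.mul_sum]
      refine Finset.sum_congr rfl fun μ hμ => ?_
      rw [trace_eigenMat_eq hM hX hXR hσ hfix
        (memLocalRing_of_pow_eq_one hn0 ((hmem μ).1 hμ)) hζ, mul_pow]
      ring
    rw [h2] at hmap
    have h3 : (1 - ζ ^ (n - 1)) * ∑ μ ∈ S, μ ^ (n - 1) * (eigenMat X σ μ).trace = 0 := by
      linear_combination hmap
    exact (mul_eq_zero.1 h3).resolve_left (sub_ne_zero.2 (Ne.symm hζn))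
  -- compute the twisted sum
  have : Finite (Quotient (Equiv.Perm.SameCycle.setoid σ)) :=
    Finite.of_surjective _ (Quotient.mk_surjective (s := Equiv.Perm.SameCycle.setoid σ))
  let _ := Fintype.ofFinite (Quotient (Equiv.Perm.SameCycle.setoid σ))
  have htr : ∀ μ, (eigenMat X σ μ).trace = ∑ q : Quotient (Equiv.Perm.SameCycle.setoid σ),
      if μ ^ Function.minimalPeriod σ q.out = 1 then
        ∑ a, X q.out a * cycleVec σ μ q.out a else 0 := by
    intro μ
    rw [Matrix.trace, ← Finset.sum_filter]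
    refine Finset.sum_bij (fun (o : CycleRep σ μ) _ => o.1) ?_ ?_ ?_ ?_
    · intro o _
      exact Finset.mem_filter.2 ⟨Finset.mem_univ _, o.2⟩
    · intro o _ o' _ h
      exact Subtype.ext h
    · intro q hq
      exact ⟨⟨q, (Finset.mem_filter.1 hq).2⟩, Finset.mem_univ _, rfl⟩
    · intro o _
      rfl
  -- orthogonality of the roots of unity
  have hroot : ∀ (r a : Ω), ∑ μ ∈ S with μ ^ Function.minimalPeriod σ r = 1,
      μ ^ (n - 1) * cycleVec σ μ r a =
        if a = σ r then (Function.minimalPeriod σ r : ℂ) else 0 := by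
    intro r a
    set l := Function.minimalPeriod σ r with hldef
    have hlpos : 0 < l := Function.minimalPeriod_pos_of_mem_periodicPts
      (σ.injective.mem_periodicPts r)
    have hset : S.filter (fun μ => μ ^ l = 1) = Polynomial.nthRootsFinset l (1 : ℂ) := by
      ext μ
      rw [Finset.mem_filter, hmem, Polynomial.mem_nthRootsFinset hlpos]
      constructor
      · exact fun h => h.2
      · intro h
        obtain ⟨c, hc⟩ := hl r
        exact ⟨by rw [hc, ← hldef, pow_mul, h, one_pow], h⟩
    rw [hset]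
    by_cases hs : σ.SameCycle r a
    · obtain ⟨i, hi⟩ := exists_pow_of_sameCycle hs
      rw [Finset.sum_congr rfl (g := fun μ => μ ^ (n - 1 + i)) (fun μ hμ => by
        rw [cycleVec_pow ((Polynomial.mem_nthRootsFinset hlpos 1).1 hμ) hi, pow_add])]
      have hiff : a = σ r ↔ l ∣ n - 1 + i := by
        have h1 : a = σ r ↔ i ≡ 1 [MOD l] := by
          rw [← hi, hldef, ← perm_pow_eq_iff r i 1, pow_one]
        rw [h1, ← Nat.modEq_zero_iff_dvd]
        have h2 : (n - 1) + 1 ≡ 0 [MOD l] := Nat.modEq_zero_iff_dvd.2 (by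
          rw [Nat.sub_add_cancel hn0]; exact hl r)
        constructor
        · intro h
          exact (h.add_left (n - 1)).trans h2
        · intro h
          exact Nat.ModEq.add_left_cancel' (n - 1) (h.trans h2.symm)
      split_ifs with ha
      · obtain ⟨c, hc⟩ := hiff.1 ha
        rw [Finset.sum_congr rfl (g := fun _ => (1 : ℂ)) (fun μ hμ => by
          rw [hc, pow_mul, (Polynomial.mem_nthRootsFinset hlpos 1).1 hμ, one_pow])]
        obtain ⟨ω, hω⟩ : ∃ ω : ℂ, IsPrimitiveRoot ω l :=
          ⟨_, Complex.isPrimitiveRoot_exp l hlpos.ne'⟩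
        simp [hω.card_nthRootsFinset]
      · obtain ⟨ω, hω⟩ : ∃ ω : ℂ, IsPrimitiveRoot ω l :=
          ⟨_, Complex.isPrimitiveRoot_exp l hlpos.ne'⟩
        have hne : ω ^ (n - 1 + i) ≠ 1 := fun h => ha (hiff.2 ((hω.pow_eq_one_iff_dvd _).1 h))
        have hω0 : ω ≠ 0 := hω.ne_zero hlpos.ne'
        have hs : ω ^ (n - 1 + i) * ∑ μ ∈ Polynomial.nthRootsFinset l (1 : ℂ), μ ^ (n - 1 + i)
            = ∑ μ ∈ Polynomial.nthRootsFinset l (1 : ℂ), μ ^ (n - 1 + i) := by
          rw [Finset.mul_sum]
          refine Finset.sum_nbij' (fun μ => ω * μ) (fun μ => ω⁻¹ * μ) ?_ ?_ ?_ ?_ ?_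
          · intro μ hμ
            have hμ' := (Polynomial.mem_nthRootsFinset hlpos 1).1 hμ
            refine (Polynomial.mem_nthRootsFinset hlpos 1).2 ?_
            rw [mul_pow, hω.pow_eq_one, hμ', one_mul]
          · intro μ hμ
            have hμ' := (Polynomial.mem_nthRootsFinset hlpos 1).1 hμ
            refine (Polynomial.mem_nthRootsFinset hlpos 1).2 ?_
            rw [mul_pow, inv_pow, hω.pow_eq_one, hμ', inv_one, one_mul]
          · intro μ _; simp [hω0]
          · intro μ _; simp [hω0]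
          · intro μ _; rw [mul_pow]
        exact (mul_left_eq_self₀.1 hs).resolve_left hne
    · have hne : a ≠ σ r := fun h => hs (h ▸ Equiv.Perm.sameCycle_apply_right.2 (Equiv.Perm.SameCycle.refl σ r))
      rw [if_neg hne]
      exact Finset.sum_eq_zero fun μ _ => by rw [cycleVec_of_not_sameCycle hs, mul_zero]
  -- the twisted sum equals the trace of the product
  have hcalc : ∑ μ ∈ S, μ ^ (n - 1) * (eigenMat X σ μ).trace =
      ∑ q : Quotient (Equiv.Perm.SameCycle.setoid σ),
        (Function.minimalPeriod σ q.out : ℂ) * X q.out (σ q.out) := by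
    simp only [htr, Finset.mul_sum, mul_ite, mul_zero]
    rw [Finset.sum_comm]
    refine Finset.sum_congr rfl fun q _ => ?_
    rw [← Finset.sum_filter, Finset.sum_comm]
    rw [Finset.sum_eq_single (σ q.out)]
    · have h := hroot q.out (σ q.out)
      rw [if_pos rfl] at h
      rw [← h, Finset.sum_mul]
      exact Finset.sum_congr rfl fun μ _ => by ring
    · intro a _ ha
      have h := hroot q.out a
      rw [if_neg ha] at h
      rw [show (0 : ℂ) = X q.out a * 0 by ring, ← h, Finset.mul_sum]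
      exact Finset.sum_congr rfl fun μ _ => by ring
    · simp
  rw [← hzero, hcalc, ← Finset.sum_fiberwise Finset.univ
    (fun a : Ω => (Quotient.mk (Equiv.Perm.SameCycle.setoid σ) a))]
  refine Finset.sum_congr rfl fun q _ => ?_
  have hconst : ∀ a ∈ Finset.univ.filter
      (fun a : Ω => Quotient.mk (Equiv.Perm.SameCycle.setoid σ) a = q),
      X a (σ a) = X q.out (σ q.out) := by
    intro a ha
    have hs : σ.SameCycle q.out a := Quotient.exact (s := Equiv.Perm.SameCycle.setoid σ)
      (by rw [Quotient.out_eq]; exact (Finset.mem_filter.1 ha).2.symm)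
    obtain ⟨i, hi⟩ := exists_pow_of_sameCycle hs
    subst hi
    clear hs ha
    induction i with
    | zero => simp
    | succ i ih => rw [pow_succ', Equiv.Perm.mul_apply, hσ, ih]
  rw [Finset.sum_congr rfl hconst, Finset.sum_const, nsmul_eq_mul]
  congr 2
  symm
  refine (Finset.card_range _).symm.trans
    (Finset.card_bij (fun i _ => (σ ^ i) q.out) (s := Finset.range (Function.minimalPeriod σ q.out))
      ?_ ?_ ?_)
  · intro i _
    rw [Finset.mem_filter]
    refine ⟨Finset.mem_univ _, ?_⟩
    conv_rhs => rw [← Quotient.out_eq q]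
    exact Quotient.sound (Equiv.Perm.SameCycle.symm ⟨i, by simp⟩)
  · intro i hi j hj h
    rw [Finset.mem_range] at hi hj
    exact Nat.ModEq.eq_of_lt_of_lt ((perm_pow_eq_iff _ _ _).1 h) hi hj
  · intro a ha
    have hs : σ.SameCycle q.out a := Quotient.exact (s := Equiv.Perm.SameCycle.setoid σ)
      (by rw [Quotient.out_eq]; exact (Finset.mem_filter.1 ha).2.symm)
    obtain ⟨i, hi⟩ := exists_pow_of_sameCycle hs
    refine ⟨i % Function.minimalPeriod σ q.out, Finset.mem_range.2 (Nat.mod_lt _
      (Function.minimalPeriod_pos_of_mem_periodicPts (σ.injective.mem_periodicPts _))), ?_⟩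
    rw [← hi]
    exact (perm_pow_eq_iff _ _ _).2 (Nat.mod_modEq _ _)

end Modular

end Perm

end CfsgLib.Block
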