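import Cfsg.Agent.Lib.Block.BTRows
import Cfsg.Agent.Lib.Char.Diag
import Cfsg.Agent.Lib.Char.Linear
import Mathlib.GroupTheory.NoncommCoprod

/-!
Values of characters that are constant on the non-trivial elements of a Sylow subgroup of prime
order at involutions centralizing it.
-/

set_option autoImplicit false

namespace CfsgLib.Block.PrimeInvolution

open Cfsg CfsgLib

universe u

variable {G : Type u} [Group G] [Finite G]

/-- The value at an involution centralizing `P`. -/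
theorem exists_value {p : ℕ} (χ : IrrCharacter G) (P : Subgroup G) (hP : Nat.card P = p)
    (z : G) (hz2 : z * z = 1) (hz1 : z ≠ 1) (hzP : ∀ y ∈ P, y * z = z * y) (ε : ℤ)
    (hy : ∀ y ∈ P, y ≠ 1 → (χ : G → ℂ) y = (ε : ℂ))
    (hyz : ∀ y ∈ P, y ≠ 1 → (χ : G → ℂ) (y * z) = (ε : ℂ)) :
    ∃ n : ℕ, (χ : G → ℂ) z =
      ((2 * p * n : ℕ) : ℂ) - (χ : G → ℂ) 1 - 2 * (ε : ℂ) * ((p : ℂ) - 1) := by
  classical
  obtain ⟨d, ρ, -, hρ⟩ := χ.2
  have hzo : orderOf z = 2 := orderOf_eq_prime (by rw [sq, hz2]) hz1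
  let f : P × Subgroup.zpowers z →* G := MonoidHom.noncommCoprod P.subtype (Subgroup.zpowers z).subtype
    (fun y w => by
      obtain ⟨k, hk⟩ := Subgroup.mem_zpowers_iff.mp w.2
      show (y : G) * (w : G) = (w : G) * (y : G)
      rw [← hk]
      exact (Commute.zpow_right (hzP y y.2) k).eq)
  let σ : Representation ℂ (P × Subgroup.zpowers z) (Fin d → ℂ) := ρ.comp f
  have := Fintype.ofFinite P
  have := Fintype.ofFinite (Subgroup.zpowers z)
  have : Invertible (Nat.card (P × Subgroup.zpowers z) : ℂ) :=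
    invertibleOfNonzero (by exact_mod_cast Nat.card_pos.ne')
  obtain ⟨n, hn⟩ : ∃ n : ℕ, (Nat.card (P × Subgroup.zpowers z) : ℂ)⁻¹ *
      ∑ x : P × Subgroup.zpowers z, σ.character x = (n : ℂ) :=
    ⟨_, Representation.card_inv_mul_sum_char_eq_finrank σ⟩
  refine ⟨n, ?_⟩
  have hcard : Nat.card (P × Subgroup.zpowers z) = 2 * p := by
    rw [Nat.card_prod, hP, Nat.card_zpowers, hzo, mul_comm]
  have hval : ∀ x : P × Subgroup.zpowers z,
      σ.character x = (χ : G → ℂ) ((x.1 : G) * (x.2 : G)) := fun x => by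
    rw [← hρ]; rfl
  have huniv : (Finset.univ : Finset (Subgroup.zpowers z)) =
      {1, ⟨z, Subgroup.mem_zpowers z⟩} := by
    refine (Finset.eq_of_subset_of_card_le (Finset.subset_univ _) ?_).symm
    rw [Finset.card_pair (fun h => hz1 (congrArg Subtype.val h).symm), Finset.card_univ,
      ← Nat.card_eq_fintype_card, Nat.card_zpowers, hzo]
  have hsum : ∀ F : G → ℂ, (∀ y ∈ P, y ≠ 1 → F y = (ε : ℂ)) →
      ∑ y : P, F y = F 1 + (ε : ℂ) * ((p : ℂ) - 1) := by
    intro F hF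
    rw [← Finset.add_sum_erase _ _ (Finset.mem_univ (1 : P)), OneMemClass.coe_one,
      Finset.sum_congr rfl fun (y : P) hy' => hF (y : G) y.2 (fun h => Finset.ne_of_mem_erase hy' (Subtype.ext h)),
      Finset.sum_const, Finset.card_erase_of_mem (Finset.mem_univ _), Finset.card_univ,
      ← Nat.card_eq_fintype_card, hP, nsmul_eq_mul,
      Nat.cast_sub (by rw [← hP]; exact Nat.one_le_iff_ne_zero.2 Nat.card_pos.ne'), Nat.cast_one,
      mul_comm]
  rw [Finset.sum_congr rfl fun x _ => hval x, Fintype.sum_prod_type, huniv] at hn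
  simp only [Finset.sum_pair (fun h : (1 : Subgroup.zpowers z) = ⟨z, Subgroup.mem_zpowers z⟩ =>
    hz1 (congrArg Subtype.val h).symm), OneMemClass.coe_one, mul_one, Finset.sum_add_distrib] at hn
  rw [hsum (χ : G → ℂ) hy, hsum (fun w => (χ : G → ℂ) (w * z)) hyz, one_mul, hcard,
    inv_mul_eq_iff_eq_mul₀ (by exact_mod_cast (hcard ▸ Nat.card_pos.ne' : 2 * p ≠ 0))] at hn
  push_cast at hn ⊢
  linear_combination hn

/-- A constituent of degree `p - 1` with values `-1` kills involutions centralizing `P`. -/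
theorem no_involution_of_degree {p : ℕ} (hp : 2 ≤ p) [IsSimpleGroup G] (χ : IrrCharacter G)
    (hne : (χ : G → ℂ) ≠ fun _ => 1) (P : Subgroup G) (hP : Nat.card P = p)
    (hdeg : (χ : G → ℂ) 1 = ((p - 1 : ℕ) : ℂ)) (z : G) (hz2 : z * z = 1) (hz1 : z ≠ 1)
    (hzP : ∀ y ∈ P, y * z = z * y)
    (hy : ∀ y ∈ P, y ≠ 1 → (χ : G → ℂ) y = (-1 : ℂ))
    (hyz : ∀ y ∈ P, y ≠ 1 → (χ : G → ℂ) (y * z) = (-1 : ℂ)) : False := by
  have := Fintype.ofFinite G
  obtain ⟨n, hn⟩ := exists_value χ P hP z hz2 hz1 hzP (-1)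
    (fun y h h1 => by rw [hy y h h1]; norm_num) (fun y h h1 => by rw [hyz y h h1]; norm_num)
  obtain ⟨d, ρ, hirr, hρ⟩ := χ.2
  have hd : d = p - 1 := by
    have h := congrFun hρ 1
    rw [Representation.char_one, hdeg, Module.finrank_fin_fun] at h
    exact_mod_cast h
  have hb := CfsgLib.Char.norm_char_le (ρ := ρ) z
  rw [hρ, Module.finrank_fin_fun, hd, hn, hdeg] at hb
  rw [Nat.cast_sub (by omega : 1 ≤ p)] at hdeg hb
  have e : ((2 * p * n : ℕ) : ℂ) - ((p : ℂ) - ((1 : ℕ) : ℂ)) - 2 * ((-1 : ℤ) : ℂ) * ((p : ℂ) - 1) =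
      (((2 * p * n + (p - 1) : ℕ) : ℕ) : ℂ) := by
    rw [Nat.cast_add, Nat.cast_sub (by omega : 1 ≤ p)]
    push_cast
    ring
  rw [e, Complex.norm_natCast, Nat.cast_le] at hb
  have hn0 : n = 0 := by
    by_contra h
    have : 2 * p * 1 ≤ 2 * p * n := Nat.mul_le_mul_left _ (Nat.one_le_iff_ne_zero.mpr h)
    omega
  have hker : z ∈ (MonoidHom.ker ρ : Subgroup G) := by
    rw [CfsgLib.Char.mem_ker_iff_char, hρ, hn, hdeg, hn0]
    push_cast
    ring
  rcases Subgroup.Normal.eq_bot_or_eq_top (H := MonoidHom.ker ρ) inferInstance with h | h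
  · rw [h, Subgroup.mem_bot] at hker
    exact hz1 hker
  · have hconst : ∀ g, (χ : G → ℂ) g = (χ : G → ℂ) 1 := fun g => by
      rw [← hρ]
      exact (CfsgLib.Char.mem_ker_iff_char ρ g).mp (h ▸ Subgroup.mem_top g)
    -- the constant must be one as the representation is irreducible
    refine hne ?_
    have hv : ∃ y ∈ P, y ≠ 1 := by
      refine Subgroup.bot_or_exists_ne_one _ |>.resolve_left fun h => ?_
      rw [h, Subgroup.card_bot] at hP
      omega
    obtain ⟨y, hy', hy1⟩ := hv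
    have := (hy y hy' hy1).symm.trans (hconst y)
    rw [hdeg] at this
    have h2 := congrArg Complex.re this
    simp only [Complex.sub_re, Complex.natCast_re, Complex.neg_re, Complex.one_re,
      Nat.cast_one] at h2
    have h3 : (2 : ℝ) ≤ (p : ℝ) := by exact_mod_cast hp
    linarith

end CfsgLib.Block.PrimeInvolution
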