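import Mathlib

/-!
A triply transitive group of prime degree `p` with involutions fixing one point only and with
`|G| (p - 1) / (2 p)` elements of order `p` is sharply triply transitive.
-/

set_option autoImplicit false

namespace CfsgLib.Block.TriplyPrime

open MulAction

universe u w

variable {G : Type u} [Group G] [Finite G] {α : Type w} [Fintype α] [DecidableEq α] [MulAction G α]

/-- The number of fixed points. -/
noncomputable def nfix (α : Type w) [MulAction G α] (g : G) : ℕ := Nat.card (fixedBy α g)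

/-- The tuples fixed by `g`. -/
theorem card_fixedBy_embedding (k : ℕ) (g : G) :
    Nat.card (fixedBy (Fin k ↪ α) g) = (nfix α g).descFactorial k := by
  classical
  let e : fixedBy (Fin k ↪ α) g ≃ (Fin k ↪ fixedBy α g) :=
    { toFun := fun v => ⟨fun i => ⟨v.1 i, DFunLike.congr_fun v.2 i⟩,
        fun i j h => v.1.injective (congrArg Subtype.val h)⟩
      invFun := fun v => ⟨v.trans (Function.Embedding.subtype _),
        Function.Embedding.ext fun i => (v i).2⟩
      left_inv := fun v => rfl
      right_inv := fun v => rfl }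
  rw [Nat.card_congr e, Nat.card_eq_fintype_card, Fintype.card_embedding_eq, Fintype.card_fin, nfix,
    Nat.card_eq_fintype_card]

/-- Burnside's count for a transitive action on tuples. -/
theorem sum_descFactorial [Fintype G] {k : ℕ} (ht : IsMultiplyPretransitive G α k)
    (hk : k ≤ Fintype.card α) : ∑ g : G, (nfix α g).descFactorial k = Fintype.card G := by
  classical
  have h := sum_card_fixedBy_eq_card_orbits_mul_card_group G (Fin k ↪ α)
  have h1 : Fintype.card (Quotient (orbitRel G (Fin k ↪ α))) = 1 := by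
    obtain ⟨v⟩ := Function.Embedding.nonempty_of_card_le (α := Fin k) (β := α) (by rwa [Fintype.card_fin])
    haveI : IsPretransitive G (Fin k ↪ α) := ht
    exact Fintype.card_eq_one_iff.2 ⟨Quotient.mk'' v, fun q => Quotient.inductionOn' q fun v' =>
      Quotient.sound' (by
        obtain ⟨g, hg⟩ := exists_smul_eq G v v'
        exact ⟨g, hg⟩)⟩
  rw [h1, one_mul] at h
  refine (Finset.sum_congr rfl fun g _ => ?_).trans h
  rw [← card_fixedBy_embedding k g, Nat.card_eq_fintype_card]

/-- Sharp triple transitivity. -/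
theorem natCard_eq_of_moment {p : ℕ} (hp5 : 5 ≤ p) (hodd : Odd p) (hα : Fintype.card α = p)
    (h3 : IsMultiplyPretransitive G α 3) [FaithfulSMul G α]
    (hinv : ∀ g : G, orderOf g = 2 → nfix α g ≤ 1)
    (hsing : ∀ g : G, orderOf g = p → nfix α g = 0)
    (hcount : 2 * p * Nat.card {g : G // orderOf g = p} = Nat.card G * (p - 1)) :
    Nat.card G = p * (p - 1) * (p - 2) := by
  classical
  have := Fintype.ofFinite G
  obtain ⟨t, ht⟩ := hodd
  have hnat : 3 ≤ Nat.card α := by rw [Nat.card_eq_fintype_card, hα]; omega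
  have h2' : IsMultiplyPretransitive G α 2 := isMultiplyPretransitive_of_le (n := 3) (by omega) hnat
  have h1' : IsMultiplyPretransitive G α 1 := isMultiplyPretransitive_of_le (n := 3) (by omega) hnat
  haveI : IsPretransitive G (Fin 3 ↪ α) := h3
  obtain ⟨e₀⟩ := Function.Embedding.nonempty_of_card_le (α := Fin 3) (β := α)
    (by rw [Fintype.card_fin]; omega)
  haveI : Nonempty (Fin 3 ↪ α) := ⟨e₀⟩
  set D := stabilizer G e₀
  have hT : Fintype.card (Fin 3 ↪ α) = p * (p - 1) * (p - 2) := by
    rw [Fintype.card_embedding_eq, Fintype.card_fin, hα]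
    obtain ⟨q, rfl⟩ : ∃ q, p = q + 3 := ⟨p - 3, by omega⟩
    simp [Nat.descFactorial_succ]
    ring
  have hGD : Nat.card G = Fintype.card (Fin 3 ↪ α) * Nat.card D := by
    rw [← Subgroup.index_mul_card D, index_stabilizer_of_transitive, Nat.card_eq_fintype_card]
  -- conjugate stabilizers
  have hconj : ∀ v : Fin 3 ↪ α, Nat.card (stabilizer G v) = Nat.card D := fun v => by
    obtain ⟨g, hg⟩ := exists_smul_eq G e₀ v
    exact Nat.card_congr (stabilizerEquivStabilizer (g := g) hg.symm).symm.toEquiv
  set S := ∑ g ∈ Finset.univ.filter (fun g : G => g ∈ D), nfix α g with hS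
  have hsumT : ∑ g : G, nfix α g * (nfix α g).descFactorial 3 = Fintype.card (Fin 3 ↪ α) * S := by
    have h : ∀ v : Fin 3 ↪ α,
        ∑ g ∈ Finset.univ.filter (fun g : G => g • v = v), nfix α g = S := fun v => by
      obtain ⟨c, hc⟩ := exists_smul_eq G e₀ v
      refine Finset.sum_equiv (MulAut.conj c⁻¹).toEquiv (fun g => ?_) (fun g _ => ?_)
      · simp only [Finset.mem_filter, Finset.mem_univ, true_and, D, mem_stabilizer_iff,
          MulEquiv.toEquiv_eq_coe, EquivLike.coe_coe, MulAut.conj_apply, inv_inv, mul_smul, hc,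
          inv_smul_eq_iff]
      · simp only [nfix, MulEquiv.toEquiv_eq_coe, EquivLike.coe_coe, MulAut.conj_apply, inv_inv]
        refine Nat.card_congr
          { toFun := fun a => ⟨c⁻¹ • a.1, by
              simp [mem_fixedBy, mul_smul, show g • a.1 = a.1 from a.2]⟩
            invFun := fun a => ⟨c • a.1, by
              have h' : (c⁻¹ * g * c) • a.1 = a.1 := a.2
              simpa [mem_fixedBy, mul_smul, inv_smul_eq_iff] using h'⟩
            left_inv := fun a => by simp
            right_inv := fun a => by simp }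
    calc ∑ g : G, nfix α g * (nfix α g).descFactorial 3
        = ∑ g : G, ∑ v ∈ Finset.univ.filter (fun v : Fin 3 ↪ α => g • v = v), nfix α g := by
          refine Finset.sum_congr rfl fun g _ => ?_
          rw [Finset.sum_const, smul_eq_mul, ← card_fixedBy_embedding 3 g, Nat.card_eq_fintype_card,
            ← Fintype.card_subtype, mul_comm]
          rfl
      _ = ∑ v : Fin 3 ↪ α, ∑ g ∈ Finset.univ.filter (fun g : G => g • v = v), nfix α g := by
          simp only [Finset.sum_filter]; exact Finset.sum_comm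
      _ = _ := by rw [Finset.sum_congr rfl fun v _ => h v, Finset.sum_const, Finset.card_univ, smul_eq_mul]
  -- the moment inequality
  have hpow1 := sum_descFactorial (G := G) h1' (by omega)
  have hpow2 := sum_descFactorial (G := G) h2' (by omega)
  have hpow3 := sum_descFactorial (G := G) h3 (by omega)
  have hmain : (t + 2) * Nat.card D ≤ S := by
    set f : G → ℤ := fun g => (nfix α g : ℤ)
    have hd : ∀ n : ℕ, ((n.descFactorial 1 : ℕ) : ℤ) = (n : ℤ) ∧
        ((n.descFactorial 2 : ℕ) : ℤ) = (n : ℤ) * ((n : ℤ) - 1) ∧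
        ((n.descFactorial 3 : ℕ) : ℤ) = (n : ℤ) * ((n : ℤ) - 1) * ((n : ℤ) - 2) := fun n => by
      rcases n with _ | _ | n <;> simp [Nat.descFactorial_succ] <;> ring_nf <;> simp
    set N : ℤ := (Fintype.card G : ℤ)
    have s1 : ∑ g, f g = N := by
      rw [← show ((∑ g, (nfix α g).descFactorial 1 : ℕ) : ℤ) = N from congrArg _ hpow1]
      push_cast; simp [f]
    have s2 : ∑ g, f g ^ 2 = 2 * N := by
      have : ((∑ g : G, (nfix α g).descFactorial 2 : ℕ) : ℤ) = N := congrArg _ hpow2
      rw [Nat.cast_sum, Finset.sum_congr rfl fun g _ => (hd (nfix α g)).2.1] at this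
      rw [Finset.sum_congr rfl (g := fun g => f g * (f g - 1) + f g) fun g _ => by ring,
        Finset.sum_add_distrib, this, s1]
      ring
    have s3 : ∑ g, f g ^ 3 = 5 * N := by
      have : ((∑ g : G, (nfix α g).descFactorial 3 : ℕ) : ℤ) = N := congrArg _ hpow3
      rw [Nat.cast_sum, Finset.sum_congr rfl fun g _ => (hd (nfix α g)).2.2] at this
      rw [Finset.sum_congr rfl (g := fun g => f g * (f g - 1) * (f g - 2) + (3 * f g ^ 2 + (-2) * f g))
          fun g _ => by ring,
        Finset.sum_add_distrib, this, Finset.sum_add_distrib, ← Finset.mul_sum, ← Finset.mul_sum, s1, s2]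
      ring
    have s4 : ∑ g, f g ^ 4 = (Fintype.card (Fin 3 ↪ α) : ℤ) * S + 11 * N := by
      have : ((∑ g : G, nfix α g * (nfix α g).descFactorial 3 : ℕ) : ℤ) =
          (Fintype.card (Fin 3 ↪ α) : ℤ) * S := by rw [hsumT]; push_cast; rfl
      rw [Nat.cast_sum, Finset.sum_congr rfl fun g _ => by rw [Nat.cast_mul, (hd (nfix α g)).2.2]] at this
      rw [Finset.sum_congr rfl (g := fun g => f g * (f g * (f g - 1) * (f g - 2)) +
          (3 * f g ^ 3 + (-2) * f g ^ 2)) fun g _ => by ring,
        Finset.sum_add_distrib, this, Finset.sum_add_distrib, ← Finset.mul_sum, ← Finset.mul_sum, s2, s3]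
      ring
    set T : ℤ := (t : ℤ)
    set F : G → ℤ := fun g => (f g ^ 2 - (T + 3) * f g + (2 * T + 1)) ^ 2 with hF
    have hsum : ∑ g, F g = (Fintype.card (Fin 3 ↪ α) : ℤ) * S + (2 * T ^ 2 - 2) * N := by
      rw [Finset.sum_congr rfl (g := fun g => f g ^ 4 + ((-2 * (T + 3)) * f g ^ 3 +
          (((T + 3) ^ 2 + 2 * (2 * T + 1)) * f g ^ 2 + ((-2 * (T + 3) * (2 * T + 1)) * f g +
            (2 * T + 1) ^ 2)))) fun g _ => by simp only [hF]; ring,
        Finset.sum_add_distrib, Finset.sum_add_distrib, Finset.sum_add_distrib, Finset.sum_add_distrib,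
        ← Finset.mul_sum, ← Finset.mul_sum, ← Finset.mul_sum, s1, s2, s3, s4, Finset.sum_const,
        Finset.card_univ, nsmul_eq_mul]
      ring
    have hlow : (2 * T + 1) ^ 2 * (Nat.card {g : G // orderOf g = p} : ℤ) ≤ ∑ g, F g := by
      refine le_trans ?_ (Finset.sum_le_sum_of_subset_of_nonneg
        (s := Finset.univ.filter fun g : G => orderOf g = p) (Finset.subset_univ _)
        fun g _ _ => sq_nonneg _)
      refine le_of_eq ?_
      rw [Finset.sum_congr rfl (g := fun _ => (2 * T + 1) ^ 2) fun g hg => by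
        simp [hF, f, hsing g (Finset.mem_filter.1 hg).2], Finset.sum_const, nsmul_eq_mul,
        Nat.card_eq_fintype_card, Fintype.card_subtype]
      ring
    have hpT : (p : ℤ) = 2 * T + 1 := by rw [ht]; push_cast; rfl
    have hc : (p : ℤ) * (Nat.card {g : G // orderOf g = p} : ℤ) = N * T := by
      have : ((2 * p * Nat.card {g : G // orderOf g = p} : ℕ) : ℤ) = ((Nat.card G * (p - 1) : ℕ) : ℤ) :=
        congrArg _ hcount
      rw [show p - 1 = 2 * t by omega, Nat.card_eq_fintype_card (α := G)] at this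
      push_cast at this
      refine mul_left_cancel₀ (two_ne_zero (α := ℤ)) ?_
      linear_combination this
    have hN : N = (Fintype.card (Fin 3 ↪ α) : ℤ) * (Nat.card D : ℤ) := by
      have := congrArg (fun n : ℕ => (n : ℤ)) hGD
      push_cast at this
      rw [← this, Nat.card_eq_fintype_card]
    have hTpos : (0 : ℤ) < Fintype.card (Fin 3 ↪ α) := by
      haveI : Nonempty (Fin 3 ↪ α) := ⟨e₀⟩
      exact_mod_cast Fintype.card_pos
    rw [hsum, ← hpT, sq, mul_assoc, hc, hpT, hN] at hlow
    have h4 : (Fintype.card (Fin 3 ↪ α) : ℤ) * ((T + 2) * (Nat.card D : ℤ)) ≤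
        (Fintype.card (Fin 3 ↪ α) : ℤ) * S := by linear_combination hlow
    have h5 := le_of_mul_le_mul_left h4 hTpos
    simp only [T] at h5
    exact_mod_cast h5
  -- the fixed points of the stabilizer
  rcases Nat.eq_or_lt_of_le (Nat.card_pos : 0 < Nat.card D) with hD1 | hD1
  · rw [hGD, ← hD1, hT]; simp
  exfalso
  have hDfix : ∀ g ∈ D, ∀ i, g • e₀ i = e₀ i := fun g hg i => DFunLike.congr_fun hg i
  have hDodd : ∀ H : Subgroup G, H ≤ D → Odd (Nat.card H) := fun H hH => by
    by_contra hev
    obtain ⟨z, hz⟩ := exists_prime_orderOf_dvd_card' (G := H) 2 (Nat.not_odd_iff_even.1 hev).two_dvd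
    have h1 := hinv (z : G) (by rw [Subgroup.orderOf_coe, hz])
    rw [nfix, Finite.card_le_one_iff_subsingleton] at h1
    have h01 : (⟨e₀ 0, hDfix _ (hH z.2) 0⟩ : fixedBy α (z : G)) = ⟨e₀ 1, hDfix _ (hH z.2) 1⟩ :=
      Subsingleton.elim _ _
    exact absurd (e₀.injective (congrArg Subtype.val h01)) (by decide)
  set F₀ := Finset.univ.filter fun a : α => ∀ g ∈ D, g • a = a with hF₀
  set φ : Subgroup G → Finset α := fun H => Finset.univ.filter fun a : α => ∀ g ∈ H, g • a = a
  have hS3 : 3 * S ≤ (2 * F₀.card + p) * Nat.card D := by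
    have hswap : S = ∑ a : α, (Finset.univ.filter fun g : G => g ∈ D ∧ g • a = a).card := by
      rw [hS]
      simp only [nfix, Nat.card_eq_fintype_card, Fintype.card_subtype, mem_fixedBy, Finset.card_filter]
      rw [Finset.sum_comm, Finset.sum_congr rfl fun a _ => ?_]
      rw [Finset.sum_filter]
      exact Finset.sum_congr rfl fun g _ => by by_cases hg : g ∈ D <;> simp [hg]
    have hterm : ∀ a : α, 3 * (Finset.univ.filter fun g : G => g ∈ D ∧ g • a = a).card ≤
        (if a ∈ F₀ then 2 * Nat.card D else 0) + Nat.card D := fun a => by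
      have hcard : (Finset.univ.filter fun g : G => g ∈ D ∧ g • a = a).card =
          Nat.card (D ⊓ stabilizer G a : Subgroup G) := by
        rw [Nat.card_eq_fintype_card, Fintype.card_subtype]
        simp [Subgroup.mem_inf]
      rw [hcard]
      set H : Subgroup G := D ⊓ stabilizer G a
      have hle : H ≤ D := inf_le_left
      obtain ⟨j, hj⟩ := Subgroup.card_dvd_of_le hle
      split_ifs with ha
      · have := Subgroup.card_le_of_le hle
        omega
      · have hj1 : j ≠ 1 := fun h => ha (Finset.mem_filter.2 ⟨Finset.mem_univ _, fun g hg => by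
          rw [h, mul_one] at hj
          have heq := Subgroup.eq_of_le_of_card_ge hle hj.le
          exact (heq.symm.le hg : g ∈ H).2⟩)
        have hjodd : Odd j := (Nat.odd_mul.1 (hj ▸ hDodd D le_rfl)).2
        obtain ⟨i, rfl⟩ := hjodd
        have : 3 * Nat.card H ≤ Nat.card H * (2 * i + 1) := by
          rw [mul_comm]; exact Nat.mul_le_mul_left _ (by omega)
        omega
    calc 3 * S = ∑ a : α, 3 * (Finset.univ.filter fun g : G => g ∈ D ∧ g • a = a).card := by
          rw [hswap, Finset.mul_sum]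
      _ ≤ ∑ a : α, ((if a ∈ F₀ then 2 * Nat.card D else 0) + Nat.card D) :=
          Finset.sum_le_sum fun a _ => hterm a
      _ = _ := by
        rw [Finset.sum_add_distrib, Finset.sum_ite_mem, Finset.univ_inter, Finset.sum_const,
          Finset.sum_const, Finset.card_univ, hα, smul_eq_mul, smul_eq_mul]
        ring
  have hf : t + 5 ≤ 2 * F₀.card := by
    have h1 : 3 * ((t + 2) * Nat.card D) ≤ (2 * F₀.card + p) * Nat.card D :=
      le_trans (Nat.mul_le_mul_left 3 hmain) hS3
    rw [← mul_assoc] at h1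
    have := Nat.le_of_mul_le_mul_right h1 Nat.card_pos
    omega
  -- all triple stabilizers have as many fixed points
  have hφmem : ∀ (H : Subgroup G) a, a ∈ φ H ↔ ∀ g ∈ H, g • a = a := fun H a => by
    simp only [φ, Finset.mem_filter, Finset.mem_univ, true_and]
  have hφcard : ∀ v : Fin 3 ↪ α, (φ (stabilizer G v)).card = F₀.card := fun v => by
    obtain ⟨c, hc⟩ := exists_smul_eq G e₀ v
    refine (Finset.card_equiv (MulAction.toPerm c) fun a => ?_).symm
    simp only [hF₀, φ, Finset.mem_filter, Finset.mem_univ, true_and, MulAction.toPerm_apply,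
      mem_stabilizer_iff, D]
    constructor
    · intro h g hg
      have h' := h (c⁻¹ * g * c) (by rw [mul_smul, mul_smul, hc, hg, ← hc, inv_smul_smul])
      rw [mul_smul, mul_smul, inv_smul_eq_iff] at h'
      exact h'
    · intro h g hg
      have h' := h (c * g * c⁻¹) (by rw [← hc, mul_smul, mul_smul, inv_smul_smul, hg])
      rw [mul_smul, mul_smul, inv_smul_smul] at h'
      exact MulAction.injective c h'
  have hsame : ∀ v v' : Fin 3 ↪ α, (∀ i, v' i ∈ φ (stabilizer G v)) →
      stabilizer G v' = stabilizer G v := fun v v' h => by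
    refine (Subgroup.eq_of_le_of_card_ge (fun g hg => ?_) ((hconj _).trans (hconj _).symm).le).symm
    exact Function.Embedding.ext fun i => (hφmem _ _).1 (h i) g hg
  have hmk : ∀ a b c : α, a ≠ b → a ≠ c → b ≠ c →
      ∃ v : Fin 3 ↪ α, v 0 = a ∧ v 1 = b ∧ v 2 = c := fun a b c h1 h2 h3 => by
    refine ⟨⟨![a, b, c], ?_⟩, rfl, rfl, rfl⟩
    intro i j h
    fin_cases i <;> fin_cases j <;> simp_all
  obtain ⟨g₁, hg₁, hg₁ne⟩ : ∃ g ∈ D, g ≠ (1 : G) := by
    obtain ⟨g, hg, hne⟩ := (Subgroup.one_lt_card_iff_ne_bot D).1 hD1 |> fun h =>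
      (Subgroup.bot_or_exists_ne_one D).resolve_left h
    exact ⟨g, hg, hne⟩
  obtain ⟨d, hd⟩ : ∃ d, d ∉ F₀ := by
    by_contra hall
    push Not at hall
    exact hg₁ne (eq_of_smul_eq_smul fun a : α => by
      rw [one_smul]; exact (Finset.mem_filter.1 (hall a)).2 g₁ hg₁)
  set a := e₀ 0
  have he₀ : ∀ i, e₀ i ∈ F₀ := fun i => Finset.mem_filter.2 ⟨Finset.mem_univ _, fun g hg => hDfix g hg i⟩
  have haF : a ∈ F₀ := he₀ 0
  have had : a ≠ d := fun h => hd (h ▸ haF)
  have hline : ∀ u ∈ F₀.erase a, ∃ v : Fin 3 ↪ α, v 0 = a ∧ v 1 = d ∧ v 2 = u := fun u hu =>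
    hmk a d u had (Finset.mem_erase.1 hu).1.symm fun h => hd (h ▸ (Finset.mem_erase.1 hu).2)
  choose! v hv0 hv1 hv2 using hline
  set L : α → Finset α := fun u => ((φ (stabilizer G (v u))).erase a).erase d
  have hmemφ : ∀ (w : Fin 3 ↪ α) i, w i ∈ φ (stabilizer G w) := fun w i =>
    (hφmem _ _).2 fun g hg => DFunLike.congr_fun hg i
  have hLcard : ∀ u ∈ F₀.erase a, (L u).card = F₀.card - 2 := fun u hu => by
    have h0 : a ∈ φ (stabilizer G (v u)) := hv0 u hu ▸ hmemφ (v u) 0
    have h1 : d ∈ (φ (stabilizer G (v u))).erase a :=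
      Finset.mem_erase.2 ⟨had.symm, hv1 u hu ▸ hmemφ (v u) 1⟩
    rw [Finset.card_erase_of_mem h1, Finset.card_erase_of_mem h0, hφcard]
    omega
  have hdisj : ((F₀.erase a : Finset α) : Set α).PairwiseDisjoint L := by
    intro u hu u' hu' hne
    rw [Finset.mem_coe] at hu hu'
    refine Finset.disjoint_left.2 fun w hw hw' => hd ?_
    simp only [L, Finset.mem_erase] at hw hw'
    obtain ⟨hwd, hwa, hwm⟩ := hw
    obtain ⟨-, -, hwm'⟩ := hw'
    obtain ⟨x, hx0, hx1, hx2⟩ := hmk a d w had hwa.symm hwd.symm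
    have hx : ∀ y ∈ F₀.erase a, w ∈ φ (stabilizer G (v y)) →
        stabilizer G x = stabilizer G (v y) := fun y hy hyw => hsame _ _ fun i => by
      fin_cases i
      · exact (hx0.trans (hv0 y hy).symm) ▸ hmemφ (v y) 0
      · exact (hx1.trans (hv1 y hy).symm) ▸ hmemφ (v y) 1
      · exact hx2 ▸ hyw
    have e1 := hx u hu hwm
    have e2 := hx u' hu' hwm'
    obtain ⟨y, hy0, hy1, hy2⟩ := hmk a u u' (Finset.mem_erase.1 hu).1.symm
      (Finset.mem_erase.1 hu').1.symm hne
    have e3 : stabilizer G y = D := hsame _ _ fun i => by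
      change y i ∈ φ D
      rw [show φ D = F₀ from Finset.ext fun b => (hφmem D b).trans (by simp [hF₀])]
      fin_cases i
      · exact hy0 ▸ haF
      · exact hy1 ▸ (Finset.mem_erase.1 hu).2
      · exact hy2 ▸ (Finset.mem_erase.1 hu').2
    have e4 : stabilizer G y = stabilizer G x := hsame _ _ fun i => by
      fin_cases i
      · exact (hy0.trans hx0.symm) ▸ hmemφ x 0
      · have h := hmemφ (v u) 2
        rw [hv2 u hu, ← e1, ← hy1] at h
        exact h
      · have h := hmemφ (v u') 2
        rw [hv2 u' hu', ← e2, ← hy2] at h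
        exact h
    refine Finset.mem_filter.2 ⟨Finset.mem_univ _, fun g hg => ?_⟩
    have hgx : g ∈ stabilizer G x := e4 ▸ e3.symm ▸ hg
    exact hx1 ▸ DFunLike.congr_fun hgx 1
  have hsub : (F₀.erase a).biUnion L ⊆ (Finset.univ.erase a).erase d := fun w hw => by
    obtain ⟨u, -, hw⟩ := Finset.mem_biUnion.1 hw
    simp only [L, Finset.mem_erase] at hw
    simp [hw.1, hw.2.1]
  have hle := Finset.card_le_card hsub
  rw [Finset.card_biUnion hdisj, Finset.sum_congr rfl hLcard, Finset.sum_const, smul_eq_mul,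
    Finset.card_erase_of_mem haF, Finset.card_erase_of_mem (by simp [had.symm]),
    Finset.card_erase_of_mem (Finset.mem_univ _), Finset.card_univ, hα] at hle
  obtain ⟨j, hj⟩ : ∃ j, F₀.card = j + 2 := ⟨F₀.card - 2, by omega⟩
  rw [hj, Nat.add_sub_cancel] at hle
  rw [hj] at hf
  rw [show j + 2 - 1 = j + 1 by omega] at hle
  have : (j + 1) * j ≤ 4 * j - 2 := by omega
  rcases Nat.lt_or_ge j 3 with h | h
  · interval_cases j <;> omega
  · have : 4 * j ≤ (j + 1) * j := Nat.mul_le_mul_right _ (by omega)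
    omega

end CfsgLib.Block.TriplyPrime
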