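import Cfsg.Agent.Lib.Block.BTFusion
import Cfsg.Agent.Lib.Block.TriplyPrimeDegree
import Cfsg.Agent.Lib.Block.BRTheorem
import Cfsg.Agent.Lib.Geom.SimpleSixty
import Cfsg.Agent.Lib.ClassK.SmallSimple
import Cfsg.Agent.Lib.Classical.SLTwoSylow
import Cfsg.Agent.Lib.Perm.PrimeDegreeSylow
import Cfsg.Agent.Lib.Transfer.SimpleCount
import Cfsg.Agent.S0676
import Cfsg.Agent.S1013

/-!
Permutation groups of prime degree `p` whose Sylow normalizer has order `2p`.
-/

set_option autoImplicit false

namespace CfsgLib.Block.TriplyPrime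

open Cfsg CfsgLib CfsgLib.Block MulAction

universe w

/-- Ito's theorem: `P` is normal or the group is `SL(2, 2^a)`. -/
theorem normal_or_sl_two {α : Type w} [Fintype α] [DecidableEq α] {p : ℕ} [Fact p.Prime] (hp : 2 < p)
    (hα : Fintype.card α = p) (G : Subgroup (Equiv.Perm α)) (P : Sylow p G)
    (hN : Nat.card (Subgroup.normalizer ((P : Subgroup G) : Set G)) = 2 * p) :
    (P : Subgroup G).Normal ∨ ∃ (a : ℕ) (F : Type) (_ : Field F) (_ : Fintype F),
      p = 2 ^ a + 1 ∧ Fintype.card F = 2 ^ a ∧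
      Nonempty (G ≃* Matrix.SpecialLinearGroup (Fin 2) F) := by
  classical
  by_cases hPn : (P : Subgroup G).Normal
  · exact Or.inl hPn
  right
  have hpp : p.Prime := Fact.out
  have hdiv : p ∣ Nat.card G :=
    (dvd_mul_left p 2).trans (hN ▸ Subgroup.card_subgroup_dvd_card _)
  have hpow : ∀ (σ : Equiv.Perm α), orderOf σ = p → ∃ e : ZMod p ≃ α, ∀ j, σ (e j) = e (j + 1) :=
    fun σ h => CfsgLib.Perm.exists_equiv_zmod_of_orderOf hα σ h
  obtain ⟨σ₀, hσ₀⟩ := exists_prime_orderOf_dvd_card' (G := G) p hdiv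
  haveI : IsPretransitive G α := by
    obtain ⟨e, he⟩ := hpow (σ₀ : Equiv.Perm α) (by rw [Subgroup.orderOf_coe, hσ₀])
    refine ⟨fun a b => ⟨σ₀ ^ (e.symm b - e.symm a).val, ?_⟩⟩
    change ((σ₀ ^ (e.symm b - e.symm a).val : G) : Equiv.Perm α) a = b
    conv_lhs => rw [← e.apply_symm_apply a]
    rw [SubmonoidClass.coe_pow, CfsgLib.Perm.pow_apply_label e _ he, ZMod.natCast_zmod_val,
      e.symm_apply_apply, add_sub_cancel, e.apply_symm_apply]
  have hPc : Nat.card P = p := CfsgLib.Perm.sylow_card_eq hα G P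
  haveI : FaithfulSMul G α := ⟨fun {g k} h => Subtype.ext (Equiv.ext h)⟩
  have hGfac : Nat.card G ∣ p.factorial := by
    have := Subgroup.card_subgroup_dvd_card G
    rwa [Nat.card_perm, Nat.card_eq_fintype_card (α := α), hα] at this
  have hp5 : 5 ≤ p := by
    by_contra hlt
    have hp3 : p = 3 := by
      rcases (show p = 3 ∨ p = 4 by omega) with h | h
      · exact h
      · exact absurd (h ▸ hpp) (by norm_num)
    subst hp3
    refine hPn (Subgroup.normalizer_eq_top_iff.1 (Subgroup.eq_top_of_card_eq _ ?_))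
    refine le_antisymm (Subgroup.card_le_card_group _) ?_
    have := Nat.le_of_dvd (Nat.factorial_pos 3) hGfac
    rw [hN]
    simpa [Nat.factorial] using this
  have hN' : Subgroup.normalizer ((P : Subgroup G) : Set G) ≠ ⊤ := fun h =>
    hPn (Subgroup.normalizer_eq_top_iff.1 h)
  have hidx2 : ((P : Subgroup G).subgroupOf
      (Subgroup.normalizer ((P : Subgroup G) : Set G))).index = 2 := by
    have h := ((P : Subgroup G).subgroupOf
      (Subgroup.normalizer ((P : Subgroup G) : Set G))).card_mul_index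
    rw [Nat.card_congr (Subgroup.subgroupOfEquivOfLe
      (Subgroup.le_normalizer (H := (P : Subgroup G)))).toEquiv, hN] at h
    refine Nat.eq_of_mul_eq_mul_left hpp.pos ?_
    rw [mul_comm p 2, ← h]
    exact congrArg (· * _) hPc.symm
  haveI hsimple : IsSimpleGroup G := Cfsg.Agent.S1013.result hα G P (by
    rw [Finite.one_lt_card_iff_nontrivial, ← not_subsingleton_iff_nontrivial]
    intro hsub
    exact hPn (Sylow.normal_of_subsingleton P)) (by rw [hidx2]; exact Nat.prime_two)
  have hperf : commutator G = ⊤ := by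
    rcases (inferInstance : (commutator G).Normal).eq_bot_or_eq_top with h | h
    · exfalso
      refine hPn ⟨fun a ha g => ?_⟩
      have hg := (Subgroup.commutator_eq_bot_iff_le_centralizer).1
        (h : ⁅(⊤ : Subgroup G), (⊤ : Subgroup G)⁆ = ⊥) (Subgroup.mem_top g)
      rw [← Subgroup.mem_centralizer_iff.1 hg a (Subgroup.mem_top a), mul_inv_cancel_right]
      exact ha
    · exact h
  have hns : ¬ Group.IsSolvable G := fun hs => by
    have hne : commutator G ≠ ⊤ := Group.IsSolvable.commutator_lt_top_of_nontrivial G |>.ne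
    exact hne hperf
  have hC : Subgroup.centralizer ((P : Subgroup G) : Set G) = (P : Subgroup G) := by
    haveI hcyc : IsCyclic (P : Subgroup G) := isCyclic_of_prime_card hPc
    refine le_antisymm (fun c hc => ?_) (fun c hc => Subgroup.mem_centralizer_iff.2 fun d hd => by
      letI := IsCyclic.commGroup (α := (P : Subgroup G))
      exact congrArg Subtype.val (mul_comm (⟨d, hd⟩ : (P : Subgroup G)) ⟨c, hc⟩))
    obtain ⟨⟨σ, hσP⟩, hσg⟩ := hcyc.exists_generator
    have hσo : orderOf σ = p := by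
      have := orderOf_eq_card_of_forall_mem_zpowers hσg
      rw [hPc] at this
      exact (Subgroup.orderOf_coe (⟨σ, hσP⟩ : (P : Subgroup G))).trans this
    obtain ⟨e, he⟩ := hpow (σ : Equiv.Perm α) (by rw [Subgroup.orderOf_coe, hσo])
    set z := e.symm ((c : Equiv.Perm α) (e 0))
    have hcz : c = σ ^ z.val := by
      refine Subtype.ext (Equiv.ext fun a => ?_)
      obtain ⟨j, rfl⟩ := e.surjective a
      obtain ⟨m, rfl⟩ := ZMod.natCast_zmod_surjective j
      have hcomm : Commute c (σ ^ m) := (Commute.pow_left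
        (Subgroup.mem_centralizer_iff.1 hc σ hσP : Commute σ c) m).symm
      have h := congrArg (fun g : G => (g : Equiv.Perm α) (e 0)) hcomm.eq
      simp only [Subgroup.coe_mul, Equiv.Perm.mul_apply, SubmonoidClass.coe_pow] at h
      rw [CfsgLib.Perm.pow_apply_label e _ he, zero_add] at h
      rw [h, SubmonoidClass.coe_pow, CfsgLib.Perm.pow_apply_label e _ he, ZMod.natCast_zmod_val,
        ← e.apply_symm_apply ((c : Equiv.Perm α) (e 0)), CfsgLib.Perm.pow_apply_label e _ he, add_comm]
    rw [hcz]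
    exact pow_mem hσP _
  -- the principal block
  obtain ⟨M, hM⟩ := BlockB.exists_isPModular (p := p) hpp
  obtain ⟨e, t, d₀, σ, CF, YF, ε, D⟩ := BrauerTuan.exists_rowData hperf hM P hPc
  obtain rfl : e = 2 := by rw [← D.e_eq, hC]; exact hidx2
  obtain ⟨z, -, -, hzconj⟩ := BrauerTuan.isConj_involution_of_e_two hperf hp5 hM P hPc hC D
  obtain ⟨σ₁, τ, el, -, hτo, -, hτ⟩ :=
    CfsgLib.Perm.exists_neg_of_even_normalizer hα (by omega) G P (by rw [hN]; exact even_two_mul p)
  have hconjfix : ∀ g h : G, IsConj g h → nfix α g = nfix α h := fun g h hgh => by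
    obtain ⟨c, rfl⟩ := isConj_iff.1 hgh
    exact Nat.card_congr
      { toFun := fun a => ⟨c • a.1, by
          simp [mem_fixedBy, mul_smul, show g • a.1 = a.1 from a.2]⟩
        invFun := fun a => ⟨c⁻¹ • a.1, by
          have h' : (c * g * c⁻¹) • a.1 = a.1 := a.2
          rw [mul_smul, mul_smul] at h'
          rw [mem_fixedBy]
          exact MulAction.injective c (h'.trans (smul_inv_smul c a.1).symm)⟩
        left_inv := fun a => by simp
        right_inv := fun a => by simp }
  have hinv : ∀ g : G, orderOf g = 2 → nfix α g ≤ 1 := fun g hg => by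
    rw [hconjfix g τ ((hzconj g hg).trans (hzconj τ hτo).symm), nfix, Finite.card_le_one_iff_subsingleton]
    refine ⟨fun a b => Subtype.ext ?_⟩
    have key : ∀ a : fixedBy α τ, a.1 = el 0 := fun a => by
      obtain ⟨j, hj⟩ := el.surjective a.1
      have h' : (τ : Equiv.Perm α) a.1 = a.1 := a.2
      rw [← hj, hτ] at h'
      have h2 : (2 : ZMod p) * j = 0 := by linear_combination -(el.injective h')
      have h20 : (2 : ZMod p) ≠ 0 := fun h => by
        have : ((2 : ℕ) : ZMod p) = 0 := by exact_mod_cast h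
        rw [ZMod.natCast_eq_zero_iff] at this
        have := Nat.le_of_dvd (by norm_num) this
        omega
      rw [← hj, (mul_eq_zero.1 h2).resolve_left h20]
    rw [key a, key b]
  have hsing : ∀ g : G, orderOf g = p → nfix α g = 0 := fun g hg => by
    obtain ⟨e, he⟩ := hpow (g : Equiv.Perm α) (by rw [Subgroup.orderOf_coe, hg])
    rw [nfix, Nat.card_eq_zero]
    refine Or.inl ⟨fun a => ?_⟩
    obtain ⟨j, hj⟩ := e.surjective a.1
    have h' : (g : Equiv.Perm α) a.1 = a.1 := a.2
    rw [← hj, he] at h'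
    have := e.injective h'
    simp at this
  have hn : Nat.card G = Nat.card (Sylow p G) * (2 * p) := by
    rw [← hN, Sylow.card_eq_index_normalizer P]
    exact (Subgroup.index_mul_card _).symm
  have hcount : 2 * p * Nat.card {g : G // orderOf g = p} = Nat.card G * (p - 1) := by
    rw [CfsgLib.Transfer.card_orderOf_eq_prime P hPc, hn]; ring
  have h3 : IsMultiplyPretransitive G α 3 :=
    Cfsg.Agent.S0676.result hα G hns P (by rw [hN]; exact even_two_mul p)
  have hcard := natCard_eq_of_moment hp5 (hpp.odd_of_ne_two (by omega)) hα h3 hinv hsing hcount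
  obtain ⟨-, n, hn', hF⟩ := BrauerReynolds.sylow_data_of_lt_cube hperf hdiv (by
    rw [hcard]
    calc p * (p - 1) * (p - 2) < p * p * p := by
          refine Nat.mul_lt_mul_of_lt_of_le ?_ (by omega) hpp.pos
          exact Nat.mul_lt_mul_of_pos_left (by omega) hpp.pos
      _ = p ^ 3 := by ring) P hPn
  have hH : Cfsg.pPrimeCore p G = ⊥ := by
    rcases (CfsgLib.Solvable.pPrimeCore_normal p G : (Cfsg.pPrimeCore p G).Normal).eq_bot_or_eq_top
      with h | h
    · exact h
    · have h1 := CfsgLib.Solvable.pPrimeCore_coprime (G := G) p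
      rw [h, Subgroup.card_top] at h1
      exact absurd hdiv (hpp.coprime_iff_not_dvd.1 h1.symm)
  rcases BrauerReynolds.main_of_core_eq_bot hperf P hPc hn' hF hH with
    ⟨F, iF, iF', hFc, -, ⟨ψ⟩⟩ | ⟨m, F, iF, iF', hFc, hpm, -, hψ⟩
  · have h := CfsgLib.Classical.card_psl_two_mul (F := F)
    have hg2 : Nat.gcd 2 (p - 1) = 2 :=
      Nat.gcd_eq_left (by have := hpp.odd_of_ne_two (by omega); obtain ⟨q, rfl⟩ := this; omega)
    rw [hFc, hg2, ← Nat.card_congr ψ.toEquiv, hcard] at h
    have hp5' : p = 5 := by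
      obtain ⟨q, rfl⟩ : ∃ q, p = q + 2 := ⟨p - 2, by omega⟩
      rw [show (q + 2) ^ 2 - 1 = (q + 1) * (q + 3) by
        rw [show (q + 2) ^ 2 = (q + 1) * (q + 3) + 1 by ring, Nat.add_sub_cancel],
        show q + 2 - 1 = q + 1 by omega, show q + 2 - 2 = q by omega] at h
      have h1 : (q + 2) * (q + 1) * (2 * q) = (q + 2) * (q + 1) * (q + 3) := by linear_combination h
      have := Nat.eq_of_mul_eq_mul_left (by positivity) h1
      omega
    subst hp5'
    letI : Fintype (GaloisField 2 2) := Fintype.ofFinite _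
    have hF4 : Fintype.card (GaloisField 2 2) = 2 ^ 2 := by
      rw [← Nat.card_eq_fintype_card, GaloisField.card 2 2 (by norm_num)]
    obtain ⟨e1⟩ := BrauerReynolds.psl_equiv_sl_char_two (GaloisField 2 2) (m := 2) (by norm_num) hF4
    haveI := CfsgLib.ClassK.isSimpleGroup_psl_two (F := GaloisField 2 2) (by rw [hF4]; norm_num)
    have h60 : Nat.card (Matrix.ProjectiveSpecialLinearGroup (Fin 2) (GaloisField 2 2)) = 60 := by
      rw [Nat.card_congr e1.toEquiv, CfsgLib.Classical.card_sl_two_eq, hF4]; norm_num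
    obtain ⟨a1⟩ := CfsgLib.Geom.equiv_altFive_of_simple_sixty h60
    obtain ⟨a2⟩ := CfsgLib.Geom.equiv_altFive_of_simple_sixty (G := G) (by rw [hcard])
    exact ⟨2, GaloisField 2 2, inferInstance, inferInstance, by norm_num, hF4,
      ⟨(a2.trans a1.symm).trans e1⟩⟩
  · exact ⟨m, F, iF, iF', hpm, hFc, hψ⟩

end CfsgLib.Block.TriplyPrime
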