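import Cfsg.Agent.Lib.Block.DegreeBound
import Cfsg.Agent.Lib.BlockB.PModular

/-!
A group whose order is divisible by `p` exactly once and with a faithful character of degree less
than `(p - 1) / 2` has a normal subgroup of order `p`.
-/

set_option autoImplicit false
set_option linter.unusedSectionVars false

namespace CfsgLib.Block

open Cfsg
open scoped ComplexConjugate

universe u

namespace DegreeBound

variable {G : Type u} [Group G] [Fintype G] {p : ℕ} [hp : Fact p.Prime] {x : G}

theorem mem_zpowers_of_mem_normalizer (hxo : orderOf x = p) (hsq : ¬ p ^ 2 ∣ Nat.card G) {y : G}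
    (hy : orderOf y = p) (hN : y ∈ Subgroup.normalizer ((Subgroup.zpowers x : Subgroup G) : Set G)) :
    y ∈ Subgroup.zpowers x := by
  have hsup : IsPGroup p ↥(Subgroup.zpowers y ⊔ Subgroup.zpowers x) :=
    IsPGroup.to_sup_of_normal_right' (DefectOne.isPGroup_zpowers hy)
      (DefectOne.isPGroup_zpowers hxo) (Subgroup.zpowers_le.2 hN)
  have h : y ∈ Subgroup.zpowers y ⊔ Subgroup.zpowers x :=
    Subgroup.mem_sup_left (Subgroup.mem_zpowers y)
  rwa [DefectOne.eq_zpowers_of_isPGroup hxo hsq hsup
    (Subgroup.mem_sup_right (Subgroup.mem_zpowers x))] at h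

theorem zpowers_normal_of_conj (hconj : ∀ g : G, g * x * g⁻¹ ∈ Subgroup.zpowers x) :
    (Subgroup.zpowers x).Normal := ⟨fun a ha g => by
  obtain ⟨j, rfl⟩ := Subgroup.mem_zpowers_iff.1 ha
  rw [← conj_zpow]
  exact zpow_mem (hconj g) j⟩

/-- The irreducible case as a hypothesis gives the case of any character. -/
theorem normal_of_char (m : ℕ) (IH : ∀ (H : Type u) [Group H] [Fintype H], Nat.card H ≤ m →
      ∀ y : H, orderOf y = p → ¬ p ^ 2 ∣ Nat.card H → ∀ η : IrrCharacter H,
      2 * charDegree (η : H → ℂ) + 3 ≤ p → (∀ h, (η : H → ℂ) h = (η : H → ℂ) 1 → h = 1) →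
      (Subgroup.zpowers y).Normal)
    (hm : Nat.card G ≤ m) (hxo : orderOf x = p) (hsq : ¬ p ^ 2 ∣ Nat.card G) {χ : G → ℂ}
    (hχ : IsCharacter G χ) (hn : 2 * charDegree χ + 3 ≤ p)
    (hfaith : ∀ g, χ g = χ 1 → g = 1) : (Subgroup.zpowers x).Normal := by
  classical
  have := Fintype.ofFinite (IrrCharacter G)
  have hnat : ∀ η : IrrCharacter G, ∃ k : ℕ, classInner χ (η : G → ℂ) = k := fun η =>
    CfsgLib.Char.classInner_isCharacter_nat hχ (CfsgLib.Char.irr_isCharacter η.2)
  choose k hk using hnat
  have hexp : ∀ g, χ g = ∑ η, (k η : ℂ) * (η : G → ℂ) g := fun g => by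
    rw [CfsgLib.Char.classFunction_apply_eq_sum (CfsgLib.Char.isCharacter_isClassFunction hχ) g]
    simp only [hk]
  refine zpowers_normal_of_conj fun g => ?_
  set y := g * x * g⁻¹ with hy
  have hyo : orderOf y = p := by
    rw [hy, show orderOf (g * x * g⁻¹) = orderOf x from
      orderOf_injective (MulAut.conj g).toMonoidHom (MulAut.conj g).injective x, hxo]
  refine DefectOne.mem_zpowers_of_commute hxo hsq ⟨1, by rw [hyo, pow_one]⟩
    (Subgroup.mem_centralizer_singleton_iff.2 ?_)
  suffices h : ∀ η : IrrCharacter G, k η ≠ 0 →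
      (η : G → ℂ) (y * x * (x * y)⁻¹) = (η : G → ℂ) 1 by
    refine mul_inv_eq_one.1 (hfaith _ ?_)
    rw [hexp, hexp]
    refine Finset.sum_congr rfl fun η _ => ?_
    by_cases h0 : k η = 0
    · simp [h0]
    · rw [h η h0]
  intro η hη
  have hdeg : charDegree (η : G → ℂ) ≤ charDegree χ := by
    have h := hexp 1
    simp only [charDegree_spec hχ, charDegree_spec (CfsgLib.Char.irr_isCharacter (Subtype.property _))]
      at h
    have h' : charDegree χ = ∑ θ, k θ * charDegree (θ : G → ℂ) := by exact_mod_cast h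
    rw [h']
    exact (Nat.le_mul_of_pos_left _ (Nat.pos_of_ne_zero hη)).trans
      (Finset.single_le_sum (f := fun θ : IrrCharacter G => k θ * charDegree (θ : G → ℂ))
        (fun θ _ => Nat.zero_le _) (Finset.mem_univ η))
  obtain ⟨l, rep, hrep, hηe⟩ := η.2
  set K : Subgroup G := MonoidHom.ker rep with hK
  have : K.Normal := MonoidHom.normal_ker rep
  have hmemK : ∀ g, g ∈ K ↔ (η : G → ℂ) g = (η : G → ℂ) 1 := fun g => by
    rw [← hηe]; exact CfsgLib.Char.mem_ker_iff_char rep g
  rw [← hmemK]
  by_cases hxK : x ∈ K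
  · have hyK : y ∈ K := Subgroup.Normal.conj_mem ‹K.Normal› x hxK g
    exact mul_mem (mul_mem hyK hxK) (inv_mem (mul_mem hxK hyK))
  obtain ⟨η', hη', hcomp⟩ := CfsgLib.Char.isIrr_quotient_lift K η.2 fun n hn => (hmemK n).1 hn
  have := Fintype.ofFinite (G ⧸ K)
  have hqx : orderOf (QuotientGroup.mk' K x) = p := by
    have h := orderOf_map_dvd (QuotientGroup.mk' K) x
    rw [hxo] at h
    rcases (Nat.dvd_prime hp.out).1 h with h1 | h1
    · exact absurd ((QuotientGroup.eq_one_iff x).1 (orderOf_eq_one_iff.1 h1)) hxK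
    · exact h1
  have hcard : Nat.card (G ⧸ K) ∣ Nat.card G := Subgroup.card_quotient_dvd_card K
  have hval : ∀ g, (η : G → ℂ) g = η' (QuotientGroup.mk' K g) := fun g => congrFun hcomp g
  have hN := IH (G ⧸ K) ((Nat.le_of_dvd Nat.card_pos hcard).trans hm) _ hqx
    (fun h => hsq (h.trans hcard)) ⟨η', hη'⟩
    (by
      have : charDegree η' = charDegree (η : G → ℂ) := by
        simp only [charDegree, hval 1, map_one]
      change 2 * charDegree η' + 3 ≤ p
      omega)
    (fun q hq => by
      obtain ⟨g, rfl⟩ := QuotientGroup.mk'_surjective K q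
      refine (QuotientGroup.eq_one_iff g).2 ((hmemK g).2 ?_)
      rw [hval g, hval 1, map_one]
      exact hq)
  have hyq : QuotientGroup.mk' K y ∈ Subgroup.zpowers (QuotientGroup.mk' K x) := by
    rw [hy, map_mul, map_mul, map_inv]
    exact hN.conj_mem _ (Subgroup.mem_zpowers _) _
  obtain ⟨j, hj⟩ := Subgroup.mem_zpowers_iff.1 hyq
  refine (QuotientGroup.eq_one_iff _).1 ?_
  change QuotientGroup.mk' K (y * x * (x * y)⁻¹) = 1
  clear_value y
  rw [map_mul, map_mul, map_inv, map_mul, ← hj, (Commute.zpow_self _ j).eq, mul_inv_cancel]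

theorem irr_normal : ∀ (m : ℕ) (H : Type u) [Group H] [Fintype H], Nat.card H ≤ m →
    ∀ y : H, orderOf y = p → ¬ p ^ 2 ∣ Nat.card H → ∀ η : IrrCharacter H,
      2 * charDegree (η : H → ℂ) + 3 ≤ p → (∀ h, (η : H → ℂ) h = (η : H → ℂ) 1 → h = 1) →
      (Subgroup.zpowers y).Normal := by
  intro m
  induction m using Nat.strong_induction_on with
  | _ m IH =>
    intro H _ _ hm y hy hsq η hn hfaith
    classical
    by_contra hnot
    obtain ⟨M, hM⟩ := CfsgLib.BlockB.exists_isPModular hp.out
    have := hM.2.1.isPrime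
    set N := Subgroup.normalizer ((Subgroup.zpowers y : Subgroup H) : Set H) with hNdef
    have hproper : ∀ K : Subgroup H, y ∈ K → K ≠ ⊤ → K ≤ N := by
      intro K hyK hK
      have := Fintype.ofFinite K
      have hlt : Nat.card K < Nat.card H :=
        lt_of_le_of_ne (Nat.card_le_card_of_injective _ K.subtype_injective)
          fun h => hK ((K.card_eq_iff_eq_top).1 h)
      have hdeg : charDegree (fun k : K => (η : H → ℂ) k) = charDegree (η : H → ℂ) := rfl
      have hnK := normal_of_char (x := (⟨y, hyK⟩ : K)) (Nat.card K)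
        (fun H' _ _ h' => IH (Nat.card K) (lt_of_lt_of_le hlt hm) H' h') le_rfl
        ((Subgroup.orderOf_mk y hyK).trans hy)
        (fun h => hsq (h.trans (Subgroup.card_subgroup_dvd_card K)))
        (CfsgLib.Char.isCharacter_restrict (CfsgLib.Char.irr_isCharacter η.2) K) (hdeg ▸ hn)
        (fun g hg => Subtype.ext (hfaith g hg))
      intro k hk
      have hconj : ∀ k : H, k ∈ K → k * y * k⁻¹ ∈ Subgroup.zpowers y := fun k hk => by
        obtain ⟨j, hj⟩ := Subgroup.mem_zpowers_iff.1
          (hnK.conj_mem (⟨y, hyK⟩ : K) (Subgroup.mem_zpowers _) ⟨k, hk⟩)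
        exact Subgroup.mem_zpowers_iff.2 ⟨j, by simpa using congrArg Subtype.val hj⟩
      rw [hNdef, Subgroup.mem_normalizer_iff]
      intro a
      constructor
      · intro ha
        obtain ⟨j, rfl⟩ := Subgroup.mem_zpowers_iff.1 ha
        rw [← conj_zpow]
        exact zpow_mem (hconj k hk) j
      · intro ha
        obtain ⟨j, hj⟩ := Subgroup.mem_zpowers_iff.1 ha
        have h2 : a = k⁻¹ * y ^ j * k := by rw [hj]; group
        rw [h2]
        have h3 := zpow_mem (hconj k⁻¹ (inv_mem hk)) j
        rw [conj_zpow, inv_inv] at h3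
        exact h3
    refine faithful_irr_false hM hy hsq η hn hfaith (fun K hKn hyK => ?_) (fun g u hu huZ hgu => ?_)
      hnot
    · by_contra hK
      exact hnot (zpowers_normal_of_conj fun g => mem_zpowers_of_mem_normalizer hy hsq
        (by rw [show orderOf (g * y * g⁻¹) = orderOf y from
          orderOf_injective (MulAut.conj g).toMonoidHom (MulAut.conj g).injective y, hy])
        (hproper K hyK hK (hKn.conj_mem y hyK g)))
    · have hCu : Subgroup.centralizer ({u} : Set H) ≤ N := by
        refine hproper _ (Subgroup.mem_centralizer_singleton_iff.2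
          (Subgroup.mem_centralizer_singleton_iff.1 hu).symm) fun h => huZ ?_
        refine Subgroup.mem_center_iff.2 fun a => ?_
        exact Subgroup.mem_centralizer_singleton_iff.1 (h ▸ Subgroup.mem_top a)
      have hmem : g⁻¹ * y * g ∈ Subgroup.centralizer ({u} : Set H) := by
        rw [Subgroup.mem_centralizer_singleton_iff]
        have h := Subgroup.mem_centralizer_singleton_iff.1 hgu
        calc g⁻¹ * y * g * u = g⁻¹ * (y * (g * u * g⁻¹)) * g := by group
          _ = g⁻¹ * ((g * u * g⁻¹) * y) * g := by rw [h]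
          _ = u * (g⁻¹ * y * g) := by group
      have hord : orderOf (g⁻¹ * y * g) = p := by
        have h := orderOf_injective (MulAut.conj g⁻¹).toMonoidHom (MulAut.conj g⁻¹).injective y
        rw [hy] at h
        simpa using h
      have hz := mem_zpowers_of_mem_normalizer hy hsq hord (hCu hmem)
      have heq : Subgroup.zpowers (g⁻¹ * y * g) = Subgroup.zpowers y :=
        Subgroup.eq_of_le_of_card_ge (Subgroup.zpowers_le.2 hz)
          (by rw [Nat.card_zpowers, Nat.card_zpowers, hord, hy])
      rw [← inv_mem_iff, Subgroup.mem_normalizer_iff]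
      intro a
      have hm := Subgroup.mem_map_iff_mem (f := (MulAut.conj g⁻¹).toMonoidHom)
        (MulAut.conj g⁻¹).injective (K := Subgroup.zpowers y) (x := a)
      rw [MonoidHom.map_zpowers] at hm
      simp only [MulEquiv.coe_toMonoidHom, MulAut.conj_apply, inv_inv] at hm
      rw [heq] at hm
      simpa using hm.symm

end DegreeBound

/-- A faithful character of degree less than `(p - 1) / 2` forces a normal subgroup of order `p`. -/
theorem exists_normal_order_of_small_degree {G : Type u} [Group G] [Finite G] {p : ℕ}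
    [Fact p.Prime] {x : G} (hxo : orderOf x = p) (hsq : ¬ p ^ 2 ∣ Nat.card G) {χ : G → ℂ}
    (hχ : IsCharacter G χ) (hn : 2 * charDegree χ + 3 ≤ p)
    (hfaith : ∀ g, χ g = χ 1 → g = 1) : (Subgroup.zpowers x).Normal := by
  have := Fintype.ofFinite G
  exact DegreeBound.normal_of_char (Nat.card G) (DegreeBound.irr_normal (Nat.card G)) le_rfl hxo hsq
    hχ hn hfaith

end CfsgLib.Block
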