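import Cfsg.Agent.Lib.Block.SmallHalf
import Cfsg.Agent.Lib.Block.BRTheorem
import Cfsg.Agent.Lib.Geom.SimpleSixty
import Cfsg.Agent.Lib.Geom.DicksonPSL
import Cfsg.Agent.Lib.ClassK.SmallSimple
import Cfsg.Agent.Lib.Classical.PSLTwoPerm

/-!
A group with a faithful character of degree `(p - 1) / 2`, with `p` dividing the order once and
without a normal subgroup of order `p`, is a central extension of `PSL(2, p)`.
-/

set_option autoImplicit false

namespace CfsgLib.Block.SmallBlock

open Cfsg CfsgLib CfsgLib.Block Matrix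

universe u v

section simple

variable {Q : Type u} [Group Q] [Finite Q] {k : Type v} [Field k] [IsAlgClosed k] {p : ℕ}
  [hp : Fact p.Prime] [CharP k p] {x : Q}

/-- Such a subgroup of `SO₃` is simple. -/
theorem so_three_simple (hp5 : 5 ≤ p) (ρ : Q →* Matrix (Fin 3) (Fin 3) k)
    (hinj : Function.Injective ρ) (hdet : ∀ g, (ρ g).det = 1) {A : Matrix (Fin 3) (Fin 3) k}
    (hA : Aᵀ = A) (hAdet : IsUnit A.det) (hinv : ∀ g, ρ g * A * (ρ g)ᵀ = A) (hxb : IsBlock (ρ x))
    (hx : orderOf x = p) (hsq : ¬ p ^ 2 ∣ Nat.card Q) (hnn : ¬ (Subgroup.zpowers x).Normal)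
    (hfus : ∃ i : ℕ, ¬ p ∣ i ∧ ∀ g : Q, g * x * g⁻¹ ≠ x ^ i) :
    IsSimpleGroup Q ∧ 2 * Nat.card Q = p * (p - 1) * (p + 1) ∧
      Nat.card (Sylow p Q) = 1 + 1 * p := by
  classical
  have := Fintype.ofFinite Q
  obtain ⟨hcard, hsyl⟩ := so_three_card hp5 ρ hinj hdet hA hAdet hinv hxb hx hsq hnn hfus
  have hC := centralizer_eq_of_so_three hp5 ρ hinj hdet hAdet hinv hxb hx hsq
  set P := Subgroup.zpowers x
  have hP : Nat.card P = p := by rw [Nat.card_zpowers, hx]
  have hord : ∀ g : Q, orderOf (g * x * g⁻¹) = p := fun g => by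
    rw [show orderOf (g * x * g⁻¹) = orderOf x from
      orderOf_injective (MulAut.conj g).toMonoidHom (MulAut.conj g).injective x, hx]
  have hL : ∀ (L : Subgroup Q), x ∈ L →
      (∀ l ∈ L, l * x * l⁻¹ ∈ P) ∨ L = ⊤ := by
    intro L hxL
    by_cases hn : (Subgroup.zpowers (⟨x, hxL⟩ : L)).Normal
    · refine Or.inl fun l hl => ?_
      obtain ⟨j, hj⟩ := Subgroup.mem_zpowers_iff.1
        (hn.conj_mem (⟨x, hxL⟩ : L) (Subgroup.mem_zpowers _) ⟨l, hl⟩)
      exact Subgroup.mem_zpowers_iff.2 ⟨j, by simpa using congrArg Subtype.val hj⟩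
    · refine Or.inr ?_
      have h := (so_three_card (x := (⟨x, hxL⟩ : L)) hp5 (ρ.comp L.subtype)
        (hinj.comp L.subtype_injective) (fun g => hdet _) hA hAdet (fun g => hinv _) hxb
        ((Subgroup.orderOf_mk x hxL).trans hx)
        (fun h => hsq (h.trans (Subgroup.card_subgroup_dvd_card L))) hn (by
          obtain ⟨i, hi, hne⟩ := hfus
          exact ⟨i, hi, fun g hg => hne g (by simpa using congrArg Subtype.val hg)⟩)).1
      exact Subgroup.eq_top_of_card_eq _ (by omega)
  haveI : Nontrivial Q := ⟨x, 1, fun h => by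
    rw [h, orderOf_one] at hx; exact hp.out.ne_one hx.symm⟩
  refine ⟨⟨fun R hR => ?_⟩, hcard, hsyl⟩
  by_cases hxR : x ∈ R
  · rcases hL R hxR with h | h
    · exfalso
      refine hnn (DegreeBound.zpowers_normal_of_conj fun g => ?_)
      have hy : g * x * g⁻¹ ∈ R := hR.conj_mem x hxR g
      refine DegreeBound.mem_zpowers_of_mem_normalizer hx hsq (hord g) ?_
      have hconj : ∀ l ∈ R, ∀ a, a ∈ P → l * a * l⁻¹ ∈ P := fun l hl a ha => by
        obtain ⟨j, rfl⟩ := Subgroup.mem_zpowers_iff.1 ha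
        rw [← conj_zpow]; exact zpow_mem (h l hl) j
      refine Subgroup.mem_normalizer_iff.2 fun a => ⟨hconj _ hy a, fun ha => ?_⟩
      have h1 := hconj _ (inv_mem hy) _ ha
      simpa [mul_assoc] using h1
    · exact Or.inr h
  · left
    have hdisj : ∀ a ∈ R, a ∈ P → a = 1 := fun a haR haP => by
      by_contra ha
      have hgen : Subgroup.zpowers a = P := by
        refine Subgroup.eq_of_le_of_card_ge (Subgroup.zpowers_le.2 haP) ?_
        rcases hp.out.eq_one_or_self_of_dvd _
          (hP ▸ Subgroup.card_dvd_of_le (Subgroup.zpowers_le.2 haP)) with h | h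
        · rw [Nat.card_zpowers, orderOf_eq_one_iff] at h; exact absurd h ha
        · rw [h, hP]
      exact hxR ((Subgroup.zpowers_le.2 haR : Subgroup.zpowers a ≤ R) (hgen ▸ Subgroup.mem_zpowers x))
    have hcomm : ∀ r ∈ R, r * x * r⁻¹ ∈ P → Commute r x := fun r hr h => by
      have h1 : r * x * r⁻¹ * x⁻¹ = 1 := hdisj _
        (by
          have := mul_mem hr (hR.conj_mem r⁻¹ (inv_mem hr) x)
          simpa [mul_assoc] using this)
        (mul_mem h (inv_mem (Subgroup.mem_zpowers x)))
      exact mul_inv_eq_iff_eq_mul.1 (mul_inv_eq_one.1 h1)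
    rcases hL (R ⊔ P) (Subgroup.mem_sup_right (Subgroup.mem_zpowers x)) with h | h
    · refine (Subgroup.eq_bot_iff_forall _).2 fun r hr => hdisj r hr ?_
      exact hC ▸ Subgroup.mem_centralizer_singleton_iff.2 (hcomm r hr (h r (Subgroup.mem_sup_left hr))).eq
    · exfalso
      -- then the normalizer would centralize
      have hN : Subgroup.normalizer (P : Set Q) = P := by
        refine le_antisymm (fun g hg => ?_) (Subgroup.le_normalizer)
        have hg' : g ∈ R ⊔ P := h ▸ Subgroup.mem_top g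
        obtain ⟨r, hr, q, hq, rfl⟩ := Subgroup.mem_sup_of_normal_left.1 hg'
        refine mul_mem ?_ hq
        have hrN : r ∈ Subgroup.normalizer (P : Set Q) := by
          have := mul_mem hg (inv_mem (Subgroup.le_normalizer hq))
          simpa using this
        exact hC ▸ Subgroup.mem_centralizer_singleton_iff.2
          (hcomm r hr ((Subgroup.mem_normalizer_iff.1 hrN x).1 (Subgroup.mem_zpowers x))).eq
      let P' : Sylow p Q := Sylow.ofCard P (by
        rw [hP]
        have h1 : p ∣ Nat.card Q := hx ▸ orderOf_dvd_natCard x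
        have h2 : (Nat.card Q).factorization p = 1 := by
          have hpos := hp.out.factorization_pos_of_dvd Nat.card_pos.ne' h1
          have hle : ¬ 2 ≤ (Nat.card Q).factorization p := fun h =>
            hsq ((hp.out.pow_dvd_iff_le_factorization Nat.card_pos.ne').2 h)
          omega
        rw [h2, pow_one])
      have hidx : P.index = 1 + 1 * p := by
        rw [← hsyl, Sylow.card_eq_index_normalizer P']
        exact congrArg Subgroup.index hN.symm
      have hQ := P.card_mul_index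
      rw [hP, hidx] at hQ
      have h3 : p * (2 * (1 + 1 * p)) = p * ((p - 1) * (p + 1)) := by
        rw [← mul_assoc p (p - 1), ← hcard, ← hQ]; ring
      have h4 := Nat.eq_of_mul_eq_mul_left hp.out.pos h3
      have h5 : (p - 1) * (p + 1) = 2 * (p + 1) := by rw [← h4]; ring
      have := Nat.eq_of_mul_eq_mul_right (by omega) h5
      omega

end simple

/-- A faithful character of degree `(p - 1) / 2`. -/
theorem quotient_center_psl {G : Type u} [Group G] [Finite G] {p : ℕ} (hp : p.Prime)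
    (hdiv : p ∣ Nat.card G) (hsq : ¬ p ^ 2 ∣ Nat.card G)
    (hnn : ∀ H : Subgroup G, H.Normal → Nat.card H ≠ p) {χ : G → ℂ} (hχ : IsCharacter G χ)
    (hfaith : ∀ g : G, χ g = χ 1 → g = 1) (hdeg : 2 * charDegree χ + 1 = p) :
    Nonempty ((G ⧸ Subgroup.center G) ≃* Matrix.ProjectiveSpecialLinearGroup (Fin 2) (ZMod p)) := by
  classical
  haveI := Fact.mk hp
  have := Fintype.ofFinite G
  obtain ⟨x, hx⟩ := exists_prime_orderOf_dvd_card' p hdiv
  set P := Subgroup.zpowers x
  have hPnn : ¬ P.Normal := fun h => hnn P h (by rw [Nat.card_zpowers, hx])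
  have hp5 : 5 ≤ p := by
    by_contra hlt
    have h2 : p = 2 ∨ p = 3 := by
      have := hp.two_le
      rcases (show p = 2 ∨ p = 3 ∨ p = 4 by omega) with h | h | h
      · exact Or.inl h
      · exact Or.inr h
      · exact absurd (h ▸ hp) (by norm_num)
    rcases h2 with h | h
    · omega
    · rcases isIrrCharacter_or_normal hx hsq hχ hdeg.le hfaith with hirr | hn
      · refine hPnn (DegreeBound.zpowers_normal_of_conj fun g => ?_)
        obtain ⟨m, ρ, hρ, hρχ⟩ := hirr
        have hd : charDegree χ = 1 := by omega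
        have h1 : (Module.finrank ℂ (Fin m → ℂ) : ℂ) = 1 := by
          rw [← Representation.char_one (ρ := ρ), hρχ, charDegree_spec hχ, hd, Nat.cast_one]
        have hm : m = 1 := by
          rw [Module.finrank_fin_fun] at h1; exact_mod_cast h1
        subst hm
        have hcomm : ∀ a b : G, ρ a * ρ b = ρ b * ρ a := fun a b => by
          refine (LinearMap.toMatrixAlgEquiv' (R := ℂ) (n := Fin 1)).injective ?_
          rw [map_mul, map_mul]
          ext i j
          obtain rfl := Subsingleton.elim i 0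
          obtain rfl := Subsingleton.elim j 0
          simp [Matrix.mul_apply, mul_comm]
        have : g * x * g⁻¹ = x := by
          refine mul_inv_eq_one.1 (hfaith _ ?_)
          have h1 : ρ (g * x * g⁻¹ * x⁻¹) = ρ 1 := by
            rw [map_mul ρ, map_mul ρ, map_mul ρ, hcomm g x, mul_assoc (ρ x), ← map_mul ρ, mul_inv_cancel,
              map_one, mul_one, ← map_mul ρ, mul_inv_cancel, map_one]
          rw [← hρχ, Representation.character, Representation.character, h1]
        rw [this]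
        exact Subgroup.mem_zpowers x
      · exact hPnn hn
  -- the special orthogonal representation
  obtain ⟨M, hM⟩ := BlockB.exists_isPModular (p := p) hp
  have := isPrime_of_pmodular hM
  have := charP_kres hM
  have := isAlgClosed_kres (M := M)
  obtain ⟨ρk, hρk⟩ := exists_faithful_red hM hx hsq hnn hχ hfaith
  obtain ⟨ρ, A, hb, hA, hAd, hinv, hdet, hker⟩ := exists_so_three_of_small hp5 ρk hρk hx hsq hdeg.le
  set H := ρ.toHomUnits.ker
  have hmemH : ∀ g, g ∈ H ↔ ρ g = 1 := fun g =>
    ⟨fun h => congrArg Units.val (MonoidHom.mem_ker.1 h), fun h => MonoidHom.mem_ker.2 (Units.ext h)⟩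
  have hxH : x ∉ H := fun h => by
    obtain ⟨R, hR, hR'⟩ := hb
    rw [(hmemH x).1 h, one_mul, mul_add, mul_one, left_eq_add] at hR'
    have h2 := congrFun (congrFun (hR.mul_right_eq_zero.1 hR') 1) 0
    simp [lower] at h2
  have hPcard : Nat.card P = p := by rw [Nat.card_zpowers, hx]
  have hHx : ∀ h ∈ H, Commute h x := fun h hh => by
    have h1 := hker h ((hmemH h).1 hh)
    have h2 : h * x * h⁻¹ * x⁻¹ ∈ H := by
      have := mul_mem hh ((inferInstance : H.Normal).conj_mem h⁻¹ (inv_mem hh) x)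
      simpa [mul_assoc] using this
    have h3 : h * x * h⁻¹ * x⁻¹ ∈ P := mul_mem h1 (inv_mem (Subgroup.mem_zpowers x))
    by_contra hne
    have hne1 : h * x * h⁻¹ * x⁻¹ ≠ 1 := fun e =>
      hne (mul_inv_eq_iff_eq_mul.1 (mul_inv_eq_one.1 e))
    have hgen : Subgroup.zpowers (h * x * h⁻¹ * x⁻¹) = P := by
      refine Subgroup.eq_of_le_of_card_ge (Subgroup.zpowers_le.2 h3) ?_
      rcases hp.eq_one_or_self_of_dvd _
        (hPcard ▸ Subgroup.card_dvd_of_le (Subgroup.zpowers_le.2 h3)) with e | e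
      · rw [Nat.card_zpowers, orderOf_eq_one_iff] at e; exact absurd e hne1
      · rw [e, hPcard]
    exact hxH ((Subgroup.zpowers_le.2 h2 : Subgroup.zpowers _ ≤ H) (hgen ▸ Subgroup.mem_zpowers x))
  set Z := Subgroup.center G
  have hxZ : x ∉ Z := fun h => hPnn (DegreeBound.zpowers_normal_of_conj fun g => by
    rw [Subgroup.mem_center_iff.1 h g, mul_inv_cancel_right]; exact Subgroup.mem_zpowers x)
  have hHZ : H ≤ Z := by
    intro h hh
    set K := Subgroup.normalClosure ({x} : Set G)
    have hKC : K ≤ Subgroup.centralizer ({h} : Set G) := by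
      change Subgroup.closure _ ≤ _
      rw [Subgroup.closure_le]
      intro y hy
      obtain ⟨a, ha, hy⟩ := Group.mem_conjugatesOfSet_iff.1 hy
      rw [Set.mem_singleton_iff] at ha
      obtain ⟨g, rfl⟩ := isConj_iff.1 (ha ▸ hy)
      refine Subgroup.mem_centralizer_singleton_iff.2 ?_
      have h1 := (hHx _ ((inferInstance : H.Normal).conj_mem h hh g⁻¹)).eq
      rw [inv_inv] at h1
      calc g * x * g⁻¹ * h = g * (x * (g⁻¹ * h * g)) * g⁻¹ := by group
        _ = g * ((g⁻¹ * h * g) * x) * g⁻¹ := by rw [h1]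
        _ = h * (g * x * g⁻¹) := by group
    set L := K ⊔ Subgroup.zpowers h
    have hxK : x ∈ K := Subgroup.subset_normalClosure rfl
    have hxL : x ∈ L := Subgroup.mem_sup_left hxK
    have hhL : h ∈ L := Subgroup.mem_sup_right (Subgroup.mem_zpowers h)
    have hLC : L ≤ Subgroup.centralizer ({h} : Set G) :=
      sup_le hKC (Subgroup.zpowers_le.2 (Subgroup.mem_centralizer_singleton_iff.2 rfl))
    have hdegL : charDegree (fun g : L => χ g) = charDegree χ := rfl
    rcases isIrrCharacter_or_normal (x := (⟨x, hxL⟩ : L)) ((Subgroup.orderOf_mk x hxL).trans hx)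
      (fun e => hsq (e.trans (Subgroup.card_subgroup_dvd_card L)))
      (CfsgLib.Char.isCharacter_restrict hχ L) (hdegL ▸ hdeg.le)
      (fun g hg => Subtype.ext (hfaith g hg)) with hirr | hn
    · have hhc : (⟨h, hhL⟩ : L) ∈ Subgroup.center L := Subgroup.mem_center_iff.2 fun g =>
        Subtype.ext (Subgroup.mem_centralizer_singleton_iff.1 (hLC g.2))
      have hnorm : ‖χ h‖ = (charDegree χ : ℝ) := hdegL ▸ norm_char_of_center hirr hhc
      obtain ⟨m, ρc, hρc⟩ := hχ
      have hfin : (Module.finrank ℂ (Fin m → ℂ) : ℕ) = charDegree χ := by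
        have : ((Module.finrank ℂ (Fin m → ℂ) : ℕ) : ℂ) = (charDegree χ : ℂ) := by
          rw [← Representation.char_one (ρ := ρc), hρc, charDegree_spec ⟨m, ρc, hρc⟩]
        exact_mod_cast this
      obtain ⟨ω, hω, -⟩ := CfsgLib.Char.eq_smul_id_of_norm_char_eq ρc h (by rw [hρc, hfin]; exact hnorm)
      refine Subgroup.mem_center_iff.2 fun g => mul_inv_eq_one.1 (hfaith _ ?_)
      have hcomm : ρc (g * h) = ρc (h * g) := by
        rw [map_mul, map_mul, hω, Module.End.mul_eq_comp, Module.End.mul_eq_comp, LinearMap.comp_smul,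
          LinearMap.smul_comp, LinearMap.comp_id, LinearMap.id_comp]
      rw [← hρc, Representation.character, Representation.character, map_mul, hcomm, ← map_mul,
        mul_inv_cancel]
    · exfalso
      refine hPnn (DegreeBound.zpowers_normal_of_conj fun g => ?_)
      refine DegreeBound.mem_zpowers_of_mem_normalizer hx hsq (by
        rw [show orderOf (g * x * g⁻¹) = orderOf x from
          orderOf_injective (MulAut.conj g).toMonoidHom (MulAut.conj g).injective x, hx]) ?_
      have hy : g * x * g⁻¹ ∈ L :=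
        Subgroup.mem_sup_left ((Subgroup.normalClosure_normal).conj_mem x hxK g)
      have hconj : ∀ l ∈ L, ∀ a, a ∈ P → l * a * l⁻¹ ∈ P := fun l hl a ha => by
        obtain ⟨j, rfl⟩ := Subgroup.mem_zpowers_iff.1 ha
        rw [← conj_zpow]
        refine zpow_mem ?_ j
        obtain ⟨i, hi⟩ := Subgroup.mem_zpowers_iff.1
          (hn.conj_mem (⟨x, hxL⟩ : L) (Subgroup.mem_zpowers _) ⟨l, hl⟩)
        exact Subgroup.mem_zpowers_iff.2 ⟨i, by simpa using congrArg Subtype.val hi⟩
      refine Subgroup.mem_normalizer_iff.2 fun a => ⟨hconj _ hy a, fun ha => ?_⟩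
      have h1 := hconj _ (inv_mem hy) _ ha
      simpa [mul_assoc] using h1
  have hZH : Z ≤ H := fun z hz => by
    -- the image centralizes `x`
    let ρH : G ⧸ H →* Matrix (Fin 3) (Fin 3) (kres M) :=
      QuotientGroup.lift H ρ fun g hg => (hmemH g).1 hg
    have hinjH : Function.Injective ρH := (injective_iff_map_eq_one _).2 fun q hq => by
      obtain ⟨g, rfl⟩ := QuotientGroup.mk'_surjective H q
      exact (QuotientGroup.eq_one_iff g).2 ((hmemH g).2 hq)
    have hxo : orderOf ((x : G ⧸ H)) = p := by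
      have h := orderOf_map_dvd (QuotientGroup.mk' H) x
      rw [hx] at h
      rcases (Nat.dvd_prime hp).1 h with h1 | h1
      · exact absurd ((QuotientGroup.eq_one_iff x).1 (orderOf_eq_one_iff.1 h1)) hxH
      · exact h1
    have hCH := centralizer_eq_of_so_three (x := (x : G ⧸ H)) hp5 ρH hinjH
      (fun q => by obtain ⟨g, rfl⟩ := QuotientGroup.mk'_surjective H q; exact hdet g) hAd
      (fun q => by obtain ⟨g, rfl⟩ := QuotientGroup.mk'_surjective H q; exact hinv g) hb hxo
      (fun h => hsq (h.trans (Subgroup.card_quotient_dvd_card H)))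
    have hmem : (z : G ⧸ H) ∈ Subgroup.zpowers (x : G ⧸ H) := hCH ▸
      Subgroup.mem_centralizer_singleton_iff.2 (by
        rw [← QuotientGroup.mk_mul, ← QuotientGroup.mk_mul, Subgroup.mem_center_iff.1 hz x])
    obtain ⟨i, hi⟩ := mem_powers_iff_mem_zpowers.2 hmem
    have h1 : (x ^ i)⁻¹ * z ∈ H := QuotientGroup.eq.1 (by rw [QuotientGroup.mk_pow]; exact hi)
    have hxi : x ^ i ∈ Z := by
      have := mul_mem hz (inv_mem (hHZ h1))
      simpa using this
    by_cases hd : p ∣ i
    · rw [show x ^ i = 1 from orderOf_dvd_iff_pow_eq_one.1 (hx.symm ▸ hd), inv_one, one_mul] at h1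
      exact h1
    · exfalso
      obtain ⟨m, hm⟩ := exists_pow_eq_self_of_coprime (x := x) (n := i)
        (by rw [hx]; exact (hp.coprime_iff_not_dvd.2 hd).symm)
      exact hxZ (hm ▸ pow_mem hxi m)
  have hHeq : H = Z := le_antisymm hHZ hZH
  -- the quotient
  let ρQ : G ⧸ Z →* Matrix (Fin 3) (Fin 3) (kres M) :=
    QuotientGroup.lift Z ρ fun g hg => (hmemH g).1 (hHeq.symm ▸ hg)
  have hinjQ : Function.Injective ρQ := (injective_iff_map_eq_one _).2 fun q hq => by
    obtain ⟨g, rfl⟩ := QuotientGroup.mk'_surjective Z q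
    exact (QuotientGroup.eq_one_iff g).2 (hHeq ▸ (hmemH g).2 hq)
  have hxo : orderOf ((x : G ⧸ Z)) = p := by
    have h := orderOf_map_dvd (QuotientGroup.mk' Z) x
    rw [hx] at h
    rcases (Nat.dvd_prime hp).1 h with h1 | h1
    · exact absurd ((QuotientGroup.eq_one_iff x).1 (orderOf_eq_one_iff.1 h1)) hxZ
    · exact h1
  have hsqQ : ¬ p ^ 2 ∣ Nat.card (G ⧸ Z) := fun h => hsq (h.trans (Subgroup.card_quotient_dvd_card Z))
  have hlift : ∀ (g : G) (i : ℕ), ((g * x * g⁻¹ : G) : G ⧸ Z) = ((x ^ i : G) : G ⧸ Z) →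
      g * x * g⁻¹ = x ^ i := fun g i h => by
    have hz : (x ^ i)⁻¹ * (g * x * g⁻¹) ∈ Z := QuotientGroup.eq.1 h.symm
    have hc : Commute (x ^ i)⁻¹ (g * x * g⁻¹) := by
      have h1 := Subgroup.mem_center_iff.1 hz (x ^ i)
      rw [← mul_assoc, mul_inv_cancel, one_mul] at h1
      change (x ^ i)⁻¹ * (g * x * g⁻¹) = g * x * g⁻¹ * (x ^ i)⁻¹
      conv_rhs => rw [h1]
      group
    have hzp : ((x ^ i)⁻¹ * (g * x * g⁻¹)) ^ p = 1 := by
      rw [hc.mul_pow, inv_pow, ← pow_mul, mul_comm i p, pow_mul, conj_pow, ← hx, pow_orderOf_eq_one]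
      simp
    by_contra hne
    have hz1 : (x ^ i)⁻¹ * (g * x * g⁻¹) ≠ 1 := fun e => hne (inv_mul_eq_one.1 e).symm
    refine hnn (Subgroup.zpowers ((x ^ i)⁻¹ * (g * x * g⁻¹)))
      ⟨fun a ha b => ?_⟩ (by rw [Nat.card_zpowers, orderOf_eq_prime hzp hz1])
    have : a ∈ Z := (Subgroup.zpowers_le.2 hz : Subgroup.zpowers _ ≤ Z) ha
    rw [Subgroup.mem_center_iff.1 this b, mul_inv_cancel_right]
    exact ha
  obtain ⟨hsimple, hcard, hsyl⟩ := so_three_simple (x := (x : G ⧸ Z)) hp5 ρQ hinjQ
    (fun q => by obtain ⟨g, rfl⟩ := QuotientGroup.mk'_surjective Z q; exact hdet g) hA hAd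
    (fun q => by obtain ⟨g, rfl⟩ := QuotientGroup.mk'_surjective Z q; exact hinv g) hb hxo hsqQ
    (fun hn => hPnn (DegreeBound.zpowers_normal_of_conj fun g => by
      obtain ⟨i, hi⟩ := mem_powers_iff_mem_zpowers.2
        (hn.conj_mem (x : G ⧸ Z) (Subgroup.mem_zpowers _) (g : G ⧸ Z))
      rw [hlift g i (by
        rw [QuotientGroup.mk_mul, QuotientGroup.mk_mul, QuotientGroup.mk_inv, QuotientGroup.mk_pow]
        exact hi.symm)]
      exact Subgroup.npow_mem_zpowers x i))
    (by
      obtain ⟨i, hi, hne⟩ := exists_not_conj_pow hx hχ hdeg.le hfaith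
      refine ⟨i, hi, fun q hq => ?_⟩
      obtain ⟨g, rfl⟩ := QuotientGroup.mk'_surjective Z q
      exact hne g (hlift g i (by simpa using hq)))
  have hperf : commutator (G ⧸ Z) = ⊤ := by
    rcases (inferInstance : (commutator (G ⧸ Z)).Normal).eq_bot_or_eq_top with h | h
    · exfalso
      refine hPnn (DegreeBound.zpowers_normal_of_conj fun g => ?_)
      rw [hlift g 1 (by
        rw [pow_one]
        have hab := (Subgroup.commutator_eq_bot_iff_le_centralizer).1
          (h : ⁅(⊤ : Subgroup (G ⧸ Z)), (⊤ : Subgroup (G ⧸ Z))⁆ = ⊥) (Subgroup.mem_top (g : G ⧸ Z))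
        have hgx := Subgroup.mem_centralizer_iff.1 hab (x : G ⧸ Z) (Subgroup.mem_top _)
        rw [QuotientGroup.mk_mul, QuotientGroup.mk_mul, QuotientGroup.mk_inv, ← hgx,
          mul_inv_cancel_right]), pow_one]
      exact Subgroup.mem_zpowers x
    · exact h
  let Pq : Sylow p (G ⧸ Z) := default
  have hPq : Nat.card Pq = p := by
    obtain ⟨j, hj⟩ := IsPGroup.iff_card.1 Pq.isPGroup'
    have h1 := Pq.dvd_card_of_dvd_card (hxo ▸ orderOf_dvd_natCard (x : G ⧸ Z))
    rw [hj] at h1 ⊢
    rcases Nat.lt_or_ge j 2 with h | h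
    · interval_cases j
      · rw [pow_zero] at h1; exact absurd (Nat.dvd_one.1 h1) hp.ne_one
      · rw [pow_one]
    · exact absurd ((pow_dvd_pow p h).trans (hj ▸ Subgroup.card_subgroup_dvd_card (Pq : Subgroup (G ⧸ Z))))
        hsqQ
  have hcore : Cfsg.pPrimeCore p (G ⧸ Z) = ⊥ := by
    rcases (CfsgLib.Solvable.pPrimeCore_normal p (G ⧸ Z) :
      (Cfsg.pPrimeCore p (G ⧸ Z)).Normal).eq_bot_or_eq_top with h | h
    · exact h
    · have h1 := CfsgLib.Solvable.pPrimeCore_coprime (G := G ⧸ Z) p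
      rw [h, Subgroup.card_top] at h1
      exact absurd (hxo ▸ orderOf_dvd_natCard (x : G ⧸ Z)) (hp.coprime_iff_not_dvd.1 h1.symm)
  rcases BrauerReynolds.main_of_core_eq_bot hperf Pq hPq hsyl
    (BrauerReynolds.not_formula_of_bound (by omega) (by omega)) hcore with
    ⟨F, iF, iF', hF, -, ⟨ψ⟩⟩ | ⟨m, F, iF, iF', hF, hpm, -, ⟨ψ⟩⟩
  · haveI : CharP F p := charP_of_card_eq_prime hF
    exact ⟨ψ.trans (CfsgLib.Geom.Moebius.pslCongr (ZMod.ringEquiv F hF).symm)⟩
  · -- then `p = 5` and both are the alternating group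
    have hc := Nat.card_congr ψ.toEquiv
    rw [CfsgLib.Classical.card_sl_two_eq, hF] at hc
    obtain ⟨q, hq⟩ : ∃ q, 2 ^ m = q + 1 := ⟨2 ^ m - 1, (Nat.sub_add_cancel Nat.one_le_two_pow).symm⟩
    rw [hpm, hq] at hcard
    rw [hq] at hc
    rw [hc] at hcard
    have hq' : (q + 1) ^ 2 - 1 = q * (q + 2) := by
      rw [show (q + 1) ^ 2 = q * (q + 2) + 1 by ring, Nat.add_sub_cancel]
    rw [hq', show q + 1 + 1 - 1 = q + 1 by omega] at hcard
    have hq3 : q = 3 := by
      have h1 : (q + 1) * (q + 2) * (2 * q) = (q + 1) * (q + 2) * (q + 3) := by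
        linear_combination hcard
      have h2 := Nat.eq_of_mul_eq_mul_left (by positivity) h1
      omega
    subst hq3
    have hp' : p = 5 := by omega
    subst hp'
    have h60 : Nat.card (G ⧸ Z) = 60 := by rw [hc]; norm_num
    obtain ⟨e1⟩ := CfsgLib.Geom.equiv_altFive_of_simple_sixty h60
    haveI := CfsgLib.ClassK.isSimpleGroup_psl_two (F := ZMod 5) (by rw [ZMod.card]; norm_num)
    have h60' : Nat.card (Matrix.ProjectiveSpecialLinearGroup (Fin 2) (ZMod 5)) = 60 := by
      have h := CfsgLib.Classical.card_psl_two_mul (F := ZMod 5)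
      rw [ZMod.card, show Nat.gcd 2 (5 - 1) = 2 from rfl, show 5 ^ 2 - 1 = 24 from rfl] at h
      omega
    obtain ⟨e2⟩ := CfsgLib.Geom.equiv_altFive_of_simple_sixty h60'
    exact ⟨e1.trans e2.symm⟩

end CfsgLib.Block.SmallBlock
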