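import Cfsg.Agent.Lib.Block.FixedAverage
import Cfsg.Agent.Lib.BlockB.PrimitiveClassSize
import Cfsg.Agent.Lib.Clifford.Degrees

/-!
The `p`-part of the degree of a primitive character of a solvable group divides a class size.
-/

set_option autoImplicit false
set_option linter.unusedSectionVars false

namespace CfsgLib.Block.PrimitiveClassPart

open FixedAverage

universe u

variable {G : Type u} [Group G] [Fintype G]

/-- `N ∩ C(g)` and the image of `M ∩ C(g)`. -/
theorem card_centralizer_le {L M : Subgroup G} [L.Normal] (hLM : L ≤ M) (g : G)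
    (V : Subgroup (G ⧸ L)) (hV : M.map (QuotientGroup.mk' L) = V) (F : Subgroup V)
    (hF : ∀ v : V, (g : G ⧸ L) * v = v * g → v ∈ F) :
    ∃ i, Nat.card ↥(M ⊓ Subgroup.centralizer ({g} : Set G)) =
      i * Nat.card ↥(L ⊓ Subgroup.centralizer ({g} : Set G)) ∧ i ∣ Nat.card F := by
  classical
  subst hV
  set C := M ⊓ Subgroup.centralizer ({g} : Set G) with hC
  let f : C →* M.map (QuotientGroup.mk' L) :=
    { toFun := fun c => ⟨(c : G), c, c.2.1, rfl⟩
      map_one' := Subtype.ext rfl
      map_mul' := fun a b => Subtype.ext rfl }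
  have hr : f.range ≤ F := by
    rintro _ ⟨c, rfl⟩
    refine hF _ ?_
    show ((g * c : G) : G ⧸ L) = ((c : G) * g : G)
    rw [Subgroup.mem_centralizer_singleton_iff.1 c.2.2]
  let e : f.ker ≃ ↥(L ⊓ Subgroup.centralizer ({g} : Set G)) :=
    { toFun := fun k => ⟨((k : C) : G),
        (QuotientGroup.eq_one_iff _).1 (congrArg Subtype.val k.2), (k : C).2.2⟩
      invFun := fun l => ⟨⟨(l : G), hLM l.2.1, l.2.2⟩,
        Subtype.ext ((QuotientGroup.eq_one_iff _).2 l.2.1)⟩
      left_inv := fun k => rfl
      right_inv := fun l => rfl }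
  refine ⟨Nat.card f.range, ?_, Subgroup.card_dvd_of_le hr⟩
  rw [← Nat.card_congr e, ← Nat.card_congr (QuotientGroup.quotientKerEquivRange f).toEquiv,
    ← Subgroup.card_eq_card_quotient_mul_card_subgroup]

/-- One chief step. -/
theorem step {χ : G → ℂ} [Group.IsSolvable G] (p : ℕ) [hp : Fact p.Prime]
    {L M : Subgroup G} [L.Normal] [hMn : M.Normal] (hlt : L < M)
    (hmax : ∀ U : Subgroup G, U.Normal → L ≤ U → U < M → U = L) {m : ℕ}
    (hmd : m ∣ L.relIndex M) (hmle : m * m ≤ L.relIndex M) :
    Nat.card G * m.factorization p +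
        ∑ g : G, (Nat.card ↥(M ⊓ Subgroup.centralizer ({g} : Set G))).factorization p +
        Nat.card G * (Nat.card L).factorization p ≤
      ∑ g : G, (Nat.card ↥(L ⊓ Subgroup.centralizer ({g} : Set G))).factorization p +
        Nat.card G * (Nat.card M).factorization p := by
  classical
  let π : G →* G ⧸ L := QuotientGroup.mk' L
  set V : Subgroup (G ⧸ L) := M.map π with hV
  have : V.Normal := hMn.map π (QuotientGroup.mk'_surjective L)
  let φ : G →* MulAut V := (MulAut.conjNormal : G ⧸ L →* MulAut V).comp π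
  have hφ : ∀ (g : G) (v : V), ((φ g v : V) : G ⧸ L) = (g : G ⧸ L) * v * (g : G ⧸ L)⁻¹ :=
    fun g v => MulAut.conjNormal_apply (π g) v
  -- no proper invariant subgroup
  have hirr : ∀ U : Subgroup V, (∀ g, ∀ x ∈ U, φ g x ∈ U) → U = ⊥ ∨ U = ⊤ := by
    intro U hU
    let U' : Subgroup G := (U.map V.subtype).comap π
    have hUV : U.map V.subtype ≤ V := Subgroup.map_subtype_le U
    have : (U.map V.subtype).Normal := ⟨fun x hx y => by
      obtain ⟨u, hu, rfl⟩ := hx
      obtain ⟨g, rfl⟩ := QuotientGroup.mk'_surjective L y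
      exact ⟨φ g u, hU g u hu, hφ g u⟩⟩
    have hLU : L ≤ U' := fun x hx => by
      show π x ∈ U.map V.subtype
      rw [show π x = 1 from (QuotientGroup.eq_one_iff x).2 hx]
      exact Subgroup.one_mem _
    have hUM : U' ≤ M := fun x hx => by
      obtain ⟨y, hy, hxy⟩ := hUV hx
      have h : y⁻¹ * x ∈ L := (QuotientGroup.eq).1 hxy
      have := M.mul_mem hy (hlt.le h)
      rwa [mul_inv_cancel_left] at this
    rcases hUM.eq_or_lt with h | h
    · refine Or.inr (eq_top_iff.2 fun v _ => ?_)
      obtain ⟨x, hx, hxv⟩ := v.2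
      have h2 : π x ∈ U.map V.subtype := (show x ∈ U' from h.ge hx)
      obtain ⟨u, hu, hu'⟩ := h2
      have : u = v := Subtype.ext (hu'.trans hxv)
      exact this ▸ hu
    · refine Or.inl (le_bot_iff.1 fun u hu => Subgroup.mem_bot.2 (Subtype.ext ?_))
      obtain ⟨x, hx⟩ := QuotientGroup.mk'_surjective L (u : G ⧸ L)
      have h2 : x ∈ U' := ⟨u, hu, hx.symm⟩
      rw [hmax U' inferInstance hLU h] at h2
      rw [← hx]
      exact (QuotientGroup.eq_one_iff x).2 h2
  have hVne : Nontrivial V := by
    rw [Subgroup.nontrivial_iff_ne_bot]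
    intro h
    refine hlt.not_ge fun x hx => (QuotientGroup.eq_one_iff x).1 (Subgroup.mem_bot.1 ?_)
    exact h ▸ Subgroup.mem_map_of_mem π hx
  -- the factor is elementary abelian
  have hchar : ∀ U : Subgroup V, U.Characteristic → U = ⊥ ∨ U = ⊤ := fun U hU =>
    hirr U fun g x hx => by
      have h := Subgroup.characteristic_iff_map_eq.1 hU (φ g)
      exact h ▸ Subgroup.mem_map_of_mem _ hx
  have hab : ∀ a b : V, a * b = b * a := by
    rcases hchar (commutator V) inferInstance with h | h
    · intro a b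
      refine commutatorElement_eq_one_iff_mul_comm.1 (Subgroup.mem_bot.1 ?_)
      rw [← h, commutator_def]
      exact Subgroup.commutator_mem_commutator (Subgroup.mem_top a) (Subgroup.mem_top b)
    · exact absurd h (Group.IsSolvable.commutator_lt_top_of_nontrivial V).ne
  let _ : CommGroup V := { (inferInstance : Group V) with mul_comm := hab }
  obtain ⟨r, hr, hrd⟩ := Nat.exists_prime_and_dvd (Finite.one_lt_card (α := V)).ne'
  have : Fact r.Prime := ⟨hr⟩
  have hVr : IsPGroup r V := by
    let U : Subgroup V := (powMonoidHom r : V →* V).ker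
    have hUc : U.Characteristic := Subgroup.characteristic_iff_le_comap.2 fun e x hx => by
      show (e x) ^ r = 1
      rw [← map_pow, show x ^ r = 1 from hx, map_one]
    rcases hchar U hUc with h | h
    · obtain ⟨x, hx⟩ := exists_prime_orderOf_dvd_card' r hrd
      have : x ∈ U := by show x ^ r = 1; rw [← hx, pow_orderOf_eq_one]
      rw [h, Subgroup.mem_bot] at this
      rw [this, orderOf_one] at hx
      exact absurd hx.symm hr.ne_one
    · exact fun x => ⟨1, by rw [pow_one]; exact (show x ∈ U from h ▸ trivial)⟩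
  obtain ⟨d, hd⟩ := hVr.exists_card_eq
  have hVM : Nat.card M = Nat.card V * Nat.card L := by
    rw [hV, ← Subgroup.relIndex_ker M π, QuotientGroup.ker_mk', mul_comm,
      ← Subgroup.relIndex_bot_left L, ← Subgroup.relIndex_bot_left M]
    exact (Subgroup.relIndex_mul_relIndex ⊥ L M bot_le hlt.le).symm
  have hrel : L.relIndex M = Nat.card V := by
    rw [hV, ← Subgroup.relIndex_ker M π, QuotientGroup.ker_mk']
  -- fixed points
  have hC : ∀ g : G, ∃ i, Nat.card ↥(M ⊓ Subgroup.centralizer ({g} : Set G)) =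
      i * Nat.card ↥(L ⊓ Subgroup.centralizer ({g} : Set G)) ∧
      i ∣ Nat.card (fixPts (φ g)) := fun g =>
    card_centralizer_le hlt.le g V hV.symm _ fun v hv => by
      rw [mem_fixPts]
      exact Subtype.ext (by rw [hφ, hv, mul_inv_cancel_right])
  choose i hi hid using hC
  have hC' : ∀ g : G, (Nat.card ↥(M ⊓ Subgroup.centralizer ({g} : Set G))).factorization p ≤
      (Nat.card (fixPts (φ g))).factorization p +
        (Nat.card ↥(L ⊓ Subgroup.centralizer ({g} : Set G))).factorization p := fun g => by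
    have h0 : i g ≠ 0 := fun h => Nat.card_pos.ne' (by rw [hi g, h, zero_mul])
    rw [hi g, Nat.factorization_mul h0 Nat.card_pos.ne', Finsupp.add_apply]
    exact Nat.add_le_add_right
      ((Nat.factorization_le_iff_dvd h0 Nat.card_pos.ne').2 (hid g) p) _
  have hVfac : (Nat.card M).factorization p =
      (Nat.card V).factorization p + (Nat.card L).factorization p := by
    rw [hVM, Nat.factorization_mul Nat.card_pos.ne' Nat.card_pos.ne', Finsupp.add_apply]
  suffices hkey : Nat.card G * m.factorization p + ∑ g : G, (Nat.card (fixPts (φ g))).factorization p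
      ≤ Nat.card G * (Nat.card V).factorization p by
    have h := Finset.sum_le_sum fun g (_ : g ∈ Finset.univ) => hC' g
    rw [Finset.sum_add_distrib] at h
    rw [hVfac, mul_add]
    omega
  rcases ne_or_eq r p with hrp | rfl
  · -- the other primes
    have h0 : ∀ n, n ∣ r ^ d → n.factorization p = 0 := fun n hn => by
      refine Nat.factorization_eq_zero_of_not_dvd fun h => hrp ?_
      exact ((Nat.prime_dvd_prime_iff_eq hp.out hr).1 (hp.out.dvd_of_dvd_pow (h.trans hn))).symm
    rw [h0 m (by rw [← hd, ← hrel]; exact hmd), Finset.sum_eq_zero fun g _ => h0 _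
      (by rw [← hd]; exact Subgroup.card_subgroup_dvd_card _)]
    simp
  have hself : ∀ n : ℕ, (r ^ n).factorization r = n := fun n => by
    rw [Nat.factorization_pow, Finsupp.smul_apply, Nat.Prime.factorization_self hr, smul_eq_mul,
      mul_one]
  have hfix : ∀ g : G, Nat.card (fixPts (φ g)) =
      r ^ (Nat.card (fixPts (φ g))).factorization r := fun g => by
    obtain ⟨f, hf⟩ := (hVr.to_subgroup (fixPts (φ g))).exists_card_eq
    rw [hf, hself]
  have hdf : (Nat.card V).factorization r = d := by rw [hd, hself]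
  obtain ⟨k, hkd, hk⟩ := (Nat.dvd_prime_pow hr).1 (hd ▸ hrel ▸ hmd)
  have hkf : m.factorization r = k := by rw [hk, hself]
  have h2k : 2 * k ≤ d := by
    rw [hrel, hd, hk, ← pow_add, Nat.pow_le_pow_iff_right hr.one_lt] at hmle
    omega
  rw [hdf, hkf]
  by_cases hne : ∃ g, φ g ≠ 1
  · have h := prod_fix_sq_le_irreducible φ hVr hirr hne
    rw [Finset.prod_congr rfl fun g _ => hfix g, Finset.prod_pow_eq_pow_sum, ← pow_mul, hd,
      ← pow_mul, Nat.pow_le_pow_iff_right hr.one_lt] at h
    have h3 : Nat.card G * (2 * k) ≤ Nat.card G * d := Nat.mul_le_mul_left _ h2k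
    rw [mul_left_comm] at h3
    rw [mul_comm d] at h
    omega
  · push Not at hne
    -- the trivial module
    have hd1 : d = 1 := by
      obtain ⟨x, hx⟩ := exists_prime_orderOf_dvd_card' r hrd
      rcases hirr (Subgroup.zpowers x) fun g y hy => by rwa [hne g] with h | h
      · rw [Subgroup.zpowers_eq_bot] at h
        rw [h, orderOf_one] at hx
        exact absurd hx.symm hr.ne_one
      · have e : Nat.card V = r := by
          rw [← Subgroup.card_top, ← h, Nat.card_zpowers, hx]
        exact Nat.pow_right_injective hr.two_le (show r ^ d = r ^ 1 by rw [← hd, e, pow_one])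
    have hk0 : k = 0 := by omega
    rw [hk0, hd1, mul_zero, zero_add, mul_one]
    refine (Finset.sum_le_card_nsmul _ _ 1 fun g _ => ?_).trans
      (by rw [Finset.card_univ, Nat.card_eq_fintype_card (α := G), smul_eq_mul, mul_one])
    have h := (Nat.factorization_le_iff_dvd Nat.card_pos.ne' Nat.card_pos.ne').2
      (Subgroup.card_subgroup_dvd_card (fixPts (φ g))) r
    rwa [hdf, hd1] at h

/-- The averaged inequality on every normal subgroup. -/
theorem sum_le [Group.IsSolvable G] {χ : G → ℂ} (hχ : Cfsg.IsIrrCharacter G χ)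
    (hprim : BlockB.PrimitiveClassSize.IsPrim χ) (p : ℕ) [Fact p.Prime] :
    ∀ (n : ℕ) (M : Subgroup G) [Fintype M], M.Normal → Nat.card M ≤ n →
      ∀ (θ : M → ℂ) (e : ℕ), Cfsg.IsIrrCharacter M θ → (fun x : M => χ x) = (e : ℂ) • θ →
        e ≠ 0 → Cfsg.charDegree χ = e * Cfsg.charDegree θ →
        Nat.card G * (Cfsg.charDegree θ).factorization p +
            ∑ g : G, (Nat.card ↥(M ⊓ Subgroup.centralizer ({g} : Set G))).factorization p ≤
          Nat.card G * (Nat.card M).factorization p := by
  classical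
  intro n
  induction n using Nat.strong_induction_on with
  | _ n ih =>
    intro M _ hM hn θ e hθ hres he hdeg
    rcases eq_or_ne M ⊥ with rfl | hMb
    · have h1 : Cfsg.charDegree θ = 1 :=
        Nat.dvd_one.1 ((Clifford.Degrees.charDegree_dvd_card hθ).trans Subgroup.card_bot.dvd)
      simp [h1]
    obtain ⟨L, ⟨hLn, hLlt⟩, hLmax⟩ :=
      (Set.toFinite {L : Subgroup G | L.Normal ∧ L < M}).exists_maximal
        ⟨⊥, inferInstance, bot_lt_iff_ne_bot.2 hMb⟩
    have := Fintype.ofFinite L
    obtain ⟨θL, eL, hθL, hresL, hdegL, heL⟩ := BlockB.PrimitiveClassSize.exists_homogeneous hχ hprim L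
    obtain ⟨m, hm, hmd, hmle⟩ := BlockB.PrimitiveClassSize.multiplicity_step (χ := χ) hLlt.le hθL hθ hresL hres heL he
    have hlt : Nat.card L < Nat.card M := lt_of_le_of_ne (Subgroup.card_le_of_le hLlt.le)
      fun h => hLlt.ne (Subgroup.eq_of_le_of_card_ge hLlt.le h.ge)
    have h1 := ih (Nat.card L) (hlt.trans_le hn) L hLn le_rfl θL eL hθL hresL heL hdegL
    have h2 := step (χ := χ) p hLlt
      (fun U hU hLU hUM => le_antisymm (hLmax ⟨hU, hUM⟩ hLU) hLU) hmd hmle
    have hθd : Cfsg.charDegree θ = m * Cfsg.charDegree θL :=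
      Nat.eq_of_mul_eq_mul_left (Nat.pos_of_ne_zero he) (by rw [← hdeg, hdegL, hm, mul_assoc])
    have hm0 : m ≠ 0 := fun h => heL (by rw [hm, h, mul_zero])
    have hL0 : Cfsg.charDegree θL ≠ 0 := fun h => Char.irr_apply_one_ne_zero hθL (by
      rw [← BlockB.charDegree_cast (Char.irr_isCharacter hθL), h, Nat.cast_zero])
    rw [hθd, Nat.factorization_mul hm0 hL0, Finsupp.add_apply, mul_add]
    omega

/-- **The `p`-part of the degree divides a class size.** -/
theorem exists_factorization_le [Group.IsSolvable G] {χ : G → ℂ}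
    (hχ : Cfsg.IsIrrCharacter G χ) (hprim : BlockB.PrimitiveClassSize.IsPrim χ) (p : ℕ) [Fact p.Prime] :
    ∃ g : G, (Cfsg.charDegree χ).factorization p ≤
      ((Subgroup.centralizer ({g} : Set G)).index).factorization p := by
  classical
  have := Fintype.ofFinite (⊤ : Subgroup G)
  have hθ : Cfsg.IsIrrCharacter (⊤ : Subgroup G) (fun x => χ x) :=
    Char.isIrrCharacter_comp_surjective hχ (Subgroup.topEquiv (G := G)).toMonoidHom
      (Subgroup.topEquiv (G := G)).surjective
  have hdeg : Cfsg.charDegree (fun x : (⊤ : Subgroup G) => χ x) = Cfsg.charDegree χ := rfl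
  have h := sum_le hχ hprim p _ ⊤ inferInstance le_rfl _ 1 hθ (by simp) one_ne_zero
    (by rw [hdeg, one_mul])
  rw [hdeg, Subgroup.card_top] at h
  by_contra hne
  push Not at hne
  have hg : ∀ g : G, (Nat.card G).factorization p + 1 ≤ (Cfsg.charDegree χ).factorization p +
      (Nat.card ↥((⊤ : Subgroup G) ⊓ Subgroup.centralizer ({g} : Set G))).factorization p := by
    intro g
    have hmul := Subgroup.card_mul_index (Subgroup.centralizer ({g} : Set G))
    rw [top_inf_eq, ← hmul,
      Nat.factorization_mul Nat.card_pos.ne' Subgroup.index_ne_zero_of_finite, Finsupp.add_apply]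
    have := hne g
    omega
  have h2 := Finset.sum_le_sum fun g (_ : g ∈ Finset.univ) => hg g
  rw [Finset.sum_add_distrib, Finset.sum_add_distrib] at h2
  simp only [Finset.sum_const, Finset.card_univ, ← Nat.card_eq_fintype_card, smul_eq_mul,
    mul_one] at h2
  have : 0 < Nat.card G := Nat.card_pos
  omega

end CfsgLib.Block.PrimitiveClassPart
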