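import Cfsg.Agent.Lib.Block.FirstMain
import Cfsg.Agent.Lib.Block.DefectOrder
import Cfsg.Agent.S0955

/-!
Blocks when every radical `p`-subgroup contains its centraliser: defect zero or full.
-/

set_option autoImplicit false
set_option linter.unusedSectionVars false

namespace CfsgLib.Block

open Cfsg MonoidAlgebra

universe u

variable {G : Type u} [Group G] [Finite G] {p : ℕ} [hp : Fact p.Prime] {M : Ideal AlgInt} [M.IsPrime]

/-- An element of a group algebra over a field of characteristic `p` supported on an abelian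
`p`-subgroup is, after a `p ^ m`-th power, a scalar. -/
theorem exists_pow_eq_scalar {k : Type*} [Field k] [CharP k p] {Z : Subgroup G}
    (hZ : IsPGroup p Z) (hab : ∀ a ∈ Z, ∀ b ∈ Z, a * b = b * a) {e : MonoidAlgebra k G}
    (he : ∀ g, e.coeff g ≠ 0 → g ∈ Z) :
    ∃ (m : ℕ) (c : k), e ^ p ^ m = MonoidAlgebra.single 1 c := by
  classical
  let _ : CommGroup Z := { (inferInstance : Group Z) with
    mul_comm := fun a b => Subtype.ext (hab a a.2 b b.2) }
  have := Fintype.ofFinite Z
  obtain ⟨m, hm⟩ := IsPGroup.iff_card.1 hZ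
  have : CharP (MonoidAlgebra k Z) p :=
    charP_of_injective_ringHom (f := (MonoidAlgebra.singleOneRingHom : k →+* MonoidAlgebra k Z))
      (RingHom.injective _) p
  have : ExpChar (MonoidAlgebra k Z) p := .prime hp.out
  refine ⟨m, ∑ z : Z, e.coeff z ^ p ^ m, ?_⟩
  let f : MonoidAlgebra k Z →+* MonoidAlgebra k G := MonoidAlgebra.mapDomainRingHom k Z.subtype
  have hf : ∀ (z : Z) (a : k), f (MonoidAlgebra.single z a) = MonoidAlgebra.single (z : G) a :=
    fun z a => by simp [f]
  have heq : e = f (∑ z : Z, MonoidAlgebra.single z (e.coeff z)) := by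
    ext g
    simp only [map_sum, hf, coeff_sum, Finset.sum_apply', coeff_single]
    by_cases hg : g ∈ Z
    · rw [Finset.sum_eq_single (⟨g, hg⟩ : Z)]
      · simp
      · intro z _ hz
        rw [Finsupp.single_eq_of_ne]
        exact fun h => hz (Subtype.ext (Eq.symm h))
      · simp
    · rw [Finset.sum_eq_zero]
      · by_contra hne
        exact hg (he g hne)
      · intro z _
        rw [Finsupp.single_eq_of_ne]
        intro h
        exact hg (h ▸ z.2)
  conv_lhs => rw [heq]
  rw [← map_pow, sum_pow_char_pow, map_sum]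
  ext g
  simp only [MonoidAlgebra.single_pow, hf, ← hm, Nat.card_eq_fintype_card, pow_card_eq_one,
    Subgroup.coe_one, coeff_sum, Finset.sum_apply', coeff_single]
  rw [Finsupp.single_finsetSum, Finset.sum_apply']

/-- A group with a self-centralising normal `p`-subgroup has a single block, of full defect. -/
theorem card_defectGroup_of_normal_selfcent (hM : IsPModular p M) {Q : Subgroup G} [Q.Normal]
    (hQ : IsPGroup p Q) (hC : Subgroup.centralizer (Q : Set G) ≤ Q) {b : Set (IrrCharacter G)}
    (hb : IsPBlock M b) {D : Subgroup G} (hD : IsDefectGroup p M b D) :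
    Nat.card D = p ^ (Nat.card G).factorization p := by
  classical
  have := charP_kres (M := M) hM
  set e : MonoidAlgebra (kres M) G := (blkIdem M b : MonoidAlgebra (kres M) G) with he
  have hsupp : ∀ g, e.coeff g ≠ 0 → g ∈ Subgroup.centralizer (Q : Set G) := fun g hg =>
    mem_centralizer_of_coeff_blkIdem_ne_zero hM hQ hb hg
  obtain ⟨m, c, hc⟩ := exists_pow_eq_scalar (hQ.to_le hC)
    (fun a ha x hx => (Subgroup.mem_centralizer_iff.1 hx a (hC ha))) hsupp
  have hee : e * e = e := congrArg Subtype.val (blkIdem_idem hM hb)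
  have hpow : ∀ n, e ^ (n + 1) = e := by
    intro n
    induction n with
    | zero => simp
    | succ n ih => rw [pow_succ, ih, hee]
  obtain ⟨n, hn⟩ : ∃ n, p ^ m = n + 1 :=
    ⟨p ^ m - 1, (Nat.sub_add_cancel (Nat.one_le_pow _ _ hp.out.pos)).symm⟩
  rw [hn, hpow] at hc
  obtain ⟨χ, hχ⟩ := isPBlock_nonempty hb
  obtain ⟨g, hg, P, rfl⟩ := hD
  have hg1 : g = 1 := by
    have h1 := ((isDefectClass_iff hM hb hχ g).1 hg).1
    change e.coeff g ≠ 0 at h1
    rw [hc, coeff_single] at h1
    by_contra hne
    exact h1 (Finsupp.single_eq_of_ne hne)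
  rw [natCard_cenSub]
  congr 1
  subst hg1
  rw [show Subgroup.centralizer ({(1 : G)} : Set G) = ⊤ from
    eq_top_iff.2 fun x _ => Subgroup.mem_centralizer_singleton_iff.2 (by simp), Subgroup.card_top]

/-- If every radical `p`-subgroup different from `⊥` contains its centraliser, every block has
defect zero or full defect. -/
theorem defect_zero_or_full (hM : IsPModular p M)
    (h : ∀ D : Subgroup G, IsPGroup p D → D ≠ ⊥ →
      (pCore p (Subgroup.normalizer (D : Set G))).map (Subgroup.normalizer (D : Set G)).subtype = D →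
        Subgroup.centralizer (D : Set G) ≤ D)
    {B : Set (IrrCharacter G)} (hB : IsPBlock M B) :
    blockDefect p B = 0 ∨ blockDefect p B = (Nat.card G).factorization p := by
  classical
  refine or_iff_not_imp_left.2 fun hd => ?_
  obtain ⟨D, hD⟩ := exists_isDefectGroup hM hB
  have hDp := isPGroup_defectGroup hM hB hD
  have hcard := natCard_defectGroup hM hB hD
  have hne : D ≠ ⊥ := by
    rintro rfl
    rw [Subgroup.card_bot] at hcard
    rcases Nat.pow_eq_one.1 hcard.symm with h2 | h2
    · exact hp.out.ne_one h2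
    · exact hd h2
  have hC := h D hDp hne (Cfsg.Agent.S0955.result p M hM B hB D hD)
  obtain ⟨b, hb, hbD, -⟩ := firstMain_exists hM hB hD
  set N := Subgroup.normalizer (D : Set G)
  have : (D.subgroupOf N).Normal := Subgroup.normal_in_normalizer
  have hC' : Subgroup.centralizer (D.subgroupOf N : Set N) ≤ D.subgroupOf N := by
    intro x hx
    refine hC (Subgroup.mem_centralizer_iff.2 fun v hv => ?_)
    exact congrArg Subtype.val
      (Subgroup.mem_centralizer_iff.1 hx ⟨v, Subgroup.le_normalizer hv⟩ hv)
  have h1 := card_defectGroup_of_normal_selfcent hM (Q := D.subgroupOf N) hDp.comap_subtype hC' hb hbD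
  rw [← Subgroup.card_map_of_injective (K := D.subgroupOf N) (Subgroup.subtype_injective _),
    Subgroup.subgroupOf_map_subtype, inf_eq_left.2 Subgroup.le_normalizer] at h1
  obtain ⟨S, hS⟩ := hDp.exists_le_sylow
  have hSD : (S : Subgroup G) = D := by
    refine eq_of_normalizer_inf_le S.2 hS ?_
    have h2 : Nat.card ↥((S : Subgroup G) ⊓ N) ≤ Nat.card D := by
      rw [h1]
      obtain ⟨k, hk⟩ := IsPGroup.iff_card.1 (S.2.to_le (inf_le_left : (S : Subgroup G) ⊓ N ≤ S))
      rw [hk]
      refine Nat.pow_le_pow_right hp.out.pos ?_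
      refine (hp.out.pow_dvd_iff_le_factorization Nat.card_pos.ne').1 ?_
      rw [← hk]
      exact Subgroup.card_dvd_of_le inf_le_right
    exact (Subgroup.eq_of_le_of_card_ge (le_inf hS Subgroup.le_normalizer) h2).ge
  have h3 := Sylow.card_eq_multiplicity S
  rw [hSD, hcard] at h3
  exact Nat.pow_right_injective hp.out.two_le h3

end CfsgLib.Block
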