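import Cfsg.Agent.Lib.Block.Covering
import Cfsg.Agent.Lib.Char.Brauer
import Cfsg.Agent.Lib.Char.Inner
import Mathlib.GroupTheory.Transfer

/-!
A character cut off to the regular elements and scaled by the Sylow order is generalized.
-/

set_option autoImplicit false
set_option linter.unusedSectionVars false

namespace CfsgLib.Block

open Cfsg
open scoped ComplexConjugate

universe u

/-- In an elementary group the regular elements form a subgroup. -/
theorem exists_regular_subgroup {E : Type u} [Group E] [Finite E] {p q : ℕ} [Fact p.Prime]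
    (hq : q.Prime) (hE : IsElementary q E) :
    ∃ R : Subgroup E, (∀ e, e ∈ R ↔ ¬ p ∣ orderOf e) ∧ ∃ j : ℕ, R.index = p ^ j := by
  obtain ⟨x, hx, hco, k, hk⟩ := hE
  have hp : p.Prime := Fact.out
  have := Fintype.ofFinite E
  have hcard : ∀ (R : Subgroup E), ¬ p ∣ Nat.card R → ∀ e ∈ R, ¬ p ∣ orderOf e := by
    intro R hR e he hd
    exact hR (hd.trans (by simpa using orderOf_dvd_natCard (⟨e, he⟩ : R)))
  have hquot : ∀ (R : Subgroup E) [R.Normal] (j : ℕ), R.index = p ^ j → ∀ e : E,
      ¬ p ∣ orderOf e → e ∈ R := by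
    intro R _ j hj e he
    rw [← QuotientGroup.eq_one_iff, ← orderOf_eq_one_iff]
    have h1 : orderOf (e : E ⧸ R) ∣ p ^ j := by
      rw [← hj, Subgroup.index_eq_card]; exact orderOf_dvd_natCard _
    exact Nat.eq_one_of_dvd_coprimes (Nat.Coprime.pow_left j (hp.coprime_iff_not_dvd.2 he)) h1
      (orderOf_map_dvd (QuotientGroup.mk' R) e)
  by_cases hqp : q = p
  · subst hqp
    have : (Subgroup.zpowers x).Normal := ⟨fun n hn g => by
      obtain ⟨i, rfl⟩ := Subgroup.mem_zpowers_iff.1 hn
      have : Commute g (x ^ i) :=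
        Commute.zpow_right (show Commute g x from Subgroup.mem_center_iff.1 hx g) i
      rw [this.eq, mul_inv_cancel_right]
      exact hn⟩
    refine ⟨Subgroup.zpowers x, fun e => ⟨fun he => hcard _ ?_ e he, hquot _ k hk e⟩, k, hk⟩
    rw [Nat.card_zpowers]
    exact hp.coprime_iff_not_dvd.1 hco.symm
  · obtain ⟨P⟩ := (inferInstance : Nonempty (Sylow p E))
    have : (Subgroup.zpowers x).Normal := ⟨fun n hn g => by
      obtain ⟨i, rfl⟩ := Subgroup.mem_zpowers_iff.1 hn
      have : Commute g (x ^ i) :=
        Commute.zpow_right (show Commute g x from Subgroup.mem_center_iff.1 hx g) i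
      rw [this.eq, mul_inv_cancel_right]
      exact hn⟩
    have hPZ : (P : Subgroup E) ≤ Subgroup.zpowers x := by
      intro e he
      rw [← QuotientGroup.eq_one_iff, ← orderOf_eq_one_iff]
      obtain ⟨i, hi⟩ := IsPGroup.iff_orderOf.1 P.2 ⟨e, he⟩
      rw [Subgroup.orderOf_mk] at hi
      have h1 : orderOf (e : E ⧸ Subgroup.zpowers x) ∣ q ^ k := by
        rw [← hk, Subgroup.index_eq_card]; exact orderOf_dvd_natCard _
      exact Nat.eq_one_of_dvd_coprimes
        (Nat.Coprime.pow k i ((Nat.coprime_primes hq hp).2 hqp)) h1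
        ((orderOf_map_dvd (QuotientGroup.mk' _) e).trans (hi ▸ dvd_rfl))
    have hcen : Subgroup.normalizer ((P : Subgroup E) : Set E) ≤
        Subgroup.centralizer ((P : Subgroup E) : Set E) := by
      intro g _
      rw [Subgroup.mem_centralizer_iff]
      intro e he
      obtain ⟨i, rfl⟩ := Subgroup.mem_zpowers_iff.1 (hPZ he)
      exact ((Commute.zpow_right (show Commute g x from Subgroup.mem_center_iff.1 hx g) i).eq).symm
    have hc := MonoidHom.ker_transferSylow_isComplement' P hcen
    set R := (MonoidHom.transferSylow P hcen).ker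
    have hRi : R.index = Nat.card P := hc.symm.index_eq_card
    obtain ⟨j, hj⟩ := IsPGroup.iff_card.1 P.2
    refine ⟨R, fun e => ⟨fun he => hcard _ ?_ e he, fun he => hquot _ j (hRi.trans hj) e he⟩,
      j, hRi.trans hj⟩
    exact MonoidHom.not_dvd_card_ker_transferSylow P hcen

/-- A character cut off to the regular elements, times the order of a Sylow subgroup, is a
generalized character. -/
theorem isGeneralized_regular_cut {G : Type u} [Group G] [Finite G] (p : ℕ) [Fact p.Prime]
    {χ : G → ℂ} (hχ : IsCharacter G χ) :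
    IsGeneralizedCharacter G (fun x : G =>
      if p ∣ orderOf x then 0 else ((p ^ (Nat.card G).factorization p : ℕ) : ℂ) * χ x) := by
  classical
  have := Fintype.ofFinite G
  have hp : p.Prime := Fact.out
  refine CfsgLib.Char.brauer_characterization (fun g h => ?_) fun E q hq hE => ?_
  · have ho : orderOf (h * g * h⁻¹) = orderOf g := by
      simpa using orderOf_injective (MulAut.conj h).toMonoidHom (MulAut.conj h).injective g
    rw [ho, CfsgLib.Char.isCharacter_isClassFunction hχ g h]
  have := Fintype.ofFinite E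
  obtain ⟨R, hR, j, hj⟩ := exists_regular_subgroup (p := p) hq hE
  have := Fintype.ofFinite R
  set a := (Nat.card G).factorization p
  have hja : j ≤ a := by
    have h1 : p ^ j ∣ Nat.card G :=
      ((hj ▸ R.index_dvd_card).trans E.card_subgroup_dvd_card)
    exact (hp.pow_dvd_iff_le_factorization Nat.card_pos.ne').1 h1
  have hcl : IsClassFunction E (fun e : E =>
      if p ∣ orderOf (e : G) then 0 else ((p ^ a : ℕ) : ℂ) * χ (e : G)) := by
    intro e h
    have ho : orderOf (h * e * h⁻¹) = orderOf e := by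
      simpa using orderOf_injective (MulAut.conj h).toMonoidHom (MulAut.conj h).injective e
    simp only [Subgroup.orderOf_coe, ho]
    push_cast
    rw [CfsgLib.Char.isCharacter_isClassFunction hχ (e : G) (h : G)]
  refine CfsgLib.Char.isGeneralized_of_int hcl fun ψ hψ => ?_
  obtain ⟨n, hn⟩ := CfsgLib.Char.classInner_isCharacter_nat
    (CfsgLib.Char.isCharacter_restrict (CfsgLib.Char.isCharacter_restrict hχ E) R)
    (CfsgLib.Char.isCharacter_restrict (CfsgLib.Char.irr_isCharacter hψ) R)
  refine ⟨(p ^ (a - j) * n : ℕ), ?_⟩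
  rw [CfsgLib.Char.classInner_def] at hn ⊢
  have hsum : ∑ e : E, (if p ∣ orderOf (e : G) then 0 else ((p ^ a : ℕ) : ℂ) * χ (e : G)) *
      conj (ψ e) = ((p ^ a : ℕ) : ℂ) * ∑ r : R, χ ((r : E) : G) * conj (ψ (r : E)) := by
    rw [Finset.mul_sum, ← Finset.sum_subtype (Finset.univ.filter (· ∈ R)) (by simp)
      (fun e : E => ((p ^ a : ℕ) : ℂ) * (χ (e : G) * conj (ψ e))), Finset.sum_filter]
    refine Finset.sum_congr rfl fun e _ => ?_
    simp only [hR e, Subgroup.orderOf_coe]
    split <;> ring
  have hRne : (Nat.card R : ℂ) ≠ 0 := Nat.cast_ne_zero.2 Nat.card_pos.ne'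
  have hpne : ((p ^ j : ℕ) : ℂ) ≠ 0 := Nat.cast_ne_zero.2 (pow_ne_zero _ hp.ne_zero)
  rw [hsum, Int.cast_natCast, Nat.cast_mul, ← hn, ← R.card_mul_index, hj,
    show p ^ a = p ^ j * p ^ (a - j) by rw [← pow_add, Nat.add_sub_cancel' hja], Nat.cast_mul,
    Nat.cast_mul]
  field_simp

end CfsgLib.Block
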