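import Cfsg.Agent.Lib.Block.SmallRestriction
import Cfsg.Agent.Lib.Block.DefectOneGalois
import Cfsg.Agent.Lib.BlockB.PModular

/-!
A self-centralizing subgroup of prime order: normalizer, classes, and normal subgroups.
-/

set_option autoImplicit false
set_option linter.unusedSectionVars false

namespace CfsgLib.Block

namespace SelfCentralPrime

universe u

variable {G : Type u} [Group G] [Finite G] {p : ℕ} [hp : Fact p.Prime] {x : G}

local notation "P₀" => Subgroup.zpowers x
local notation "N₀" => Subgroup.normalizer ((Subgroup.zpowers x : Subgroup G) : Set G)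

variable (hx : orderOf x = p) (hC : Subgroup.centralizer ({x} : Set G) = Subgroup.zpowers x)
include hx hC

theorem natCard_zpowers_eq : Nat.card P₀ = p := by rw [Nat.card_zpowers, hx]

theorem not_sq_dvd : ¬ p ^ 2 ∣ Nat.card G := by
  intro hsq
  obtain ⟨P, hP⟩ := (IsPGroup.of_card (n := 1) (G := P₀)
    (by rw [natCard_zpowers_eq hx hC, pow_one])).exists_le_sylow
  have hxP : x ∈ (P : Subgroup G) := hP (Subgroup.mem_zpowers x)
  have : Nontrivial (P : Subgroup G) :=
    ⟨⟨⟨x, hxP⟩, 1, fun h => by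
      have h1 : x = 1 := congrArg Subtype.val h
      rw [h1, orderOf_one] at hx
      exact hp.out.ne_one hx.symm⟩⟩
  have := P.isPGroup'.center_nontrivial
  obtain ⟨⟨z, hz⟩, hz1⟩ := exists_ne (1 : Subgroup.center (P : Subgroup G))
  have hzx : (z : G) ∈ P₀ := by
    rw [← hC, Subgroup.mem_centralizer_singleton_iff]
    exact congrArg Subtype.val (Subgroup.mem_center_iff.1 hz ⟨x, hxP⟩).symm
  have hgen : Subgroup.zpowers (z : G) = P₀ := by
    refine Subgroup.eq_of_le_of_card_ge (Subgroup.zpowers_le.2 hzx) ?_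
    rw [natCard_zpowers_eq hx hC]
    rcases hp.out.eq_one_or_self_of_dvd (Nat.card (Subgroup.zpowers (z : G))) ((Subgroup.card_dvd_of_le (Subgroup.zpowers_le.2 hzx)).trans
        (dvd_of_eq (natCard_zpowers_eq hx hC))) with h | h
    · exfalso
      rw [Nat.card_zpowers, orderOf_eq_one_iff] at h
      exact hz1 (Subtype.ext (Subtype.ext h))
    · exact h.ge
  have hle : (P : Subgroup G) ≤ P₀ := fun q hq => by
    rw [← hC, Subgroup.mem_centralizer_singleton_iff]
    obtain ⟨k, hk⟩ := Subgroup.mem_zpowers_iff.1 (hgen ▸ Subgroup.mem_zpowers x :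
      x ∈ Subgroup.zpowers (z : G))
    have hc : Commute q (z : G) :=
      congrArg Subtype.val (Subgroup.mem_center_iff.1 hz ⟨q, hq⟩)
    rw [← hk]
    exact (hc.zpow_right k).eq
  have h1 := (dvd_of_eq P.card_eq_multiplicity.symm).trans (Subgroup.card_dvd_of_le hle)
  rw [natCard_zpowers_eq hx hC] at h1
  have h2 := (pow_dvd_pow p ((hp.out.pow_dvd_iff_le_factorization Nat.card_pos.ne').1 hsq)).trans h1
  have := Nat.le_of_dvd hp.out.pos h2
  nlinarith [hp.out.two_le, pow_two p]

theorem exists_sylow_eq : ∃ P : Sylow p G, (P : Subgroup G) = P₀ := by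
  have h1 : p ∣ Nat.card G := hx ▸ orderOf_dvd_natCard x
  have h2 := (hp.out.dvd_iff_one_le_factorization Nat.card_pos.ne').1 h1
  have h3 : ¬ 2 ≤ (Nat.card G).factorization p := fun h =>
    not_sq_dvd hx hC ((hp.out.pow_dvd_iff_le_factorization Nat.card_pos.ne').2 h)
  refine ⟨Sylow.ofCard P₀ ?_, rfl⟩
  rw [natCard_zpowers_eq hx hC, show (Nat.card G).factorization p = 1 by omega, pow_one]

omit hx hC in
theorem centralizer_le_normalizer : P₀ ≤ N₀ := Subgroup.le_normalizer

theorem natCard_normalizer :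
    Nat.card N₀ = p * Subgroup.relIndex P₀ N₀ := by
  have h := (Subgroup.subgroupOf P₀ N₀).card_mul_index
  rw [Nat.card_congr (Subgroup.subgroupOfEquivOfLe
      (Subgroup.le_normalizer : P₀ ≤ N₀)).toEquiv,
    natCard_zpowers_eq hx hC] at h
  exact h.symm

theorem natCard_eq {n : ℕ} (hn : Nat.card {H : Subgroup G // Nat.card H = p} = 1 + n * p) :
    Nat.card G = (1 + n * p) * Nat.card N₀ := by
  obtain ⟨P, hP⟩ := exists_sylow_eq hx hC
  have h1 : Nat.card {H : Subgroup G // Nat.card H = p} = Nat.card (Sylow p G) := by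
    have hcard : (Nat.card G).factorization p = 1 := by
      have h := P.card_eq_multiplicity
      rw [hP, natCard_zpowers_eq hx hC] at h
      exact (Nat.pow_right_injective hp.out.two_le ((pow_one p).trans h)).symm
    refine Nat.card_congr
      { toFun := fun H => Sylow.ofCard H.1 (by rw [H.2, hcard, pow_one])
        invFun := fun Q => ⟨Q, by rw [Q.card_eq_multiplicity, hcard, pow_one]⟩
        left_inv := fun H => rfl
        right_inv := fun Q => Sylow.ext rfl }
  rw [← hn, h1, P.card_eq_index_normalizer]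
  simp only [← hP]
  exact (Subgroup.index_mul_card _).symm

/-- The commutator of two elements of the normalizer centralizes `x`. -/
theorem commutator_mem {a b : G} (ha : a ∈ N₀) (hb : b ∈ N₀) : a * b * a⁻¹ * b⁻¹ ∈ P₀ := by
  have key : ∀ n ∈ N₀, ∃ k : ℤ, n * x * n⁻¹ = x ^ k := fun n hn => by
    obtain ⟨k, hk⟩ := Subgroup.mem_zpowers_iff.1
      ((Subgroup.mem_normalizer_iff.1 hn x).1 (Subgroup.mem_zpowers x))
    exact ⟨k, hk.symm⟩
  obtain ⟨i, hi⟩ := key a ha
  obtain ⟨j, hj⟩ := key b hb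
  have hab : (a * b) * x * (a * b)⁻¹ = x ^ (i * j) := by
    rw [show (a * b) * x * (a * b)⁻¹ = a * (b * x * b⁻¹) * a⁻¹ by group, hj,
      show a * x ^ j * a⁻¹ = (a * x * a⁻¹) ^ j from conj_zpow.symm, hi, ← zpow_mul]
  have hba : (b * a) * x * (b * a)⁻¹ = x ^ (i * j) := by
    rw [show (b * a) * x * (b * a)⁻¹ = b * (a * x * a⁻¹) * b⁻¹ by group, hi,
      show b * x ^ i * b⁻¹ = (b * x * b⁻¹) ^ i from conj_zpow.symm, hj, ← zpow_mul, mul_comm j i]
  have hc : (b * a)⁻¹ * (a * b) ∈ Subgroup.centralizer ({x} : Set G) := by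
    rw [Subgroup.mem_centralizer_singleton_iff]
    have h : (a * b) * x * (a * b)⁻¹ = (b * a) * x * (b * a)⁻¹ := hab.trans hba.symm
    calc (b * a)⁻¹ * (a * b) * x = (b * a)⁻¹ * ((a * b) * x * (a * b)⁻¹) * (a * b) := by group
      _ = x * ((b * a)⁻¹ * (a * b)) := by rw [h]; group
  rw [hC] at hc
  have h2 := (Subgroup.mem_normalizer_iff.1 (mul_mem hb ha) _).1 hc
  rwa [show b * a * ((b * a)⁻¹ * (a * b)) * (b * a)⁻¹ = a * b * a⁻¹ * b⁻¹ by group] at h2

/-- A normal subgroup containing `x` covers the group together with the normalizer. -/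
theorem exists_mul_of_mem (L : Subgroup G) [hL : L.Normal] (hxL : x ∈ L) (g : G) :
    ∃ n ∈ N₀, ∃ l ∈ L, g = n * l := by
  obtain ⟨P, hP⟩ := exists_sylow_eq hx hC
  have hPL : (P : Subgroup G) ≤ L := by rw [hP]; exact Subgroup.zpowers_le.2 hxL
  have h := Sylow.normalizer_sup_eq_top (P.subtype hPL)
  rw [Sylow.coe_subtype, Subgroup.subgroupOf_map_subtype, inf_eq_left.2 hPL, hP] at h
  have hg : g ∈ N₀ ⊔ L := h ▸ Subgroup.mem_top g
  rw [← SetLike.mem_coe, Subgroup.mul_normal N₀ L] at hg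
  obtain ⟨n, hn, l, hl, rfl⟩ := Set.mem_mul.1 hg
  exact ⟨n, hn, l, hl, rfl⟩

theorem commutator_le_of_mem (L : Subgroup G) [hL : L.Normal] (hxL : x ∈ L) :
    commutator G ≤ L := by
  refine (Subgroup.Normal.quotient_commutative_iff_commutator_le).1 ⟨⟨fun q r => ?_⟩⟩
  obtain ⟨a, rfl⟩ := QuotientGroup.mk_surjective q
  obtain ⟨b, rfl⟩ := QuotientGroup.mk_surjective r
  obtain ⟨n, hn, l, hl, rfl⟩ := exists_mul_of_mem hx hC L hxL a
  obtain ⟨m, hm, k, hk, rfl⟩ := exists_mul_of_mem hx hC L hxL b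
  have hl' : ((l : G) : G ⧸ L) = 1 := (QuotientGroup.eq_one_iff l).2 hl
  have hk' : ((k : G) : G ⧸ L) = 1 := (QuotientGroup.eq_one_iff k).2 hk
  simp only [QuotientGroup.mk_mul, hl', hk', mul_one]
  rw [← QuotientGroup.mk_mul, ← QuotientGroup.mk_mul, QuotientGroup.eq]
  have hz := commutator_mem hx hC (inv_mem hm) (inv_mem hn)
  rw [inv_inv, inv_inv] at hz
  have : m⁻¹ * n⁻¹ * m * n ∈ L := Subgroup.zpowers_le.2 hxL hz
  rwa [show (n * m)⁻¹ * (m * n) = m⁻¹ * n⁻¹ * m * n by group]

/-- A normal subgroup of order prime to `p` meets the normalizer trivially. -/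
theorem inf_normalizer_eq_bot (S : Subgroup G) [hS : S.Normal] (hp' : ¬ p ∣ Nat.card S) :
    S ⊓ N₀ = ⊥ := by
  rw [Subgroup.eq_bot_iff_forall]
  rintro s ⟨hs, hsn⟩
  have hPS : ∀ y ∈ P₀, y ∈ S → y = 1 := fun y hy hyS => by
    rw [← orderOf_eq_one_iff]
    refine Nat.eq_one_of_dvd_coprimes (hp.out.coprime_iff_not_dvd.2 hp') ?_ ?_
    · rw [← natCard_zpowers_eq hx hC, ← Subgroup.orderOf_mk y hy]; exact orderOf_dvd_natCard _
    · rw [← Subgroup.orderOf_mk y hyS]; exact orderOf_dvd_natCard _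
  have h1 : s * x * s⁻¹ * x⁻¹ = 1 := hPS _
    (mul_mem ((Subgroup.mem_normalizer_iff.1 hsn x).1 (Subgroup.mem_zpowers x))
      (inv_mem (Subgroup.mem_zpowers x)))
    (by
      rw [mul_assoc, mul_assoc]
      exact mul_mem hs (by rw [← mul_assoc]; exact hS.conj_mem _ (inv_mem hs) x))
  have hsC : s ∈ Subgroup.centralizer ({x} : Set G) := by
    rw [Subgroup.mem_centralizer_singleton_iff]
    rwa [mul_inv_eq_one, mul_inv_eq_iff_eq_mul] at h1
  rw [hC] at hsC
  exact hPS s hsC hs

omit hx hC in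
theorem natCard_classes_of_surjective {A : Type*} [CommGroup A] (E : Subgroup A) {B : Type*}
    (f : A → B) (hf : Function.Surjective f) (heq : ∀ a b, f a = f b ↔ a⁻¹ * b ∈ E) :
    Nat.card B = E.index := by
  rw [Subgroup.index]
  refine (Nat.card_congr (Equiv.ofBijective
    (fun q : A ⧸ E => Quotient.liftOn' q f fun a b h => (heq a b).2
      (QuotientGroup.leftRel_apply.1 h)) ⟨?_, ?_⟩)).symm
  · intro q r
    induction q using QuotientGroup.induction_on with
    | _ a =>
      induction r using QuotientGroup.induction_on with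
      | _ b => exact fun h => QuotientGroup.eq.2 ((heq a b).1 h)
  · intro b
    obtain ⟨a, rfl⟩ := hf b
    exact ⟨QuotientGroup.mk a, rfl⟩

open Cfsg in
theorem exists_principalOne (M : Ideal AlgInt) [M.IsPrime] (hM : IsPModular p M) :
    ∃ O : OneBlock G p M, O.x = x ∧
      O.b = principalBlock M (Subgroup.centralizer ({O.x} : Set G)) := by
  have := Fintype.ofFinite G
  obtain ⟨φ, h1, h2, h3, -⟩ := DefectOne.exists_param
    (b := principalBlock M (Subgroup.centralizer ({x} : Set G))) hM hx (not_sq_dvd hx hC)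
    isPBlock_principalBlock
  exact ⟨⟨hM, x, hx, not_sq_dvd hx hC, _, isPBlock_principalBlock, φ, h1, h2, h3⟩, rfl, rfl⟩

open Cfsg in
/-- The number of classes of elements of order `p`. -/
theorem natCard_classes_mul {t : ℕ}
    (ht : Nat.card {C : ConjClasses G // ∃ g ∈ C.carrier, orderOf g = p} = t) :
    t * Subgroup.relIndex P₀ N₀ = p - 1 := by
  classical
  have := Fintype.ofFinite G
  obtain ⟨M, hM⟩ := CfsgLib.BlockB.exists_isPModular (p := p) hp.out
  have := hM.2.1.isPrime
  obtain ⟨O, rfl, hb⟩ := exists_principalOne hx hC M hM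
  have hE := O.natCard_expSubgroup_principal hb
  rw [hC] at hE
  rw [show Subgroup.relIndex (Subgroup.zpowers O.x)
    (Subgroup.normalizer ((Subgroup.zpowers O.x : Subgroup G) : Set G)) = Nat.card O.expSubgroup
    from hE.symm, ← O.natCard_mul_index, mul_comm]
  congr 1
  rw [← ht]
  have hord : ∀ v : (ZMod p)ˣ, orderOf (O.x ^ (v : ZMod p).val) = p := fun v => by
    rw [(Nat.Coprime.orderOf_pow ?_), hx]
    rw [hx]
    exact ZMod.val_coe_unit_coprime v |>.symm
  refine natCard_classes_of_surjective O.expSubgroup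
    (fun v => ⟨ConjClasses.mk (O.x ^ (v : ZMod p).val), _, ConjClasses.mem_carrier_mk, hord v⟩)
    ?_ fun v w => ?_
  · rintro ⟨C, g, hg, hgo⟩
    obtain ⟨a, ha⟩ := O.exists_conj_zpowers hgo
    obtain ⟨k, hk⟩ := mem_powers_iff_mem_zpowers.2 ha
    have hk0 : (k : ZMod p) ≠ 0 := fun h => by
      have h1 : a * g * a⁻¹ = 1 := by
        rw [← show O.x ^ k = a * g * a⁻¹ from hk, ← DefectOne.pow_val_natCast O.hxo, h,
          ZMod.val_zero, pow_zero]
      have h2 : g = 1 := by simpa using h1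
      rw [h2, orderOf_one] at hgo
      exact hp.out.ne_one hgo.symm
    refine ⟨Units.mk0 _ hk0, Subtype.ext ?_⟩
    change ConjClasses.mk _ = C
    rw [← ConjClasses.mem_carrier_iff_mk_eq.1 hg, ConjClasses.mk_eq_mk_iff_isConj, Units.val_mk0,
      DefectOne.pow_val_natCast O.hxo, show O.x ^ k = a * g * a⁻¹ from hk]
    exact (isConj_iff.2 ⟨a, rfl⟩).symm
  · rw [Subtype.mk_eq_mk, ConjClasses.mk_eq_mk_iff_isConj, isConj_iff]
    constructor
    · rintro ⟨g, hg⟩
      have hgN : g ∈ O.N := by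
        rw [OneBlock.N, Subgroup.mem_normalizer_iff]
        have hgen : ∀ u : (ZMod p)ˣ,
            Subgroup.zpowers (O.x ^ (u : ZMod p).val) = Subgroup.zpowers O.x := fun u =>
          Subgroup.eq_of_le_of_card_ge (Subgroup.zpowers_le.2 (pow_mem (Subgroup.mem_zpowers _) _))
            (by rw [Nat.card_zpowers, Nat.card_zpowers, hord u, hx])
        have hmap : (Subgroup.zpowers O.x).map (MulAut.conj g).toMonoidHom
            = Subgroup.zpowers O.x := by
          conv_lhs => rw [← hgen v]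
          rw [MonoidHom.map_zpowers]
          exact (congrArg Subgroup.zpowers hg).trans (hgen w)
        intro h
        conv_rhs => rw [← hmap]
        exact (Subgroup.mem_map_iff_mem (MulAut.conj g).injective).symm
      have hgT : g ∈ O.T := (O.T_principal hb).symm ▸ hgN
      obtain ⟨c, hc0, hc⟩ := O.exists_conj hgN
      have hw : (w : ZMod p) = c * (v : ZMod p) := by
        apply DefectOne.pow_val_inj O.hxo
        rw [← hg, ← conj_pow, hc, DefectOne.pow_val_mul O.hxo]
      have hu : Units.mk0 c hc0 ∈ O.expSubgroup := ⟨g, hgT, hc⟩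
      rwa [show w = Units.mk0 c hc0 * v from Units.ext hw, mul_comm _ v, inv_mul_cancel_left]
    · rintro ⟨n, -, hn⟩
      refine ⟨n, ?_⟩
      rw [← conj_pow, hn, DefectOne.pow_val_mul O.hxo, ← Units.val_mul, mul_comm (v⁻¹ * w),
        mul_inv_cancel_left]

end SelfCentralPrime

end CfsgLib.Block
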