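import Cfsg.Agent.Lib.Block.SelfCentralPrime
import Cfsg.Agent.S4509

/-!
A self-centralizing subgroup of prime order: behaviour of normal subgroups.
-/

set_option autoImplicit false
set_option linter.unusedSectionVars false

namespace CfsgLib.Block

namespace SelfCentralPrime

open scoped commutatorElement

universe u

variable {G : Type u} [Group G] [Finite G] {p : ℕ} [hp : Fact p.Prime] {x : G}

local notation "P₀" => Subgroup.zpowers x
local notation "N₀" => Subgroup.normalizer ((Subgroup.zpowers x : Subgroup G) : Set G)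

variable (hx : orderOf x = p) (hC : Subgroup.centralizer ({x} : Set G) = Subgroup.zpowers x)
include hx hC

theorem exists_count : ∃ n : ℕ, Nat.card {H : Subgroup G // Nat.card H = p} = 1 + n * p := by
  obtain ⟨P, hP⟩ := exists_sylow_eq hx hC
  have hcard : (Nat.card G).factorization p = 1 := by
    have h := P.card_eq_multiplicity
    rw [hP, natCard_zpowers_eq hx hC] at h
    exact (Nat.pow_right_injective hp.out.two_le ((pow_one p).trans h)).symm
  have h1 : Nat.card {H : Subgroup G // Nat.card H = p} = Nat.card (Sylow p G) :=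
    Nat.card_congr
      { toFun := fun H => Sylow.ofCard H.1 (by rw [H.2, hcard, pow_one])
        invFun := fun Q => ⟨Q, by rw [Q.card_eq_multiplicity, hcard, pow_one]⟩
        left_inv := fun H => rfl
        right_inv := fun Q => Sylow.ext rfl }
  refine ⟨Nat.card (Sylow p G) / p, ?_⟩
  have h2 : Nat.card (Sylow p G) % p = 1 := by
    have h : Nat.card (Sylow p G) % p = 1 % p := card_sylow_modEq_one p G
    rwa [Nat.mod_eq_of_lt hp.out.one_lt] at h
  rw [h1]
  conv_lhs => rw [← Nat.mod_add_div (Nat.card (Sylow p G)) p, h2, mul_comm p]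

/-- A normal subgroup whose order is divisible by `p` contains `x`. -/
theorem mem_of_dvd_card (S : Subgroup G) [hS : S.Normal] (h : p ∣ Nat.card S) : x ∈ S := by
  have := Fintype.ofFinite G
  obtain ⟨y, hy⟩ := exists_prime_orderOf_dvd_card' (G := S) p h
  obtain ⟨M, hM⟩ := CfsgLib.BlockB.exists_isPModular (p := p) hp.out
  have := hM.2.1.isPrime
  obtain ⟨O, hOx, -⟩ := exists_principalOne hx hC M hM
  obtain ⟨a, ha⟩ := O.exists_conj_zpowers (g := (y : G)) (by rw [Subgroup.orderOf_coe, hy])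
  rw [hOx] at ha
  have hgen : Subgroup.zpowers (a * (y : G) * a⁻¹) = P₀ := by
    refine Subgroup.eq_of_le_of_card_ge (Subgroup.zpowers_le.2 ha) ?_
    rw [natCard_zpowers_eq hx hC, Nat.card_zpowers, ← MulAut.conj_apply, MulEquiv.orderOf_eq,
      Subgroup.orderOf_coe, hy]
  exact (hgen ▸ Subgroup.zpowers_le.2 (hS.conj_mem _ y.2 a) : P₀ ≤ S) (Subgroup.mem_zpowers x)

omit hx hC in
/-- Conjugation of `x` by a normal subgroup, as a map of the subgroup. -/
noncomputable def commMap (x : G) (S : Subgroup G) [hS : S.Normal] (s : S) : S :=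
  ⟨(s : G) * x * (s : G)⁻¹ * x⁻¹, by
    rw [mul_assoc, mul_assoc]
    exact mul_mem s.2 (by rw [← mul_assoc]; exact hS.conj_mem _ (inv_mem s.2) x)⟩

theorem commMap_bijective (S : Subgroup G) [hS : S.Normal] (hp' : ¬ p ∣ Nat.card S) :
    Function.Bijective (commMap x S) := by
  refine Finite.injective_iff_bijective.1 fun a b h => ?_
  have h' : (a : G) * x * (a : G)⁻¹ = (b : G) * x * (b : G)⁻¹ :=
    mul_right_cancel (congrArg Subtype.val h)
  have hmem : (b : G)⁻¹ * a ∈ S ⊓ N₀ := by
    refine Subgroup.mem_inf.2 ⟨S.mul_mem (S.inv_mem b.2) a.2, Subgroup.le_normalizer ?_⟩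
    rw [← hC, Subgroup.mem_centralizer_singleton_iff]
    calc (b : G)⁻¹ * a * x = (b : G)⁻¹ * ((a : G) * x * (a : G)⁻¹) * a := by group
      _ = x * ((b : G)⁻¹ * a) := by rw [h']; group
  rw [inf_normalizer_eq_bot hx hC S hp', Subgroup.mem_bot, inv_mul_eq_one] at hmem
  exact Subtype.ext hmem.symm

theorem le_commutator_of_not_dvd (S : Subgroup G) [hS : S.Normal] (hp' : ¬ p ∣ Nat.card S) :
    S ≤ commutator G := fun s hs => by
  obtain ⟨a, ha⟩ := (commMap_bijective hx hC S hp').2 ⟨s, hs⟩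
  rw [show s = (commMap x S a : G) from (congrArg Subtype.val ha).symm, commutator_def]
  exact Subgroup.commutator_mem_commutator (Subgroup.mem_top (a : G)) (Subgroup.mem_top x)

/-- The element stays self-centralizing modulo a normal subgroup of order prime to `p`. -/
theorem centralizer_mk (S : Subgroup G) [hS : S.Normal] (hp' : ¬ p ∣ Nat.card S) :
    orderOf (QuotientGroup.mk x : G ⧸ S) = p ∧
      Subgroup.centralizer ({(QuotientGroup.mk x : G ⧸ S)} : Set (G ⧸ S)) =
        Subgroup.zpowers (QuotientGroup.mk x : G ⧸ S) := by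
  refine ⟨orderOf_eq_prime (by rw [← QuotientGroup.mk_pow, ← hx, pow_orderOf_eq_one,
    QuotientGroup.mk_one]) fun h => hp' (hx ▸ S.orderOf_dvd_natCard
      ((QuotientGroup.eq_one_iff x).1 h)), le_antisymm (fun q hq => ?_) ?_⟩
  · obtain ⟨g, rfl⟩ := QuotientGroup.mk_surjective q
    rw [Subgroup.mem_centralizer_singleton_iff] at hq
    have hmem : g * x * g⁻¹ * x⁻¹ ∈ S := by
      rw [← QuotientGroup.eq_one_iff, QuotientGroup.mk_mul, QuotientGroup.mk_mul,
        QuotientGroup.mk_mul, QuotientGroup.mk_inv, QuotientGroup.mk_inv, hq]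
      group
    obtain ⟨s, hs⟩ := (commMap_bijective hx hC S hp').2 ⟨_, hmem⟩
    have hs' : (s : G) * x * (s : G)⁻¹ = g * x * g⁻¹ := mul_right_cancel (congrArg Subtype.val hs)
    have hc : (s : G)⁻¹ * g ∈ Subgroup.zpowers x := by
      rw [← hC, Subgroup.mem_centralizer_singleton_iff]
      calc (s : G)⁻¹ * g * x = (s : G)⁻¹ * (g * x * g⁻¹) * g := by group
        _ = x * ((s : G)⁻¹ * g) := by rw [← hs']; group
    obtain ⟨k, hk⟩ := Subgroup.mem_zpowers_iff.1 hc
    refine Subgroup.mem_zpowers_iff.2 ⟨k, ?_⟩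
    rw [← QuotientGroup.mk_zpow, hk, QuotientGroup.mk_mul, QuotientGroup.mk_inv,
      (QuotientGroup.eq_one_iff (s : G)).2 s.2, inv_one, one_mul]
  · refine Subgroup.zpowers_le.2 ?_
    rw [Subgroup.mem_centralizer_singleton_iff]

theorem natCard_dvd (S : Subgroup G) [hS : S.Normal] (hp' : ¬ p ∣ Nat.card S) :
    Nat.card S ∣ Nat.card {H : Subgroup G // Nat.card H = p} := by
  obtain ⟨n, hn⟩ := exists_count hx hC
  have hinj := Subgroup.mul_injective_of_disjoint
    (disjoint_iff.2 (inf_normalizer_eq_bot hx hC S hp'))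
  have hset : ((S ⊔ N₀ : Subgroup G) : Set G) =
      Set.range fun a : S × N₀ => (a.1 : G) * a.2 := by
    rw [Subgroup.normal_mul]
    ext y
    simp only [Set.mem_mul, Set.mem_range, SetLike.mem_coe, Prod.exists, Subtype.exists, exists_prop]
  have h := (S ⊔ N₀).card_subgroup_dvd_card
  rw [← SetLike.coe_sort_coe, hset, Nat.card_range_of_injective hinj, Nat.card_prod,
    natCard_eq hx hC hn] at h
  rw [hn]
  exact Nat.dvd_of_mul_dvd_mul_right Nat.card_pos h

theorem natCard_mod (S : Subgroup G) [hS : S.Normal] (hp' : ¬ p ∣ Nat.card S) :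
    Nat.card S % p = 1 := by
  have hP : IsPGroup p P₀ := IsPGroup.of_card (n := 1) (by rw [natCard_zpowers_eq hx hC, pow_one])
  let : MulAction P₀ S := MulAction.compHom S ((MulAut.conjNormal (H := S)).comp (Subgroup.subtype P₀))
  have h := hP.card_modEq_card_fixedPoints S
  have hfix : Nat.card (MulAction.fixedPoints P₀ S) = 1 := by
    rw [Nat.card_eq_one_iff_unique]
    refine ⟨⟨fun a b => ?_⟩, ⟨⟨1, fun g => map_one (MulAut.conjNormal (H := S) (g : G))⟩⟩⟩
    have key : ∀ c : MulAction.fixedPoints P₀ S, (c : S) = 1 := fun c => by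
      refine (commMap_bijective hx hC S hp').1 (Subtype.ext ?_)
      have h1 := congrArg Subtype.val (c.2 ⟨x, Subgroup.mem_zpowers x⟩)
      change ((MulAut.conjNormal (H := S) x) (c : S) : G) = ((c : S) : G) at h1
      rw [MulAut.conjNormal_apply, mul_inv_eq_iff_eq_mul] at h1
      simp only [commMap, OneMemClass.coe_one, one_mul, inv_one, mul_one, mul_inv_cancel]
      rw [← h1]
      group
    exact Subtype.ext ((key a).trans (key b).symm)
  rw [hfix] at h
  unfold Nat.ModEq at h
  rwa [Nat.mod_eq_of_lt hp.out.one_lt] at h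

theorem mem_commutator_of_one_lt (h : 1 < Subgroup.relIndex P₀ N₀) : x ∈ commutator G := by
  obtain ⟨m, hm, hmP⟩ : ∃ m ∈ N₀, m ∉ P₀ := by
    by_contra h'
    push Not at h'
    have := Subgroup.relIndex_eq_one.2 h'
    omega
  have hc : m * x * m⁻¹ * x⁻¹ ∈ P₀ := mul_mem
    ((Subgroup.mem_normalizer_iff.1 hm x).1 (Subgroup.mem_zpowers x))
    (inv_mem (Subgroup.mem_zpowers x))
  have hne : m * x * m⁻¹ * x⁻¹ ≠ 1 := fun h' => hmP (by
    rw [← hC, Subgroup.mem_centralizer_singleton_iff]
    exact mul_inv_eq_iff_eq_mul.1 (mul_inv_eq_one.1 h'))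
  have hgen : Subgroup.zpowers (m * x * m⁻¹ * x⁻¹) = P₀ := by
    refine Subgroup.eq_of_le_of_card_ge (Subgroup.zpowers_le.2 hc) ?_
    rcases hp.out.eq_one_or_self_of_dvd (Nat.card (Subgroup.zpowers (m * x * m⁻¹ * x⁻¹)))
      ((Subgroup.card_dvd_of_le (Subgroup.zpowers_le.2 hc)).trans
        (dvd_of_eq (natCard_zpowers_eq hx hC))) with h' | h'
    · rw [Nat.card_zpowers, orderOf_eq_one_iff] at h'
      exact absurd h' hne
    · rw [h', natCard_zpowers_eq hx hC]
  refine (hgen ▸ Subgroup.zpowers_le.2 (?_ : m * x * m⁻¹ * x⁻¹ ∈ commutator G) :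
    P₀ ≤ commutator G) (Subgroup.mem_zpowers x)
  rw [commutator_def]
  exact Subgroup.commutator_mem_commutator (Subgroup.mem_top m) (Subgroup.mem_top x)

theorem one_lt_of_ne {t : ℕ} (ht : Nat.card {C : ConjClasses G // ∃ g ∈ C.carrier, orderOf g = p} = t)
    (htp : t ≠ p - 1) : 1 < Subgroup.relIndex P₀ N₀ := by
  have h := natCard_classes_mul hx hC ht
  have := hp.out.two_le
  rcases Nat.lt_or_ge 1 (Subgroup.relIndex P₀ N₀) with h' | h'
  · exact h'
  interval_cases (Subgroup.relIndex P₀ N₀) <;> omega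

theorem natCard_commutator_of_eq {t : ℕ}
    (ht : Nat.card {C : ConjClasses G // ∃ g ∈ C.carrier, orderOf g = p} = t) (htp : t = p - 1) :
    (commutator G).index = p ∧ ¬ p ∣ Nat.card (commutator G) := by
  obtain ⟨n, hn⟩ := exists_count hx hC
  obtain ⟨h1, -, h3⟩ :=
    (Cfsg.Agent.S4509.result p hp.out x hx hC t ht n hn).2.1 htp
  exact ⟨h3, fun h => hp.out.not_dvd_one ((Nat.dvd_add_left (dvd_mul_left p n)).1 (h1 ▸ h))⟩

end SelfCentralPrime

end CfsgLib.Block
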