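import Cfsg.Agent.Lib.BlockA.SixtyDegree
import Cfsg.Agent.Lib.Block.PermTrace
import Cfsg.Agent.Lib.Block.Orthogonality
import Cfsg.Agent.Lib.Block.BTSquare
import Cfsg.Agent.Lib.BlockB.PModular
import Cfsg.Agent.Lib.Char.Diag
import Cfsg.Agent.Lib.Char.CliffordApps
import Cfsg.Agent.Lib.Block.BRDegrees
import Cfsg.Agent.Lib.Transfer.SimpleCount

/-!
A refinement of Burnside's theorem: a simple group of order `p^a q^b g₀` has `p < 6^(g₀ - 1)`.
A central element of order `p` of a Sylow subgroup has at most `g₀` eigenvalues in a character of the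
principal block of degree prime to `q`, and the sixty degree lemma bounds `p`.
-/

set_option autoImplicit false
set_option linter.unusedSectionVars false

namespace CfsgLib.Block.TwoPrimeBound

open Cfsg CfsgLib CfsgLib.Block
open scoped ComplexConjugate commutatorElement

universe u

/-- The sixth of the circle. -/
noncomputable def sixth (z : ℂ) : Fin 6 :=
  ⟨(⌊(Real.pi - Complex.arg z) * 3 / Real.pi⌋₊) % 6, Nat.mod_lt _ (by norm_num)⟩

theorem sixth_close {z w : ℂ} (hz : ‖z‖ = 1) (hw : ‖w‖ = 1) (h : sixth z = sixth w) : ‖w - z‖ < 1 := by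
  have hπ := Real.pi_pos
  have hb : ∀ u : ℂ, 0 ≤ (Real.pi - Complex.arg u) * 3 / Real.pi ∧
      (Real.pi - Complex.arg u) * 3 / Real.pi < 6 := by
    intro u
    have h1 := Complex.arg_le_pi u
    have h2 := Complex.neg_pi_lt_arg u
    constructor
    · apply div_nonneg _ hπ.le; nlinarith
    · rw [div_lt_iff₀ hπ]; nlinarith
  have hm : ∀ u : ℂ, ⌊(Real.pi - Complex.arg u) * 3 / Real.pi⌋₊ % 6 =
      ⌊(Real.pi - Complex.arg u) * 3 / Real.pi⌋₊ := fun u =>
    Nat.mod_eq_of_lt ((Nat.floor_lt (hb u).1).2 (by exact_mod_cast (hb u).2))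
  have hv : ⌊(Real.pi - Complex.arg z) * 3 / Real.pi⌋₊ =
      ⌊(Real.pi - Complex.arg w) * 3 / Real.pi⌋₊ := by
    rw [← hm z, ← hm w]; exact congrArg Fin.val h
  have z1 := Nat.floor_le (hb z).1
  have z2 := Nat.lt_floor_add_one ((Real.pi - Complex.arg z) * 3 / Real.pi)
  have w1 := Nat.floor_le (hb w).1
  have w2 := Nat.lt_floor_add_one ((Real.pi - Complex.arg w) * 3 / Real.pi)
  rw [hv] at z1 z2
  set t := Complex.arg w - Complex.arg z with ht
  have htlt : |t| < Real.pi / 3 := by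
    have : |(Real.pi - Complex.arg z) * 3 / Real.pi - (Real.pi - Complex.arg w) * 3 / Real.pi| < 1 :=
      abs_lt.2 ⟨by linarith, by linarith⟩
    have e : (Real.pi - Complex.arg z) * 3 / Real.pi - (Real.pi - Complex.arg w) * 3 / Real.pi =
        t * (3 / Real.pi) := by rw [ht]; ring
    rw [e, abs_mul, abs_of_pos (show (0 : ℝ) < 3 / Real.pi by positivity), ← mul_div_assoc,
      div_lt_one hπ] at this
    linarith
  have hcos : 1 / 2 < Real.cos t := by
    rw [← Real.cos_abs t, ← Real.cos_pi_div_three]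
    exact Real.cos_lt_cos_of_nonneg_of_le_pi_div_two (abs_nonneg t) (by linarith) htlt
  have hre : (z⁻¹ * w).re = Real.cos t := by
    have ez := Complex.norm_mul_exp_arg_mul_I z
    have ew := Complex.norm_mul_exp_arg_mul_I w
    rw [hz, Complex.ofReal_one, one_mul] at ez
    rw [hw, Complex.ofReal_one, one_mul] at ew
    conv_lhs => rw [← ez, ← ew]
    rw [← Complex.exp_neg, ← Complex.exp_add]
    have : -((Complex.arg z : ℂ) * Complex.I) + (Complex.arg w : ℂ) * Complex.I =
        ((t : ℝ) : ℂ) * Complex.I := by rw [ht]; push_cast; ring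
    rw [this, Complex.exp_ofReal_mul_I_re]
  have hz0 : z ≠ 0 := fun e => by rw [e, norm_zero] at hz; exact zero_ne_one hz
  have e : w - z = z * (z⁻¹ * w - 1) := by rw [mul_sub, mul_inv_cancel_left₀ hz0, mul_one]
  set v := z⁻¹ * w with hv'
  have hv1 : ‖v‖ = 1 := by rw [hv', norm_mul, norm_inv, hz, hw, inv_one, one_mul]
  have hsq : ‖v - 1‖ ^ 2 < 1 := by
    have h2 := Complex.sq_norm v
    rw [hv1, one_pow, Complex.normSq_apply] at h2
    rw [Complex.sq_norm, Complex.normSq_apply]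
    simp only [Complex.sub_re, Complex.one_re, Complex.sub_im, Complex.one_im, sub_zero]
    nlinarith
  rw [e, norm_mul, hz, one_mul]
  nlinarith [norm_nonneg (v - 1)]

variable {G : Type u} [Group G] [Finite G] [IsSimpleGroup G]

/-- A nontrivial element of an irreducible unitary representation of a nonabelian simple group has two
eigenvalues at least sixty degrees apart from any given one. -/
theorem exists_far (hG : ¬ IsMulCommutative G) {χ : G → ℂ} (hχ : IsIrrCharacter G χ)
    (hfaith : ∀ g : G, χ g = χ 1 → g = 1) {m : ℕ} (R : G →* Matrix (Fin m) (Fin m) ℂ)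
    (hR : ∀ g, star (R g) * R g = 1) (htr : ∀ g, (R g).trace = χ g) {x : G} (hx : x ≠ 1) {α : ℂ}
    (hα : α ∈ BlockA.muSet (Nat.card G)) (hne : BlockA.specIdem (R x) (Nat.card G) α ≠ 0) :
    ∃ μ ∈ BlockA.muSet (Nat.card G), BlockA.specIdem (R x) (Nat.card G) μ ≠ 0 ∧ 1 ≤ ‖μ - α‖ := by
  classical
  by_contra hcon
  push Not at hcon
  have := Fintype.ofFinite G
  set P := BlockA.specIdem (R x) (Nat.card G) α with hP
  -- everything commutes with the projection
  let K : Subgroup G :=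
    { carrier := {g | R g * P = P * R g}
      one_mem' := by simp
      mul_mem' := fun {a b} ha hb => by
        simp only [Set.mem_setOf_eq, map_mul] at ha hb ⊢
        rw [mul_assoc, hb, ← mul_assoc, ha, mul_assoc]
      inv_mem' := fun {a} ha => by
        simp only [Set.mem_setOf_eq] at ha ⊢
        calc R a⁻¹ * P = R a⁻¹ * (P * R a) * R a⁻¹ := by
              rw [mul_assoc, mul_assoc P, ← map_mul R a, mul_inv_cancel, map_one, mul_one]
          _ = P * R a⁻¹ := by rw [← ha, ← mul_assoc, ← map_mul, inv_mul_cancel, map_one, one_mul] }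
  have hK : Subgroup.normalClosure {x} ≤ K := by
    rw [Subgroup.normalClosure, Subgroup.closure_le]
    intro c hc
    obtain ⟨a, ha, hac⟩ := Group.mem_conjugatesOfSet_iff.1 hc
    obtain ⟨g, rfl⟩ := isConj_iff.1 hac
    rw [Set.mem_singleton_iff] at ha
    subst ha
    exact BlockA.commute_specIdem_conj hR hα hcon g
  have htop : Subgroup.normalClosure {x} = ⊤ := by
    refine (IsSimpleGroup.eq_bot_or_eq_top_of_normal _ Subgroup.normalClosure_normal).resolve_left fun h => hx ?_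
    have := Subgroup.subset_normalClosure (s := {x}) (Set.mem_singleton x)
    rwa [h] at this
  have hall : ∀ g, R g * P = P * R g := fun g => hK (htop ▸ Subgroup.mem_top g)
  -- Schur
  let ρ : Representation ℂ G (Fin m → ℂ) :=
    (Matrix.toLinAlgEquiv' : Matrix _ _ ℂ ≃ₐ[ℂ] _).toMonoidHom.comp R
  have hρ : ρ.character = χ := funext fun g => by rw [← htr g]; exact Matrix.trace_toLin'_eq (R g)
  haveI : ρ.IsIrreducible := Char.isIrreducible_of_classInner_self ρ (by
    rw [hρ]; exact Char.irr_classInner_self hχ)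
  let T : Representation.IntertwiningMap ρ ρ := ⟨Matrix.toLinAlgEquiv' P, fun h => by
    rw [← Module.End.mul_eq_comp, ← Module.End.mul_eq_comp]
    show Matrix.toLinAlgEquiv' P * Matrix.toLinAlgEquiv' (R h) = Matrix.toLinAlgEquiv' (R h) * Matrix.toLinAlgEquiv' P
    rw [← map_mul, ← map_mul, hall]⟩
  obtain ⟨c, hc⟩ :=
    (Representation.IsIrreducible.algebraMap_intertwiningMap_bijective_of_isAlgClosed
      (ρ := ρ) (k := ℂ)).2 T
  have hc2 : P = c • (1 : Matrix (Fin m) (Fin m) ℂ) := by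
    refine Matrix.toLinAlgEquiv'.injective ?_
    rw [map_smul, map_one]
    have h := congr_arg Representation.IntertwiningMap.toLinearMap hc
    simp only [T] at h
    rw [← h]
    ext v
    simp [Algebra.algebraMap_eq_smul_one]
  have hc0 : c ≠ 0 := fun h => hne (by rw [hc2, h, zero_smul])
  have hx' : R x = α • 1 := by
    have h := BlockA.mul_specIdem BlockA.natCard_ne (BlockA.map_pow_natCard R x)
      ((BlockA.mem_muSet BlockA.natCard_ne).1 hα)
    rw [← hP, hc2, mul_smul_comm, mul_one, smul_comm] at h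
    exact smul_right_injective _ hc0 h
  -- so the element is central
  have hcen : ∀ g : G, g * x = x * g := fun g => by
    have h1 : R (g * x * (x * g)⁻¹) = 1 := by
      have e1 : R (g * x) = R (x * g) := by
        rw [map_mul, map_mul, hx', mul_smul_comm, smul_mul_assoc, one_mul, mul_one]
      rw [map_mul, e1, ← map_mul, mul_inv_cancel, map_one]
    exact mul_inv_eq_one.1 (hfaith _ (by rw [← htr, ← htr, h1, map_one]))
  have hxZ : x ∈ Subgroup.center G := Subgroup.mem_center_iff.2 hcen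
  rcases IsSimpleGroup.eq_bot_or_eq_top_of_normal (Subgroup.center G) inferInstance with h | h
  · rw [h, Subgroup.mem_bot] at hxZ; exact hx hxZ
  · exact hG ⟨⟨fun a b => Subgroup.mem_center_iff.1 (h ▸ Subgroup.mem_top b) a⟩⟩

/-- The theorem. -/
theorem main (p q a b g₀ : ℕ) (hp : p.Prime) (hq : q.Prime) (hpq : p ≠ q) (ha : 0 < a)
    (hg : Nat.card G = p ^ a * q ^ b * g₀) (hcop : ¬ p ∣ g₀) (hcoq : ¬ q ∣ g₀)
    (hne : Nat.card G ≠ p) : p < 6 ^ (g₀ - 1) := by
  classical
  by_contra hle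
  push Not at hle
  haveI := Fact.mk hp
  have := Fintype.ofFinite G
  have := Fintype.ofFinite (IrrCharacter G)
  have hpG : p ∣ Nat.card G := by
    rw [hg]; exact ((dvd_pow_self p ha.ne').mul_right _).mul_right _
  have hG : ¬ IsMulCommutative G := Transfer.not_isMulCommutative_of_not_prime fun h => hne
    ((Nat.prime_dvd_prime_iff_eq hp h).1 hpG).symm
  obtain ⟨M, hM⟩ := BlockB.exists_isPModular (p := p) hp
  haveI := isPrime_of_pmodular hM
  -- a central element of order `p` of a Sylow subgroup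
  obtain ⟨P⟩ : Nonempty (Sylow p G) := inferInstance
  haveI : Nontrivial (P : Subgroup G) := (Subgroup.nontrivial_iff_ne_bot _).2 (P.ne_bot_of_dvd_card hpG)
  haveI := P.isPGroup'.center_nontrivial
  obtain ⟨⟨⟨z, hzP⟩, hzc⟩, hz1⟩ := exists_ne (1 : Subgroup.center (P : Subgroup G))
  have hzne : z ≠ 1 := fun h => hz1 (Subtype.ext (Subtype.ext h))
  obtain ⟨k₀, hk₀⟩ := P.isPGroup' ⟨z, hzP⟩
  have hzk : z ^ p ^ k₀ = 1 := congrArg Subtype.val hk₀
  obtain ⟨j, -, hj⟩ := (Nat.dvd_prime_pow hp).1 (orderOf_dvd_of_pow_eq_one hzk)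
  have hj0 : j ≠ 0 := fun h => hzne (orderOf_eq_one_iff.1 (by rw [hj, h, pow_zero]))
  have hpz : p ∣ orderOf z := by rw [hj]; exact dvd_pow_self p hj0
  obtain ⟨x, hxP, hxc, hxo⟩ : ∃ x ∈ (P : Subgroup G),
      (∀ y ∈ (P : Subgroup G), y * x = x * y) ∧ orderOf x = p := by
    refine ⟨z ^ (orderOf z / p), Subgroup.pow_mem _ hzP _, fun y hy => ?_,
      orderOf_pow_orderOf_div (orderOf_pos z).ne' hpz⟩
    have h := congrArg Subtype.val (Subgroup.mem_center_iff.1 hzc ⟨y, hy⟩)
    exact (Commute.pow_right h _).eq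
  have hx1 : x ≠ 1 := fun h => by rw [h, orderOf_one] at hxo; exact hp.ne_one hxo.symm
  -- the index of the centralizer of a power of `x`
  have hidx : ∀ k : ℕ, ¬ p ∣ (Subgroup.centralizer ({x ^ k} : Set G)).index := by
    intro k h
    have hle' : (P : Subgroup G) ≤ Subgroup.centralizer ({x ^ k} : Set G) := fun y hy =>
      Subgroup.mem_centralizer_singleton_iff.2 ((Commute.pow_right (hxc y hy) k).eq)
    exact P.not_dvd_index (h.trans (Subgroup.index_dvd_of_le hle'))
  -- the character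
  set one : IrrCharacter G := ⟨fun _ => 1, Char.isIrrCharacter_one⟩ with hone
  obtain ⟨χ, hχB, hχ1, hχq⟩ : ∃ χ ∈ principalBlock M G, χ ≠ one ∧ ¬ q ∣ charDegree (χ : G → ℂ) := by
    by_contra hcon
    push Not at hcon
    have h := sum_block_eq_zero_of_regular_singular hM (isPBlock_principalBlock (M := M) (G := G))
      (g := 1) (h := x) (by rw [orderOf_one]; exact hp.not_dvd_one) (by rw [hxo])
    rw [finsum_mem_eq_finite_toFinset_sum _ (principalBlock M G).toFinite,
      ← Finset.add_sum_erase _ _ ((Set.Finite.mem_toFinset _).2 (one_mem_principalBlock (M := M) (G := G)))] at h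
    simp only [map_one, mul_one] at h
    set B' := ((principalBlock M G).toFinite.toFinset).erase one
    let f : IrrCharacter G → ℂ := fun χ => ((charDegree (χ : G → ℂ) / q : ℕ) : ℂ) * conj ((χ : G → ℂ) x)
    have hsum : ∑ χ ∈ B', (χ : G → ℂ) 1 * conj ((χ : G → ℂ) x) = (q : ℂ) * ∑ χ ∈ B', f χ := by
      rw [Finset.mul_sum]
      refine Finset.sum_congr rfl fun χ hχ => ?_
      obtain ⟨hne', hB⟩ := Finset.mem_erase.1 hχ
      obtain ⟨c, hc⟩ := hcon χ ((Set.Finite.mem_toFinset _).1 hB) hne'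
      simp only [f]
      rw [← BlockB.irr_degree_cast χ, hc, Nat.mul_div_cancel_left _ hq.pos]
      push_cast; ring
    rw [hsum] at h
    have hint : IsIntegral ℤ (∑ χ ∈ B', f χ) := IsIntegral.sum _ fun χ _ => by
      refine (isIntegral_natCast _).mul ?_
      rw [irr_conj_eq χ.2]
      exact irr_apply_isIntegral (Char.irr_isCharacter χ.2) _
    have hq0 : (q : ℂ) ≠ 0 := Nat.cast_ne_zero.2 hq.ne_zero
    have hval : ∑ χ ∈ B', f χ = ((-(1 / q) : ℚ) : ℂ) := by
      push_cast
      field_simp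
      linear_combination h
    rw [hval] at hint
    obtain ⟨w, hw⟩ := Char.exists_int_of_isIntegral_rat hint
    have h2 : (q : ℤ) * w = -1 := by
      have hqQ : (q : ℚ) ≠ 0 := Nat.cast_ne_zero.2 hq.ne_zero
      have : (q : ℚ) * w = -1 := by rw [← hw]; field_simp
      exact_mod_cast this
    have h3 := congrArg Int.natAbs h2
    rw [Int.natAbs_mul, Int.natAbs_natCast, Int.natAbs_neg, Int.natAbs_one] at h3
    exact hq.ne_one (Nat.eq_one_of_mul_eq_one_right h3)
  set d := charDegree (χ : G → ℂ) with hd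
  have hd0 : 0 < d := BlockB.irr_degree_pos χ
  have hdC : (χ : G → ℂ) 1 = (d : ℂ) := (BlockB.irr_degree_cast χ).symm
  -- faithful
  have hfaith : ∀ g, (χ : G → ℂ) g = (χ : G → ℂ) 1 → g = 1 := by
    intro g hgχ
    by_cases hd1 : d = 1
    · exfalso
      refine hχ1 (Subtype.ext ?_)
      have hperf : commutator G = ⊤ := by
        refine (IsSimpleGroup.eq_bot_or_eq_top_of_normal (commutator G) inferInstance).resolve_left
          fun h => hG ⟨⟨fun u v => ?_⟩⟩
        have : ⁅u, v⁆ ∈ commutator G := by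
          rw [_root_.commutator_def]
          exact Subgroup.commutator_mem_commutator (Subgroup.mem_top u) (Subgroup.mem_top v)
        rw [h, Subgroup.mem_bot] at this
        exact commutatorElement_eq_one_iff_mul_comm.1 this
      exact BrauerReynolds.eq_one_of_degree_one hperf χ (by rw [hdC, hd1, Nat.cast_one])
    · exact BrauerTuan.eq_one_of_apply_eq_degree χ.2 (by omega) hgχ
  -- the scaled values
  let γ : ℕ → ℂ := fun k => (g₀ : ℂ) * (χ : G → ℂ) (x ^ k) / (d : ℂ)
  have hdC0 : (d : ℂ) ≠ 0 := Nat.cast_ne_zero.2 hd0.ne'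
  have hγ : ∀ k, IsIntegral ℤ (γ k) ∧ MemLocalIdeal M (γ k - (g₀ : ℂ)) := by
    intro k
    set i := (Subgroup.centralizer ({x ^ k} : Set G)).index with hi
    set w := centralChar (χ : G → ℂ) (x ^ k) with hw
    have hwint : IsIntegral ℤ w := irr_centralChar_isIntegral χ.2 _
    have hwval : w * (d : ℂ) = (i : ℂ) * (χ : G → ℂ) (x ^ k) := by
      rw [hw, centralChar, hdC, div_mul_cancel₀ _ hdC0]
    have hdd : d ∣ Nat.card G := by
      obtain ⟨m', ρ, hρ, hρχ⟩ := χ.2
      have h := Char.ito_degree_dvd_index ρ (⊥ : Subgroup G) (by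
        intro u hu v hv; rw [Subgroup.mem_bot.1 hu, Subgroup.mem_bot.1 hv])
      have h1 : (Module.finrank ℂ (Fin m' → ℂ) : ℂ) = (d : ℂ) := by
        rw [← Representation.char_one (ρ := ρ), hρχ, hdC]
      rw [Nat.cast_inj] at h1
      rwa [h1, Subgroup.index_bot] at h
    have hgcd : Nat.gcd d i ∣ g₀ := by
      have h1 : Nat.gcd d i ∣ p ^ a * q ^ b * g₀ := hg ▸ (Nat.gcd_dvd_left d i).trans hdd
      refine Nat.Coprime.dvd_of_dvd_mul_left ?_ h1
      refine Nat.Coprime.mul_right ?_ ?_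
      · refine Nat.Coprime.pow_right _ ((hp.coprime_iff_not_dvd.2 fun h => hidx k ?_).symm)
        exact h.trans (Nat.gcd_dvd_right d i)
      · refine Nat.Coprime.pow_right _ ((hq.coprime_iff_not_dvd.2 fun h => hχq ?_).symm)
        exact h.trans (Nat.gcd_dvd_left d i)
    obtain ⟨c, hc⟩ := hgcd
    have hγeq : γ k = (c : ℂ) * ((Nat.gcdA d i : ℂ) * (χ : G → ℂ) (x ^ k) + (Nat.gcdB d i : ℂ) * w) := by
      have hbez : ((Nat.gcd d i : ℕ) : ℂ) = (d : ℂ) * (Nat.gcdA d i : ℂ) + (i : ℂ) * (Nat.gcdB d i : ℂ) := by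
        exact_mod_cast congrArg (fun z : ℤ => (z : ℂ)) (Nat.gcd_eq_gcd_ab d i)
      show (g₀ : ℂ) * (χ : G → ℂ) (x ^ k) / (d : ℂ) = _
      rw [div_eq_iff hdC0, hc, Nat.cast_mul, hbez]
      linear_combination -(c : ℂ) * (Nat.gcdB d i : ℂ) * hwval
    have hint : IsIntegral ℤ (γ k) := by
      rw [hγeq]
      exact (isIntegral_natCast _).mul (((isIntegral_intCast _).mul
        (irr_apply_isIntegral (Char.irr_isCharacter χ.2) _)).add ((isIntegral_intCast _).mul hwint))
    refine ⟨hint, ?_⟩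
    have h2 : MemLocalIdeal M ((i : ℂ) * (γ k - (g₀ : ℂ))) := by
      have h3 : MemLocalIdeal M ((i : ℂ) - w) := by
        have h4 := hχB (x ^ k)
        rw [hi, hw]
        have e : centralChar (fun _ : G => (1 : ℂ)) (x ^ k) = ((Subgroup.centralizer ({x ^ k} : Set G)).index : ℂ) := by
          simp [centralChar]
        rw [← e]
        exact h4
      have h5 : (i : ℂ) * (γ k - (g₀ : ℂ)) = -((g₀ : ℂ) * ((i : ℂ) - w)) := by
        have : (i : ℂ) * γ k = (g₀ : ℂ) * w := by
          show (i : ℂ) * ((g₀ : ℂ) * (χ : G → ℂ) (x ^ k) / (d : ℂ)) = _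
          rw [mul_div_assoc', div_eq_iff hdC0]
          linear_combination -(g₀ : ℂ) * hwval
        linear_combination this
      rw [h5]
      exact memLocalIdeal_neg (memLocalIdeal_mul_left (memLocalRing_natCast g₀) h3)
    have h6 := memLocalIdeal_mul_left (memLocalRing_inv_natCast hM (hidx k)) h2
    rwa [← hi, ← mul_assoc, inv_mul_cancel₀ (Nat.cast_ne_zero.2 fun e => hidx k (by rw [← hi, e]; exact dvd_zero p)),
      one_mul] at h6
  -- eigenvalues
  obtain ⟨m', ρ, hρirr, hρ⟩ := χ.2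
  obtain ⟨ι, hι, bas, μ, -, hμ, hμsum, -⟩ := Char.exists_char_eigen ρ x
  rw [hxo] at hμ
  have hcardι : Fintype.card ι = d := by
    have h := hμsum 0
    rw [pow_zero, hρ, hdC] at h
    simpa using h.symm
  let mult : ℂ → ℕ := fun ν => (Finset.univ.filter fun i => μ i = ν).card
  have hp0 : (p : ℂ) ≠ 0 := Nat.cast_ne_zero.2 hp.ne_zero
  have hN : ∀ ν : ℂ, ν ^ p = 1 → ∃ N : ℕ, g₀ * mult ν = d * N := by
    intro ν hν
    have hν0 : ν ≠ 0 := fun h => by rw [h, zero_pow hp.ne_zero] at hν; exact zero_ne_one hν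
    set Γ := ∑ k ∈ Finset.range p, ν⁻¹ ^ k * γ k with hΓ
    have hΓval : Γ = (g₀ : ℂ) * ((p : ℂ) * (mult ν : ℂ)) / (d : ℂ) := by
      have hfil : ∀ i, ∑ k ∈ Finset.range p, (ν⁻¹ * μ i) ^ k = if μ i = ν then (p : ℂ) else 0 := by
        intro i
        split_ifs with h
        · rw [h, inv_mul_cancel₀ hν0]; simp
        · rw [geom_sum_eq (fun e => h ((inv_mul_eq_one₀ hν0).1 e).symm), mul_pow, inv_pow, hν, hμ,
            inv_one, mul_one, sub_self, zero_div]
      have e1 : ∀ k, ν⁻¹ ^ k * γ k = (g₀ : ℂ) / (d : ℂ) * ∑ i, (ν⁻¹ * μ i) ^ k := fun k => by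
        show ν⁻¹ ^ k * ((g₀ : ℂ) * (χ : G → ℂ) (x ^ k) / (d : ℂ)) = _
        have e2 : (χ : G → ℂ) (x ^ k) = ∑ i, μ i ^ k := by rw [← hρ]; exact hμsum k
        simp only [mul_pow, ← Finset.mul_sum, e2]
        ring
      rw [hΓ, Finset.sum_congr rfl fun k _ => e1 k, ← Finset.mul_sum, Finset.sum_comm,
        Finset.sum_congr rfl fun i _ => hfil i, ← Finset.sum_filter, Finset.sum_const, nsmul_eq_mul]
      ring
    have hνint : IsIntegral ℤ ν⁻¹ := IsIntegral.of_pow hp.pos (by rw [inv_pow, hν, inv_one]; exact isIntegral_one)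
    have hΓint : IsIntegral ℤ Γ := IsIntegral.sum _ fun k _ => (hνint.pow k).mul (hγ k).1
    have hΓq : Γ = (((g₀ : ℚ) * ((p : ℚ) * (mult ν : ℚ)) / (d : ℚ) : ℚ) : ℂ) := by
      rw [hΓval]; push_cast; rfl
    rw [hΓq] at hΓint
    obtain ⟨N, hN⟩ := Char.exists_int_of_isIntegral_rat hΓint
    have hΓN : Γ = (N : ℂ) := by rw [hΓq, hN]; norm_cast
    have hdvd : (p : ℤ) ∣ N := by
      have hmem : MemLocalIdeal M (Γ - (p : ℂ) * (g₀ : ℂ)) := by
        have e : Γ - (p : ℂ) * (g₀ : ℂ) = ∑ k ∈ Finset.range p,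
            ((ν⁻¹ ^ k - 1) * γ k + (γ k - (g₀ : ℂ))) := by
          rw [hΓ, show (p : ℂ) * (g₀ : ℂ) = ∑ k ∈ Finset.range p, (g₀ : ℂ) by simp, ← Finset.sum_sub_distrib]
          exact Finset.sum_congr rfl fun k _ => by ring
        rw [e]
        refine memLocalIdeal_sum _ _ fun k _ => memLocalIdeal_add ?_ (hγ k).2
        refine memLocalIdeal_mul_right (memLocalRing_of_isIntegral (hγ k).1)
          (memLocalIdeal_root_sub_one hM (n := 1) ?_)
        rw [pow_one, ← pow_mul, mul_comm, pow_mul, inv_pow, hν, inv_one, one_pow]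
      have hmem2 : MemLocalIdeal M (N : ℂ) := by
        have h := memLocalIdeal_add hmem (memLocalIdeal_mul_right (memLocalRing_natCast g₀)
          ((memLocalIdeal_natCast_iff hM p).2 dvd_rfl))
        rwa [sub_add_cancel, hΓN] at h
      haveI := charP_kres hM (M := M)
      rw [← CharP.intCast_eq_zero_iff (kres M) p]
      have h := (redC_eq_zero_iff (memLocalRing_intCast N)).2 hmem2
      rw [show (N : ℂ) = ((N : lring M) : ℂ) by simp, redC_coe, map_intCast] at h
      exact h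
    obtain ⟨N', rfl⟩ := hdvd
    have hpQ : (p : ℚ) ≠ 0 := Nat.cast_ne_zero.2 hp.ne_zero
    have hdQ : (d : ℚ) ≠ 0 := Nat.cast_ne_zero.2 hd0.ne'
    rw [div_eq_iff hdQ] at hN
    push_cast at hN
    have h4 : ((g₀ * mult ν : ℕ) : ℚ) = (N' : ℚ) * (d : ℚ) := by
      push_cast
      exact mul_left_cancel₀ hpQ (by linear_combination hN)
    have h5 : ((g₀ * mult ν : ℕ) : ℤ) = N' * (d : ℤ) := by exact_mod_cast h4
    have h6 : (d : ℤ) ∣ ((g₀ * mult ν : ℕ) : ℤ) := ⟨N', by rw [h5, mul_comm]⟩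
    obtain ⟨N'', hN''⟩ := Int.natCast_dvd_natCast.1 h6
    exact ⟨N'', hN''⟩
  set J := Finset.univ.image μ with hJ
  have hg0 : 0 < g₀ := Nat.pos_of_ne_zero fun h => hcop (h ▸ dvd_zero p)
  have hJcard : J.card ≤ g₀ := by
    have h1 : ∑ ν ∈ J, g₀ * mult ν = g₀ * d := by
      rw [← Finset.mul_sum, ← hcardι, ← Finset.card_univ,
        Finset.card_eq_sum_card_image μ (Finset.univ : Finset ι)]
    have h2 : ∀ ν ∈ J, d ≤ g₀ * mult ν := by
      intro ν hν
      obtain ⟨i, -, rfl⟩ := Finset.mem_image.1 hν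
      obtain ⟨N, hN⟩ := hN (μ i) (hμ i)
      have hpos : 0 < g₀ * mult (μ i) := Nat.mul_pos hg0 (Finset.card_pos.2 ⟨i, by simp⟩)
      rw [hN] at hpos ⊢
      exact Nat.le_mul_of_pos_right _ (Nat.pos_of_ne_zero fun h => by simp [h] at hpos)
    have h3 := Finset.card_nsmul_le_sum J (fun ν => g₀ * mult ν) _ h2
    rw [h1, smul_eq_mul] at h3
    exact Nat.le_of_mul_le_mul_right h3 hd0
  -- a power within sixty degrees
  obtain ⟨i₀⟩ : Nonempty ι := Fintype.card_pos_iff.1 (by rw [hcardι]; exact hd0)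
  set α := μ i₀
  set J' := J.erase α with hJ'
  have hαJ : α ∈ J := Finset.mem_image_of_mem μ (Finset.mem_univ i₀)
  have hμ0 : ∀ i, μ i ≠ 0 := fun i h => by
    have := hμ i; rw [h, zero_pow hp.ne_zero] at this; exact zero_ne_one this
  have hnμ : ∀ i, ‖μ i‖ = 1 := fun i => Complex.norm_eq_one_of_pow_eq_one (hμ i) hp.ne_zero
  let F : Fin p → (J' → Fin 6) := fun k ν => sixth (((ν : ℂ) / α) ^ (k : ℕ))
  obtain ⟨k, l, hkl, hF⟩ : ∃ k l : Fin p, (k : ℕ) < l ∧ F k = F l := by
    have hcard : Fintype.card (J' → Fin 6) < Fintype.card (Fin p) := by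
      rw [Fintype.card_fun, Fintype.card_fin, Fintype.card_fin, Fintype.card_coe, hJ',
        Finset.card_erase_of_mem hαJ]
      refine lt_of_le_of_lt (Nat.pow_le_pow_right (by norm_num) (show J.card - 1 ≤ g₀ - 1 by omega))
        (lt_of_le_of_ne hle fun e => ?_)
      by_cases h1 : g₀ - 1 = 0
      · rw [h1, pow_zero] at e; exact hp.ne_one e.symm
      · obtain ⟨r, hr⟩ := Nat.exists_eq_succ_of_ne_zero h1
        rw [hr, pow_succ] at e
        have h6 : 6 ∣ p := ⟨6 ^ r, by rw [← e]; ring⟩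
        rcases hp.eq_one_or_self_of_dvd 6 h6 with h | h
        · omega
        · rw [← h] at hp; norm_num at hp
    obtain ⟨k, l, hne', hF⟩ := Fintype.exists_ne_map_eq_of_card_lt F hcard
    rcases lt_or_gt_of_ne (fun h => hne' (Fin.ext h)) with h | h
    · exact ⟨k, l, h, hF⟩
    · exact ⟨l, k, h, hF.symm⟩
  obtain ⟨j, hj0, hjp, hjl⟩ : ∃ j, 0 < j ∧ j < p ∧ (l : ℕ) = k + j :=
    ⟨l - k, by omega, by have := l.isLt; omega, by omega⟩
  have hclose : ∀ i, ‖μ i ^ j - α ^ j‖ < 1 := by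
    intro i
    by_cases hi : μ i = α
    · rw [hi, sub_self, norm_zero]; exact one_pos
    · have hiJ : μ i ∈ J' := Finset.mem_erase.2 ⟨hi, Finset.mem_image_of_mem μ (Finset.mem_univ i)⟩
      have hw1 : ‖μ i / α‖ = 1 := by rw [norm_div, hnμ, hnμ, div_one]
      have h := sixth_close (z := (μ i / α) ^ (k : ℕ)) (w := (μ i / α) ^ (l : ℕ))
        (by rw [norm_pow, hw1, one_pow]) (by rw [norm_pow, hw1, one_pow]) (congrFun hF ⟨_, hiJ⟩)
      rw [hjl, pow_add, ← mul_sub_one, norm_mul, norm_pow, hw1, one_pow, one_mul] at h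
      have e : μ i ^ j - α ^ j = α ^ j * ((μ i / α) ^ j - 1) := by
        rw [div_pow, mul_sub, mul_one, mul_div_cancel₀ _ (pow_ne_zero _ (hμ0 i₀))]
      rw [e, norm_mul, norm_pow, hnμ, one_pow, one_mul]
      exact h
  -- the contradiction
  obtain ⟨n', R, hR, htr⟩ := BlockA.exists_unitary_rep (Char.irr_isCharacter χ.2)
  have hxj : x ^ j ≠ 1 := fun h => by
    have := orderOf_dvd_of_pow_eq_one h
    rw [hxo] at this
    have := Nat.le_of_dvd hj0 this
    omega
  have hroot : ∀ i, (μ i ^ j) ^ Nat.card G = 1 := fun i => by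
    obtain ⟨c, hc⟩ := hpG
    rw [hc, ← pow_mul, mul_comm, mul_assoc, pow_mul, hμ, one_pow]
  have htrp : ∀ k : ℕ, (R (x ^ j) ^ k).trace = ∑ i, (μ i ^ j) ^ k := fun k => by
    rw [← map_pow, ← pow_mul, htr, ← hρ, hμsum]
    exact Finset.sum_congr rfl fun i _ => pow_mul _ _ _
  have hG0 : (Nat.card G : ℂ) ≠ 0 := Nat.cast_ne_zero.2 Nat.card_pos.ne'
  have htrace : ∀ ν : ℂ, ν ^ Nat.card G = 1 → (BlockA.specIdem (R (x ^ j)) (Nat.card G) ν).trace =
      ((Finset.univ.filter fun i => μ i ^ j = ν).card : ℂ) := by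
    intro ν hν
    have hν0 : ν ≠ 0 := fun h => by rw [h, zero_pow Nat.card_pos.ne'] at hν; exact zero_ne_one hν
    rw [BlockA.trace_specIdem, Finset.sum_congr rfl fun k _ => by rw [htrp k, Finset.mul_sum], Finset.sum_comm,
      Finset.sum_congr rfl (g := fun i => if μ i ^ j = ν then (Nat.card G : ℂ) else 0) fun i _ => ?_,
      ← Finset.sum_filter, Finset.sum_const, nsmul_eq_mul, mul_comm _ (Nat.card G : ℂ), ← mul_assoc,
      inv_mul_cancel₀ hG0, one_mul]
    rw [Finset.sum_congr rfl fun k _ => (mul_pow _ _ k).symm]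
    split_ifs with h
    · rw [h, inv_mul_cancel₀ hν0]; simp
    · rw [geom_sum_eq (fun e => h ((inv_mul_eq_one₀ hν0).1 e).symm), mul_pow, inv_pow, hν, hroot,
        inv_one, mul_one, sub_self, zero_div]
  have hαm : α ^ j ∈ BlockA.muSet (Nat.card G) := (BlockA.mem_muSet BlockA.natCard_ne).2 (hroot i₀)
  have hEne : BlockA.specIdem (R (x ^ j)) (Nat.card G) (α ^ j) ≠ 0 := by
    intro h
    have h2 := htrace (α ^ j) (hroot i₀)
    rw [h, Matrix.trace_zero] at h2
    have h3 : (Finset.univ.filter fun i => μ i ^ j = α ^ j).card = 0 := by exact_mod_cast h2.symm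
    rw [Finset.card_eq_zero, Finset.filter_eq_empty_iff] at h3
    exact h3 (Finset.mem_univ i₀) rfl
  obtain ⟨ν, hν, hνne, hfar⟩ := exists_far hG χ.2 hfaith R hR htr hxj hαm hEne
  have hνm := (BlockA.mem_muSet BlockA.natCard_ne).1 hν
  refine hνne (BlockA.frobSq_eq_zero.1 ?_)
  rw [BlockA.frobSq, BlockA.star_idem hR (x ^ j) hν, BlockA.specIdem_mul_specIdem BlockA.natCard_ne
    (BlockA.map_pow_natCard R (x ^ j)) hνm hνm, if_pos rfl, htrace ν hνm,
    Finset.filter_false_of_mem fun i _ (h : μ i ^ j = ν) => absurd (hclose i) (not_lt.2 (by rw [h]; exact hfar))]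
  simp

end CfsgLib.Block.TwoPrimeBound
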