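import Mathlib

/-!
Partners of a nilpotent operator `X`: an operator `Y` with `[X,[X,Y]] = -2X` and one `B` with
`[X,[X,[X,B]]] = 0` pairing nonzero with `X`.
-/

set_option autoImplicit false

namespace CfsgLib.Block.SmallBlock

open Module

universe v w

variable {k : Type v} [Field k]

/-- The commutator with `X`. -/
def adOp {W : Type w} [AddCommGroup W] [Module k W] (X : Module.End k W) :
    Module.End k (Module.End k W) :=
  LinearMap.mulLeft k X - LinearMap.mulRight k X

theorem adOp_apply {W : Type w} [AddCommGroup W] [Module k W] (X T : Module.End k W) :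
    adOp X T = X * T - T * X := rfl

theorem adOp_mul_of_commute {W : Type w} [AddCommGroup W] [Module k W] {X P : Module.End k W}
    (h : Commute X P) (T : Module.End k W) : adOp X (P * T) = P * adOp X T := by
  rw [adOp_apply, adOp_apply, mul_sub, ← mul_assoc, h.eq, mul_assoc, mul_assoc]

theorem adOp_pow_eq_zero {W : Type w} [AddCommGroup W] [Module k W] {X : Module.End k W} {m : ℕ}
    (h : X ^ m = 0) : adOp X ^ (2 * m) = 0 := by
  rw [adOp, sub_eq_add_neg]
  refine Commute.add_pow_eq_zero_of_add_le_succ_of_pow_eq_zero (m := m) (n := m) ?_ ?_ ?_ (by omega)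
  · refine LinearMap.ext fun T => ?_
    simp [Module.End.mul_apply, mul_assoc]
  · rw [LinearMap.pow_mulLeft, h, LinearMap.mulLeft_zero_eq_zero]
  · refine LinearMap.ext fun T => ?_
    have e : ∀ i : ℕ, ((-LinearMap.mulRight k X) ^ i) T = (-1 : k) ^ i • (T * X ^ i) := fun i => by
      induction i with
      | zero => simp
      | succ i ih =>
        rw [pow_succ', Module.End.mul_apply, ih]
        simp [mul_assoc, ← pow_succ, smul_smul, pow_succ' (-1 : k)]
    rw [e, h, mul_zero, smul_zero, LinearMap.zero_apply]

variable {W : Type w} [AddCommGroup W] [Module k W] [FiniteDimensional k W]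

/-- The raising operator of one block. -/
theorem exists_block_partner (X : Module.End k W) {s : ℕ} (hX : X ^ (s + 1) = 0) (hX' : X ^ s ≠ 0) :
    ∃ (B π : Module.End k W), Commute X π ∧ π * π = π ∧ B * π = B ∧ π * B = B ∧ π ≠ 0 ∧
      adOp X (adOp X B) = -(2 : k) • (X * π) ∧
      (LinearMap.trace k W) (B * X) = ∑ i ∈ Finset.range (s + 1), (i : k) * ((s + 1 : k) - i) ∧
      (∀ m, (LinearMap.trace k W) (B * (X ^ (2 + m))) = 0) := by
  classical
  obtain ⟨w, hw⟩ : ∃ w, (X ^ s) w ≠ 0 := by
    by_contra h
    push Not at h
    exact hX' (LinearMap.ext h)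
  set e : ℕ → W := fun i => (X ^ i) w with he
  have hzero : ∀ i, s + 1 ≤ i → e i = 0 := fun i hi => by
    simp only [he]
    rw [pow_eq_zero_of_le hi hX, LinearMap.zero_apply]
  have hXe : ∀ i, X (e i) = e (i + 1) := fun i => by
    simp only [he, pow_succ', Module.End.mul_apply]
  have hli : LinearIndependent k (fun i : Fin (s + 1) => e i) := by
    rw [Fintype.linearIndependent_iff]
    intro c hc
    by_contra hne
    push Not at hne
    obtain ⟨i₀, hi₀, hmin⟩ := Finset.exists_min_image (Finset.univ.filter fun i => c i ≠ 0) id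
      (by obtain ⟨i, hi⟩ := hne; exact ⟨i, by simp [hi]⟩)
    have h1 := congrArg (X ^ (s - (i₀ : ℕ))) hc
    simp only [he, map_sum, map_smul, map_zero, ← Module.End.mul_apply, ← pow_add] at h1
    rw [Finset.sum_eq_single i₀, Nat.sub_add_cancel (Nat.lt_succ_iff.1 i₀.2)] at h1
    · exact (Finset.mem_filter.1 hi₀).2 ((smul_eq_zero.1 h1).resolve_right hw)
    · intro i _ hne'
      by_cases hci : c i = 0
      · rw [hci, zero_smul]
      · have hle : i₀ ≤ i := hmin i (by simp [hci])
        have hlt : (i₀ : ℕ) < (i : ℕ) := lt_of_le_of_ne hle (fun h => hne' (Fin.ext h.symm))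
        have := i₀.2
        rw [pow_eq_zero_of_le (show s + 1 ≤ s - (i₀ : ℕ) + i by omega) hX]
        simp
    · intro h; exact absurd (Finset.mem_univ i₀) h
  obtain ⟨φ, hφ⟩ := LinearMap.exists_extend ((Module.Basis.span hli).coord (Fin.last s))
  have hφe : ∀ i, φ (e i) = if i = s then 1 else 0 := fun i => by
    by_cases hi : i ≤ s
    · have h := LinearMap.congr_fun hφ ((Module.Basis.span hli) ⟨i, by omega⟩)
      rw [LinearMap.comp_apply, Module.Basis.coord_apply, Module.Basis.repr_self,
        Finsupp.single_apply] at h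
      simp only [Submodule.subtype_apply, Module.Basis.span_apply] at h
      rw [h]
      simp only [Fin.ext_iff, Fin.val_last]
    · rw [hzero i (by omega), map_zero, if_neg (by omega)]
  set c : ℕ → k := fun i => (i : k) * ((s + 1 : k) - i) with hc
  let B : Module.End k W :=
    ∑ l ∈ Finset.range s, LinearMap.smulRight (c (l + 1) • (φ ∘ₗ X ^ (s - (l + 1)))) (e l)
  let π : Module.End k W :=
    ∑ l ∈ Finset.range (s + 1), LinearMap.smulRight (φ ∘ₗ X ^ (s - l)) (e l)
  have hB : ∀ u, B u = ∑ l ∈ Finset.range s, (c (l + 1) * φ ((X ^ (s - (l + 1))) u)) • e l := fun u => by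
    simp [B, LinearMap.sum_apply, mul_smul]
  have hπ : ∀ u, π u = ∑ l ∈ Finset.range (s + 1), φ ((X ^ (s - l)) u) • e l := fun u => by
    simp [π, LinearMap.sum_apply]
  have hXi : ∀ i j : ℕ, (X ^ i) (e j) = e (i + j) := fun i j => by
    simp only [he, pow_add, Module.End.mul_apply]
  have hπe : ∀ j, π (e j) = e j := fun j => by
    rw [hπ]
    by_cases hj : j ≤ s
    · rw [Finset.sum_eq_single j]
      · rw [hXi, hφe, if_pos (by omega), one_smul]
      · intro l hl hne
        have := Finset.mem_range.1 hl
        rw [hXi, hφe, if_neg (by omega), zero_smul]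
      · intro h; exact absurd (Finset.mem_range.2 (by omega)) h
    · rw [hzero j (by omega)]
      simp
  have hBe : ∀ j, B (e j) = if j ≤ s then c j • e (j - 1) else 0 := fun j => by
    rw [hB]
    split_ifs with hj
    · rcases Nat.eq_zero_or_pos j with rfl | hj0
      · rw [Finset.sum_eq_zero, show c 0 = 0 by simp [c], zero_smul]
        intro l hl
        have := Finset.mem_range.1 hl
        rw [hXi, hφe, if_neg (by omega), mul_zero, zero_smul]
      · rw [Finset.sum_eq_single (j - 1)]
        · rw [hXi, hφe, if_pos (by omega), mul_one, show j - 1 + 1 = j by omega]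
        · intro l hl hne
          have := Finset.mem_range.1 hl
          rw [hXi, hφe, if_neg (by omega), mul_zero, zero_smul]
        · intro h; exact absurd (Finset.mem_range.2 (by omega)) h
    · rw [hzero j (by omega)]
      simp
  have hπX : Commute X π := LinearMap.ext fun u => by
    rw [Module.End.mul_apply, Module.End.mul_apply, hπ, hπ, map_sum]
    simp only [map_smul, hXe, ← Module.End.mul_apply, ← pow_succ]
    rw [Finset.sum_range_succ, Finset.sum_range_succ', hzero (s + 1) le_rfl, smul_zero, add_zero,
      Nat.sub_zero, hX, LinearMap.zero_apply, map_zero, zero_smul, add_zero]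
    refine Finset.sum_congr rfl fun i hi => ?_
    rw [show s - (i + 1) + 1 = s - i by have := Finset.mem_range.1 hi; omega]
  have hπB : π * B = B := LinearMap.ext fun u => by
    rw [Module.End.mul_apply, hB, map_sum]
    simp only [map_smul, hπe]
  have hBπ : B * π = B := LinearMap.ext fun u => by
    have hφπ : ∀ m, φ ((X ^ m) (π u)) = φ ((X ^ m) u) := fun m => by
      rcases le_or_gt m s with hm | hm
      · rw [hπ, map_sum, map_sum, Finset.sum_eq_single (s - m)]
        · rw [map_smul, map_smul, hXi, hφe, if_pos (by omega), smul_eq_mul, mul_one,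
            show s - (s - m) = m by omega]
        · intro l hl hne
          rw [map_smul, map_smul, hXi, hφe, if_neg (by have := Finset.mem_range.1 hl; omega), smul_zero]
        · intro h; exact absurd (Finset.mem_range.2 (by omega)) h
      · rw [pow_eq_zero_of_le (show s + 1 ≤ m by omega) hX]; simp
    rw [Module.End.mul_apply, hB, hB]
    exact Finset.sum_congr rfl fun l _ => by rw [hφπ]
  clear_value B π
  have hBe' : ∀ j, B (e j) = c j • e (j - 1) := fun j => by
    rw [hBe]
    split_ifs with hj
    · rfl
    · rcases eq_or_lt_of_le (show s + 1 ≤ j by omega) with rfl | h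
      · rw [show c (s + 1) = 0 by simp [c], zero_smul]
      · rw [hzero (j - 1) (by omega), smul_zero]
  refine ⟨B, π, hπX, LinearMap.ext fun u => ?_, hBπ, hπB, fun h0 => hw ?_, ?_, ?_, fun m => ?_⟩
  · rw [Module.End.mul_apply, hπ u, map_sum]
    simp only [map_smul, hπe]
  · have h1 := hπe s
    rw [h0, LinearMap.zero_apply] at h1
    exact h1.symm
  · have hD : ∀ u, adOp X (adOp X B) u = ∑ l ∈ Finset.range (s + 1),
        φ ((X ^ (s - l)) u) • adOp X (adOp X B) (e l) := fun u => by
      have h1 : adOp X (adOp X B) * π = adOp X (adOp X B) := by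
        have hXπ : ∀ T : Module.End k W, T * π = T → T * X * π = T * X := fun T hT => by
          rw [mul_assoc, hπX.eq, ← mul_assoc, hT]
        have h2 : ∀ T : Module.End k W, T * π = T → adOp X T * π = adOp X T := fun T hT => by
          rw [adOp_apply, sub_mul, mul_assoc X T π, hT, hXπ T hT]
        exact h2 _ (h2 _ hBπ)
      have h2 := LinearMap.congr_fun h1 u
      rw [Module.End.mul_apply, hπ, map_sum] at h2
      rw [← h2]
      simp only [map_smul]
    refine LinearMap.ext fun u => ?_
    rw [hD, LinearMap.smul_apply, Module.End.mul_apply, hπ, map_sum, Finset.smul_sum]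
    refine Finset.sum_congr rfl fun l hl => ?_
    have hl' := Finset.mem_range.1 hl
    rw [map_smul, smul_comm]
    congr 1
    simp only [adOp_apply, Module.End.mul_apply, LinearMap.sub_apply, map_sub, hXe, hBe']
    rcases Nat.eq_zero_or_pos l with rfl | hl0
    · simp only [map_smul, hXe, c, Nat.cast_zero, zero_mul, zero_smul, map_zero, zero_sub, zero_add,
        Nat.sub_self, Nat.add_sub_cancel, Nat.cast_one, Nat.cast_add]
      module
    · simp only [map_smul, hXe, show l - 1 + 1 = l by omega, Nat.add_sub_cancel, c, Nat.cast_add,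
        Nat.cast_one]
      module
  · rw [show B * X = ∑ l ∈ Finset.range s,
        LinearMap.smulRight ((c (l + 1) • (φ ∘ₗ X ^ (s - (l + 1)))) ∘ₗ X) (e l) from
      LinearMap.ext fun u => by
        rw [Module.End.mul_apply, hB]; simp [LinearMap.sum_apply, mul_smul],
      map_sum, Finset.sum_range_succ', Nat.cast_zero, zero_mul, add_zero]
    refine Finset.sum_congr rfl fun l hl => ?_
    have := Finset.mem_range.1 hl
    rw [LinearMap.trace_smulRight]
    simp only [LinearMap.comp_apply, LinearMap.smul_apply, hXe, smul_eq_mul]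
    rw [hXi, hφe, if_pos (by omega), mul_one]
  · rw [show B * X ^ (2 + m) = ∑ l ∈ Finset.range s,
        LinearMap.smulRight ((c (l + 1) • (φ ∘ₗ X ^ (s - (l + 1)))) ∘ₗ X ^ (2 + m)) (e l) from
      LinearMap.ext fun u => by
        rw [Module.End.mul_apply, hB]; simp [LinearMap.sum_apply, mul_smul],
      map_sum]
    refine Finset.sum_eq_zero fun l hl => ?_
    have := Finset.mem_range.1 hl
    rw [LinearMap.trace_smulRight]
    simp only [LinearMap.comp_apply, LinearMap.smul_apply, smul_eq_mul]
    rw [hXi, hXi, hφe, if_neg (by omega), mul_zero]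

/-- Every nilpotent operator has a partner `Y` with `[X,[X,Y]] = -2X`. -/
theorem exists_partner : ∀ {W : Type w} [AddCommGroup W] [Module k W] [FiniteDimensional k W]
    {X : Module.End k W}, IsNilpotent X → ∃ Y : Module.End k W, adOp X (adOp X Y) = -(2 : k) • X := by
  classical
  suffices h : ∀ (m : ℕ) (W : Type w) [AddCommGroup W] [Module k W] [FiniteDimensional k W]
      (X : Module.End k W), finrank k W ≤ m → IsNilpotent X →
      ∃ Y : Module.End k W, adOp X (adOp X Y) = -(2 : k) • X by
    intro W _ _ _ X hX
    exact h _ W X le_rfl hX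
  intro m
  induction m with
  | zero =>
    intro W _ _ _ X hrk _
    have : Subsingleton W := Module.finrank_zero_iff.1 (Nat.le_zero.1 hrk)
    exact ⟨0, LinearMap.ext fun u => Subsingleton.elim _ _⟩
  | succ m ih =>
    intro W _ _ _ X hrk hnil
    by_cases hX0 : X = 0
    · exact ⟨0, by simp [hX0, adOp_apply]⟩
    obtain ⟨N, hN⟩ := hnil
    have hex : ∃ j, X ^ (j + 1) = 0 := ⟨N, by rw [pow_succ, hN, zero_mul]⟩
    have hs : X ^ (Nat.find hex + 1) = 0 := Nat.find_spec hex
    have hs0 : Nat.find hex ≠ 0 := fun h => hX0 (by simpa [h] using hs)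
    have hs' : X ^ Nat.find hex ≠ 0 := fun h =>
      Nat.find_min hex (m := Nat.find hex - 1) (by omega)
        (by rwa [Nat.sub_add_cancel (Nat.pos_of_ne_zero hs0)])
    obtain ⟨B, π, hπc, hπid, hBπ, hπB, hπ0, hB, -, -⟩ := exists_block_partner X hs hs'
    set W' := LinearMap.ker π
    have hlt : finrank k W' < finrank k W := Submodule.finrank_lt fun h =>
      hπ0 (LinearMap.ker_eq_top.1 h)
    have hmem : ∀ u ∈ W', X u ∈ W' := fun u hu => by
      rw [LinearMap.mem_ker] at hu ⊢
      rw [← Module.End.mul_apply, ← hπc.eq, Module.End.mul_apply, hu, map_zero]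
    let pr : W →ₗ[k] W' := LinearMap.codRestrict W' (1 - π) fun u => by
      rw [LinearMap.mem_ker, ← Module.End.mul_apply, mul_sub, mul_one, hπid, sub_self,
        LinearMap.zero_apply]
    set X' : Module.End k W' := X.restrict hmem
    have hX'nil : IsNilpotent X' := by
      refine ⟨N, LinearMap.ext fun u => Subtype.ext ?_⟩
      have h : ∀ (i : ℕ) (u : W'), ((X' ^ i) u : W) = (X ^ i) (u : W) := fun i => by
        induction i with
        | zero => intro u; simp
        | succ i ih' => intro u; rw [pow_succ, pow_succ, Module.End.mul_apply, ih']; rfl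
      rw [h, hN]; rfl
    obtain ⟨Y', hY'⟩ := ih W' X' (by omega) hX'nil
    let ext : Module.End k W' → Module.End k W := fun T => W'.subtype ∘ₗ T ∘ₗ pr
    have hpr : ∀ u, pr (X u) = X' (pr u) := fun u => Subtype.ext (by
      have := LinearMap.congr_fun hπc.eq u
      simp only [Module.End.mul_apply] at this
      simp [pr, X', map_sub, this])
    have had : ∀ T, adOp X (ext T) = ext (adOp X' T) := fun T => LinearMap.ext fun u => by
      simp only [adOp_apply, LinearMap.sub_apply, Module.End.mul_apply, ext, LinearMap.comp_apply,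
        hpr, Submodule.subtype_apply, Submodule.coe_sub]
      rfl
    refine ⟨B + ext Y', ?_⟩
    rw [map_add, map_add, hB, had, had, hY']
    refine LinearMap.ext fun u => ?_
    simp only [ext, X', pr, LinearMap.add_apply, LinearMap.smul_apply, LinearMap.comp_apply,
      Submodule.subtype_apply, Submodule.coe_smul, LinearMap.coe_restrict_apply,
      LinearMap.codRestrict_apply, LinearMap.sub_apply, Module.End.one_apply, Module.End.mul_apply,
      map_sub, smul_sub]
    abel

end CfsgLib.Block.SmallBlock
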