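import Cfsg.Agent.Lib.Block.SmallModels

/-!
A small single block representation yields a three dimensional orthogonal one.
-/

set_option autoImplicit false

namespace CfsgLib.Block.SmallBlock

open Matrix

universe u v

variable {k : Type v} [Field k]

/-- The antidiagonal. -/
def antiDiag (k : Type v) [Field k] (d : ℕ) : Matrix (Fin d) (Fin d) k :=
  Matrix.of fun i j => if j = Fin.rev i then 1 else 0

theorem antiDiag_mul {d : ℕ} (A : Matrix (Fin d) (Fin d) k) (i j : Fin d) :
    (antiDiag k d * A) i j = A (Fin.rev i) j := by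
  rw [Matrix.mul_apply, Finset.sum_eq_single (Fin.rev i)]
  · simp [antiDiag]
  · intro l _ hl; simp [antiDiag, hl]
  · intro h; exact absurd (Finset.mem_univ _) h

theorem mul_antiDiag {d : ℕ} (A : Matrix (Fin d) (Fin d) k) (i j : Fin d) :
    (A * antiDiag k d) i j = A i (Fin.rev j) := by
  rw [Matrix.mul_apply, Finset.sum_eq_single (Fin.rev j)]
  · simp [antiDiag]
  · intro l _ hl
    have : j ≠ Fin.rev l := fun h => hl (by rw [h, Fin.rev_rev])
    simp [antiDiag, this]
  · intro h; exact absurd (Finset.mem_univ _) h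

theorem antiDiag_upper (k : Type v) [Field k] (d : ℕ) :
    antiDiag k d * upper k d = (upper k d)ᵀ * antiDiag k d := by
  ext i j
  rw [antiDiag_mul, mul_antiDiag]
  simp only [upper, Matrix.of_apply, Matrix.transpose_apply, Fin.val_rev]
  have := i.2
  have := j.2
  exact if_congr (by omega) rfl rfl

/-- The pairing adjoint to `del`. -/
def pairing {d : ℕ} (X : Matrix (Fin d) (Fin d) k) : Module.Dual k (Matrix (Fin d) (Fin d) k) :=
  (Matrix.traceLinearMap (Fin d) k k) ∘ₗ LinearMap.mulLeft k (antiDiag k d * Xᵀ * antiDiag k d)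

theorem pairing_eq {d : ℕ} (X B : Matrix (Fin d) (Fin d) k) :
    pairing X B = ∑ a, ∑ b, X (Fin.rev a) (Fin.rev b) * B a b := by
  simp only [pairing, LinearMap.comp_apply, LinearMap.mulLeft_apply, Matrix.traceLinearMap_apply,
    Matrix.trace, Matrix.diag_apply]
  rw [Finset.sum_comm]
  refine Finset.sum_congr rfl fun b _ => ?_
  rw [Matrix.mul_apply]
  exact Finset.sum_congr rfl fun a _ => by rw [mul_antiDiag, antiDiag_mul, Matrix.transpose_apply]

theorem pairing_del {d : ℕ} (X B : Matrix (Fin d) (Fin d) k) :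
    pairing X (del k d B) = pairing (del k d X) B := by
  set J := antiDiag k d
  set N := upper k d
  have hJ : J * N = Nᵀ * J := antiDiag_upper k d
  simp only [pairing, del, LinearMap.comp_apply, LinearMap.add_apply, LinearMap.mulLeft_apply,
    LinearMap.mulRight_apply, Matrix.traceLinearMap_apply, Matrix.transpose_add, Matrix.transpose_mul,
    Matrix.transpose_transpose, Matrix.mul_add, Matrix.add_mul, Matrix.trace_add]
  congr 1
  · rw [show J * (Xᵀ * Nᵀ) * J * B = J * Xᵀ * (Nᵀ * J) * B by simp only [mul_assoc], ← hJ]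
    simp only [J, N, mul_assoc]
  · rw [Matrix.trace_mul_comm (J * Xᵀ * J) (B * Nᵀ), mul_assoc B, Matrix.trace_mul_comm B]
    congr 1
    rw [show Nᵀ * (J * Xᵀ * J) = Nᵀ * J * Xᵀ * J by simp only [mul_assoc], ← hJ]
    simp only [J, N, mul_assoc]

theorem pairing_del_pow {d : ℕ} (X : Matrix (Fin d) (Fin d) k) :
    ∀ (m : ℕ) (B : Matrix (Fin d) (Fin d) k),
      pairing X ((del k d ^ m) B) = pairing ((del k d ^ m) X) B := fun m => by
  induction m generalizing X with
  | zero => simp
  | succ m ih =>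
    intro B
    rw [pow_succ', Module.End.mul_apply, pairing_del, ih, ← Module.End.mul_apply, ← pow_succ,
      pow_succ']

/-- Symmetric matrices. -/
def symSub (k : Type v) [Field k] (d : ℕ) : Submodule k (Matrix (Fin d) (Fin d) k) :=
  LinearMap.ker ((Matrix.transposeLinearEquiv (Fin d) (Fin d) k k).toLinearMap - LinearMap.id)

/-- Skew-symmetric matrices. -/
def altSub (k : Type v) [Field k] (d : ℕ) : Submodule k (Matrix (Fin d) (Fin d) k) :=
  LinearMap.ker ((Matrix.transposeLinearEquiv (Fin d) (Fin d) k k).toLinearMap + LinearMap.id)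

theorem mem_symSub {d : ℕ} {A : Matrix (Fin d) (Fin d) k} : A ∈ symSub k d ↔ Aᵀ = A := by
  simp [symSub, sub_eq_zero]

theorem mem_altSub {d : ℕ} {A : Matrix (Fin d) (Fin d) k} : A ∈ altSub k d ↔ Aᵀ = -A := by
  simp [altSub, add_eq_zero_iff_eq_neg]

theorem symSub_conj {d : ℕ} (T : Matrix (Fin d) (Fin d) k) {A : Matrix (Fin d) (Fin d) k}
    (hA : A ∈ symSub k d) : T * A * Tᵀ ∈ symSub k d := by
  rw [mem_symSub] at hA ⊢
  rw [Matrix.transpose_mul, Matrix.transpose_mul, Matrix.transpose_transpose, hA, mul_assoc]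

theorem altSub_conj {d : ℕ} (T : Matrix (Fin d) (Fin d) k) {A : Matrix (Fin d) (Fin d) k}
    (hA : A ∈ altSub k d) : T * A * Tᵀ ∈ altSub k d := by
  rw [mem_altSub] at hA ⊢
  rw [Matrix.transpose_mul, Matrix.transpose_mul, Matrix.transpose_transpose, hA, Matrix.neg_mul,
    Matrix.mul_neg, mul_assoc]

/-- The action on an invariant space of bilinear forms. -/
def subAction {G : Type u} [Group G] {d : ℕ} (ρ : G →* Matrix (Fin d) (Fin d) k)
    (U : Submodule k (Matrix (Fin d) (Fin d) k)) (hU : ∀ T, ∀ A ∈ U, T * A * Tᵀ ∈ U) :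
    G →* Module.End k U where
  toFun g := (formAction ρ g).restrict fun A hA => by
    rw [formAction_apply]; exact hU _ A hA
  map_one' := LinearMap.ext fun A => Subtype.ext (by simp)
  map_mul' g h := LinearMap.ext fun A => Subtype.ext (by
    change formAction ρ (g * h) (A : Matrix (Fin d) (Fin d) k) =
      formAction ρ g (formAction ρ h (A : Matrix (Fin d) (Fin d) k))
    rw [map_mul, Module.End.mul_apply])

variable [IsAlgClosed k] {p : ℕ} [hp : Fact p.Prime] [CharP k p] {d : ℕ}
  {G : Type u} [Group G] [Finite G] {x : G}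

theorem two_ne_zero' (hp2 : p ≠ 2) : (2 : k) ≠ 0 := fun h => hp2 (by
  have h' : ((2 : ℕ) : k) = 0 := by exact_mod_cast h
  exact (Nat.prime_dvd_prime_iff_eq hp.out Nat.prime_two).1 ((CharP.cast_eq_zero_iff k p 2).1 h'))

variable (hx : orderOf x = p) (hsq : ¬ p ^ 2 ∣ Nat.card G)
include hx hsq

/-- Blocks of the tensor square, in a normalized basis. -/
theorem exists_form_block_of_scalar (hd : 2 * d ≤ p + 1) (ρ : G →* Matrix (Fin d) (Fin d) k)
    (hρ : ρ x = expo k p d) (U : Submodule k (Matrix (Fin d) (Fin d) k))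
    (hU : ∀ T, ∀ A ∈ U, T * A * Tᵀ ∈ U)
    (hlev : ∀ A ∈ U, ∀ a b, p - 1 ≤ a + b → entry A a b = 0) (j : ℕ)
    (hscal : ∀ c ∈ Subgroup.centralizer ({x} : Set G),
      ∃ a : k, ∀ u ∈ layer (subAction ρ U hU) x j, subAction ρ U hU c u = a • u)
    {w v : Matrix (Fin d) (Fin d) k} (hw : w ∈ U) (hjw : (del k d ^ j) w = v) (hv : del k d v = 0)
    {φ : Module.Dual k (Matrix (Fin d) (Fin d) k)} (hφ : ∀ B, φ ((del k d ^ (j + 1)) B) = 0)
    (hφv : φ v ≠ 0) :
    ∃ (W : Submodule k U) (w' : U),
      (∀ g, ∀ u ∈ W, subAction ρ U hU g u ∈ W) ∧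
      W = Submodule.span k (Set.range fun i : Fin (j + 1) => (tau (subAction ρ U hU) x ^ (i : ℕ)) w') ∧
      LinearIndependent k (fun i : Fin (j + 1) => (tau (subAction ρ U hU) x ^ (i : ℕ)) w') ∧
      (tau (subAction ρ U hU) x ^ (j + 1)) w' = 0 ∧
      (tau (subAction ρ U hU) x ^ j) w' ∉
        LinearMap.range (tau (subAction ρ U hU) x ^ (j + 1)) := by
  set σ := subAction ρ U hU
  set τ := tau σ x
  set D := del k d
  set μ := unitPart k p d
  have hτ : ∀ A : U, ((τ A : U) : Matrix (Fin d) (Fin d) k) = (D * μ) (A : Matrix (Fin d) (Fin d) k) := fun A => by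
    change formAction ρ x (A : Matrix (Fin d) (Fin d) k) - (A : Matrix (Fin d) (Fin d) k) = _
    rw [formAction_apply, hρ, conj_exp hd]
    simp [D, μ]
  have hpow : ∀ (i : ℕ) (A : U), (((τ ^ i) A : U) : Matrix (Fin d) (Fin d) k) =
      (D ^ i * μ ^ i) (A : Matrix (Fin d) (Fin d) k) := fun i => by
    induction i with
    | zero => intro A; simp
    | succ i ih =>
      intro A
      rw [pow_succ, Module.End.mul_apply, ih, hτ, ← Module.End.mul_apply, pow_succ, pow_succ]
      refine LinearMap.congr_fun ?_ _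
      calc D ^ i * μ ^ i * (D * μ) = D ^ i * (μ ^ i * D) * μ := by simp only [mul_assoc]
        _ = D ^ i * (D * μ ^ i) * μ := by rw [((unitPart_commute (k := k) (p := p)).pow_left i).eq]
        _ = _ := by simp only [mul_assoc]
  have hμv : ∀ i : ℕ, (μ ^ i) v = v := fun i => by
    induction i with
    | zero => simp
    | succ i ih => rw [pow_succ, Module.End.mul_apply, unitPart_of_del_eq_zero hv, ih]
  have hwv : (((τ ^ j) ⟨w, hw⟩ : U) : Matrix (Fin d) (Fin d) k) = v := by
    rw [hpow, ((unitPart_commute (k := k) (p := p)).symm.pow_pow j j).eq, Module.End.mul_apply, hjw, hμv]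
  have hτp : τ ^ (p - 1) = 0 := LinearMap.ext fun A => Subtype.ext (by
    rw [hpow, ((unitPart_commute (k := k) (p := p)).symm.pow_pow _ _).eq, Module.End.mul_apply,
      del_pow_eq_zero _ (hlev _ A.2), map_zero]
    rfl)
  suffices hA : ¬ layer σ x j ≤ LinearMap.range (τ ^ (j + 1)) by
    obtain ⟨v', hv1, hv2, heig⟩ := exists_eigen_of_scalar σ hx hsq
      (fun _ hn _ hu => layer_invariant σ (mem_inv_conj hn).1 (mem_inv_conj hn).2 j hu) hscal hA
    obtain ⟨W, w', h1, -, h2, h3, h4, h5, -⟩ := exists_submodule_of_eigen σ hx hsq hτp hv1 hv2 heig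
    exact ⟨W, w', h1, h2, h3, h4, h5⟩
  intro hle
  have hmem : (τ ^ j) ⟨w, hw⟩ ∈ layer σ x j := ⟨LinearMap.mem_ker.2 (Subtype.ext (by
    change ((τ ((τ ^ j) ⟨w, hw⟩) : U) : Matrix (Fin d) (Fin d) k) = ((0 : U) : Matrix (Fin d) (Fin d) k)
    rw [hτ, hwv, Module.End.mul_apply, unitPart_of_del_eq_zero hv, hv]; rfl)), _, rfl⟩
  obtain ⟨z, hz⟩ := hle hmem
  have h := congrArg (fun A : U => φ (A : Matrix (Fin d) (Fin d) k)) hz
  simp only [hwv] at h
  rw [hpow, Module.End.mul_apply, hφ] at h
  exact hφv h.symm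

variable (hC : Subgroup.centralizer ({x} : Set G) = Subgroup.zpowers x)
include hC

/-- Blocks of the tensor square, in a normalized basis. -/
theorem exists_form_block (hd : 2 * d ≤ p + 1) (ρ : G →* Matrix (Fin d) (Fin d) k)
    (hρ : ρ x = expo k p d) (U : Submodule k (Matrix (Fin d) (Fin d) k))
    (hU : ∀ T, ∀ A ∈ U, T * A * Tᵀ ∈ U)
    (hlev : ∀ A ∈ U, ∀ a b, p - 1 ≤ a + b → entry A a b = 0) (j : ℕ)
    {w v : Matrix (Fin d) (Fin d) k} (hw : w ∈ U) (hjw : (del k d ^ j) w = v) (hv : del k d v = 0)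
    {φ : Module.Dual k (Matrix (Fin d) (Fin d) k)} (hφ : ∀ B, φ ((del k d ^ (j + 1)) B) = 0)
    (hφv : φ v ≠ 0) :
    ∃ (W : Submodule k U) (w' : U),
      (∀ g, ∀ u ∈ W, subAction ρ U hU g u ∈ W) ∧
      W = Submodule.span k (Set.range fun i : Fin (j + 1) => (tau (subAction ρ U hU) x ^ (i : ℕ)) w') ∧
      LinearIndependent k (fun i : Fin (j + 1) => (tau (subAction ρ U hU) x ^ (i : ℕ)) w') ∧
      (tau (subAction ρ U hU) x ^ (j + 1)) w' = 0 ∧
      (tau (subAction ρ U hU) x ^ j) w' ∉
        LinearMap.range (tau (subAction ρ U hU) x ^ (j + 1)) :=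
  exists_form_block_of_scalar hx hsq hd ρ hρ U hU hlev j
    (fun _ hc => ⟨1, fun u hu => by
      rw [one_smul]; exact apply_eq_self_of_tau _ (LinearMap.mem_ker.1 hu.1) (hC ▸ hc)⟩)
    hw hjw hv hφ hφv

omit hx hsq hC [IsAlgClosed k] hp [CharP k p] [Finite G] in
/-- A basis `τ^i w` of an invariant subspace gives a single block representation. -/
theorem exists_matrix_rep {V : Type*} [AddCommGroup V] [Module k V] (σ : G →* Module.End k V) {j : ℕ}
    {W : Submodule k V} {w : V} (hW : ∀ g, ∀ u ∈ W, σ g u ∈ W)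
    (hspan : W = Submodule.span k (Set.range fun i : Fin (j + 1) => (tau σ x ^ (i : ℕ)) w))
    (hli : LinearIndependent k (fun i : Fin (j + 1) => (tau σ x ^ (i : ℕ)) w))
    (hz : (tau σ x ^ (j + 1)) w = 0) :
    ∃ ρ : G →* Matrix (Fin (j + 1)) (Fin (j + 1)) k, ρ x = 1 + lower k (j + 1) := by
  classical
  let b : Module.Basis (Fin (j + 1)) k W := (Module.Basis.span hli).map (LinearEquiv.ofEq _ _ hspan.symm)
  have hb : ∀ i, ((b i : W) : V) = (tau σ x ^ (i : ℕ)) w := fun i => by
    simp [b, Module.Basis.span_apply]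
  let σW : G →* Module.End k W :=
    { toFun := fun g => (σ g).restrict (hW g)
      map_one' := LinearMap.ext fun A => Subtype.ext (by simp)
      map_mul' := fun g h => LinearMap.ext fun A => Subtype.ext (by
        change σ (g * h) (A : V) = σ g (σ h (A : V))
        rw [map_mul, Module.End.mul_apply]) }
  refine ⟨((LinearMap.toMatrixAlgEquiv b).toMulEquiv.toMonoidHom).comp σW, ?_⟩
  ext i l
  change LinearMap.toMatrix b b (σW x) i l = _
  rw [LinearMap.toMatrix_apply, Matrix.add_apply]
  have hσ : σW x (b l) = if h : (l : ℕ) + 1 < j + 1 then b l + b ⟨(l : ℕ) + 1, h⟩ else b l := by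
    refine Subtype.ext ?_
    change σ x (b l : V) = _
    have hx1 : σ x (b l : V) = (b l : V) + tau σ x (b l : V) := by simp [tau]
    rw [hx1, hb l, ← Module.End.mul_apply, ← pow_succ']
    split_ifs with h
    · rw [Submodule.coe_add, hb, hb]
    · rw [show (l : ℕ) + 1 = j + 1 by have := l.2; omega, hz, add_zero, hb]
  rw [hσ]
  by_cases h : (l : ℕ) + 1 < j + 1
  · rw [dif_pos h, map_add, Finsupp.add_apply, b.repr_self, b.repr_self, Finsupp.single_apply,
      Finsupp.single_apply, Matrix.one_apply]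
    simp only [lower, Matrix.of_apply, eq_comm (a := l), eq_comm (a := (⟨(l : ℕ) + 1, h⟩ : Fin (j + 1))),
      Fin.ext_iff]
  · rw [dif_neg h, b.repr_self, Finsupp.single_apply, Matrix.one_apply]
    simp only [lower, Matrix.of_apply, eq_comm (a := l)]
    rw [if_neg (c := (i : ℕ) = (l : ℕ) + 1) (by have := i.2; omega), add_zero]

omit hx hsq hC [IsAlgClosed k] hp [CharP k p] [Finite G] [Group G] in
/-- The sum `Σ i (i - d)`. -/
theorem six_mul_sum (d : ℕ) :
    6 * ∑ i ∈ Finset.range d, ((i : k) * ((i : k) - (d : k))) = -((d : k) * ((d : k) ^ 2 - 1)) := by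
  suffices h : ∀ n : ℕ, 6 * ∑ i ∈ Finset.range n, ((i : k) * ((i : k) - (d : k))) =
      (n : k) * ((n : k) - 1) * (2 * (n : k) - 1 - 3 * (d : k)) by
    rw [h]; ring
  intro n
  induction n with
  | zero => simp
  | succ n ih => rw [Finset.sum_range_succ, mul_add, ih]; push_cast; ring

/-- A single block representation of small degree gives one of degree three. -/
theorem exists_three (hp5 : 5 ≤ p) (hd3 : 2 ≤ d) (hd : 2 * d ≤ p + 1)
    (hodd : 2 * d = p + 1 → Odd d) (ρ : G →* Matrix (Fin d) (Fin d) k) (hρ : IsBlock (ρ x)) :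
    ∃ ρ₃ : G →* Matrix (Fin 3) (Fin 3) k, ρ₃ x = 1 + lower k 3 := by
  classical
  obtain ⟨ρ', -, hρ', -⟩ := exists_conj ρ hρ (isBlock_expo hd)
  have h2 : (2 : k) ≠ 0 := two_ne_zero' (by omega)
  set q : ℕ → k := fun i => (i : k) * ((i : k) - (d : k)) * 2⁻¹ with hq
  set w : Matrix (Fin d) (Fin d) k :=
    Matrix.of fun a b => if (a : ℕ) + b = d then (-1 : k) ^ (a : ℕ) * q a else 0 with hw
  set v : Matrix (Fin d) (Fin d) k :=
    Matrix.of fun a b => if (a : ℕ) + b + 2 = d then (-1 : k) ^ (a : ℕ) else 0 with hv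
  have hew : ∀ a b, a ≤ d → b ≤ d →
      entry w a b = if a + b = d then (-1 : k) ^ a * q a else 0 := fun a b ha hb => by
    rw [entry]
    split_ifs with h h' h'
    · simp [hw, h']
    · simp [hw, h']
    · rcases Nat.lt_or_ge a d with ha' | ha'
      · rw [show a = 0 by omega]; simp [q]
      · rw [show a = d by omega]; simp [q]
    · rfl
  set w₁ : Matrix (Fin d) (Fin d) k := Matrix.of fun a b =>
    if (a : ℕ) + b + 1 = d then (-1 : k) ^ (a : ℕ) * (q a - q ((a : ℕ) + 1)) else 0 with hw₁
  have hDw : del k d w = w₁ := by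
    ext a b
    have := a.2
    have := b.2
    rw [del_apply, hew _ _ (by omega) (by omega), hew _ _ (by omega) (by omega)]
    simp only [hw₁, Matrix.of_apply]
    by_cases h : (a : ℕ) + b + 1 = d
    · rw [if_pos (by omega), if_pos (by omega), if_pos h]; ring
    · rw [if_neg (by omega), if_neg (by omega), if_neg h, add_zero]
  have hDw₁ : del k d w₁ = v := by
    ext a b
    have := a.2
    have := b.2
    rw [del_apply]
    simp only [hv, Matrix.of_apply]
    by_cases h : (a : ℕ) + b + 2 = d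
    · rw [entry, dif_pos ⟨by omega, b.2⟩, entry, dif_pos ⟨a.2, by omega⟩, if_pos h]
      simp only [hw₁, Matrix.of_apply]
      rw [if_pos (by omega), if_pos (by omega)]
      simp only [q]
      push_cast
      field_simp
      ring
    · rw [if_neg h, entry, entry]
      split_ifs <;> (try simp only [hw₁, Matrix.of_apply]) <;> (repeat rw [if_neg (by omega)]) <;> simp
  have hDv : del k d v = 0 := by
    ext a b
    have := a.2
    have := b.2
    rw [del_apply, Matrix.zero_apply]
    by_cases h : (a : ℕ) + b + 3 = d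
    · rw [entry, dif_pos ⟨by omega, b.2⟩, entry, dif_pos ⟨a.2, by omega⟩]
      simp only [hv, Matrix.of_apply]
      rw [if_pos (by omega), if_pos (by omega)]
      ring
    · rw [entry, entry]
      split_ifs <;> (try simp only [hv, Matrix.of_apply]) <;> (repeat rw [if_neg (by omega)]) <;> simp
  have hD2 : (del k d ^ 2) w = v := by rw [sq, Module.End.mul_apply, hDw, hDw₁]
  have hD3 : (del k d ^ 3) w = 0 := by rw [pow_succ', Module.End.mul_apply, hD2, hDv]
  have hφv : pairing w v ≠ 0 := by
    have hsum : pairing w v = (-1 : k) ^ (d - 1) * ∑ a : Fin d, q a := by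
      rw [pairing_eq, Finset.mul_sum, ← Equiv.sum_comp Fin.revPerm]
      refine Finset.sum_congr rfl fun a _ => ?_
      simp only [Fin.revPerm_apply, Fin.rev_rev]
      have := a.2
      rcases Nat.eq_zero_or_pos (a : ℕ) with h0 | h0
      · rw [Finset.sum_eq_zero, show q a = 0 by simp [q, h0], mul_zero]
        intro b _
        simp only [hw, Matrix.of_apply, h0, q, Nat.cast_zero, zero_mul, mul_zero, ite_self]
      · rw [Finset.sum_eq_single ⟨(a : ℕ) - 1, by omega⟩]
        · simp only [hw, hv, Matrix.of_apply, Fin.val_rev]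
          rw [if_pos (by omega), if_pos (by omega), mul_right_comm, ← pow_add]
          congr 2
          omega
        · intro b _ hb
          simp only [hv, Matrix.of_apply, Fin.val_rev]
          rw [if_neg (fun h => hb (Fin.ext (by simp only; omega))), mul_zero]
        · intro h; exact absurd (Finset.mem_univ _) h
    rw [hsum, mul_ne_zero_iff, Fin.sum_univ_eq_sum_range]
    refine ⟨pow_ne_zero _ (neg_ne_zero.2 one_ne_zero), fun h0 => ?_⟩
    simp only [q] at h0
    rw [← Finset.sum_mul, mul_eq_zero, or_iff_left (inv_ne_zero h2)] at h0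
    have h := six_mul_sum (k := k) d
    rw [h0, mul_zero, eq_comm, neg_eq_zero] at h
    have h' : ((d * (d + 1) * (d - 1) : ℕ) : k) = 0 := by
      push_cast [show 1 ≤ d by omega]
      linear_combination h
    have hdvd := (CharP.cast_eq_zero_iff k p _).1 h'
    rcases (Nat.Prime.dvd_mul hp.out).1 hdvd with h | h
    · rcases (Nat.Prime.dvd_mul hp.out).1 h with h | h
      · have := Nat.le_of_dvd (by omega) h; omega
      · have := Nat.le_of_dvd (by omega) h; omega
    · have := Nat.le_of_dvd (by omega) h; omega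
  have hφ : ∀ B, pairing w ((del k d ^ (2 + 1)) B) = 0 := fun B => by
    rw [pairing_del_pow, hD3]; simp [pairing]
  by_cases hmax : 2 * d = p + 1
  · have hwmem : w ∈ altSub k d := by
      rw [mem_altSub]
      ext a b
      simp only [hw, Matrix.transpose_apply, Matrix.neg_apply, Matrix.of_apply]
      by_cases h : (a : ℕ) + b = d
      · rw [if_pos (by omega), if_pos h]
        have e : (-1 : k) ^ (a : ℕ) * (-1) ^ (b : ℕ) = -1 := by
          rw [← pow_add, h, (hodd hmax).neg_one_pow]
        have e2 : (-1 : k) ^ (a : ℕ) * (-1) ^ (a : ℕ) = 1 := by rw [← pow_add, (Even.add_self _).neg_one_pow]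
        have hq' : q b = q a := by
          simp only [q]
          rw [show (d : k) = (a : k) + (b : k) by exact_mod_cast congrArg (Nat.cast (R := k)) h.symm]
          ring
        rw [hq']
        linear_combination ((-1 : k) ^ (a : ℕ) * q a) * e - ((-1 : k) ^ (b : ℕ) * q a) * e2
      · rw [if_neg (by omega), if_neg h, neg_zero]
    have hlev : ∀ A ∈ altSub k d, ∀ a b, p - 1 ≤ a + b → entry A a b = 0 := fun A hA a b hab => by
      rw [entry]
      split_ifs with h
      · have hA' := congrFun (congrFun (mem_altSub.1 hA) ⟨a, h.1⟩) ⟨b, h.2⟩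
        obtain rfl : a = b := by omega
        rw [Matrix.transpose_apply, Matrix.neg_apply, eq_neg_iff_add_eq_zero, ← two_mul] at hA'
        exact (mul_eq_zero.1 hA').resolve_left h2
      · rfl
    obtain ⟨W, w', hW, hs, hli, hz, -⟩ := exists_form_block hx hsq hC hd ρ' hρ' (altSub k d)
      (fun T A hA => altSub_conj T hA) hlev 2 hwmem hD2 hDv hφ hφv
    exact exists_matrix_rep _ hW hs hli hz
  · obtain ⟨W, w', hW, hs, hli, hz, -⟩ := exists_form_block hx hsq hC hd ρ' hρ' ⊤
      (fun T A _ => Submodule.mem_top) (fun A _ a b hab => entry_level A a b (by omega)) 2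
      Submodule.mem_top hD2 hDv hφ hφv
    exact exists_matrix_rep _ hW hs hli hz

/-- A three dimensional single block representation of a perfect group is orthogonal. -/
theorem exists_invariant_form (hp7 : 7 ≤ p) (hperf : commutator G = ⊤)
    (ρ : G →* Matrix (Fin 3) (Fin 3) k) (hρ : IsBlock (ρ x)) :
    ∃ (ρ' : G →* Matrix (Fin 3) (Fin 3) k) (A : Matrix (Fin 3) (Fin 3) k),
      ρ' x = expo k p 3 ∧ Aᵀ = A ∧ IsUnit A.det ∧ ∀ g, ρ' g * A * (ρ' g)ᵀ = A := by
  classical
  obtain ⟨ρ', -, hρ', -⟩ := exists_conj ρ hρ (isBlock_expo (p := p) (by omega))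
  have h2 : (2 : k) ≠ 0 := two_ne_zero' (by omega)
  set v : Matrix (Fin 3) (Fin 3) k := !![0, 0, 1; 0, -1, 0; 1, 0, 0]
  have hDv : del k 3 v = 0 := by
    ext a b
    rw [del_apply]
    fin_cases a <;> fin_cases b <;> simp [v, entry]
  have hvsym : v ∈ symSub k 3 := by
    rw [mem_symSub]
    ext a b
    fin_cases a <;> fin_cases b <;> simp [v]
  have hφv : pairing v v ≠ 0 := by
    rw [pairing_eq]
    simp [v, Fin.sum_univ_three, Fin.rev]
    intro h
    have h' : ((3 : ℕ) : k) = 0 := by push_cast; linear_combination h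
    have := Nat.le_of_dvd (by omega) ((CharP.cast_eq_zero_iff k p 3).1 h')
    omega
  obtain ⟨W, w', hW, hs, hli, hz, hnr⟩ := exists_form_block hx hsq hC (d := 3) (by omega) ρ' hρ'
    (symSub k 3) (fun T A hA => symSub_conj T hA)
    (fun A _ a b hab => entry_level A a b (by omega)) 0 hvsym (by simp) hDv
    (φ := pairing v) (fun B => by rw [zero_add, pow_one, pairing_del, hDv]; simp [pairing]) hφv
  set A : Matrix (Fin 3) (Fin 3) k := (w' : Matrix (Fin 3) (Fin 3) k)
  have hsym : Aᵀ = A := mem_symSub.1 w'.2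
  have hτA : ∀ B : symSub k 3, ((tau (subAction ρ' (symSub k 3) fun T A hA => symSub_conj T hA) x B :
      symSub k 3) : Matrix (Fin 3) (Fin 3) k) = del k 3 (unitPart k p 3 (B : Matrix (Fin 3) (Fin 3) k)) :=
    fun B => by
      change formAction ρ' x (B : Matrix (Fin 3) (Fin 3) k) - (B : Matrix (Fin 3) (Fin 3) k) = _
      rw [formAction_apply, hρ', conj_exp (by omega), add_sub_cancel_left]
  have hDA : del k 3 A = 0 := by
    have h := congrArg Subtype.val hz
    rw [pow_one, hτA] at h
    obtain ⟨U, hU⟩ := isUnit_unitPart (k := k) (p := p) (d := 3)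
    have h2 : unitPart k p 3 (del k 3 A) = 0 := by
      rw [← Module.End.mul_apply, unitPart_commute.eq, Module.End.mul_apply]; exact h
    have h3 := congrArg (U⁻¹ : (Module.End k (Matrix (Fin 3) (Fin 3) k))ˣ).val h2
    rwa [map_zero, ← Module.End.mul_apply, ← hU, Units.inv_mul, Module.End.one_apply] at h3
  have e : ∀ a b, entry A a b = entry A b a := fun a b => by
    unfold entry
    by_cases h : a < 3 ∧ b < 3
    · rw [dif_pos h, dif_pos ⟨h.2, h.1⟩]
      exact (congrFun (congrFun hsym ⟨a, h.1⟩) ⟨b, h.2⟩).symm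
    · rw [dif_neg h, dif_neg (fun h' => h ⟨h'.2, h'.1⟩)]
  have eq : ∀ a b : Fin 3, entry A (a + 1) b + entry A a (b + 1) = 0 := fun a b => by
    rw [← del_apply, hDA, Matrix.zero_apply]
  have e00 := eq 0 0
  have e01 := eq 0 1
  have e02 := eq 0 2
  have e12 := eq 1 2
  have hA01 : A 0 1 = 0 := by
    have h1 := congrFun (congrFun hsym 0) 1
    simp [entry] at e00 h1
    rw [h1, ← two_mul, mul_eq_zero] at e00
    exact e00.resolve_left h2
  have hA11 : A 1 1 + A 0 2 = 0 := by simpa [entry] using e01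
  have hA12 : A 1 2 = 0 := by simpa [entry] using e02
  have hA22 : A 2 2 = 0 := by simpa [entry] using e12
  have hsy : ∀ a b, A a b = A b a := fun a b => (congrFun (congrFun hsym a) b).symm
  have hdet : A.det = A 0 2 ^ 3 := by
    rw [Matrix.det_fin_three, hsy 1 0, hsy 2 0, hsy 2 1, hA01, hA12, hA22,
      eq_neg_of_add_eq_zero_left hA11]
    ring
  have hβ : A 0 2 ≠ 0 := fun h0 => by
    refine hnr ?_
    set z : Matrix (Fin 3) (Fin 3) k :=
      (A 0 0 / 2) • !![0, 1, 0; 1, 0, 0; 0, 0, 0]
    have hzs : z ∈ symSub k 3 := by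
      rw [mem_symSub]
      ext a b
      fin_cases a <;> fin_cases b <;> simp [z]
    have hAz : del k 3 z = A := by
      have h11 : A 1 1 = 0 := by rw [h0, add_zero] at hA11; exact hA11
      ext a b
      rw [del_apply]
      fin_cases a <;> fin_cases b <;>
        simp [z, entry, hsy 1 0, hsy 2 0, hsy 2 1, hA01, hA12, hA22, h0, h11]
      field_simp
      ring
    refine ⟨⟨z, hzs⟩, Subtype.ext ?_⟩
    rw [zero_add, pow_one, hτA, pow_zero, Module.End.one_apply, ← Module.End.mul_apply,
      ← unitPart_commute.eq, Module.End.mul_apply, hAz, unitPart_of_del_eq_zero hDA]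
  have hAne : A ≠ 0 := fun h => hβ (by rw [h]; rfl)
  have hc : ∀ g, ∃ c : k, ρ' g * A * (ρ' g)ᵀ = c • A := fun g => by
    have hw'W : w' ∈ W := hs ▸ Submodule.subset_span ⟨0, by simp⟩
    have h := hW g w' hw'W
    rw [hs] at h
    have hr : (Set.range fun i : Fin (0 + 1) =>
        (tau (subAction ρ' (symSub k 3) fun T A hA => symSub_conj T hA) x ^ (i : ℕ)) w') = {w'} := by
      ext y
      simp [Fin.forall_fin_one, eq_comm]
    rw [hr, Submodule.mem_span_singleton] at h
    obtain ⟨c, hc⟩ := h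
    refine ⟨c, ?_⟩
    have h' := congrArg Subtype.val hc
    rw [← formAction_apply]
    exact h'.symm
  choose c hc using hc
  have hinj : ∀ a b : k, a • A = b • A → a = b := fun a b h => smul_left_injective k hAne h
  let χ : G →* k :=
    { toFun := c
      map_one' := hinj _ _ (by rw [← hc, map_one, Matrix.transpose_one, one_mul, mul_one, one_smul])
      map_mul' := fun g h => hinj _ _ (by
        rw [← hc, map_mul, Matrix.transpose_mul, show ρ' g * ρ' h * A * ((ρ' h)ᵀ * (ρ' g)ᵀ) =
          ρ' g * (ρ' h * A * (ρ' h)ᵀ) * (ρ' g)ᵀ by simp only [mul_assoc], hc, Matrix.mul_smul,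
          Matrix.smul_mul, hc, smul_smul, mul_comm]) }
  have hχ : χ.toHomUnits.ker = ⊤ :=
    top_le_iff.1 (hperf ▸ Abelianization.commutator_subset_ker χ.toHomUnits)
  refine ⟨ρ', A, hρ', hsym, ?_, fun g => ?_⟩
  · rw [hdet]; exact (pow_ne_zero 3 hβ).isUnit
  · have h1 : c g = 1 := congrArg Units.val (MonoidHom.mem_ker.1 (hχ ▸ Subgroup.mem_top g))
    rw [hc, h1, one_smul]

end CfsgLib.Block.SmallBlock
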