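import Cfsg.Agent.Lib.Block.SmallBlock
import Cfsg.Agent.Lib.Block.SmallPartner
import Cfsg.Agent.Lib.Block.SmallSO3

/-!
A faithful modular representation of small degree yields, on its endomorphisms, a three
dimensional representation in which `x` is a single block, whose scalar elements normalize `⟨x⟩`.
-/

set_option autoImplicit false

namespace CfsgLib.Block.SmallBlock

open Module

universe u v w

variable {G : Type u} [Group G] {k : Type v} [Field k] {W : Type w} [AddCommGroup W] [Module k W]

/-- Conjugation on endomorphisms. -/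
def conjAction (ρ : G →* Module.End k W) : G →* Module.End k (Module.End k W) where
  toFun g := LinearMap.mulLeft k (ρ g) ∘ₗ LinearMap.mulRight k (ρ g⁻¹)
  map_one' := LinearMap.ext fun T => by simp
  map_mul' g h := LinearMap.ext fun T => by
    simp [mul_inv_rev, mul_assoc]

theorem conjAction_apply (ρ : G →* Module.End k W) (g : G) (T : Module.End k W) :
    conjAction ρ g T = ρ g * (T * ρ g⁻¹) := rfl

theorem conjAction_mul (ρ : G →* Module.End k W) (g : G) (S T : Module.End k W) :
    conjAction ρ g (S * T) = conjAction ρ g S * conjAction ρ g T := by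
  have h : ρ g⁻¹ * ρ g = 1 := by rw [← map_mul, inv_mul_cancel, map_one]
  simp only [conjAction_apply, mul_assoc]
  rw [← mul_assoc (ρ g⁻¹) (ρ g), h, one_mul]

theorem conjAction_of_commute (ρ : G →* Module.End k W) {g : G} {T : Module.End k W}
    (h : Commute (ρ g) T) : conjAction ρ g T = T := by
  rw [conjAction_apply, ← mul_assoc, h.eq, mul_assoc, ← map_mul, mul_inv_cancel, map_one, mul_one]

/-- `Ad x - 1` is the commutator with `x - 1` followed by a commuting unit. -/
theorem tau_conjAction (ρ : G →* Module.End k W) (x : G) :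
    tau (conjAction ρ) x = adOp (tau ρ x) ∘ₗ LinearMap.mulRight k (ρ x⁻¹) := by
  refine LinearMap.ext fun T => ?_
  change ρ x * (T * ρ x⁻¹) - T = tau ρ x * (T * ρ x⁻¹) - T * ρ x⁻¹ * tau ρ x
  have h : ρ x⁻¹ * ρ x = 1 := by rw [← map_mul, inv_mul_cancel, map_one]
  simp only [tau, sub_mul, mul_sub, one_mul, mul_one, mul_assoc, h]
  abel

theorem tau_conjAction_pow (ρ : G →* Module.End k W) (x : G) (i : ℕ) :
    tau (conjAction ρ) x ^ i = adOp (tau ρ x) ^ i * LinearMap.mulRight k (ρ x⁻¹) ^ i := by
  rw [tau_conjAction, ← Module.End.mul_eq_comp]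
  refine Commute.mul_pow (LinearMap.ext fun T => ?_) i
  simp only [Module.End.mul_apply, LinearMap.mulRight_apply, adOp_apply, sub_mul, mul_assoc]
  rw [show ρ x⁻¹ * tau ρ x = tau ρ x * ρ x⁻¹ from
    (((Commute.refl x).inv_left).map ρ).sub_right (Commute.one_right _)]

variable [FiniteDimensional k W]

theorem range_tau_conjAction_pow (ρ : G →* Module.End k W) (x : G) (i : ℕ) :
    LinearMap.range (tau (conjAction ρ) x ^ i) = LinearMap.range (adOp (tau ρ x) ^ i) := by
  rw [tau_conjAction_pow, Module.End.mul_eq_comp, LinearMap.range_comp_of_range_eq_top]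
  refine LinearMap.range_eq_top.2 fun T => ⟨T * ρ x ^ i, ?_⟩
  rw [LinearMap.pow_mulRight, LinearMap.mulRight_apply, mul_assoc, ← map_pow, ← map_pow, ← map_mul,
    inv_pow, mul_inv_cancel, map_one, mul_one]

/-- Polynomials in `X` times `X ^ i`. -/
noncomputable def polySub (X : Module.End k W) (i : ℕ) : Submodule k (Module.End k W) :=
  LinearMap.range (LinearMap.mulLeft k (X ^ i) ∘ₗ (Polynomial.aeval X).toLinearMap)

theorem mem_polySub {X T : Module.End k W} {i : ℕ} :
    T ∈ polySub X i ↔ ∃ q : Polynomial k, X ^ i * Polynomial.aeval X q = T := Iff.rfl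

variable [Finite G] [IsAlgClosed k] {p : ℕ} [hp : Fact p.Prime] [CharP k p]

/-- The three dimensional representation on endomorphisms. -/
theorem exists_adjoint_three (hp5 : 5 ≤ p) (ρ : G →* Module.End k W) (hinj : Function.Injective ρ)
    {x : G} (hx : orderOf x = p) (hsq : ¬ p ^ 2 ∣ Nat.card G) (hdim : 2 * finrank k W + 1 ≤ p) :
    ∃ ρ₃ : G →* Matrix (Fin 3) (Fin 3) k, ρ₃ x = 1 + lower k 3 ∧
      ∀ g : G, (∃ b : k, ρ₃ g = b • 1) → Commute (ρ g * tau ρ x * ρ g⁻¹) (tau ρ x) := by
  classical
  set X := tau ρ x with hX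
  set σ := conjAction ρ with hσ
  have hx1 : x ≠ 1 := fun h => by rw [h, orderOf_one] at hx; exact hp.out.ne_one hx.symm
  have hX0 : X ≠ 0 := fun h => hx1 (hinj (by rw [map_one]; exact sub_eq_zero.1 h))
  have hnil : IsNilpotent X := by
    haveI : Nontrivial (Module.End k W) := ⟨X, 0, hX0⟩
    haveI : CharP (Module.End k W) p :=
      charP_of_injective_algebraMap (algebraMap k (Module.End k W)).injective p
    exact ⟨p, by rw [hX, tau, sub_pow_char_of_commute (p := p) (Commute.one_right _), ← map_pow, ← hx,
      pow_orderOf_eq_one, map_one, one_pow, sub_self]⟩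
  have hXm : X ^ finrank k W = 0 := by
    have h := LinearMap.aeval_self_charpoly X
    rwa [IsNilpotent.charpoly_eq_X_pow_finrank hnil, Polynomial.aeval_X_pow] at h
  have hDm : adOp X ^ (p - 1) = 0 := pow_eq_zero_of_le (by omega) (adOp_pow_eq_zero hXm)
  have hτ : tau σ x ^ (p - 1) = 0 := by rw [hσ, tau_conjAction_pow, ← hX, hDm, zero_mul]
  -- the normalizer acts on polynomials in `X`
  have hnorm : ∀ n ∈ Subgroup.normalizer ((Subgroup.zpowers x : Subgroup G) : Set G),
      ∀ i, ∀ T ∈ polySub X i, σ n T ∈ polySub X i := by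
    intro n hn i T hT
    obtain ⟨q, rfl⟩ := mem_polySub.1 hT
    obtain ⟨r, hr : x ^ r = n * x * n⁻¹⟩ := mem_powers_iff_mem_zpowers.2 (mem_inv_conj hn).1
    set S : Polynomial k := ∑ l ∈ Finset.range r, (Polynomial.X + 1) ^ l
    have hnX : σ n X = X * Polynomial.aeval X S := by
      have h1 : σ n X = ρ x ^ r - 1 := by
        rw [conjAction_apply, hX, tau, sub_mul, mul_sub, one_mul, ← map_mul, ← map_mul, ← map_mul,
          mul_inv_cancel, map_one, ← mul_assoc, ← hr, map_pow]
      have hXs : X + 1 = ρ x := sub_add_cancel _ _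
      rw [h1, map_sum, Finset.sum_congr rfl fun l _ => by
        rw [map_pow, map_add, Polynomial.aeval_X, map_one, hXs]]
      exact (mul_geom_sum (ρ x) r).symm
    have hpoly : ∀ q : Polynomial k,
        σ n (Polynomial.aeval X q) = Polynomial.aeval X (q.comp (Polynomial.X * S)) := fun q => by
      induction q using Polynomial.induction_on' with
      | add a b ha hb => simp only [map_add, Polynomial.add_comp, ha, hb]
      | monomial m c =>
        rw [Polynomial.monomial_comp, Polynomial.aeval_monomial, ← Algebra.smul_def, map_smul,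
          map_mul (Polynomial.aeval X), Polynomial.aeval_C, map_pow (Polynomial.aeval X), map_mul (Polynomial.aeval X),
          Polynomial.aeval_X, ← Algebra.smul_def]
        congr 1
        induction m with
        | zero => rw [pow_zero, pow_zero, conjAction_apply, one_mul, ← map_mul, mul_inv_cancel, map_one]
        | succ m ih => rw [pow_succ, pow_succ, conjAction_mul, ih, hnX]
    refine mem_polySub.2 ⟨S ^ i * q.comp (Polynomial.X * S), ?_⟩
    have hXi : X ^ i = Polynomial.aeval X (Polynomial.X ^ i : Polynomial k) := by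
      rw [map_pow, Polynomial.aeval_X]
    conv_rhs => rw [hXi, ← map_mul, hpoly, Polynomial.mul_comp, Polynomial.pow_comp, Polynomial.X_comp]
    rw [hXi, ← map_mul, mul_pow, mul_assoc]
  -- `X` is not in `X² k[X]`
  have hUB : ¬ polySub X 1 ≤ polySub X 2 := fun h => by
    obtain ⟨q, hq⟩ := mem_polySub.1 (h (mem_polySub.2 ⟨1, by rw [pow_one, map_one, mul_one]⟩ :
      X ∈ polySub X 1))
    have hu : IsUnit (1 - X * Polynomial.aeval X q) := IsNilpotent.isUnit_one_sub
      (Commute.isNilpotent_mul_right
        (by simpa using ((Commute.all (Polynomial.X : Polynomial k) q).map (Polynomial.aeval X))) hnil)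
    refine hX0 (hu.mul_left_eq_zero.1 ?_)
    rw [mul_sub, mul_one, ← mul_assoc, ← sq, hq, sub_self]
  obtain ⟨v, hvU, hvB, heig⟩ := exists_eigen_of_scalar σ hx hsq (U := polySub X 1) (B := polySub X 2)
    (fun n hn T hT => hnorm n hn 1 T hT)
    (fun c hc => ⟨1, fun T hT => by
      obtain ⟨q, rfl⟩ := mem_polySub.1 hT
      rw [one_smul]
      refine conjAction_of_commute ρ ?_
      have hcX : Commute (ρ c) X := comm_tau ρ (Subgroup.mem_centralizer_singleton_iff.1 hc)
      refine (hcX.pow_right 1).mul_right ?_
      clear hT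
      induction q using Polynomial.induction_on' with
      | add a b ha hb => rw [map_add]; exact ha.add_right hb
      | monomial m a =>
        rw [Polynomial.aeval_monomial]
        exact (Algebra.commute_algebraMap_right a (ρ c)).mul_right (hcX.pow_right m)⟩) hUB
  obtain ⟨q, hq⟩ := mem_polySub.1 hvU
  rw [pow_one] at hq
  set a := q.coeff 0
  have hvdec : v = a • X + X ^ 2 * Polynomial.aeval X q.divX := by
    rw [← hq]
    conv_lhs => rw [← q.X_mul_divX_add, map_add, map_mul, Polynomial.aeval_X, Polynomial.aeval_C,
      mul_add, ← mul_assoc, ← sq, ← Algebra.commutes, ← Algebra.smul_def, add_comm]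
  have ha : a ≠ 0 := fun h0 => hvB (mem_polySub.2 ⟨q.divX, by rw [hvdec, h0, zero_smul, zero_add]⟩)
  -- a pairing
  have hex : ∃ j, X ^ (j + 1) = 0 := ⟨finrank k W, by rw [pow_succ, hXm, zero_mul]⟩
  have hs : X ^ (Nat.find hex + 1) = 0 := Nat.find_spec hex
  have hs0 : Nat.find hex ≠ 0 := fun h => hX0 (by simpa [h] using hs)
  have hs' : X ^ Nat.find hex ≠ 0 := fun h =>
    Nat.find_min hex (m := Nat.find hex - 1) (by omega)
      (by rwa [Nat.sub_add_cancel (Nat.pos_of_ne_zero hs0)])
  obtain ⟨B, π, hπc, -, -, -, -, hB, htr, htr'⟩ := exists_block_partner X hs hs'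
  set s := Nat.find hex
  have hsW : s + 1 ≤ finrank k W := by
    have h1 := Nat.find_le (h := hex) (n := finrank k W - 1) (by
      rw [Nat.sub_add_cancel]; · exact hXm
      exact Nat.pos_of_ne_zero fun h0 => hX0 (by rw [h0] at hXm; simpa using congrArg (· * X) hXm))
    have : 0 < finrank k W := Nat.pos_of_ne_zero fun h0 => hX0 (by
      rw [h0] at hXm; simpa using congrArg (· * X) hXm)
    omega
  have htrv : LinearMap.trace k W (B * v) ≠ 0 := by
    have h2 : LinearMap.trace k W (B * (X ^ 2 * Polynomial.aeval X q.divX)) = 0 := by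
      generalize q.divX = r
      induction r using Polynomial.induction_on' with
      | add a b ha hb => rw [map_add, mul_add, mul_add, map_add, ha, hb, add_zero]
      | monomial m c =>
        rw [Polynomial.aeval_monomial, ← Algebra.smul_def, mul_smul_comm, mul_smul_comm, map_smul,
          ← pow_add, htr', smul_zero]
    rw [hvdec, mul_add, mul_smul_comm, map_add, map_smul, h2, add_zero, smul_eq_mul, htr]
    refine mul_ne_zero ha fun h0 => ?_
    have h6 := six_mul_sum (k := k) (s + 1)
    have h0' : ∑ i ∈ Finset.range (s + 1), ((i : k) * ((i : k) - ((s + 1 : ℕ) : k))) = 0 := by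
      rw [← neg_eq_zero, ← Finset.sum_neg_distrib, ← h0]
      exact Finset.sum_congr rfl fun i _ => by push_cast; ring
    rw [h0', mul_zero, eq_comm, neg_eq_zero] at h6
    have h' : (((s + 1) * (s + 1 + 1) * s : ℕ) : k) = 0 := by
      push_cast at h6 ⊢
      linear_combination h6
    rcases (Nat.Prime.dvd_mul hp.out).1 ((CharP.cast_eq_zero_iff k p _).1 h') with h | h
    · rcases (Nat.Prime.dvd_mul hp.out).1 h with h | h
      · have := Nat.le_of_dvd (by omega) h; omega
      · have := Nat.le_of_dvd (by omega) h; omega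
    · have := Nat.le_of_dvd (by omega) h; omega
  have hnot : v ∉ LinearMap.range (tau σ x ^ (2 + 1)) := fun hmem => by
    rw [hσ, range_tau_conjAction_pow, ← hX] at hmem
    obtain ⟨T, hT⟩ := hmem
    refine htrv ?_
    have hD : ∀ S R : Module.End k W,
        LinearMap.trace k W (S * adOp X R) = -LinearMap.trace k W (adOp X S * R) := fun S R => by
      simp only [adOp_apply, mul_sub, sub_mul, map_sub, ← mul_assoc]
      rw [LinearMap.trace_mul_cycle k S R X]
      ring
    have hB3 : adOp X (adOp X (adOp X B)) = 0 := by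
      rw [hB, map_smul, adOp_apply, mul_assoc X π, ← hπc.eq, sub_self, smul_zero]
    rw [← hT, pow_succ', pow_succ', pow_one, Module.End.mul_apply, Module.End.mul_apply, hD, hD, hD,
      hB3, zero_mul, map_zero]
    simp
  obtain ⟨Y, hY⟩ := exists_partner hnil
  have hlayer : v ∈ layer σ x 2 := by
    have hadv : adOp X v = 0 := by
      have hc : Commute X (Polynomial.aeval X q) := by
        simpa using ((Commute.all (Polynomial.X : Polynomial k) q).map (Polynomial.aeval X))
      rw [adOp_apply, ← hq, mul_assoc X (Polynomial.aeval X q) X, ← hc.eq, sub_self]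
    refine ⟨?_, ?_⟩
    · rw [SetLike.mem_coe, LinearMap.mem_ker, hσ, tau_conjAction, LinearMap.comp_apply,
        LinearMap.mulRight_apply, ← hX]
      have hc' : Commute X (ρ x⁻¹) := (comm_tau ρ (Commute.refl x).inv_left).symm
      rw [adOp_apply, mul_assoc v, ← hc'.eq, ← mul_assoc, ← mul_assoc, ← sub_mul, ← adOp_apply, hadv,
        zero_mul]
    · rw [SetLike.mem_coe, hσ, range_tau_conjAction_pow, ← hX]
      have h2 : (2 : k) ≠ 0 := two_ne_zero' (p := p) (by omega)
      refine ⟨Polynomial.aeval X q * ((-(2 : k))⁻¹ • Y), ?_⟩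
      have hc : Commute X (Polynomial.aeval X q) := by
        simpa using ((Commute.all (Polynomial.X : Polynomial k) q).map (Polynomial.aeval X))
      rw [sq, Module.End.mul_apply, adOp_mul_of_commute hc, adOp_mul_of_commute hc, map_smul, map_smul,
        hY, smul_smul, inv_mul_cancel₀ (neg_ne_zero.2 h2), one_smul, ← hc.eq, hq]
  obtain ⟨M, w, hM, hjw, hspan, hli, hz, -⟩ := exists_submodule_of_eigen σ hx hsq hτ hlayer hnot heig
  let b : Module.Basis (Fin 3) k M :=
    (Module.Basis.span hli).map (LinearEquiv.ofEq _ _ hspan.symm)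
  let σM : G →* Module.End k M :=
    { toFun := fun g => (σ g).restrict (hM g)
      map_one' := LinearMap.ext fun A => Subtype.ext (by simp)
      map_mul' := fun g h => LinearMap.ext fun A => Subtype.ext (by
        change σ (g * h) (A : Module.End k W) = σ g (σ h (A : Module.End k W))
        rw [map_mul, Module.End.mul_apply]) }
  refine ⟨((LinearMap.toMatrixAlgEquiv b).toMulEquiv.toMonoidHom).comp σM, ?_, ?_⟩
  · have hb : ∀ i, ((b i : M) : Module.End k W) = (tau σ x ^ (i : ℕ)) w := fun i => by
      simp [b, Module.Basis.span_apply]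
    ext i l
    change LinearMap.toMatrix b b (σM x) i l = _
    rw [LinearMap.toMatrix_apply, Matrix.add_apply]
    have hσ' : σM x (b l) = if h : (l : ℕ) + 1 < 3 then b l + b ⟨(l : ℕ) + 1, h⟩ else b l := by
      refine Subtype.ext ?_
      change σ x ((b l : M) : Module.End k W) = _
      have hx1 : σ x ((b l : M) : Module.End k W) =
          (b l : Module.End k W) + tau σ x (b l : Module.End k W) := by simp [tau]
      rw [hx1, hb l, ← Module.End.mul_apply, ← pow_succ']
      split_ifs with h
      · rw [Submodule.coe_add, hb, hb]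
      · rw [show (l : ℕ) + 1 = 2 + 1 by have := l.2; omega, hz, add_zero, hb]
    rw [hσ']
    fin_cases l <;> fin_cases i <;> simp [lower, Matrix.one_apply]
  · rintro g ⟨c, hc⟩
    have hvM : v ∈ M := by
      rw [hspan, ← hjw]
      exact Submodule.subset_span ⟨2, by simp⟩
    have hgv : σ g v = c • v := by
      have h1 : σM g = c • 1 := (LinearMap.toMatrixAlgEquiv b).injective (by
        rw [map_smul, map_one]; exact hc)
      exact congrArg Subtype.val (LinearMap.congr_fun h1 ⟨v, hvM⟩)
    -- `X` is a polynomial in `v`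
    have hmodv : ∀ i : ℕ, ∃ P r : Polynomial k,
        X = Polynomial.aeval v P + X ^ (i + 1) * Polynomial.aeval X r := fun i => by
      induction i with
      | zero => exact ⟨0, 1, by simp⟩
      | succ i ih =>
        obtain ⟨P, r, hPr⟩ := ih
        have hvpow : v ^ (i + 1) = X ^ (i + 1) * Polynomial.aeval X (q ^ (i + 1)) := by
          rw [← hq, map_pow, Commute.mul_pow]
          simpa using ((Commute.all (Polynomial.X : Polynomial k) q).map (Polynomial.aeval X))
        have hne : (q ^ (i + 1)).coeff 0 ≠ 0 := by
          rw [Polynomial.coeff_zero_eq_eval_zero, Polynomial.eval_pow, ← Polynomial.coeff_zero_eq_eval_zero]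
          exact pow_ne_zero _ ha
        set c' := r.coeff 0 / (q ^ (i + 1)).coeff 0 with hc'
        set r' := r - Polynomial.C c' * q ^ (i + 1) with hr'def
        have hr'0 : r'.coeff 0 = 0 := by
          rw [hr'def, Polynomial.coeff_sub, Polynomial.coeff_C_mul, hc', div_mul_cancel₀ _ hne, sub_self]
        refine ⟨P + Polynomial.C c' * Polynomial.X ^ (i + 1), r'.divX, ?_⟩
        have hr : r = Polynomial.X * r'.divX + Polynomial.C c' * q ^ (i + 1) := by
          have h0 := r'.X_mul_divX_add
          rw [hr'0, map_zero, add_zero] at h0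
          rw [h0, hr'def, sub_add_cancel]
        conv_lhs => rw [hPr, hr]
        have e2 : X ^ (i + 1 + 1) = X ^ (i + 1) * X := pow_succ X (i + 1)
        rw [e2, map_add, map_mul, map_mul, Polynomial.aeval_C, Polynomial.aeval_X, mul_add,
          ← Algebra.smul_def, mul_smul_comm, ← hvpow, map_add, map_mul, map_pow, Polynomial.aeval_X,
          Polynomial.aeval_C, ← Algebra.smul_def, mul_assoc]
        abel
    obtain ⟨P, r, hPr⟩ := hmodv (finrank k W)
    rw [pow_eq_zero_of_le (Nat.le_succ _) hXm, zero_mul, add_zero] at hPr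
    have hgP : ∀ P : Polynomial k, σ g (Polynomial.aeval v P) =
        Polynomial.aeval (c • v) P := fun P => by
      induction P using Polynomial.induction_on' with
      | add a b ha hb => simp only [map_add, ha, hb]
      | monomial m a =>
        rw [Polynomial.aeval_monomial, Polynomial.aeval_monomial, ← Algebra.smul_def, ← Algebra.smul_def,
          map_smul]
        congr 1
        induction m with
        | zero => rw [pow_zero, pow_zero, conjAction_apply, one_mul, ← map_mul, mul_inv_cancel, map_one]
        | succ m ih => rw [pow_succ, pow_succ, conjAction_mul, ih, hgv]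
    have hcv : Commute v X := by
      rw [← hq]
      refine (Commute.refl X).mul_left ?_
      simpa using ((Commute.all q (Polynomial.X : Polynomial k)).map (Polynomial.aeval X))
    have hall : ∀ P : Polynomial k, Commute (Polynomial.aeval (c • v) P) X := fun P => by
      induction P using Polynomial.induction_on' with
      | add a b ha hb => rw [map_add]; exact ha.add_left hb
      | monomial m a =>
        rw [Polynomial.aeval_monomial]
        exact (Algebra.commute_algebraMap_left a X).mul_left ((hcv.smul_left c).pow_left m)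
    have h := hall P
    rw [← hgP, ← hPr, conjAction_apply, ← mul_assoc] at h
    exact h

end CfsgLib.Block.SmallBlock
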