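import Mathlib

/-!
Small Jordan blocks of a self-centralizing element of prime order in a modular representation.

If `x` has order `p`, `⟨x⟩` is self-centralizing with cyclic action of its normalizer, and
`(ρ x - 1)^(p-1) = 0`, then every Jordan block size occurring for `ρ x` is the dimension of a
`G`-invariant subspace on which `ρ x` is a single block.
-/

set_option autoImplicit false

namespace CfsgLib.Block.SmallBlock

open Module

universe u v w

section orbit

variable {k : Type v} [Field k] {p : ℕ} [hp : Fact p.Prime] [CharP k p]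
  {W : Type w} [AddCommGroup W] [Module k W]

/-- `∑_{i<p} X^i = (X-1)^(p-1)` in characteristic `p`. -/
theorem geom_sum_eq (X : Module.End k W) :
    ∑ i ∈ Finset.range p, X ^ i = (X - 1) ^ (p - 1) := by
  have h : (∑ i ∈ Finset.range p, (Polynomial.X : Polynomial k) ^ i) =
      (Polynomial.X - 1) ^ (p - 1) := by
    have hp1 := hp.out.one_lt
    refine mul_right_cancel₀ (b := (Polynomial.X - 1 : Polynomial k))
      (Polynomial.X_sub_C_ne_zero 1) ?_
    rw [geom_sum_mul, ← pow_succ, Nat.sub_add_cancel hp1.le, sub_pow_char, one_pow]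
  have h1 := congrArg (Polynomial.aeval X) h
  simpa using h1

end orbit

variable {G : Type u} [Group G] [Finite G] {k : Type v} [Field k] [IsAlgClosed k] {p : ℕ}
  [hp : Fact p.Prime] [CharP k p] {W : Type w} [AddCommGroup W] [Module k W] [FiniteDimensional k W]
  (ρ : G →* Module.End k W) {x : G}

/-- The nilpotent operator of `x`. -/
def tau (x : G) : Module.End k W := ρ x - 1

theorem comm_tau {g : G} (h : Commute g x) : Commute (ρ g) (tau ρ x) :=
  ((h.map ρ).sub_right (Commute.one_right _))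

theorem inv_apply (g : G) (u : W) : ρ g⁻¹ (ρ g u) = u := by
  rw [← Module.End.mul_apply, ← map_mul, inv_mul_cancel, map_one, Module.End.one_apply]

theorem apply_inv (g : G) (u : W) : ρ g (ρ g⁻¹ u) = u := by
  rw [← Module.End.mul_apply, ← map_mul, mul_inv_cancel, map_one, Module.End.one_apply]

theorem apply_eq_self_of_tau {u : W} (h : tau ρ x u = 0) {g : G} (hg : g ∈ Subgroup.zpowers x) :
    ρ g u = u := by
  have h1 : ∀ i : ℕ, ρ (x ^ i) u = u := fun i => by
    induction i with
    | zero => rw [pow_zero, map_one, Module.End.one_apply]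
    | succ i ih =>
      rw [pow_succ, map_mul, Module.End.mul_apply]
      have : ρ x u = u := sub_eq_zero.1 h
      rw [this, ih]
  obtain ⟨i, rfl⟩ := mem_powers_iff_mem_zpowers.2 hg
  exact h1 i

/-- Conjugates of `τ` by normalizing elements are multiples of `τ`. -/
theorem exists_conj_tau {n : G} (hn : n * x * n⁻¹ ∈ Subgroup.zpowers x) :
    ∃ S : Module.End k W, Commute S (tau ρ x) ∧ ρ n * tau ρ x = S * tau ρ x * ρ n := by
  obtain ⟨r, hr : x ^ r = n * x * n⁻¹⟩ := mem_powers_iff_mem_zpowers.2 hn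
  refine ⟨∑ i ∈ Finset.range r, ρ x ^ i,
    Commute.sum_left _ _ _ fun i _ => (comm_tau ρ (Commute.refl x)).pow_left i, ?_⟩
  rw [tau, geom_sum_mul, ← map_pow, hr, sub_mul, one_mul, mul_sub, mul_one, ← map_mul, ← map_mul,
    inv_mul_cancel_right]

theorem mem_inv_conj {n : G} (hn : n ∈ Subgroup.normalizer ((Subgroup.zpowers x : Subgroup G) : Set G)) :
    n * x * n⁻¹ ∈ Subgroup.zpowers x ∧ n⁻¹ * x * n ∈ Subgroup.zpowers x := by
  refine ⟨(Subgroup.mem_normalizer_iff.1 hn x).1 (Subgroup.mem_zpowers x), ?_⟩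
  have h := (Subgroup.mem_normalizer_iff.1 (Subgroup.inv_mem _ hn) x).1 (Subgroup.mem_zpowers x)
  simpa using h

/-- Kernel of `τ` in the image of `τ^j`. -/
def layer (x : G) (j : ℕ) : Submodule k W :=
  LinearMap.ker (tau ρ x) ⊓ LinearMap.range (tau ρ x ^ j)

theorem layer_invariant {n : G} (hn : n * x * n⁻¹ ∈ Subgroup.zpowers x)
    (hn' : n⁻¹ * x * n ∈ Subgroup.zpowers x) (j : ℕ) {u : W} (hu : u ∈ layer ρ x j) :
    ρ n u ∈ layer ρ x j := by
  obtain ⟨h1, h2⟩ := hu
  refine ⟨?_, ?_⟩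
  · rw [SetLike.mem_coe, LinearMap.mem_ker] at h1 ⊢
    obtain ⟨S, -, hS⟩ := exists_conj_tau ρ (n := n⁻¹) (by simpa using hn')
    have h : ρ n⁻¹ (tau ρ x (ρ n u)) = 0 := by
      rw [← Module.End.mul_apply, hS, Module.End.mul_apply, Module.End.mul_apply, inv_apply, h1,
        map_zero]
    rw [← apply_inv ρ n (tau ρ x (ρ n u)), h, map_zero]
  · obtain ⟨w, hw⟩ := h2
    obtain ⟨S, hc, hS⟩ := exists_conj_tau ρ hn
    have h : ∀ i, ρ n * tau ρ x ^ i = S ^ i * tau ρ x ^ i * ρ n := fun i => by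
      induction i with
      | zero => simp
      | succ i ih =>
        calc ρ n * tau ρ x ^ (i + 1) = (ρ n * tau ρ x ^ i) * tau ρ x := by rw [pow_succ, mul_assoc]
          _ = S ^ i * tau ρ x ^ i * (ρ n * tau ρ x) := by rw [ih]; simp only [mul_assoc]
          _ = S ^ i * (tau ρ x ^ i * S) * tau ρ x * ρ n := by rw [hS]; simp only [mul_assoc]
          _ = _ := by
            rw [← (hc.pow_right i).eq, pow_succ, pow_succ]; simp only [mul_assoc]
    refine ⟨(S ^ j) (ρ n w), ?_⟩
    have h' := LinearMap.congr_fun (h j) w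
    simp only [Module.End.mul_apply] at h'
    rw [← hw, h', ← Module.End.mul_apply, ← Module.End.mul_apply, (hc.pow_pow j j).eq.symm]
    rfl

variable (hx : orderOf x = p) (hsq : ¬ p ^ 2 ∣ Nat.card G)
include hx hsq

omit [IsAlgClosed k] [CharP k p] [FiniteDimensional k W] hsq in
/-- The normalizer acts on `⟨x⟩` through a cyclic group of order prime to `p`. -/
theorem exists_generator_centralizer :
    ∃ (y : G) (E : ℕ), ¬ p ∣ E ∧ y ^ E ∈ Subgroup.centralizer ({x} : Set G) ∧
      y ∈ Subgroup.normalizer ((Subgroup.zpowers x : Subgroup G) : Set G) ∧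
      ∀ n ∈ Subgroup.normalizer ((Subgroup.zpowers x : Subgroup G) : Set G),
        ∃ i : ℕ, (y ^ i)⁻¹ * n ∈ Subgroup.centralizer ({x} : Set G) := by
  set H := Subgroup.zpowers x
  set N := Subgroup.normalizer (H : Set G)
  have hH : Nat.card H = p := by rw [Nat.card_zpowers, hx]
  have hcyc : IsCyclic H := isCyclic_of_prime_card hH
  let φ : N →* MulAut H := Subgroup.normalizerMonoidHom H
  have hker : ∀ n : N, φ n = 1 ↔ (n : G) ∈ Subgroup.centralizer ({x} : Set G) := fun n => by
    rw [← MonoidHom.mem_ker, Subgroup.normalizerMonoidHom_ker, Subgroup.mem_subgroupOf,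
      show (n : G) ∈ Subgroup.centralizer (H : Set G) ↔ (n : G) ∈ Subgroup.centralizer ({x} : Set G) by
        rw [← Subgroup.centralizer_closure ({x} : Set G), ← Subgroup.zpowers_eq_closure]]
  have : IsCyclic (MulAut H) := by
    haveI : Fact (Nat.card H).Prime := ⟨hH.symm ▸ hp.out⟩
    exact isCyclic_of_surjective ((IsCyclic.mulAutMulEquiv H).symm.toMonoidHom)
      ((IsCyclic.mulAutMulEquiv H).symm.surjective)
  obtain ⟨⟨a, y, rfl⟩, hy⟩ := IsCyclic.exists_generator (α := φ.range)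
  refine ⟨y, orderOf (φ y), fun hd => ?_, ?_, y.2, fun n hn => ?_⟩
  · have h1 : orderOf (φ y) ∣ Nat.card (MulAut H) := orderOf_dvd_natCard _
    rw [IsCyclic.card_mulAut, hH, Nat.totient_prime hp.out] at h1
    have h2 := Nat.le_of_dvd (by have := hp.out.two_le; omega) (hd.trans h1)
    have := hp.out.two_le
    omega
  · exact (hker (y ^ orderOf (φ y))).1 (by rw [map_pow, pow_orderOf_eq_one])
  · obtain ⟨i, hi⟩ := mem_powers_iff_mem_zpowers.2 (hy ⟨φ ⟨n, hn⟩, MonoidHom.mem_range.2 ⟨_, rfl⟩⟩)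
    refine ⟨i, (hker ((y ^ i)⁻¹ * ⟨n, hn⟩)).1 ?_⟩
    have h1 : φ y ^ i = φ ⟨n, hn⟩ := congrArg Subtype.val hi
    rw [map_mul, map_inv, map_pow, h1, inv_mul_cancel]

/-- An eigenvector for the normalizer in an invariant subspace on which the centralizer acts by
scalars, outside an invariant subspace. -/
theorem exists_eigen_of_scalar {U B : Submodule k W}
    (hU : ∀ n ∈ Subgroup.normalizer ((Subgroup.zpowers x : Subgroup G) : Set G), ∀ u ∈ U, ρ n u ∈ U)
    (hscal : ∀ c ∈ Subgroup.centralizer ({x} : Set G), ∃ a : k, ∀ u ∈ U, ρ c u = a • u)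
    (hUB : ¬ U ≤ B) :
    ∃ v ∈ U, v ∉ B ∧ ∀ n ∈ Subgroup.normalizer ((Subgroup.zpowers x : Subgroup G) : Set G),
      ∃ c : k, ρ n v = c • v := by
  obtain ⟨y, E, hE, hyE, hyN, hgen⟩ := exists_generator_centralizer hx
  let Y : Module.End k U := (ρ y).restrict fun u hu => hU y hyN u hu
  have hYpow : ∀ (i : ℕ) (u : U), ((Y ^ i) u : W) = ρ (y ^ i) (u : W) := fun i => by
    induction i with
    | zero => intro u; simp
    | succ i ih =>
      intro u
      rw [pow_succ, pow_succ, Module.End.mul_apply, ih, map_mul, Module.End.mul_apply]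
      rfl
  obtain ⟨a, ha⟩ := hscal _ hyE
  have hY : Y ^ E = algebraMap k (Module.End k U) a := LinearMap.ext fun u => Subtype.ext (by
    rw [hYpow, ha _ u.2, Module.algebraMap_end_apply, Submodule.coe_smul])
  obtain ⟨u, hu, hu'⟩ := SetLike.not_le_iff_exists.1 hUB
  have hu0 : (u : W) ≠ 0 := fun h => hu' (h ▸ B.zero_mem)
  have ha0 : a ≠ 0 := fun h0 => hu0 (by
    have h1 := ha u hu
    rw [h0, zero_smul] at h1
    rw [← inv_apply ρ (y ^ E) u, h1, map_zero])
  have hEk : (E : k) ≠ 0 := fun h => hE ((CharP.cast_eq_zero_iff k p E).1 h)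
  have hss : Y.IsSemisimple := by
    refine Module.End.isSemisimple_of_squarefree_aeval_eq_zero
      (p := Polynomial.X ^ E - Polynomial.C a) ?_ (by simp [hY])
    exact (Polynomial.separable_X_pow_sub_C (a : k) hEk ha0).squarefree
  have htop : ⨆ μ, Y.eigenspace μ = ⊤ := by
    rw [← Module.End.iSup_maxGenEigenspace_eq_top Y]
    exact iSup_congr fun μ => (hss.isFinitelySemisimple.maxGenEigenspace_eq_eigenspace μ).symm
  obtain ⟨μ, hμ⟩ : ∃ μ, ¬ Y.eigenspace μ ≤ B.comap U.subtype := by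
    by_contra hall
    push Not at hall
    exact hu' ((htop ▸ iSup_le hall : (⊤ : Submodule k U) ≤ _) (Submodule.mem_top (x := ⟨u, hu⟩)))
  obtain ⟨v, hv, hv'⟩ := SetLike.not_le_iff_exists.1 hμ
  refine ⟨v, v.2, hv', fun n hn => ?_⟩
  obtain ⟨i, hi⟩ := hgen n hn
  have hY' : ρ y (v : W) = μ • (v : W) := congrArg Subtype.val (Module.End.mem_eigenspace_iff.1 hv)
  have hpow : ∀ l : ℕ, ρ (y ^ l) (v : W) = μ ^ l • (v : W) := fun l => by
    induction l with
    | zero => simp
    | succ l ih => rw [pow_succ, map_mul, Module.End.mul_apply, hY', map_smul, ih, smul_smul, pow_succ']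
  obtain ⟨b, hb⟩ := hscal _ hi
  have hn' := hb _ v.2
  refine ⟨b * μ ^ i, ?_⟩
  rw [← apply_inv ρ (y ^ i) (ρ n (v : W)), ← Module.End.mul_apply (ρ (y ^ i)⁻¹), ← map_mul, hn', map_smul,
    hpow, smul_smul]

/-- A transfer from a subgroup of prime order, on fixed vectors. -/
theorem exists_endo_of_eigen (hτ : tau ρ x ^ (p - 1) = 0) {j : ℕ} {v : W} (hv : v ∈ layer ρ x j)
    (hv' : v ∉ LinearMap.range (tau ρ x ^ (j + 1)))
    (heig : ∀ n ∈ Subgroup.normalizer ((Subgroup.zpowers x : Subgroup G) : Set G),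
      ∃ c : k, ρ n v = c • v) :
    ∃ (F : Module.End k W) (κ : k), κ ≠ 0 ∧ (∀ g, Commute (ρ g) F) ∧ F v = κ • v ∧
      ∀ u, tau ρ x u = 0 → F u ∈ k ∙ v := by
  classical
  set τ := tau ρ x
  set H := Subgroup.zpowers x
  obtain ⟨hvker, w₀, hw₀⟩ := hv
  have hvker' : τ v = 0 := hvker
  obtain ⟨φ₀, hφv₀, hφ₀⟩ := Submodule.exists_dual_map_eq_bot_of_notMem hv' inferInstance
  set φ : Module.Dual k W := (φ₀ v)⁻¹ • φ₀
  have hφv : φ v = 1 := by simp [φ, inv_mul_cancel₀ hφv₀]
  have hφ : ∀ u, φ ((τ ^ (j + 1)) u) = 0 := fun u => by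
    have : φ₀ ((τ ^ (j + 1)) u) = 0 := by
      have := Submodule.mem_map_of_mem (f := φ₀) (LinearMap.mem_range_self (τ ^ (j + 1)) u)
      rw [hφ₀] at this
      exact (Submodule.mem_bot k).1 this
    simp [φ, this]
  have hw1 : (τ ^ (j + 1)) w₀ = 0 := by rw [pow_succ', Module.End.mul_apply, hw₀, hvker']
  let f : Module.End k W :=
    ∑ i ∈ Finset.range (j + 1), LinearMap.smulRight (φ ∘ₗ (τ ^ (j - i))) ((τ ^ i) w₀)
  have hfapp : ∀ u, f u = ∑ i ∈ Finset.range (j + 1), φ ((τ ^ (j - i)) u) • (τ ^ i) w₀ := fun u => by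
    simp [f, LinearMap.sum_apply]
  have hfτ : Commute f τ := LinearMap.ext fun u => by
    rw [Module.End.mul_apply, Module.End.mul_apply, hfapp, hfapp, map_sum]
    simp only [map_smul, ← Module.End.mul_apply, ← pow_succ, ← pow_succ']
    rw [Finset.sum_range_succ', Finset.sum_range_succ (n := j), hw1, smul_zero, add_zero,
      Nat.sub_zero, hφ, zero_smul, add_zero]
    refine Finset.sum_congr rfl fun i hi => ?_
    rw [show j - (i + 1) + 1 = j - i by have := Finset.mem_range.1 hi; omega]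
  have hfx : ∀ h ∈ H, Commute (ρ h) f := by
    intro h hh
    obtain ⟨i, rfl⟩ := mem_powers_iff_mem_zpowers.2 hh
    rw [map_pow]
    refine Commute.pow_left ?_ i
    have h := (hfτ.symm.add_left (Commute.one_left f))
    rwa [show τ + 1 = ρ x from sub_add_cancel _ _] at h
  have hfker : ∀ u, τ u = 0 → f u = φ u • v := fun u hu => by
    rw [hfapp, Finset.sum_range_succ, Nat.sub_self, pow_zero, Module.End.one_apply, hw₀,
      Finset.sum_eq_zero, zero_add]
    intro i hi
    rw [show j - i = (j - i - 1) + 1 by have := Finset.mem_range.1 hi; omega, pow_succ,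
      Module.End.mul_apply, hu, map_zero, map_zero, zero_smul]
  let Φ : G ⧸ H → Module.End k W := Quotient.lift (fun g => ρ g * f * ρ g⁻¹) fun a b hab => by
    have hab' : a⁻¹ * b ∈ H := QuotientGroup.leftRel_apply.1 hab
    calc ρ a * f * ρ a⁻¹ = ρ a * f * (ρ (a⁻¹ * b) * ρ b⁻¹) := by
          rw [← map_mul, mul_assoc a⁻¹, mul_inv_cancel, mul_one]
      _ = ρ a * (f * ρ (a⁻¹ * b)) * ρ b⁻¹ := by simp only [mul_assoc]
      _ = ρ a * ρ (a⁻¹ * b) * f * ρ b⁻¹ := by rw [← (hfx _ hab').eq]; simp only [mul_assoc]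
      _ = ρ b * f * ρ b⁻¹ := by rw [← map_mul, mul_inv_cancel_left]
  have hΦ : ∀ (g : G) (c : G ⧸ H), Φ (g • c) = ρ g * Φ c * ρ g⁻¹ := fun g c => by
    induction c using QuotientGroup.induction_on with
    | H a =>
      change ρ (g * a) * f * ρ (g * a)⁻¹ = ρ g * (ρ a * f * ρ a⁻¹) * ρ g⁻¹
      rw [mul_inv_rev, map_mul, map_mul]
      simp only [mul_assoc]
  have := Fintype.ofFinite (G ⧸ H)
  set F : Module.End k W := ∑ c, Φ c
  have hFG : ∀ g, Commute (ρ g) F := fun g => by
    show ρ g * F = F * ρ g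
    simp only [F, Finset.mul_sum, Finset.sum_mul]
    refine Fintype.sum_equiv (MulAction.toPerm g) _ _ fun c => ?_
    rw [MulAction.toPerm_apply, hΦ, mul_assoc, ← map_mul, inv_mul_cancel, map_one, mul_one]
  set Fix := Finset.univ.filter fun c : G ⧸ H => x • c = c with hFix
  have hfree : ∀ u, τ u = 0 → F u = ∑ c ∈ Fix, Φ c u := fun u hu => by
    have hxu : ρ x u = u := sub_eq_zero.1 hu
    simp only [F, LinearMap.sum_apply, Finset.sum_filter, hFix]
    rw [← sub_eq_zero, ← Finset.sum_sub_distrib]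
    let K := Subgroup.zpowers x
    have := Fintype.ofFinite (MulAction.orbitRel.Quotient K (G ⧸ H))
    rw [← (MulAction.selfEquivSigmaOrbits K (G ⧸ H)).symm.sum_comp, Fintype.sum_sigma]
    refine Finset.sum_eq_zero fun q _ => ?_
    set d : G ⧸ H → W := fun c => Φ c u - if x • c = c then Φ c u else 0
    change ∑ c : MulAction.orbit K q.out, d c = 0
    generalize q.out = c₀
    by_cases hc₀ : x • c₀ = c₀
    · refine Finset.sum_eq_zero fun c _ => ?_
      obtain ⟨⟨a, ha⟩, hac⟩ := MulAction.mem_orbit_iff.1 c.2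
      have hs : a • c₀ = c₀ := by
        have : Subgroup.zpowers x ≤ MulAction.stabilizer G c₀ := Subgroup.zpowers_le.2 hc₀
        exact this ha
      have hcc : (c : G ⧸ H) = c₀ := hac.symm.trans hs
      simp only [d, hcc, hc₀, if_true, sub_self]
    · let π : Fin p → MulAction.orbit K c₀ := fun i => ⟨x ^ (i : ℕ) • c₀,
        ⟨⟨x ^ (i : ℕ), Subgroup.npow_mem_zpowers x i⟩, rfl⟩⟩
      have hdvd : ∀ m : ℕ, x ^ m • c₀ = c₀ → p ∣ m := fun m hm => by
        by_contra hnd
        have hg : Subgroup.zpowers (x ^ m) = Subgroup.zpowers x := by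
          refine Subgroup.eq_of_le_of_card_ge (Subgroup.zpowers_le.2 (Subgroup.npow_mem_zpowers x m)) ?_
          rw [Nat.card_zpowers, Nat.card_zpowers, Nat.Coprime.orderOf_pow
            (by rw [hx]; exact (hp.out.coprime_iff_not_dvd.2 hnd)), hx]
        exact hc₀ ((Subgroup.zpowers_le.2 hm : Subgroup.zpowers (x ^ m) ≤ MulAction.stabilizer G c₀)
          (hg ▸ Subgroup.mem_zpowers x))
      have hπ : Function.Bijective π := by
        constructor
        · have key : ∀ i l : Fin p, (i : ℕ) ≤ l → π i = π l → i = l := fun i l hil h => by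
            have h1 : x ^ (i : ℕ) • c₀ = x ^ (l : ℕ) • c₀ := congrArg Subtype.val h
            rw [← Nat.add_sub_of_le hil, pow_add, mul_smul] at h1
            have h2 := hdvd _ (MulAction.injective (x ^ (i : ℕ)) h1).symm
            refine Fin.ext ?_
            rcases Nat.eq_zero_or_pos ((l : ℕ) - i) with h0 | h0
            · omega
            · have := Nat.le_of_dvd h0 h2
              have := l.2
              omega
          intro i l h
          rcases le_total (i : ℕ) l with hil | hil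
          exacts [key i l hil h, (key l i hil h.symm).symm]
        · intro c
          obtain ⟨⟨a, ha⟩, hac⟩ := MulAction.mem_orbit_iff.1 c.2
          obtain ⟨m, rfl⟩ := mem_powers_iff_mem_zpowers.2 ha
          refine ⟨⟨m % p, Nat.mod_lt _ hp.out.pos⟩, Subtype.ext ?_⟩
          simp only [π]
          rw [← hx, pow_mod_orderOf]
          exact hac
      rw [← hπ.sum_comp]
      have hd : ∀ i : Fin p, d (π i) = (ρ x ^ (i : ℕ)) (Φ c₀ u) := fun i => by
        simp only [d, π]
        rw [if_neg, sub_zero, hΦ, Module.End.mul_apply, Module.End.mul_apply, map_pow,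
          apply_eq_self_of_tau ρ hu (Subgroup.inv_mem _ (Subgroup.npow_mem_zpowers x _))]
        intro h
        refine hc₀ ?_
        rw [← mul_smul, ← pow_succ', pow_succ, mul_smul] at h
        exact MulAction.injective (x ^ (i : ℕ)) h
      simp only [hd]
      rw [Fin.sum_univ_eq_sum_range (fun i => (ρ x ^ i) (Φ c₀ u)), ← LinearMap.sum_apply,
        geom_sum_eq, show ρ x - 1 = τ from rfl, hτ, LinearMap.zero_apply]
  have hfixmem : ∀ c ∈ Fix, ∃ n ∈ Subgroup.normalizer (H : Set G), Φ c = ρ n * f * ρ n⁻¹ := by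
    intro c hc
    induction c using QuotientGroup.induction_on with
    | H a =>
      refine ⟨a, ?_, rfl⟩
      have h1 : (x • (a : G ⧸ H)) = a := (Finset.mem_filter.1 hc).2
      rw [MulAction.Quotient.smul_coe, smul_eq_mul, QuotientGroup.eq] at h1
      have h2 : a⁻¹ * x * a ∈ H := by
        have := H.inv_mem h1
        simpa [mul_assoc] using this
      refine Subgroup.mem_normalizer_iff'.2 fun g => ?_
      have hle : H.map (MulAut.conj a⁻¹).toMonoidHom = H := by
        refine Subgroup.eq_of_le_of_card_ge ?_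
          (Nat.card_congr (H.equivMapOfInjective _ (MulAut.conj a⁻¹).injective).toEquiv).le
        rw [MonoidHom.map_zpowers]
        exact Subgroup.zpowers_le.2 (by simpa using h2)
      constructor
      · intro hg
        rw [← hle] at hg
        obtain ⟨z, hz, hzg⟩ := hg
        have hza : z = a * g := by
          have h3 : a⁻¹ * z * a = g * a := by simpa using hzg
          calc z = a * (a⁻¹ * z * a) * a⁻¹ := by simp [mul_assoc]
            _ = a * g := by rw [h3]; simp [mul_assoc]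
        exact hza ▸ hz
      · intro hg
        rw [← hle]
        exact ⟨a * g, hg, by simp [mul_assoc]⟩
  refine ⟨F, (Fix.card : k), fun h => ?_, hFG, ?_, fun u hu => ?_⟩
  · have hcf : Fix.card = Nat.card (MulAction.fixedPoints (Subgroup.zpowers x) (G ⧸ H)) := by
      rw [Nat.card_eq_card_toFinset]
      refine congrArg Finset.card (Finset.ext fun c => ?_)
      simp only [hFix, Finset.mem_filter, Finset.mem_univ, true_and, Set.mem_toFinset,
        MulAction.mem_fixedPoints, Subtype.forall]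
      exact ⟨fun h a ha => (Subgroup.zpowers_le.2 h : Subgroup.zpowers x ≤ MulAction.stabilizer G c) ha,
        fun h => h x (Subgroup.mem_zpowers x)⟩
    have hpg : IsPGroup p (Subgroup.zpowers x) :=
      IsPGroup.of_card (n := 1) (by rw [Nat.card_zpowers, hx, pow_one])
    have h2 := hpg.card_modEq_card_fixedPoints (G ⧸ H)
    rw [← hcf, ← Subgroup.index_eq_card] at h2
    have h3 : p ∣ H.index := (Nat.ModEq.dvd_iff h2 dvd_rfl).2 ((CharP.cast_eq_zero_iff k p _).1 h)
    refine hsq ?_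
    rw [← H.card_mul_index, Nat.card_zpowers, hx, sq]
    exact Nat.mul_dvd_mul_left _ h3
  · rw [hfree v hvker', Finset.sum_congr rfl (g := fun _ => v) fun c hc => ?_, Finset.sum_const,
      Nat.cast_smul_eq_nsmul]
    obtain ⟨n, hn, hΦc⟩ := hfixmem c hc
    obtain ⟨a, ha⟩ := heig n⁻¹ (Subgroup.inv_mem _ hn)
    rw [hΦc, Module.End.mul_apply, Module.End.mul_apply, ha, map_smul, hfker v hvker', hφv, one_smul,
      map_smul, ← map_smul, ← ha, apply_inv]
  · rw [hfree u hu]
    refine Submodule.sum_mem _ fun c hc => ?_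
    obtain ⟨n, hn, hΦc⟩ := hfixmem c hc
    obtain ⟨hn1, hn2⟩ := mem_inv_conj (Subgroup.inv_mem _ hn)
    have hun : tau ρ x (ρ n⁻¹ u) = 0 :=
      (layer_invariant ρ hn1 hn2 0 (u := u) ⟨hu, u, rfl⟩).1
    obtain ⟨a, ha⟩ := heig n hn
    rw [hΦc, Module.End.mul_apply, Module.End.mul_apply, hfker _ hun, map_smul, ha]
    exact Submodule.smul_mem _ _ (Submodule.smul_mem _ _ (Submodule.mem_span_singleton_self v))

/-- An eigenvector in a layer gives an invariant subspace carrying one block. -/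
theorem exists_submodule_of_eigen (hτ : tau ρ x ^ (p - 1) = 0) {j : ℕ} {v : W} (hv : v ∈ layer ρ x j)
    (hv' : v ∉ LinearMap.range (tau ρ x ^ (j + 1)))
    (heig : ∀ n ∈ Subgroup.normalizer ((Subgroup.zpowers x : Subgroup G) : Set G),
      ∃ c : k, ρ n v = c • v) :
    ∃ (M : Submodule k W) (w : W), (∀ g, ∀ u ∈ M, ρ g u ∈ M) ∧ (tau ρ x ^ j) w = v ∧
      M = Submodule.span k (Set.range fun i : Fin (j + 1) => (tau ρ x ^ (i : ℕ)) w) ∧
      LinearIndependent k (fun i : Fin (j + 1) => (tau ρ x ^ (i : ℕ)) w) ∧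
      (tau ρ x ^ (j + 1)) w = 0 ∧ (tau ρ x ^ j) w ∉ LinearMap.range (tau ρ x ^ (j + 1)) ∧
      ∀ u ∈ M, tau ρ x u = 0 → u ∈ k ∙ (tau ρ x ^ j) w := by
  classical
  set τ := tau ρ x
  obtain ⟨F, κ, hκ, hFG, hFv, hFker⟩ := exists_endo_of_eigen ρ hx hsq hτ hv hv' heig
  obtain ⟨hvker, w₀, hw₀⟩ := hv
  obtain ⟨N, hN⟩ := Filter.eventually_atTop.1 F.eventually_isCompl_ker_pow_range_pow
  have hcompl := hN (N + 1) (by omega)
  set M := LinearMap.range (F ^ (N + 1))
  have hFτ : Commute τ F := (hFG x).sub_left (Commute.one_left F)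
  have hFM : ∀ g, ∀ u ∈ M, ρ g u ∈ M := by
    rintro g _ ⟨u, rfl⟩
    exact ⟨ρ g u, by rw [← Module.End.mul_apply, ← ((hFG g).pow_right (N + 1)).eq, Module.End.mul_apply]⟩
  have hFvm : ∀ m : ℕ, (F ^ m) v = κ ^ m • v := fun m => by
    induction m with
    | zero => simp
    | succ m ih => rw [pow_succ, Module.End.mul_apply, hFv, map_smul, ih, smul_smul, pow_succ']
  set w := (κ ^ (N + 1))⁻¹ • (F ^ (N + 1)) w₀
  have hwM : w ∈ M := Submodule.smul_mem _ _ (LinearMap.mem_range_self _ _)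
  have hτw : ∀ i, (τ ^ i) w = (κ ^ (N + 1))⁻¹ • (F ^ (N + 1)) ((τ ^ i) w₀) := fun i => by
    rw [map_smul, ← Module.End.mul_apply, (hFτ.pow_pow i (N + 1)).eq, Module.End.mul_apply]
  have hjw : (τ ^ j) w = v := by
    rw [hτw, hw₀, hFvm, inv_smul_smul₀ (pow_ne_zero _ hκ)]
  have hj1 : (τ ^ (j + 1)) w = 0 := by rw [pow_succ', Module.End.mul_apply, hjw]; exact hvker
  have hinj : ∀ u ∈ M, F u = 0 → u = 0 := fun u hu h0 => by
    have h1 : u ∈ LinearMap.ker (F ^ (N + 1)) := by
      rw [LinearMap.mem_ker, pow_succ, Module.End.mul_apply, h0, map_zero]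
    exact Submodule.disjoint_def.1 hcompl.disjoint u h1 hu
  have hline : ∀ u ∈ M, τ u = 0 → u ∈ k ∙ v := fun u hu hu0 => by
    obtain ⟨a, ha⟩ := Submodule.mem_span_singleton.1 (hFker u hu0)
    have hvM : v ∈ M := ⟨(κ ^ (N + 1))⁻¹ • v, by
      rw [map_smul, hFvm, inv_smul_smul₀ (pow_ne_zero _ hκ)]⟩
    have h1 := hinj (u - (a / κ) • v) (Submodule.sub_mem _ hu (Submodule.smul_mem _ _ hvM)) (by
      rw [map_sub, map_smul, hFv, smul_smul, div_mul_cancel₀ _ hκ, ha, sub_self])
    rw [sub_eq_zero] at h1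
    exact h1 ▸ Submodule.smul_mem _ _ (Submodule.mem_span_singleton_self v)
  have hτM : ∀ i, ∀ u ∈ M, (τ ^ i) u ∈ M := fun i => by
    rintro _ ⟨u, rfl⟩
    exact ⟨(τ ^ i) u, by
      rw [← Module.End.mul_apply, ← (hFτ.pow_pow i (N + 1)).eq, Module.End.mul_apply]⟩
  set S := Submodule.span k (Set.range fun i : Fin (j + 1) => (τ ^ (i : ℕ)) w)
  have hkill : ∀ i, ∀ u ∈ M, (τ ^ i) u = 0 → u ∈ S := fun i => by
    induction i with
    | zero => intro u _ h; rw [pow_zero, Module.End.one_apply] at h; simp [h]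
    | succ i ih =>
      intro u hu h
      obtain ⟨a, ha⟩ := Submodule.mem_span_singleton.1
        (hline _ (hτM i u hu) (by rwa [← Module.End.mul_apply, ← pow_succ']))
      by_cases hij : i ≤ j
      · have h1 := ih (u - a • (τ ^ (j - i)) w) (Submodule.sub_mem _ hu
          (Submodule.smul_mem _ _ (hτM _ w hwM))) (by
            rw [map_sub, map_smul, ← Module.End.mul_apply, ← pow_add, Nat.add_sub_of_le hij, hjw, ha,
              sub_self])
        have h2 : a • (τ ^ (j - i)) w ∈ S :=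
          Submodule.smul_mem _ _ (Submodule.subset_span ⟨⟨j - i, by omega⟩, rfl⟩)
        simpa using Submodule.add_mem _ h1 h2
      · refine ih u hu ?_
        by_contra hne
        have ha0 : a ≠ 0 := fun h0 => hne (by rw [← ha, h0, zero_smul])
        refine hv' ⟨(τ ^ (i - (j + 1))) (a⁻¹ • u), ?_⟩
        rw [← Module.End.mul_apply, ← pow_add, Nat.add_sub_of_le (by omega), map_smul, ← ha,
          inv_smul_smul₀ ha0]
  have hli : LinearIndependent k (fun i : Fin (j + 1) => (τ ^ (i : ℕ)) w) := by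
    rw [Fintype.linearIndependent_iff]
    intro c hc
    by_contra hne
    push Not at hne
    obtain ⟨i₀, hi₀, hmin⟩ := Finset.exists_min_image (Finset.univ.filter fun i => c i ≠ 0) id
      (by obtain ⟨i, hi⟩ := hne; exact ⟨i, by simp [hi]⟩)
    have h1 := congrArg (τ ^ (j - (i₀ : ℕ))) hc
    rw [map_sum, map_zero, Finset.sum_eq_single i₀, map_smul, ← Module.End.mul_apply, ← pow_add,
      Nat.sub_add_cancel (Nat.lt_succ_iff.1 i₀.2), hjw] at h1
    · rcases smul_eq_zero.1 h1 with h | h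
      · exact (Finset.mem_filter.1 hi₀).2 h
      · exact hv' (h ▸ Submodule.zero_mem _)
    · intro i _ hne'
      rw [map_smul, ← Module.End.mul_apply, ← pow_add]
      by_cases hci : c i = 0
      · rw [hci, zero_smul]
      · have hle : i₀ ≤ i := hmin i (by simp [hci])
        have hlt : (i₀ : ℕ) < (i : ℕ) := lt_of_le_of_ne hle (fun h => hne' (Fin.ext h.symm))
        have := Nat.lt_succ_iff.1 i₀.2
        rw [show j - (i₀ : ℕ) + i = ((i : ℕ) - (i₀ : ℕ) - 1) + (j + 1) by omega, pow_add,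
          Module.End.mul_apply, hj1, map_zero, smul_zero]
    · intro h; exact absurd (Finset.mem_univ i₀) h
  refine ⟨M, w, hFM, hjw, le_antisymm (fun u hu => hkill (p - 1) u hu (by rw [hτ, LinearMap.zero_apply]))
    (Submodule.span_le.2 ?_), hli, hj1, ?_, ?_⟩
  · rintro _ ⟨i, rfl⟩; exact hτM _ w hwM
  · rw [hjw]; exact hv'
  · intro u hu hu0; rw [hjw]; exact hline u hu hu0

variable (hC : Subgroup.centralizer ({x} : Set G) = Subgroup.zpowers x)
include hC

omit [IsAlgClosed k] [CharP k p] [FiniteDimensional k W] in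
/-- The normalizer acts on `ker τ` through a cyclic group of order prime to `p`. -/
theorem exists_generator :
    ∃ (y : G) (E : ℕ), ¬ p ∣ E ∧ y ^ E ∈ Subgroup.zpowers x ∧
      y ∈ Subgroup.normalizer ((Subgroup.zpowers x : Subgroup G) : Set G) ∧
      ∀ n ∈ Subgroup.normalizer ((Subgroup.zpowers x : Subgroup G) : Set G),
        ∃ i : ℕ, (y ^ i)⁻¹ * n ∈ Subgroup.zpowers x := by
  simpa only [← hC] using exists_generator_centralizer hx

/-- An eigenvector for the normalizer in a layer, outside the next layer. -/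
theorem exists_eigen (j : ℕ) (hA : ¬ layer ρ x j ≤ LinearMap.range (tau ρ x ^ (j + 1))) :
    ∃ v ∈ layer ρ x j, v ∉ LinearMap.range (tau ρ x ^ (j + 1)) ∧
      ∀ n ∈ Subgroup.normalizer ((Subgroup.zpowers x : Subgroup G) : Set G),
        ∃ c : k, ρ n v = c • v :=
  exists_eigen_of_scalar ρ hx hsq
    (fun _ hn _ hu => layer_invariant ρ (mem_inv_conj hn).1 (mem_inv_conj hn).2 j hu)
    (fun _ hc => ⟨1, fun u hu => by
      rw [one_smul]; exact apply_eq_self_of_tau ρ (LinearMap.mem_ker.1 hu.1) (hC ▸ hc)⟩) hA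

/-- A transfer from a self-centralizing subgroup of prime order, on fixed vectors. -/
theorem exists_endo (hτ : tau ρ x ^ (p - 1) = 0) {j : ℕ} {v : W} (hv : v ∈ layer ρ x j)
    (hv' : v ∉ LinearMap.range (tau ρ x ^ (j + 1)))
    (heig : ∀ n ∈ Subgroup.normalizer ((Subgroup.zpowers x : Subgroup G) : Set G),
      ∃ c : k, ρ n v = c • v) :
    ∃ (F : Module.End k W) (κ : k), κ ≠ 0 ∧ (∀ g, Commute (ρ g) F) ∧ F v = κ • v ∧
      ∀ u, tau ρ x u = 0 → F u ∈ k ∙ v :=
  exists_endo_of_eigen ρ hx hsq hτ hv hv' heig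

/-- A block size gives an invariant subspace carrying one block of that size. -/
theorem exists_submodule (hτ : tau ρ x ^ (p - 1) = 0) (j : ℕ)
    (hA : ¬ layer ρ x j ≤ LinearMap.range (tau ρ x ^ (j + 1))) :
    ∃ (M : Submodule k W) (w : W), (∀ g, ∀ u ∈ M, ρ g u ∈ M) ∧
      M = Submodule.span k (Set.range fun i : Fin (j + 1) => (tau ρ x ^ (i : ℕ)) w) ∧
      LinearIndependent k (fun i : Fin (j + 1) => (tau ρ x ^ (i : ℕ)) w) ∧
      (tau ρ x ^ (j + 1)) w = 0 ∧ (tau ρ x ^ j) w ∉ LinearMap.range (tau ρ x ^ (j + 1)) ∧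
      ∀ u ∈ M, tau ρ x u = 0 → u ∈ k ∙ (tau ρ x ^ j) w := by
  obtain ⟨v, hv, hv', heig⟩ := exists_eigen ρ hx hsq hC j hA
  obtain ⟨M, w, h1, -, h2⟩ := exists_submodule_of_eigen ρ hx hsq hτ hv hv' heig
  exact ⟨M, w, h1, h2⟩

/-- An irreducible representation with small blocks is one block. -/
theorem single_block_of_irreducible [Nontrivial W] (hτ : tau ρ x ^ (p - 1) = 0)
    (hirr : ∀ M : Submodule k W, (∀ g, ∀ u ∈ M, ρ g u ∈ M) → M = ⊥ ∨ M = ⊤) :
    ∃ w : W, (tau ρ x ^ finrank k W) w = 0 ∧ tau ρ x ^ finrank k W = 0 ∧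
      LinearIndependent k (fun i : Fin (finrank k W) => (tau ρ x ^ (i : ℕ)) w) := by
  classical
  set τ := tau ρ x
  have hex : ∃ j, τ ^ (j + 1) = 0 := ⟨p - 2, by
    rw [show p - 2 + 1 = p - 1 by have := hp.out.two_le; omega]; exact hτ⟩
  set j := Nat.find hex
  have hj : τ ^ (j + 1) = 0 := Nat.find_spec hex
  have hj' : τ ^ j ≠ 0 := fun h => by
    rcases Nat.eq_zero_or_pos j with h0 | h0
    · rw [h0, pow_zero] at h; exact one_ne_zero h
    · exact Nat.find_min hex (m := j - 1) (by omega) (by rw [Nat.sub_add_cancel h0]; exact h)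
  obtain ⟨M, w, hinv, hspan, hli, hw, hw', -⟩ := exists_submodule ρ hx hsq hC hτ j (fun h => by
    obtain ⟨u, hu⟩ : ∃ u, (τ ^ j) u ≠ 0 := by
      by_contra hall; push Not at hall; exact hj' (LinearMap.ext hall)
    obtain ⟨z, hz⟩ := h (show (τ ^ j) u ∈ layer ρ x j from
      ⟨LinearMap.mem_ker.2 (by
        change τ ((τ ^ j) u) = 0
        rw [← Module.End.mul_apply, ← pow_succ', hj, LinearMap.zero_apply]), u, rfl⟩)
    rw [hj, LinearMap.zero_apply] at hz
    exact hu hz.symm)
  have htop : M = ⊤ := (hinv |> hirr M).resolve_left fun hbot => hw' (by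
    have : w ∈ M := hspan ▸ Submodule.subset_span ⟨0, by simp⟩
    rw [hbot, Submodule.mem_bot] at this
    rw [this, map_zero]; exact Submodule.zero_mem _)
  have hdim : finrank k W = j + 1 := by
    rw [← finrank_top, ← htop, hspan, finrank_span_eq_card hli, Fintype.card_fin]
  refine ⟨w, hdim ▸ hw, hdim ▸ hj, ?_⟩
  rw [hdim]; exact hli

end CfsgLib.Block.SmallBlock
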