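import Cfsg.Agent.Lib.Block.DefectOneCount
import Cfsg.Agent.Lib.Block.DegreeAux
import Cfsg.Agent.Lib.BlockB.PEltValue

/-!
The restriction to the centralizer of an element of order `p`, exactly dividing the group order,
of an irreducible character of degree less than `p - 1`.
-/

set_option autoImplicit false
set_option linter.unusedSectionVars false

namespace CfsgLib.Block.SmallShape

open Cfsg CfsgLib CfsgLib.Block
open scoped ComplexConjugate

universe u

variable {G : Type u} [Group G] [Finite G] {p : ℕ} [hpf : Fact p.Prime] {x : G}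

local notation "ψ" => (ZMod.stdAddChar (N := p))

/-- The order of `N / C`. -/
theorem relIndex_dvd (hxo : orderOf x = p) (hsq : ¬ p ^ 2 ∣ Nat.card G) :
    (Subgroup.centralizer ({x} : Set G)).relIndex
      (Subgroup.normalizer ((Subgroup.zpowers x : Subgroup G) : Set G)) ∣ p - 1 := by
  classical
  have hp := hpf.out
  have hPc : Nat.card (Subgroup.zpowers x) = p ^ (Nat.card G).factorization p := by
    rw [Nat.card_zpowers, hxo]
    have h1 : p ∣ Nat.card G := hxo ▸ orderOf_dvd_natCard x
    have h2 := (hp.dvd_iff_one_le_factorization Nat.card_pos.ne').1 h1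
    have h3 : ¬ 2 ≤ (Nat.card G).factorization p := fun h =>
      hsq ((hp.pow_dvd_iff_le_factorization Nat.card_pos.ne').2 h)
    rw [show (Nat.card G).factorization p = 1 by omega, pow_one]
  let P : Sylow p G := Sylow.ofCard (Subgroup.zpowers x) hPc
  obtain ⟨x', ε, -, -, -, hker⟩ := exists_prime_sylow_data P
    (show Nat.card (Subgroup.zpowers x) = p by rw [Nat.card_zpowers, hxo])
  rw [← DefectOne.centralizer_zpowers]
  change ((Subgroup.centralizer ((P : Subgroup G) : Set G)).subgroupOf
    (Subgroup.normalizer ((P : Subgroup G) : Set G))).index ∣ p - 1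
  rw [← hker, Subgroup.index_ker, ← ZMod.card_units p, ← Nat.card_eq_fintype_card]
  exact Subgroup.card_subgroup_dvd_card _

/-- An absent eigenvalue. -/
theorem twisted_sum_eq_zero {χ : G → ℂ} (hχ : IsCharacter G χ) (hxo : orderOf x = p) (s : ZMod p)
    (h : ∑ i : ZMod p, ψ (-(s * i)) * χ (x ^ i.val) = 0) (y : G) :
    ∑ i : ZMod p, ψ (-(s * i)) * χ (x ^ i.val * y) = 0 := by
  classical
  obtain ⟨n, ρ, rfl⟩ := hχ
  obtain ⟨ι, hι, b, μ, h1, h2, h3, -⟩ := CfsgLib.Char.exists_char_eigen ρ x
  set S : Module.End ℂ (Fin n → ℂ) := ∑ i : ZMod p, ψ (-(s * i)) • ρ (x ^ i.val) with hS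
  let c : ι → ℂ := fun j => ∑ i : ZMod p, ψ (-(s * i)) * μ j ^ i.val
  have hpow : ∀ (j : ι) (m : ℕ), ρ (x ^ m) (b j) = μ j ^ m • b j := fun j m => by
    induction m with
    | zero => simp
    | succ m ih => rw [pow_succ', map_mul, Module.End.mul_apply, ih, map_smul, h1, smul_smul, pow_succ]
  have hSb : ∀ j, S (b j) = c j • b j := fun j => by
    rw [hS, LinearMap.sum_apply, Finset.sum_smul]
    exact Finset.sum_congr rfl fun i _ => by rw [LinearMap.smul_apply, hpow, smul_smul]
  -- the coefficients are `0` or `p`
  have hcases : ∀ j, ∃ k : ℕ, c j = (k : ℂ) := fun j => by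
    have hμ : μ j ^ p = 1 := hxo ▸ h2 j
    let φ : AddChar (ZMod p) ℂ := AddChar.zmodChar p hμ
    have e : c j = ∑ i : ZMod p, (AddChar.mulShift ψ (-s) * φ) i :=
      Finset.sum_congr rfl fun i _ => by
        rw [AddChar.mul_apply, AddChar.mulShift_apply, neg_mul, AddChar.zmodChar_apply]
    rw [e, AddChar.sum_eq_ite]
    split_ifs
    · exact ⟨Fintype.card (ZMod p), rfl⟩
    · exact ⟨0, by rw [Nat.cast_zero]⟩
  choose k hk using hcases
  have hsum : ∑ j, (k j : ℂ) = 0 := by
    rw [← h]
    simp only [← hk, c]
    rw [Finset.sum_comm]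
    exact Finset.sum_congr rfl fun i _ => by rw [h3, Finset.mul_sum]
  have hk0 : ∀ j, k j = 0 := fun j => by
    have h' : ∑ j, k j = 0 := by exact_mod_cast hsum
    exact Finset.sum_eq_zero_iff.1 h' j (Finset.mem_univ j)
  have hS0 : S = 0 := b.ext fun j => by
    rw [hSb, hk, hk0, Nat.cast_zero, zero_smul, LinearMap.zero_apply]
  have h4 : LinearMap.trace ℂ (Fin n → ℂ) (S * ρ y) = 0 := by rw [hS0, zero_mul, map_zero]
  rw [← h4, hS, Finset.sum_mul, map_sum]
  refine Finset.sum_congr rfl fun i _ => ?_
  rw [smul_mul_assoc, ← map_mul, map_smul, smul_eq_mul]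
  rfl

/-- The shape of the restriction. -/
theorem exists_shape {M : Ideal AlgInt} (hM : IsPModular p M) (hxo : orderOf x = p)
    (hsq : ¬ p ^ 2 ∣ Nat.card G) (χ : IrrCharacter G) (hd : charDegree (χ : G → ℂ) + 1 < p) :
    let eN := (Subgroup.centralizer ({x} : Set G)).relIndex
      (Subgroup.normalizer ((Subgroup.zpowers x : Subgroup G) : Set G))
    ‖(χ : G → ℂ) x‖ = (charDegree (χ : G → ℂ) : ℝ) ∨
      (2 ≤ eN ∧ eN ∣ charDegree (χ : G → ℂ)) ∨
      (charDegree (χ : G → ℂ) + eN = p ∧ 2 * eN + 1 ≤ p ∧
        (∀ y ∈ Subgroup.centralizer ({x} : Set G), ¬ p ∣ orderOf y →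
          ‖(χ : G → ℂ) y‖ = (charDegree (χ : G → ℂ) : ℝ)) ∧
        ∃ U : Finset (ZMod p), U.card = eN ∧ (0 : ZMod p) ∉ U ∧
          ∀ i : ZMod p, (χ : G → ℂ) (x ^ i.val) =
            (∑ s : ZMod p, ψ (s * i)) - ∑ s ∈ U, ψ (s * i)) := by
  classical
  intro eN
  have := Fintype.ofFinite G
  haveI := isPrime_of_pmodular hM
  have hp := hpf.out
  set d := charDegree (χ : G → ℂ) with hddef
  have hd0 : 0 < d := BlockB.irr_degree_pos χ
  set B := blockOf M (χ : G → ℂ)
  have hB : IsPBlock M B := isPBlock_blockOf χ
  have hχB : χ ∈ B := mem_blockOf_self χ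
  set Cx := Subgroup.centralizer ({x} : Set G) with hCx
  obtain ⟨b, hb⟩ : ∃ b, IsInducedBlock M Cx b B := by
    by_contra hno
    have h := sum_inducing_of_eq hM (u := x) ⟨1, by rw [hxo, pow_one]⟩ hCx hB χ
      (y := (1 : Cx)) (by rw [orderOf_one]; exact hp.not_dvd_one)
    rw [if_pos hχB, Finset.sum_eq_zero fun b hb => absurd ⟨b, (Finset.mem_filter.1 hb).2⟩ hno,
      Subgroup.coe_one, mul_one, eq_comm] at h
    exact BlockB.char_ne_zero_of_not_dvd_degree (k := 1) (Char.irr_isCharacter χ.2)
      (by rw [hxo, pow_one]) (fun h' => by have := Nat.le_of_dvd hd0 h'; omega) h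
  obtain ⟨φ, h1, h2, h3, -⟩ := DefectOne.exists_param hM hxo hsq hb.1
  let O : OneBlock G p M := ⟨hM, x, hxo, hsq, b, hb.1, φ, h1, h2, h3⟩
  have hind : IsInducedBlock M (Subgroup.centralizer ({O.x} : Set G)) O.b B := hb
  obtain ⟨κ, hκ, cc, Θ, hκcard, hc0, hΘ, hval⟩ := O.exists_values hind
  obtain ⟨m, hm⟩ := exists_multiplicity hxo (Char.irr_isCharacter χ.2)
    (ZMod.isPrimitive_stdAddChar p)
  set f := charDegree (O.φ 0 : Subgroup.centralizer ({O.x} : Set G) → ℂ) with hfdef
  have hf0 : 0 < f := BlockB.irr_degree_pos _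
  have hΘ1 : ∀ q, (Θ q : Subgroup.centralizer ({O.x} : Set G) → ℂ) 1 = (f : ℂ) := fun q => by
    obtain ⟨n, hn, hq, -⟩ := hΘ q
    rw [hq, OneBlock.twist_apply, map_one, charDegree_cast (CfsgLib.Char.irr_isCharacter (O.φ 0).2)]
  have heN : Fintype.card κ * Nat.card O.expSubgroup = eN := by
    rw [← Nat.card_eq_fintype_card, hκcard, O.natCard_expSubgroup, mul_comm, O.relIndex_mul]
    rfl
  -- the twisted sums on the regular part of the centralizer
  let T : ZMod p → G → ℂ := fun s y => ∑ i : ZMod p, ψ (-(s * i)) * (χ : G → ℂ) (x ^ i.val * y)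
  let uq : κ → (ZMod p)ˣ := fun q => Units.mk0 (cc q) (hc0 q)
  have hT : ∀ (s : (ZMod p)ˣ) (y : Subgroup.centralizer ({O.x} : Set G)), ¬ p ∣ orderOf y →
      T s (y : G) = T 0 (y : G) + (p : ℂ) *
        ∑ q, (O.row χ (s * (uq q)⁻¹) : ℂ) *
          (Θ q : Subgroup.centralizer ({O.x} : Set G) → ℂ) y := fun s y hy => by
    rw [← sub_eq_iff_eq_add', ← Finset.sum_sub_distrib, PrimeRows.sum_eq_zero_add_units]
    simp only [mul_zero, neg_zero, AddChar.map_zero_eq_one, sub_self, zero_mul, zero_add,
      ← sub_mul]
    rw [Finset.mul_sum]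
    simp only [← mul_assoc, O.mul_row, Finset.sum_mul]
    rw [Finset.sum_comm (s := (Finset.univ : Finset κ)),
      Finset.sum_congr rfl fun (i : (ZMod p)ˣ) _ => by
        rw [hval χ hχB (i : ZMod p) i.ne_zero y hy, Finset.mul_sum]]
    rw [Finset.sum_comm]
    conv_rhs => rw [Finset.sum_comm]
    refine Finset.sum_congr rfl fun q _ => ?_
    refine Fintype.sum_equiv (Equiv.mulLeft (uq q)) _ _ fun i => ?_
    have e : ((s * (uq q)⁻¹ : (ZMod p)ˣ) : ZMod p) * ((uq q * i : (ZMod p)ˣ) : ZMod p) =
        (s : ZMod p) * i := by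
      rw [← Units.val_mul, mul_assoc, inv_mul_cancel_left, Units.val_mul]
    rw [Equiv.coe_mulLeft, e, Units.val_mul, show ((uq q : (ZMod p)ˣ) : ZMod p) = cc q from rfl]
    ring
  have hT1 : ∀ s : ZMod p, T s 1 = (p : ℂ) * (m s : ℂ) := fun s => by
    simp only [T, mul_one, hm, Finset.mul_sum]
    rw [Finset.sum_comm, Finset.sum_eq_single s]
    · simp only [mul_left_comm _ ((m s : ℂ)), ← AddChar.map_add_eq_mul, neg_add_cancel,
        AddChar.map_zero_eq_one, mul_one, Finset.sum_const, Finset.card_univ, ZMod.card, nsmul_eq_mul]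
    · intro r _ hr
      simp only [mul_left_comm _ ((m r : ℂ)), ← AddChar.map_add_eq_mul]
      rw [← Finset.mul_sum, Finset.sum_congr rfl fun i _ => congrArg ψ
          (show -(s * i) + r * i = i * (r - s) by ring),
        AddChar.sum_mulShift _ (ZMod.isPrimitive_stdAddChar p), if_neg (sub_ne_zero.2 hr),
        Nat.cast_zero, mul_zero]
    · intro h; exact absurd (Finset.mem_univ _) h
  have hreg1 : ¬ p ∣ orderOf (1 : Subgroup.centralizer ({O.x} : Set G)) := by
    rw [orderOf_one]; exact hp.not_dvd_one
  have hms : ∀ s : (ZMod p)ˣ, (m s : ℤ) = m 0 + (f : ℤ) * ∑ q, O.row χ (s * (uq q)⁻¹) := fun s => by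
    have h := hT s 1 hreg1
    rw [Subgroup.coe_one, hT1, hT1] at h
    simp only [hΘ1] at h
    refine Int.cast_injective (α := ℂ) (mul_left_cancel₀
      (Nat.cast_ne_zero.2 hp.ne_zero : (p : ℂ) ≠ 0) ?_)
    push_cast
    rw [← Finset.sum_mul] at h
    linear_combination h
  have hsumd : ∑ s : ZMod p, m s = d := by
    have h := hm 0
    rw [ZMod.val_zero, pow_zero, ← BlockB.irr_degree_cast χ] at h
    simp only [mul_zero, AddChar.map_zero_eq_one, mul_one] at h
    exact_mod_cast h.symm
  have hd' : d = m 0 + ∑ v : (ZMod p)ˣ, m v := by rw [← hsumd, PrimeRows.sum_eq_zero_add_units]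
  have hnorm : (∀ v : (ZMod p)ˣ, m v = 0) → ‖(χ : G → ℂ) x‖ = (d : ℝ) := fun h0 => by
    have h := hm 1
    rw [ZMod.val_one, pow_one, Finset.sum_eq_single 0 (fun r _ hr => by
      have h' := h0 (Units.mk0 r hr)
      rw [Units.val_mk0] at h'
      rw [h', Nat.cast_zero, zero_mul]) (fun h => absurd (Finset.mem_univ _) h)] at h
    rw [h, zero_mul, AddChar.map_zero_eq_one, mul_one, Complex.norm_natCast, hd',
      Finset.sum_eq_zero fun v _ => h0 v, add_zero]
  have hcardu : Fintype.card (ZMod p)ˣ = p - 1 := ZMod.card_units p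
  have hpm : ∀ k : ℕ, p * k = (p - 1) * k + k := fun k => by
    have h : (p - 1) * k + k = (p - 1 + 1) * k := by ring
    rw [h, Nat.sub_add_cancel hp.one_le]
  have hκ0 : 0 < Fintype.card κ := by
    rw [← Nat.card_eq_fintype_card, hκcard]
    exact Nat.pos_of_ne_zero Subgroup.index_ne_zero_of_finite
  obtain ⟨c, hc, hrow | ⟨w, hw⟩⟩ := O.shape hind hχB
  · -- constant rows
    have hu : ∀ v : (ZMod p)ˣ, (m v : ℤ) = m 0 + c * (f * Fintype.card κ : ℕ) := fun v => by
      rw [hms v]
      simp only [hrow, Finset.sum_const, Finset.card_univ, nsmul_eq_mul]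
      push_cast; ring
    rcases Nat.eq_zero_or_pos (m (1 : (ZMod p)ˣ)) with h0 | h0
    · exact Or.inl (hnorm fun v => by have := hu v; have := hu 1; omega)
    · exfalso
      have hall : ∀ v : (ZMod p)ˣ, 1 ≤ m v := fun v => by have := hu v; have := hu 1; omega
      have h := Finset.sum_le_sum (s := (Finset.univ : Finset (ZMod p)ˣ)) fun v _ => hall v
      rw [Finset.sum_const, Finset.card_univ, hcardu, smul_eq_mul, mul_one] at h
      omega
  · -- indicator rows
    let cnt : (ZMod p)ˣ → ℕ := fun v =>
      (Finset.univ.filter fun q : κ => w⁻¹ * (v * (uq q)⁻¹) ∈ O.expSubgroup).card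
    have hu : ∀ v : (ZMod p)ˣ, (m v : ℤ) = m 0 + c * (f * cnt v : ℕ) := fun v => by
      rw [hms v, Finset.sum_congr rfl (g := fun q : κ =>
        if w⁻¹ * (v * (uq q)⁻¹) ∈ O.expSubgroup then c else 0) fun q _ => by
          split_ifs with h
          · exact (hw _).1 h
          · exact (hw _).2 h, ← Finset.sum_filter, Finset.sum_const, nsmul_eq_mul]
      simp only [cnt]
      push_cast; ring
    have hcnt : ∑ v, cnt v = eN := by
      simp only [cnt, Finset.card_filter]
      rw [Finset.sum_comm, Finset.sum_congr rfl (g := fun _ : κ => Nat.card O.expSubgroup) fun q _ => ?_,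
        Finset.sum_const, Finset.card_univ, smul_eq_mul, heN]
      rw [Finset.sum_boole, Nat.cast_id, Nat.card_eq_fintype_card, ← Finset.card_univ]
      exact Finset.card_bij' (fun v hv => (⟨_, (Finset.mem_filter.1 hv).2⟩ : O.expSubgroup))
        (fun u _ => w * (u : (ZMod p)ˣ) * uq q) (fun _ _ => Finset.mem_univ _)
        (fun u _ => Finset.mem_filter.2 ⟨Finset.mem_univ _, by
          rw [mul_inv_cancel_right, inv_mul_cancel_left]; exact u.2⟩)
        (fun v _ => by simp [mul_assoc])
        (fun u _ => Subtype.ext (by simp [mul_assoc]))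
    have hdvd : eN ∣ p - 1 := relIndex_dvd hxo hsq
    rcases hc with rfl | rfl
    · -- positive rows
      have hdeg : d = p * m 0 + f * eN := by
        have h : (d : ℤ) = p * m 0 + f * eN := by
          rw [hd', Nat.cast_add, Nat.cast_sum, Finset.sum_congr rfl fun v _ => hu v,
            Finset.sum_add_distrib, Finset.sum_const, Finset.card_univ, hcardu, nsmul_eq_mul,
            ← Finset.mul_sum, ← Nat.cast_sum, ← Finset.mul_sum, hcnt, Nat.cast_sub hp.one_le]
          push_cast; ring
        exact_mod_cast h
      have hm0 : m 0 = 0 := by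
        by_contra h0
        have : p ≤ p * m 0 := Nat.le_mul_of_pos_right p (Nat.pos_of_ne_zero h0)
        omega
      rw [hm0, mul_zero, zero_add] at hdeg
      by_cases heN1 : eN = 1
      · refine Or.inl ?_
        obtain ⟨v₀, -, hv₀⟩ : ∃ v₀ ∈ (Finset.univ : Finset (ZMod p)ˣ), 0 < cnt v₀ := by
          by_contra hno
          push Not at hno
          have := Finset.sum_nonpos hno
          omega
        have hothers : ∀ v, v ≠ v₀ → cnt v = 0 := fun v hv => by
          have h2 : cnt v + cnt v₀ ≤ eN := by
            rw [← hcnt, ← Finset.sum_pair hv]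
            exact Finset.sum_le_sum_of_subset (Finset.subset_univ _)
          omega
        have h := hm 1
        rw [ZMod.val_one, pow_one, Finset.sum_eq_single (v₀ : ZMod p) (fun r _ hr => by
          rcases eq_or_ne r 0 with rfl | hr0
          · rw [hm0, Nat.cast_zero, zero_mul]
          · have h' := hu (Units.mk0 r hr0)
            rw [hothers _ (fun e => hr (by rw [← e, Units.val_mk0])), hm0] at h'
            simp at h'
            rw [h', Nat.cast_zero, zero_mul]) (fun h => absurd (Finset.mem_univ _) h)] at h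
        rw [h, norm_mul, Complex.norm_natCast, AddChar.norm_apply, mul_one]
        have h' := hu v₀
        have h1' : cnt v₀ ≤ 1 := by
          rw [← heN1, ← hcnt]; exact Finset.single_le_sum (fun v _ => Nat.zero_le _) (Finset.mem_univ v₀)
        rw [show cnt v₀ = 1 by omega, hm0, mul_one] at h'
        rw [heN1, mul_one] at hdeg
        have : m (v₀ : ZMod p) = d := by omega
        rw [this]
      · refine Or.inr (Or.inl ⟨?_, Dvd.intro_left f hdeg.symm⟩)
        have h0 : eN ≠ 0 := fun h0 => by rw [h0, mul_zero] at hdeg; omega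
        omega
    · -- negative rows
      have hu' : ∀ v : (ZMod p)ˣ, m v + f * cnt v = m 0 := fun v => by
        have := hu v
        have h' : ((m v + f * cnt v : ℕ) : ℤ) = (m 0 : ℤ) := by push_cast at this ⊢; linarith
        exact_mod_cast h'
      have hdeg : d + f * eN = p * m 0 := by
        rw [hd', ← hcnt, Finset.mul_sum, add_assoc, ← Finset.sum_add_distrib,
          Finset.sum_congr rfl fun v _ => hu' v, Finset.sum_const, Finset.card_univ, hcardu,
          smul_eq_mul]
        rw [hpm, add_comm]
      have hle : eN ≤ p - 1 := Nat.le_of_dvd (by omega) hdvd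
      have hfm : f ≤ m 0 := by
        obtain ⟨v, -, hv⟩ : ∃ v ∈ (Finset.univ : Finset (ZMod p)ˣ), 0 < cnt v := by
          by_contra hno
          push Not at hno
          have := Finset.sum_nonpos hno
          have : 0 < eN := by rw [← heN]; exact Nat.mul_pos hκ0 Nat.card_pos
          omega
        have := hu' v
        have : f ≤ f * cnt v := Nat.le_mul_of_pos_right f hv
        omega
      rcases eq_or_ne eN (p - 1) with htop | hlt
      · refine Or.inl (hnorm fun v => ?_)
        rw [htop] at hdeg
        have h1' : p * m 0 = (p - 1) * m 0 + m 0 := hpm _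
        have h2' : (p - 1) * m 0 = (p - 1) * f + (p - 1) * (m 0 - f) := by
          rw [← mul_add, Nat.add_sub_cancel' hfm]
        have h3' : f * (p - 1) = (p - 1) * f := mul_comm _ _
        have hmf : m 0 = f := by
          by_contra hne
          have : p - 1 ≤ (p - 1) * (m 0 - f) := Nat.le_mul_of_pos_right _ (by omega)
          omega
        rw [hmf, Nat.sub_self, mul_zero, add_zero] at h2'
        have h4 : d = f := by rw [hmf] at h1'; rw [hmf] at hdeg; omega
        have h5 : ∑ v : (ZMod p)ˣ, m v = 0 := by omega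
        exact Finset.sum_eq_zero_iff.1 h5 v (Finset.mem_univ v)
      · right; right
        obtain ⟨k, hk⟩ := hdvd
        have hk2 : 2 ≤ k := by
          rcases k with _ | _ | k
          · rw [mul_zero] at hk; omega
          · rw [zero_add, mul_one] at hk; exact absurd hk.symm hlt
          · omega
        have h2e : 2 * eN + 1 ≤ p := by
          have : eN * 2 ≤ eN * k := Nat.mul_le_mul_left _ hk2
          omega
        -- the units outside the union
        set W := (Finset.univ : Finset (ZMod p)ˣ).filter fun v => cnt v = 0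
        have hWc : p - 1 ≤ W.card + eN := by
          have h' : p - 1 = W.card + ((Finset.univ : Finset (ZMod p)ˣ).filter fun v => ¬ cnt v = 0).card := by
            rw [Finset.card_filter_add_card_filter_not, Finset.card_univ, hcardu]
          have h'' : ((Finset.univ : Finset (ZMod p)ˣ).filter fun v => ¬ cnt v = 0).card ≤ eN := by
            rw [← hcnt, Finset.card_filter]
            exact Finset.sum_le_sum fun v _ => by split_ifs <;> omega
          omega
        have hWm : W.card * m 0 ≤ ∑ v : (ZMod p)ˣ, m v := by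
          refine le_trans (le_of_eq ?_) (Finset.sum_le_sum_of_subset (Finset.subset_univ W))
          rw [Finset.sum_congr rfl (g := fun _ => m 0) fun v hv => by
            have := hu' v
            rw [(Finset.mem_filter.1 hv).2, mul_zero, add_zero] at this
            exact this, Finset.sum_const, smul_eq_mul]
        have hm01 : m 0 = 1 := by
          have h' : (W.card + 1) * m 0 ≤ d := by rw [add_mul, one_mul]; omega
          have h'' : (p - eN) * m 0 ≤ d := le_trans (Nat.mul_le_mul_right _ (by omega)) h'
          have hpos : 0 < m 0 := lt_of_lt_of_le hf0 hfm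
          by_contra hne
          have : (p - eN) * 2 ≤ (p - eN) * m 0 := Nat.mul_le_mul_left _ (by omega)
          omega
        have hf1 : f = 1 := by omega
        rw [hm01, hf1, one_mul, mul_one] at hdeg
        have hu1 : ∀ v : (ZMod p)ˣ, m v + cnt v = 1 := fun v => by
          have := hu' v
          rw [hm01, hf1, one_mul] at this
          exact this
        refine ⟨hdeg, h2e, fun y hy hyr => ?_,
          Finset.univ.filter (fun s : ZMod p => m s = 0), ?_, ?_, fun i => ?_⟩
        · -- regular elements of the centralizer are scalar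
          let y' : Subgroup.centralizer ({O.x} : Set G) := ⟨y, hy⟩
          have hy' : ¬ p ∣ orderOf y' := by rw [Subgroup.orderOf_mk]; exact hyr
          have hsumT : ∑ s : ZMod p, T s y = (p : ℂ) * (χ : G → ℂ) y := by
            simp only [T]
            rw [Finset.sum_comm, Finset.sum_eq_single 0]
            · simp
            · intro i _ hi
              rw [← Finset.sum_mul, Finset.sum_congr rfl fun s _ => congrArg ψ
                  (show -(s * i) = s * -i by ring),
                AddChar.sum_mulShift _ (ZMod.isPrimitive_stdAddChar p), if_neg (neg_ne_zero.2 hi),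
                Nat.cast_zero, zero_mul]
            · intro h; exact absurd (Finset.mem_univ _) h
          have hT0 : ∀ v : (ZMod p)ˣ, m v = 0 → T v y = 0 := fun v hv =>
            twisted_sum_eq_zero (Char.irr_isCharacter χ.2) hxo v (by
              have h' := hT1 v
              simp only [T, mul_one] at h'
              rw [h', hv, Nat.cast_zero, mul_zero]) y
          have hTout : ∀ v : (ZMod p)ˣ, cnt v = 0 → T v y = T 0 y := fun v hv => by
            have h' := hT v y' hy'
            rw [Finset.sum_eq_zero fun q _ => ?_, mul_zero, add_zero] at h'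
            · exact h'
            · rw [(hw _).2 fun hmem => (Finset.card_pos.2
                ⟨q, Finset.mem_filter.2 ⟨Finset.mem_univ _, hmem⟩⟩ : 0 < cnt v).ne' hv,
                Int.cast_zero, zero_mul]
          -- the size of the trivial part
          obtain ⟨v₁, -, hv₁⟩ : ∃ v ∈ (Finset.univ : Finset (ZMod p)ˣ), 0 < cnt v := by
            by_contra hno
            push Not at hno
            have := Finset.sum_nonpos hno
            have : 0 < eN := by rw [← heN]; exact Nat.mul_pos hκ0 Nat.card_pos
            omega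
          have hcnt1 : cnt v₁ = 1 := by have := hu1 v₁; omega
          obtain ⟨q₁, hq₁⟩ := Finset.card_eq_one.1 hcnt1
          have hT0norm : ‖T 0 y‖ = (p : ℝ) := by
            have h' := hT v₁ y' hy'
            rw [hT0 v₁ (by have := hu1 v₁; omega), Finset.sum_eq_single q₁] at h'
            · rw [(hw _).1 (Finset.mem_filter.1 (hq₁.symm ▸ Finset.mem_singleton_self q₁ :
                q₁ ∈ Finset.univ.filter fun q : κ => w⁻¹ * (v₁ * (uq q)⁻¹) ∈ O.expSubgroup)).2] at h'
              push_cast at h'
              rw [show T 0 y = (p : ℂ) * (Θ q₁ : Subgroup.centralizer ({O.x} : Set G) → ℂ) y' by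
                linear_combination -h', norm_mul, Complex.norm_natCast]
              obtain ⟨lam, hlam⟩ := CfsgLib.Char.exists_hom_of_degree_one
                (Char.irr_isCharacter (Θ q₁).2) (by rw [hΘ1, hf1, Nat.cast_one])
              rw [hlam]
              have hfin : IsOfFinOrder (lam y') := MonoidHom.isOfFinOrder lam (isOfFinOrder_of_finite y')
              rw [Complex.norm_eq_one_of_pow_eq_one (n := orderOf (lam y'))
                (by rw [← Units.val_pow_eq_pow_val, pow_orderOf_eq_one, Units.val_one])
                hfin.orderOf_pos.ne', mul_one]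
            · intro q _ hq
              rw [(hw _).2 fun hmem => hq (Finset.mem_singleton.1 (hq₁ ▸
                Finset.mem_filter.2 ⟨Finset.mem_univ _, hmem⟩)), Int.cast_zero, zero_mul]
            · intro h; exact absurd (Finset.mem_univ _) h
          have hkey : (p : ℂ) * (χ : G → ℂ) y = (d : ℂ) * T 0 y := by
            rw [← hsumT, PrimeRows.sum_eq_zero_add_units, Finset.sum_congr rfl
              (g := fun v : (ZMod p)ˣ => (m v : ℂ) * T 0 y) fun v _ => ?_, ← Finset.sum_mul]
            · rw [hd', hm01]; push_cast; ring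
            · rcases Nat.eq_zero_or_pos (cnt v) with hv | hv
              · rw [hTout v hv, show m v = 1 by have := hu1 v; omega, Nat.cast_one, one_mul]
              · rw [show m v = 0 by have := hu1 v; omega, hT0 v (by have := hu1 v; omega),
                  Nat.cast_zero, zero_mul]
          have := congrArg (‖·‖) hkey
          simp only [norm_mul, Complex.norm_natCast, hT0norm] at this
          rw [mul_comm (d : ℝ)] at this
          exact mul_left_cancel₀ (Nat.cast_ne_zero.2 hp.ne_zero) this
        · have h' : ∑ s : ZMod p, (1 - m s) = eN := by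
            rw [PrimeRows.sum_eq_zero_add_units, hm01, Nat.sub_self, zero_add, ← hcnt]
            exact Finset.sum_congr rfl fun v _ => by have := hu1 v; omega
          rw [← h', Finset.card_filter]
          refine Finset.sum_congr rfl fun s _ => ?_
          have : m s ≤ 1 := by
            rcases eq_or_ne s 0 with rfl | hs
            · omega
            · have := hu1 (Units.mk0 s hs); simp only [Units.val_mk0] at this; omega
          split_ifs <;> omega
        · simp [hm01]
        · rw [hm, Finset.sum_filter, ← Finset.sum_sub_distrib]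
          refine Finset.sum_congr rfl fun s _ => ?_
          have : m s ≤ 1 := by
            rcases eq_or_ne s 0 with rfl | hs
            · omega
            · have := hu1 (Units.mk0 s hs); simp only [Units.val_mk0] at this; omega
          split_ifs with h'
          · rw [h', Nat.cast_zero, zero_mul, sub_self]
          · rw [show m s = 1 by omega, Nat.cast_one, one_mul, sub_zero]

end CfsgLib.Block.SmallShape
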