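import Cfsg.Agent.Lib.Block.CentralBlock
import Cfsg.Agent.Lib.Block.InvolutionTrace
import Cfsg.Agent.Lib.Block.SmallShape
import Cfsg.Agent.Lib.BlockA.Galois
import Cfsg.Agent.Lib.Char.Linear

/-!
The characters lying over a faithful central character of a perfect group which has a character of
degree `p - 2`, at an element of order `p` and an involution inverting it.
-/

set_option autoImplicit false
set_option linter.unusedSectionVars false

namespace CfsgLib.Block.SmallShape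

open Cfsg CfsgLib CfsgLib.Block CfsgLib.Block.CentralBlock
open scoped ComplexConjugate

universe u

variable {G : Type u} [Group G] [Finite G] {p : ℕ} [hpf : Fact p.Prime] {x z : G}

local notation "ψ" => (ZMod.stdAddChar (N := p))

/-- The arithmetic of the central bound. -/
theorem central_arith {d A B P k a α : ℝ} (hk : 1 ≤ k) (hd : 0 < d) (hP : P = d + 2)
    (hA : A = k * P + 1) (hB : B = A + d) (ha : |a| ≤ 1) (hα : |α| ≤ k + 1) :
    2 * (d * P ^ 2) * (a * a / d + α * α / A - (α + a) * (α + a) / B) ≤ 9 * (P - 1) ^ 2 := by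
  have hP0 : 0 < P := by linarith
  have hA0 : 0 < A := by nlinarith
  have hB0 : 0 < B := by linarith
  have hf : a * a / d + α * α / A - (α + a) * (α + a) / B = (α * d - a * A) ^ 2 / (d * (A * B)) := by
    subst hB
    field_simp
    ring
  have hnum : (α * d - a * A) ^ 2 ≤ ((2 * k + 1) * (P - 1)) ^ 2 := by
    refine sq_le_sq' ?_ ?_
    · nlinarith [abs_le.1 ha, abs_le.1 hα, mul_le_mul_of_nonneg_right (abs_le.1 hα).1 hd.le,
        mul_le_mul_of_nonneg_right (abs_le.1 ha).2 hA0.le]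
    · nlinarith [abs_le.1 ha, abs_le.1 hα, mul_le_mul_of_nonneg_right (abs_le.1 hα).2 hd.le,
        mul_le_mul_of_nonneg_right (abs_le.1 ha).1 hA0.le]
  have hAB : k * (k + 1) * P ^ 2 ≤ A * B := by
    have : B = (k + 1) * P - 1 := by rw [hB, hA, hP]; ring
    rw [this, hA]
    nlinarith
  rw [hf, ← mul_div_assoc, div_le_iff₀ (by positivity)]
  have h9 : 2 * (2 * k + 1) ^ 2 ≤ 9 * (k * (k + 1)) := by nlinarith
  calc 2 * (d * P ^ 2) * (α * d - a * A) ^ 2
      ≤ 2 * (d * P ^ 2) * ((2 * k + 1) * (P - 1)) ^ 2 := by gcongr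
    _ = d * P ^ 2 * (P - 1) ^ 2 * (2 * (2 * k + 1) ^ 2) := by ring
    _ ≤ d * P ^ 2 * (P - 1) ^ 2 * (9 * (k * (k + 1))) := by gcongr
    _ = 9 * (P - 1) ^ 2 * d * (k * (k + 1) * P ^ 2) := by ring
    _ ≤ 9 * (P - 1) ^ 2 * d * (A * B) := by gcongr
    _ = _ := by ring

/-- A perfect group has only the trivial linear character. -/
theorem apply_eq_one_of_degree_one (hperf : commutator G = ⊤) {η : G → ℂ} (hη : IsCharacter G η)
    (h1 : η 1 = 1) (g : G) : η g = 1 := by
  obtain ⟨f, rfl⟩ := Char.exists_hom_of_degree_one hη h1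
  have hker : commutator G ≤ f.ker := Abelianization.commutator_subset_ker f
  rw [hperf] at hker
  simp [MonoidHom.mem_ker.1 (hker (Subgroup.mem_top g))]

/-- The characters over the central character of `χ` at an inverting involution. -/
theorem central_bound [Fintype (IrrCharacter G)] (hp5 : 5 < p) (hxo : orderOf x = p)
    (hperf : commutator G = ⊤) (hZ : Subgroup.center G ≠ ⊥)
    (hpZ : ¬ p ∣ Nat.card (Subgroup.center G)) (hsq : ¬ p ^ 2 ∣ Nat.card G)
    (hcent : ∀ i : ZMod p, i ≠ 0 →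
      Nat.card (Subgroup.centralizer ({x ^ i.val} : Set G)) = p * Nat.card (Subgroup.center G))
    (hfus : ∀ i j : ZMod p, i ≠ 0 → j ≠ 0 → IsConj (x ^ i.val) (x ^ j.val) → j = i ∨ j = -i)
    (hz : orderOf z = 2) (hzx : z * x * z⁻¹ = x⁻¹)
    (χ : IrrCharacter G) (hfaith : ∀ g, (χ : G → ℂ) g = (χ : G → ℂ) 1 → g = 1)
    (hd : charDegree (χ : G → ℂ) = p - 2) {s : ZMod p} (hs : s ≠ 0)
    (hval : ∀ i : ZMod p, i ≠ 0 → (χ : G → ℂ) (x ^ i.val) = -(ψ (s * i) + ψ (-(s * i)))) :
    ∃ r : ℝ, ∑ η ∈ overChars χ,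
        (η : G → ℂ) z * (η : G → ℂ) z * conj ((η : G → ℂ) x) / (η : G → ℂ) 1 = (r : ℂ) ∧
      2 * (((p : ℝ) - 2) * (p : ℝ) ^ 2) * r ≤ 9 * ((p : ℝ) - 1) ^ 2 := by
  classical
  have := Fintype.ofFinite G
  have hp := hpf.out
  have hodd : p % 2 = 1 := hp.eq_two_or_odd.resolve_left (by omega)
  have : Fact (1 < p) := ⟨hp.one_lt⟩
  set t := (p - 1) / 2 with ht
  have hzz : z * z = 1 := by rw [← sq, ← hz, pow_orderOf_eq_one]
  have hzc : ∀ i : ZMod p, z * x ^ i.val * z⁻¹ = x ^ (-i).val := fun i => by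
    rw [← conj_pow, hzx, inv_pow, inv_eq_iff_mul_eq_one, ← pow_add, ← orderOf_dvd_iff_pow_eq_one, hxo,
      ← CharP.cast_eq_zero_iff (ZMod p) p]
    push_cast
    simp
  have hxp : x ^ p = 1 := hxo ▸ pow_orderOf_eq_one x
  have : Nonempty (IrrCharacter G) := ⟨χ⟩
  obtain ⟨n₀, hn₀⟩ : p ∣ Nat.card G := hxo ▸ orderOf_dvd_natCard x
  have hpn₀ : ¬ p ∣ n₀ := fun h => hsq (by rw [hn₀, sq]; exact mul_dvd_mul_left p h)
  have hn₀2 : 2 ∣ n₀ := by
    have h : 2 ∣ p * n₀ := hn₀ ▸ hz ▸ orderOf_dvd_natCard z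
    exact ((Nat.coprime_primes Nat.prime_two hp).2 (by omega)).dvd_of_dvd_mul_left h
  have hcn₀ : ∀ c : Subgroup.center G, orderOf (c : G) ∣ n₀ := fun c => by
    have h1 : orderOf (c : G) ∣ p * n₀ := hn₀ ▸ orderOf_dvd_natCard _
    refine Nat.Coprime.dvd_of_dvd_mul_left ?_ h1
    refine (hp.coprime_iff_not_dvd.2 fun h => hpZ (h.trans ?_)).symm
    rw [Subgroup.orderOf_coe]; exact orderOf_dvd_natCard c
  have hcp : ∀ c : Subgroup.center G, (c : G) ^ p = 1 → c = 1 := fun c hc => by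
    refine Subtype.ext (orderOf_eq_one_iff.1 ?_)
    exact Nat.eq_one_of_dvd_coprimes (hp.coprime_iff_not_dvd.2 hpn₀)
      (orderOf_dvd_of_pow_eq_one hc) (hcn₀ c)
  have hxi : ∀ i : ZMod p, i ≠ 0 → x ^ i.val ≠ 1 := fun i hi h => by
    rw [← orderOf_dvd_iff_pow_eq_one, hxo, ← CharP.cast_eq_zero_iff (ZMod p) p,
      ZMod.natCast_zmod_val] at h
    exact hi h
  have hxZ : ∀ i : ZMod p, i ≠ 0 → x ^ i.val ∉ Subgroup.center G := fun i hi h => hxi i hi (by
    have h' := hcp ⟨_, h⟩ (by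
      change (x ^ i.val) ^ p = 1
      rw [← pow_mul, mul_comm, pow_mul, hxp, one_pow])
    exact congrArg Subtype.val h')
  have hZc : (Nat.card (Subgroup.center G) : ℂ) ≠ 0 := Nat.cast_ne_zero.2 Nat.card_pos.ne'
  set Λ := overChars χ with hΛ
  -- orthogonality
  have hcol : ∀ i j : ZMod p, i ≠ 0 → j ≠ 0 →
      ∑ η ∈ Λ, (η : G → ℂ) (x ^ i.val) * conj ((η : G → ℂ) (x ^ j.val)) =
        if j = i ∨ j = -i then (p : ℂ) else 0 := fun i j hi hj => by
    have h := column χ (x ^ i.val) (x ^ j.val) (fun c hc => hcp c (by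
      obtain ⟨g, hg⟩ := isConj_iff.1 hc
      have h1 : g * ((c : G) ^ p) * g⁻¹ = 1 := by
        have h2 : ((c : G) * x ^ i.val) ^ p = (c : G) ^ p := by
          rw [Commute.mul_pow (Subgroup.mem_center_iff.1 c.2 _).symm, ← pow_mul x, mul_comm i.val,
            pow_mul, hxp, one_pow, mul_one]
        rw [← h2, ← conj_pow, hg, ← pow_mul, mul_comm, pow_mul, hxp, one_pow]
      exact conj_eq_one_iff.1 h1))
    rw [hcent i hi] at h
    by_cases hji : j = i ∨ j = -i
    · rw [if_pos hji]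
      have hconj : IsConj (x ^ i.val) (x ^ j.val) := by
        rcases hji with rfl | rfl
        · exact IsConj.refl _
        · exact isConj_iff.2 ⟨z, hzc i⟩
      rw [if_pos hconj, Nat.cast_mul, mul_comm (p : ℂ)] at h
      exact mul_left_cancel₀ hZc h
    · rw [if_neg hji]
      rw [if_neg fun hc => hji (hfus i j hi hj hc)] at h
      exact (mul_eq_zero.1 h).resolve_left hZc
  have hcol1 : ∀ i : ZMod p, i ≠ 0 →
      ∑ η ∈ Λ, (η : G → ℂ) 1 * conj ((η : G → ℂ) (x ^ i.val)) = 0 := fun i hi => by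
    have h := column χ 1 (x ^ i.val) (fun c hc => by
      rw [mul_one] at hc
      obtain ⟨g, hg⟩ := isConj_iff.1 hc
      rw [Subgroup.mem_center_iff.1 c.2 g, mul_inv_cancel_right] at hg
      exact absurd (hg ▸ c.2) (hxZ i hi))
    rw [if_neg fun hc => hxi i hi (by
      obtain ⟨g, hg⟩ := isConj_iff.1 hc
      rw [← hg, mul_one, mul_inv_cancel])] at h
    exact (mul_eq_zero.1 h).resolve_left hZc
  have hcolz : ∑ η ∈ Λ, (η : G → ℂ) z * conj ((η : G → ℂ) x) = 0 := by
    have key : ∀ c : Subgroup.center G, ¬ IsConj ((c : G) * z) x := fun c hc => by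
      have h1 : orderOf ((c : G) * z) = p := by
        obtain ⟨g, hg⟩ := isConj_iff.1 hc
        rw [← hxo, ← hg]
        exact (orderOf_injective (MulAut.conj g).toMonoidHom (MulAut.conj g).injective _).symm
      have h2 : ((c : G) * z) ^ p = (c : G) ^ p * z := by
        rw [Commute.mul_pow (Subgroup.mem_center_iff.1 c.2 _).symm]
        congr 1
        rw [show p = 2 * t + 1 by omega, pow_succ, pow_mul, sq, hzz, one_pow, one_mul]
      rw [show ((c : G) * z) ^ p = 1 from h1 ▸ pow_orderOf_eq_one _] at h2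
      have h3 : z ∈ Subgroup.center G := by
        have hzinv : z = ((c : G) ^ p)⁻¹ := by
          rw [eq_inv_iff_mul_eq_one, Subgroup.mem_center_iff.1 (pow_mem c.2 p) z]
          exact h2.symm
        rw [hzinv]
        exact inv_mem (pow_mem c.2 p)
      have h4 : x = x⁻¹ := by
        rwa [← Subgroup.mem_center_iff.1 h3 x, mul_inv_cancel_right] at hzx
      have h5 : orderOf x ∣ 2 := orderOf_dvd_of_pow_eq_one (by rw [sq]; nth_rewrite 2 [h4]; exact mul_inv_cancel x)
      have := Nat.le_of_dvd (by omega) (hxo ▸ h5)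
      omega
    have h := column χ z x (fun c hc => absurd hc (key c))
    rw [if_neg (fun hc => key 1 (by rwa [Subgroup.coe_one, one_mul]))] at h
    exact (mul_eq_zero.1 h).resolve_left hZc
  -- the conjugates of `χ`
  have hco : p.Coprime n₀ := hp.coprime_iff_not_dvd.2 hpn₀
  have hexp : ∀ j : ZMod p, j ≠ 0 → ∃ η : IrrCharacter G, η ∈ Λ ∧
      (η : G → ℂ) 1 = (χ : G → ℂ) 1 ∧ (η : G → ℂ) z = (χ : G → ℂ) z ∧
      ∀ i : ZMod p, (η : G → ℂ) (x ^ i.val) = (χ : G → ℂ) (x ^ (j * i).val) := fun j hj => by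
    obtain ⟨k, hk1, hk2⟩ := Nat.chineseRemainder hco j.val 1
    have hkj : (k : ZMod p) = j := by
      rw [(ZMod.natCast_eq_natCast_iff _ _ _).2 hk1, ZMod.natCast_zmod_val]
    have hkc : k.Coprime (Nat.card G) := by
      rw [hn₀]
      refine Nat.Coprime.mul_right ((hp.coprime_iff_not_dvd.2 fun h => hj ?_).symm) ?_
      · rw [← hkj, (CharP.cast_eq_zero_iff (ZMod p) p k).2 h]
      · have h' := hk2.gcd_eq
        rwa [Nat.gcd_one_left] at h'
    have hpowc : ∀ g : G, orderOf g ∣ n₀ → g ^ k = g := fun g hg => by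
      nth_rewrite 2 [← pow_one g]
      rw [pow_eq_pow_iff_modEq]
      exact hk2.of_dvd hg
    refine ⟨⟨_, BlockA.isIrrCharacter_comp_pow hkc χ.2⟩, ?_, ?_, ?_, fun i => ?_⟩
    · rw [hΛ, mem_overChars]
      funext c
      change (χ : G → ℂ) ((c : G) ^ k) / (χ : G → ℂ) (1 ^ k) = _
      rw [hpowc _ (hcn₀ c), one_pow]
      rfl
    · exact congrArg (χ : G → ℂ) (one_pow k)
    · exact congrArg (χ : G → ℂ) (hpowc z (hz ▸ hn₀2))
    · refine congrArg (χ : G → ℂ) ?_
      rw [← pow_mul, pow_eq_pow_iff_modEq, hxo, ← ZMod.natCast_eq_natCast_iff, Nat.cast_mul,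
        ZMod.natCast_zmod_val, ZMod.natCast_zmod_val, hkj, mul_comm]
  choose! Φ hΦΛ hΦ1 hΦz hΦx using hexp
  set H : Finset (ZMod p) := Finset.univ.filter fun j => 1 ≤ j.val ∧ j.val ≤ t with hH
  have hH0 : ∀ j ∈ H, j ≠ 0 := fun j hj h => by
    rw [hH, Finset.mem_filter, h, ZMod.val_zero] at hj; omega
  have hhalf : ∀ f : ZMod p → ℂ, ∑ j ∈ H, (f j + f (-j)) = ∑ j ∈ Finset.univ.erase 0, f j := fun f => by
    rw [Finset.sum_add_distrib, ← Finset.sum_image (g := fun j : ZMod p => -j) neg_injective.injOn,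
      ← Finset.sum_union]
    · refine Finset.sum_congr (Finset.ext fun j => ?_) fun j _ => rfl
      have hlt := ZMod.val_lt j
      simp only [hH, Finset.mem_union, Finset.mem_filter, Finset.mem_univ, true_and, Finset.mem_image,
        Finset.mem_erase, and_true]
      constructor
      · rintro (h | ⟨i, hi, rfl⟩) h0
        · rw [h0, ZMod.val_zero] at h; omega
        · rw [neg_eq_zero.1 h0, ZMod.val_zero] at hi; omega
      · intro h0
        have hpos : 0 < j.val := Nat.pos_of_ne_zero fun h => h0 ((ZMod.val_eq_zero j).1 h)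
        by_cases hjt : j.val ≤ t
        · exact Or.inl ⟨hpos, hjt⟩
        · refine Or.inr ⟨-j, ?_, neg_neg j⟩
          rw [ZMod.neg_val, if_neg h0]
          omega
    · rw [Finset.disjoint_left]
      intro j hj hj'
      obtain ⟨i, hi, rfl⟩ := Finset.mem_image.1 hj'
      have hi0 := hH0 i hi
      simp only [hH, Finset.mem_filter, Finset.mem_univ, true_and, ZMod.neg_val, if_neg hi0] at hj hi
      omega
  have horth : ∀ a : ZMod p, ∑ i : ZMod p, ψ (a * i) = if a = 0 then (p : ℂ) else 0 := fun a => by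
    rw [Finset.sum_congr rfl fun i _ => congrArg ψ (mul_comm a i),
      AddChar.sum_mulShift a (ZMod.isPrimitive_stdAddChar p), ZMod.card]
    split_ifs <;> simp
  let g : ZMod p → ℂ := fun c => if c = 0 then (p : ℂ) - 1 else -1
  have hg : ∀ c : ZMod p, ∑ j ∈ H, (ψ (c * j) + ψ (-(c * j))) = g c := fun c => by
    have h := hhalf fun j => ψ (c * j)
    simp only [mul_neg] at h
    rw [h, Finset.sum_erase_eq_sub (Finset.mem_univ _), horth, mul_zero, AddChar.map_zero_eq_one]
    simp only [g]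
    split_ifs <;> ring
  set Y := H.image Φ with hY
  have hYx : ∀ j ∈ H, ∀ i : ZMod p, i ≠ 0 →
      (Φ j : G → ℂ) (x ^ i.val) = -(ψ (s * i * j) + ψ (-(s * i * j))) := fun j hj i hi => by
    rw [hΦx j (hH0 j hj) i, hval _ (mul_ne_zero (hH0 j hj) hi), show s * (j * i) = s * i * j by ring]
  have hinj : Set.InjOn Φ H := fun j hj j' hj' he => by
    have h0 : ∀ i : ZMod p, ψ (s * j * i) + ψ (-(s * j * i)) = ψ (s * j' * i) + ψ (-(s * j' * i)) :=
      fun i => by
      rcases eq_or_ne i 0 with rfl | hi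
      · simp
      · have h := hYx j hj i hi
        rw [he, hYx j' hj' i hi, neg_inj] at h
        rw [mul_right_comm s j i, mul_right_comm s j' i, h]
    have h1 := Finset.sum_congr rfl (s₁ := (Finset.univ : Finset (ZMod p)))
      fun i _ => congrArg (ψ (-(s * j * i)) * ·) (h0 i)
    simp only [mul_add, ← AddChar.map_add_eq_mul, Finset.sum_add_distrib] at h1
    rw [Finset.sum_congr rfl fun i _ => congrArg ψ (show -(s * j * i) + s * j * i = (0 : ZMod p) * i by ring),
      Finset.sum_congr rfl fun i _ => congrArg ψ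
        (show -(s * j * i) + -(s * j * i) = (s * (-j + -j)) * i by ring),
      Finset.sum_congr rfl fun i _ => congrArg ψ
        (show -(s * j * i) + s * j' * i = (s * (j' - j)) * i by ring),
      Finset.sum_congr rfl fun i _ => congrArg ψ
        (show -(s * j * i) + -(s * j' * i) = (s * (-(j' + j))) * i by ring),
      horth, horth, horth, horth] at h1
    simp only [mul_eq_zero, hs, false_or, if_pos] at h1
    by_contra hne
    have hj1 := hj
    have hj2 := hj'
    simp only [hH, Finset.coe_filter, Set.mem_setOf_eq, Finset.mem_univ, true_and] at hj1 hj2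
    have hsum : j' + j ≠ 0 := fun h => by
      have h' := congrArg ZMod.val (eq_neg_of_add_eq_zero_left h)
      rw [ZMod.neg_val, if_neg (hH0 j hj)] at h'
      omega
    have hdbl : -j + -j ≠ 0 := fun h => by
      have h' := congrArg ZMod.val (eq_neg_of_add_eq_zero_left h)
      rw [neg_neg, ZMod.neg_val, if_neg (hH0 j hj)] at h'
      omega
    rw [if_neg hdbl, if_neg (sub_ne_zero.2 (Ne.symm hne)), if_neg (neg_ne_zero.2 hsum)] at h1
    simp [hp.ne_zero] at h1
  have hYΛ : Y ⊆ Λ := fun η hη => by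
    obtain ⟨j, hj, rfl⟩ := Finset.mem_image.1 hη
    exact hΦΛ j (hH0 j hj)
  have hYsum : ∀ i : ZMod p, i ≠ 0 → ∑ η ∈ Y, (η : G → ℂ) (x ^ i.val) = 1 := fun i hi => by
    rw [hY, Finset.sum_image hinj, Finset.sum_congr rfl fun j hj => hYx j hj i hi,
      Finset.sum_neg_distrib, hg]
    simp only [g, if_neg (mul_ne_zero hs hi)]
    ring
  have hYgram : ∀ i i' : ZMod p, i ≠ 0 → i' ≠ 0 →
      ∑ η ∈ Y, (η : G → ℂ) (x ^ i.val) * conj ((η : G → ℂ) (x ^ i'.val)) =
        g (s * (i + i')) + g (s * (i - i')) := fun i i' hi hi' => by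
    rw [hY, Finset.sum_image hinj, ← hg, ← hg, ← Finset.sum_add_distrib]
    refine Finset.sum_congr rfl fun j hj => ?_
    rw [hYx j hj i hi, hYx j hj i' hi', map_neg (starRingEnd ℂ), map_add (starRingEnd ℂ), ← AddChar.map_neg_eq_conj,
      ← AddChar.map_neg_eq_conj, neg_neg, neg_mul_neg, add_mul, mul_add, mul_add,
      ← AddChar.map_add_eq_mul, ← AddChar.map_add_eq_mul, ← AddChar.map_add_eq_mul,
      ← AddChar.map_add_eq_mul]
    ring_nf
  -- the other characters
  set R := Λ \ Y with hR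
  have hRsum : ∀ F : IrrCharacter G → ℂ, ∑ η ∈ R, F η = ∑ η ∈ Λ, F η - ∑ η ∈ Y, F η := fun F => by
    rw [hR, ← Finset.sum_sdiff hYΛ]; ring
  have h1ne : (1 : ZMod p) ≠ 0 := one_ne_zero
  have h20 : ∀ i : ZMod p, i ≠ 0 → i + i ≠ 0 := fun i hi h => by
    have h' := congrArg ZMod.val (eq_neg_of_add_eq_zero_left h)
    rw [ZMod.neg_val, if_neg hi] at h'
    have := ZMod.val_lt i
    omega
  have hRgram : ∀ i i' : ZMod p, i ≠ 0 → i' ≠ 0 →
      ∑ η ∈ R, (η : G → ℂ) (x ^ i.val) * conj ((η : G → ℂ) (x ^ i'.val)) = 2 := fun i i' hi hi' => by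
    rw [hRsum, hcol i i' hi hi', hYgram i i' hi hi']
    by_cases h : i' = i ∨ i' = -i
    · rw [if_pos h]
      rcases h with rfl | rfl
      · simp only [g, if_neg (mul_ne_zero hs (h20 _ hi)), sub_self, mul_zero, if_true]; ring
      · simp only [g, add_neg_cancel, mul_zero, sub_neg_eq_add, if_neg (mul_ne_zero hs (h20 _ hi)),
          if_true]; ring
    · rw [if_neg h]
      push Not at h
      have e1 : i + i' ≠ 0 := fun h0 => h.2 (eq_neg_of_add_eq_zero_right h0)
      have e2 : i - i' ≠ 0 := fun h0 => h.1 (sub_eq_zero.1 h0).symm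
      simp only [g, if_neg (mul_ne_zero hs e1), if_neg (mul_ne_zero hs e2)]; ring
  have hx1 : x ^ (1 : ZMod p).val = x := by rw [ZMod.val_one, pow_one]
  have hconst : ∀ i : ZMod p, i ≠ 0 → ∀ η ∈ R, (η : G → ℂ) (x ^ i.val) = (η : G → ℂ) x := by
    intro i hi
    have h0 : ∑ η ∈ R, ((η : G → ℂ) (x ^ i.val) - (η : G → ℂ) x) *
        conj ((η : G → ℂ) (x ^ i.val) - (η : G → ℂ) x) = 0 := by
      have e1 := hRgram i i hi hi
      have e2 := hRgram i 1 hi h1ne
      have e3 := hRgram 1 i h1ne hi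
      have e4 := hRgram 1 1 h1ne h1ne
      rw [hx1] at e2 e3 e4
      simp only [map_sub, mul_sub, sub_mul, Finset.sum_sub_distrib]
      rw [e1, e2, e3, e4]; ring
    simp only [Complex.mul_conj] at h0
    rw [← Complex.ofReal_sum, Complex.ofReal_eq_zero,
      Finset.sum_eq_zero_iff_of_nonneg fun η _ => Complex.normSq_nonneg _] at h0
    exact fun η hη => sub_eq_zero.1 (Complex.normSq_eq_zero.1 (h0 η hη))
  have hint : ∀ η ∈ R, ∃ (c : ℤ) (m : ℕ) (b : ℤ), (η : G → ℂ) x = (c : ℂ) ∧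
      (η : G → ℂ) 1 + ((p : ℂ) - 1) * (c : ℂ) = (p : ℂ) * (m : ℂ) ∧
      (η : G → ℂ) z = (b : ℂ) ∧ |b| ≤ (m : ℤ) := fun η hη => by
    obtain ⟨m, b, hm, hb, hbm⟩ :=
      InvolutionTrace.exists_bound (by omega) (Char.irr_isCharacter η.2) hxo hzz hzx
    rw [← Finset.add_sum_erase _ _ (Finset.mem_univ (0 : ZMod p)), ZMod.val_zero, pow_zero,
      Finset.sum_congr rfl fun i hi => hconst i (Finset.mem_erase.1 hi).1 η hη, Finset.sum_const,
      Finset.card_erase_of_mem (Finset.mem_univ _), Finset.card_univ, ZMod.card, nsmul_eq_mul,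
      Nat.cast_sub hp.one_le, Nat.cast_one] at hm
    have hq : (η : G → ℂ) x =
        ((((p : ℚ) * m - charDegree (η : G → ℂ)) / ((p : ℚ) - 1) : ℚ) : ℂ) := by
      have hp1 : (p : ℂ) - 1 ≠ 0 := sub_ne_zero.2 (by exact_mod_cast hp.one_lt.ne')
      push_cast
      rw [eq_div_iff hp1, BlockB.irr_degree_cast η]
      linear_combination hm
    obtain ⟨c, hc⟩ := Char.exists_int_of_isIntegral_rat (hq ▸ BlockB.irr_isIntegral η x)
    have hc' : (η : G → ℂ) x = (c : ℂ) := by rw [hq, hc, Rat.cast_intCast]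
    exact ⟨c, m, b, hc', by rw [← hc']; exact hm, hb, hbm⟩
  choose! cf mf bf hcf hmf hbf hbm using hint
  -- two characters
  set T := R.filter fun η => cf η ≠ 0 with hT
  have hsum2 : ∑ η ∈ R, cf η * cf η = 2 := by
    have h := hRgram 1 1 h1ne h1ne
    rw [hx1, Finset.sum_congr rfl (g := fun η => ((cf η * cf η : ℤ) : ℂ)) fun η hη => by
      rw [hcf η hη]; simp, ← Int.cast_sum] at h
    exact_mod_cast h
  have hpm : ∀ η ∈ T, cf η = 1 ∨ cf η = -1 := fun η hη => by
    obtain ⟨hηR, hne⟩ := Finset.mem_filter.1 hη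
    have hle : cf η * cf η ≤ 2 := hsum2 ▸ Finset.single_le_sum
      (f := fun η => cf η * cf η) (fun i _ => mul_self_nonneg _) hηR
    have h1 : cf η < 2 := by nlinarith
    have h2 : -2 < cf η := by nlinarith
    omega
  have hTcard : T.card = 2 := by
    have h : ∑ η ∈ R, cf η * cf η = ∑ η ∈ T, (1 : ℤ) := by
      rw [hT, Finset.sum_filter]
      refine Finset.sum_congr rfl fun η hη => ?_
      split_ifs with h
      · rcases hpm η (Finset.mem_filter.2 ⟨hη, h⟩) with e | e <;> simp [e]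
      · rw [not_not.1 h, mul_zero]
    rw [hsum2, Finset.sum_const, nsmul_eq_mul, mul_one] at h
    exact_mod_cast h.symm
  obtain ⟨η₁, η₂, hne12, hTeq⟩ := Finset.card_eq_two.1 hTcard
  have hY1 : ∀ η ∈ Y, (η : G → ℂ) 1 = ((p : ℂ) - 2) ∧ (η : G → ℂ) z = (χ : G → ℂ) z := fun η hη => by
    obtain ⟨j, hj, rfl⟩ := Finset.mem_image.1 hη
    refine ⟨?_, hΦz j (hH0 j hj)⟩
    rw [hΦ1 j (hH0 j hj), ← BlockB.irr_degree_cast χ, hd, Nat.cast_sub (by omega)]
    norm_num
  have hsplit : ∀ F : IrrCharacter G → ℂ, ∑ η ∈ Λ, F η * conj ((η : G → ℂ) x) =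
      ∑ η ∈ Y, F η * conj ((η : G → ℂ) x) + (F η₁ * (cf η₁ : ℂ) + F η₂ * (cf η₂ : ℂ)) := fun F => by
    have h := hRsum fun η => F η * conj ((η : G → ℂ) x)
    rw [← Finset.sum_pair (f := fun η => F η * (cf η : ℂ)) hne12, ← hTeq, hT, Finset.sum_filter]
    rw [show ∑ η ∈ R, (if cf η ≠ 0 then F η * (cf η : ℂ) else 0) =
        ∑ η ∈ R, F η * conj ((η : G → ℂ) x) from Finset.sum_congr rfl fun η hη => by
      rw [hcf η hη, map_intCast]
      split_ifs with h0
      · rfl
      · rw [not_not.1 h0, Int.cast_zero, mul_zero], h]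
    ring
  have hYx1 : ∑ η ∈ Y, conj ((η : G → ℂ) x) = 1 := by
    rw [← map_sum]
    have h := hYsum 1 h1ne
    rw [hx1] at h
    rw [h, map_one]
  have hYF : ∀ (F : IrrCharacter G → ℂ) (v : ℂ), (∀ η ∈ Y, F η = v) →
      ∑ η ∈ Y, F η * conj ((η : G → ℂ) x) = v := fun F v hv => by
    rw [Finset.sum_congr rfl fun η hη => by rw [hv η hη], ← Finset.mul_sum, hYx1, mul_one]
  obtain ⟨m₀, a, hm₀, ha, hab⟩ :=
    InvolutionTrace.exists_bound (by omega) (Char.irr_isCharacter χ.2) hxo hzz hzx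
  have hm₀1 : (m₀ : ℤ) = 1 := by
    rw [← Finset.add_sum_erase _ _ (Finset.mem_univ (0 : ZMod p)), ZMod.val_zero, pow_zero,
      ← BlockB.irr_degree_cast χ, hd, Nat.cast_sub (by omega),
      Finset.sum_congr rfl fun i hi => hval i (Finset.mem_erase.1 hi).1, Finset.sum_neg_distrib,
      Finset.sum_erase_eq_sub (Finset.mem_univ _), Finset.sum_add_distrib,
      Finset.sum_congr rfl (f := fun i => ψ (-(s * i))) fun i _ => congrArg ψ (neg_mul s i).symm,
      horth, horth, if_neg hs, if_neg (neg_ne_zero.2 hs)] at hm₀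
    simp only [mul_zero, neg_zero, AddChar.map_zero_eq_one] at hm₀
    have h : ((p : ℤ) : ℂ) = (((p : ℤ) * m₀ : ℤ) : ℂ) := by push_cast at hm₀ ⊢; linear_combination hm₀
    have h' : (p : ℤ) = (p : ℤ) * m₀ := by exact_mod_cast h
    exact (mul_eq_left₀ (Int.natCast_ne_zero.2 hp.ne_zero)).1 h'.symm
  -- the order of the pair
  have key : ∀ A B : IrrCharacter G, A ∈ R → B ∈ R → cf A = 1 → cf B = -1 →
      (∀ F : IrrCharacter G → ℂ, ∑ η ∈ Λ, F η * conj ((η : G → ℂ) x) =
        ∑ η ∈ Y, F η * conj ((η : G → ℂ) x) + (F A - F B)) →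
      ∃ r : ℝ, ∑ η ∈ Λ,
          (η : G → ℂ) z * (η : G → ℂ) z * conj ((η : G → ℂ) x) / (η : G → ℂ) 1 = (r : ℂ) ∧
        2 * (((p : ℝ) - 2) * (p : ℝ) ^ 2) * r ≤ 9 * ((p : ℝ) - 1) ^ 2 := by
    intro A B hA hB hcA hcB hsum
    have hB1 : (B : G → ℂ) 1 = (A : G → ℂ) 1 + ((p : ℂ) - 2) := by
      have h := hcol1 1 h1ne
      rw [hx1, hsum, hYF _ _ fun η hη => (hY1 η hη).1] at h
      linear_combination -h
    have hBz : (B : G → ℂ) z = (A : G → ℂ) z + (χ : G → ℂ) z := by
      have h := hcolz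
      rw [hsum, hYF _ _ fun η hη => (hY1 η hη).2] at h
      linear_combination -h
    have hA1 : (A : G → ℂ) 1 = (p : ℂ) * ((mf A : ℂ) - 1) + 1 := by
      have h := hmf A hA
      rw [hcA] at h
      push_cast at h
      linear_combination h
    have hAne : mf A ≠ 1 := fun h => by
      rw [h] at hA1
      have hA1' : (A : G → ℂ) 1 = 1 := by rw [hA1]; push_cast; ring
      obtain ⟨c, hcZ, hc1⟩ := Subgroup.bot_or_exists_ne_one _ |>.resolve_left hZ
      refine hc1 (hfaith c ?_)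
      have hw := congrFun (mem_overChars.1 (Finset.mem_sdiff.1 hA).1) ⟨c, hcZ⟩
      simp only [omegaZ, apply_eq_one_of_degree_one hperf (Char.irr_isCharacter A.2) hA1', hA1',
        div_one] at hw
      exact (div_eq_one_iff_eq (Char.irr_apply_one_ne_zero χ.2)).1 hw.symm
    have hk : (1 : ℝ) ≤ (mf A : ℝ) - 1 := by
      have hm : 2 ≤ mf A := by
        rcases Nat.eq_zero_or_pos (mf A) with h0 | h0
        · exfalso
          rw [h0, ← BlockB.irr_degree_cast A] at hA1
          have h1 : ((charDegree (A : G → ℂ) + p : ℕ) : ℂ) = ((1 : ℕ) : ℂ) := by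
            push_cast; rw [hA1]; push_cast; ring
          have h2 : charDegree (A : G → ℂ) + p = 1 := by exact_mod_cast h1
          omega
        · omega
      have : ((2 : ℕ) : ℝ) ≤ (mf A : ℝ) := by exact_mod_cast hm
      push_cast at this
      linarith
    refine ⟨(a : ℝ) * a / ((p : ℝ) - 2) + (bf A : ℝ) * bf A / ((p : ℝ) * ((mf A : ℝ) - 1) + 1) -
      ((bf A : ℝ) + a) * ((bf A : ℝ) + a) / ((p : ℝ) * ((mf A : ℝ) - 1) + 1 + ((p : ℝ) - 2)), ?_, ?_⟩
    · rw [Finset.sum_congr rfl (g := fun η : IrrCharacter G =>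
          (η : G → ℂ) z * (η : G → ℂ) z / (η : G → ℂ) 1 * conj ((η : G → ℂ) x)) fun η _ => by ring,
        hsum, hYF _ _ fun η hη => by rw [(hY1 η hη).1, (hY1 η hη).2], hBz, hB1, hA1, hbf A hA, ha]
      push_cast
      ring
    · refine central_arith hk (by have : (5 : ℝ) < (p : ℝ) := by exact_mod_cast hp5
                                  linarith) (by ring) (by ring) rfl ?_ ?_
      · have h : |a| ≤ 1 := hm₀1 ▸ hab
        exact_mod_cast h
      · have h : ((|bf A| : ℤ) : ℝ) ≤ ((mf A : ℤ) : ℝ) := Int.cast_le.2 (hbm A hA)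
        push_cast at h
        linarith
  have hdeg : (cf η₁ : ℂ) * (η₁ : G → ℂ) 1 + (cf η₂ : ℂ) * (η₂ : G → ℂ) 1 = -((p : ℂ) - 2) := by
    have h := hcol1 1 h1ne
    rw [hx1, hsplit, hYF _ _ fun η hη => (hY1 η hη).1] at h
    linear_combination h
  have hmem : ∀ η ∈ T, η ∈ R := fun η hη => (Finset.mem_filter.1 hη).1
  have h1T : η₁ ∈ T := by simp [hTeq]
  have h2T : η₂ ∈ T := by simp [hTeq]
  rcases hpm η₁ h1T with e1 | e1 <;> rcases hpm η₂ h2T with e2 | e2
  · exfalso
    rw [e1, e2, ← BlockB.irr_degree_cast η₁, ← BlockB.irr_degree_cast η₂] at hdeg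
    push_cast at hdeg
    have h : ((charDegree (η₁ : G → ℂ) + charDegree (η₂ : G → ℂ) + p : ℕ) : ℂ) = ((2 : ℕ) : ℂ) := by
      push_cast; linear_combination hdeg
    have h' : charDegree (η₁ : G → ℂ) + charDegree (η₂ : G → ℂ) + p = 2 := by exact_mod_cast h
    omega
  · exact key η₁ η₂ (hmem _ h1T) (hmem _ h2T) e1 e2 fun F => by rw [hsplit, e1, e2]; push_cast; ring
  · exact key η₂ η₁ (hmem _ h2T) (hmem _ h1T) e2 e1 fun F => by rw [hsplit, e1, e2]; push_cast; ring
  · exfalso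
    have hbig : ∀ η ∈ R, cf η = -1 → p ≤ charDegree (η : G → ℂ) + 1 := fun η hη he => by
      have h := hmf η hη
      rw [he, ← BlockB.irr_degree_cast η] at h
      have h' : ((charDegree (η : G → ℂ) + 1 : ℕ) : ℂ) = ((p * (mf η + 1) : ℕ) : ℂ) := by
        push_cast at h ⊢
        linear_combination h
      have h'' : charDegree (η : G → ℂ) + 1 = p * (mf η + 1) := by exact_mod_cast h'
      rw [h'']
      exact Nat.le_mul_of_pos_right p (by omega)
    have b1 := hbig η₁ (hmem _ h1T) e1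
    have b2 := hbig η₂ (hmem _ h2T) e2
    rw [e1, e2, ← BlockB.irr_degree_cast η₁, ← BlockB.irr_degree_cast η₂] at hdeg
    push_cast at hdeg
    have h : ((charDegree (η₁ : G → ℂ) + charDegree (η₂ : G → ℂ) + 2 : ℕ) : ℂ) = ((p : ℕ) : ℂ) := by
      push_cast; linear_combination -hdeg
    have h' : charDegree (η₁ : G → ℂ) + charDegree (η₂ : G → ℂ) + 2 = p := by exact_mod_cast h
    omega

end CfsgLib.Block.SmallShape
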