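import Cfsg.Agent.Lib.Block.InvolutionTrace
import Cfsg.Agent.Lib.Block.BTSquare
import Cfsg.Agent.Lib.Block.BTRows
import Cfsg.Agent.Lib.Block.DefectOneBase
import Cfsg.Agent.Lib.Char.Basic

/-!
The class multiplication sum for an involution inverting a self-centralizing element of order `p` in a
simple group is at least `((p - 1) / p) ^ 2`.
-/

set_option autoImplicit false
set_option linter.unusedSectionVars false

namespace CfsgLib.Block.SmallShape

open Cfsg CfsgLib CfsgLib.Block CfsgLib.Block.BrauerTuan CfsgLib.Block.BrauerReynolds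
open scoped ComplexConjugate

universe u

variable {G : Type u} [Group G] [Finite G] {p : ℕ} [hpf : Fact p.Prime] {x z : G}

/-- The arithmetic of the simple bound. -/
theorem simple_arith {P T D d b y e σ : ℝ} (hT : 1 ≤ T) (hP : P = 2 * T + 1) (hD : 1 ≤ D) (hd : 0 < d)
    (he : e = 1 ∨ e = -1) (hσ : σ = 1 ∨ σ = -1) (h1 : 1 + e * D = σ * d) (hz : 1 + e * b = σ * y)
    (hb : P * |b| ≤ D + (P - 1) * e) (hy : P * (T * |y|) ≤ T * d - (P - 1) * σ) :
    (P - 1) ^ 2 ≤ P ^ 2 * (1 + e * (b * b) / D + y * y / d * (-σ)) := by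
  have hP3 : 3 ≤ P := by linarith
  rcases he with rfl | rfl <;> rcases hσ with rfl | rfl
  · have hd' : d = D + 1 := by linarith
    have hy' : y = b + 1 := by linarith
    subst hd' hy'
    have hy2 : P * |b + 1| ≤ D - 1 := by
      have : T * (P * |b + 1|) ≤ T * (D - 1) := by
        rw [show P - 1 = 2 * T by linarith] at hy; nlinarith
      exact le_of_mul_le_mul_left this (by linarith)
    have h : 0 ≤ (P - 1) * (D + 1) := mul_nonneg (by linarith) (by linarith)
    have hlow : (P - 1) * (D + 1) ≤ P * (D - b) := by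
      have := mul_le_mul_of_nonneg_left (le_abs_self (b + 1)) (by linarith : (0 : ℝ) ≤ P)
      nlinarith
    have hsq := pow_le_pow_left₀ h hlow 2
    have heq : 1 + 1 * (b * b) / D + (b + 1) * (b + 1) / (D + 1) * (-1) =
        (D - b) ^ 2 / (D * (D + 1)) := by
      field_simp; ring
    rw [heq, ← mul_div_assoc, le_div_iff₀ (by positivity)]
    nlinarith [mul_nonneg (sq_nonneg (P - 1)) (by linarith : (0 : ℝ) ≤ D + 1)]
  · nlinarith
  · nlinarith
  · have hd' : d = D - 1 := by linarith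
    have hy' : y = b - 1 := by linarith
    subst hd' hy'
    have hb2 : P * |b| ≤ D - (P - 1) := by linarith
    have h : 0 ≤ (P - 1) * (D + 1) := mul_nonneg (by linarith) (by linarith)
    have hlow : (P - 1) * (D + 1) ≤ P * (D - b) := by
      have := mul_le_mul_of_nonneg_left (le_abs_self b) (by linarith : (0 : ℝ) ≤ P)
      nlinarith
    have hsq := pow_le_pow_left₀ h hlow 2
    have hD1 : D - 1 ≠ 0 := hd.ne'
    have heq : 1 + -1 * (b * b) / D + (b - 1) * (b - 1) / (D - 1) * (- -1) =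
        (D - b) ^ 2 / (D * (D - 1)) := by
      field_simp; ring
    rw [heq, ← mul_div_assoc, le_div_iff₀ (by positivity)]
    nlinarith [mul_le_mul_of_nonneg_left (show D * (D - 1) ≤ (D + 1) ^ 2 by nlinarith) (sq_nonneg (P - 1))]

/-- An inverting involution gives `|N / C| = 2`. -/
theorem relIndex_eq_two (hp5 : 5 < p) (P : Sylow p G) (hP : Nat.card P = p)
    (hPe : (P : Subgroup G) = Subgroup.zpowers x)
    (hC : Subgroup.centralizer ({x} : Set G) = Subgroup.zpowers x)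
    (hz : orderOf z = 2) (hzx : z * x * z⁻¹ = x⁻¹)
    (hN : ∀ n : G, n * x * n⁻¹ ∈ Subgroup.zpowers x → n * x * n⁻¹ = x ∨ n * x * n⁻¹ = x⁻¹) :
    (Subgroup.centralizer ((P : Subgroup G) : Set G)).relIndex
      (Subgroup.normalizer ((P : Subgroup G) : Set G)) = 2 := by
  have hp := hpf.out
  have hzz : z * z = 1 := by rw [← sq, ← hz, pow_orderOf_eq_one]
  have hxP : x ∈ (P : Subgroup G) := hPe ▸ Subgroup.mem_zpowers x
  have hCP : Subgroup.centralizer ((P : Subgroup G) : Set G) = (P : Subgroup G) := by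
    rw [hPe, DefectOne.centralizer_zpowers, hC]
  have hzC : z ∉ (P : Subgroup G) := fun h => by
    have h' := Subgroup.orderOf_dvd_natCard _ h
    rw [hz, hP] at h'
    have := (Nat.prime_dvd_prime_iff_eq Nat.prime_two hp).1 h'
    omega
  have hzN : z ∈ Subgroup.normalizer ((P : Subgroup G) : Set G) := by
    have hgen : ∀ a ∈ Subgroup.zpowers x, z * a * z⁻¹ ∈ Subgroup.zpowers x := fun a ha => by
      obtain ⟨j, rfl⟩ := Subgroup.mem_zpowers_iff.1 ha
      rw [← conj_zpow, hzx]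
      exact zpow_mem (inv_mem (Subgroup.mem_zpowers x)) j
    rw [hPe, Subgroup.mem_normalizer_iff]
    refine fun a => ⟨hgen a, fun ha => ?_⟩
    have h := hgen _ ha
    rw [inv_eq_of_mul_eq_one_right hzz] at h
    simpa [← mul_assoc, hzz, mul_assoc a z z] using h
  rw [hCP]
  refine Subgroup.index_eq_two_iff.2 ⟨⟨z, hzN⟩, fun b => ?_⟩
  simp only [Subgroup.mem_subgroupOf, Subgroup.coe_mul]
  have hmem : ∀ a : G, a ∈ (P : Subgroup G) ↔ a ∈ Subgroup.zpowers x := fun a => by rw [hPe]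
  have hb : (b : G) * x * (b : G)⁻¹ ∈ Subgroup.zpowers x :=
    (hmem _).1 ((Subgroup.mem_normalizer_iff.1 b.2 x).1 hxP)
  rw [hmem, hmem]
  rcases hN b hb with h | h
  · have hbm : (b : G) ∈ Subgroup.zpowers x :=
      hC ▸ Subgroup.mem_centralizer_singleton_iff.2 (mul_inv_eq_iff_eq_mul.1 h)
    refine Or.inr ⟨hbm, fun h' => ?_⟩
    exact hzC ((hmem _).2 ((Subgroup.mul_mem_cancel_left (Subgroup.zpowers x) hbm).1 h'))
  · have hbz : (b : G) * z ∈ Subgroup.zpowers x := by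
      rw [← hC, Subgroup.mem_centralizer_singleton_iff]
      refine mul_inv_eq_iff_eq_mul.1 ?_
      rw [show (b : G) * z * x * ((b : G) * z)⁻¹ = (b : G) * (z * x * z⁻¹) * (b : G)⁻¹ by group, hzx,
        ← conj_inv, h, inv_inv]
    refine Or.inl ⟨hbz, fun h' => ?_⟩
    exact hzC ((hmem _).2 ((Subgroup.mul_mem_cancel_left _ h').1 hbz))

/-- The lower bound in the simple group. -/
theorem simple_bound [IsSimpleGroup G] [Fintype (IrrCharacter G)] (hperf : commutator G = ⊤)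
    (hp5 : 5 < p) (hxo : orderOf x = p) (hsq : ¬ p ^ 2 ∣ Nat.card G)
    (hC : Subgroup.centralizer ({x} : Set G) = Subgroup.zpowers x)
    (hz : orderOf z = 2) (hzx : z * x * z⁻¹ = x⁻¹)
    (hN : ∀ n : G, n * x * n⁻¹ ∈ Subgroup.zpowers x → n * x * n⁻¹ = x ∨ n * x * n⁻¹ = x⁻¹) :
    ∃ r : ℝ, ∑ η : IrrCharacter G,
        (η : G → ℂ) z * (η : G → ℂ) z * conj ((η : G → ℂ) x) / (η : G → ℂ) 1 = (r : ℂ) ∧
      ((p : ℝ) - 1) ^ 2 ≤ (p : ℝ) ^ 2 * r := by
  classical
  have := Fintype.ofFinite G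
  have hp := hpf.out
  have hzz : z * z = 1 := by rw [← sq, ← hz, pow_orderOf_eq_one]
  have hPc : Nat.card (Subgroup.zpowers x) = p ^ (Nat.card G).factorization p := by
    rw [Nat.card_zpowers, hxo]
    have h1 : p ∣ Nat.card G := hxo ▸ orderOf_dvd_natCard x
    have h2 := (hp.dvd_iff_one_le_factorization Nat.card_pos.ne').1 h1
    have h3 : ¬ 2 ≤ (Nat.card G).factorization p := fun h =>
      hsq ((hp.pow_dvd_iff_le_factorization Nat.card_pos.ne').2 h)
    rw [show (Nat.card G).factorization p = 1 by omega, pow_one]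
  let P : Sylow p G := Sylow.ofCard (Subgroup.zpowers x) hPc
  have hPe : (P : Subgroup G) = Subgroup.zpowers x := rfl
  have hP : Nat.card P = p := (Nat.card_zpowers x).trans hxo
  have hxP : x ∈ (P : Subgroup G) := Subgroup.mem_zpowers x
  have hx1 : x ≠ 1 := fun h => by rw [h, orderOf_one] at hxo; omega
  have hCP : Subgroup.centralizer ((P : Subgroup G) : Set G) = (P : Subgroup G) := by
    rw [hPe, DefectOne.centralizer_zpowers, hC]
  obtain ⟨M, hM⟩ := BlockB.exists_isPModular (p := p) hp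
  obtain ⟨e, t, d₀, σ, CF, YF, ε, D⟩ := exists_rowData hperf hM P hP
  obtain rfl : e = 2 := D.e_eq.symm.trans (relIndex_eq_two hp5 P hP hPe hC hz hzx hN)
  have hte := D.hte
  obtain ⟨hCF2, hYcard, hσ, hYB, hdisj, hcover, hYdeg, -, hcol, hrow⟩ := D.exc (by omega)
  set one : IrrCharacter G := ⟨fun _ => 1, Char.isIrrCharacter_one⟩
  obtain ⟨χ₁, hχ₁⟩ := Finset.card_eq_one.1
    (show (CF.erase one).card = 1 by rw [Finset.card_erase_of_mem D.one_mem, hCF2])
  have hχ₁CF : χ₁ ∈ CF := Finset.mem_of_mem_erase (hχ₁ ▸ Finset.mem_singleton_self χ₁)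
  have hone : one ∉ ({χ₁} : Finset (IrrCharacter G)) := hχ₁ ▸ Finset.notMem_erase one CF
  have hCF : CF = insert one {χ₁} := by rw [← hχ₁, Finset.insert_erase D.one_mem]
  have hzreg : ¬ p ∣ orderOf z := fun h => by
    rw [hz] at h; have := Nat.le_of_dvd (by omega) h; omega
  have hrowg : ∀ η ∈ YF, ∀ g : G, ¬ p ∣ orderOf g →
      1 + (ε χ₁ : ℂ) * (χ₁ : G → ℂ) g = (σ : ℂ) * (η : G → ℂ) g := fun η hη g hg => by
    rw [← hrow η hη g hg, hCF, Finset.sum_insert hone, Finset.sum_singleton, D.eps_one]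
    simp [one]
  obtain ⟨η₀, hη₀⟩ := Finset.card_pos.1 (show 0 < YF.card by rw [hYcard]; exact D.t_pos)
  have hσ0 : (σ : ℂ) ≠ 0 := by rcases hσ with rfl | rfl <;> norm_num
  have hxi : ∀ i : ZMod p, i ≠ 0 → x ^ i.val ≠ 1 := fun i hi h => by
    rw [← orderOf_dvd_iff_pow_eq_one, hxo, ← CharP.cast_eq_zero_iff (ZMod p) p,
      ZMod.natCast_zmod_val] at h
    exact hi h
  have hsplit : ∀ (F : G → ℂ) (v : ℂ), (∀ y ∈ (P : Subgroup G), y ≠ 1 → F y = v) →
      ∑ i : ZMod p, F (x ^ i.val) = F 1 + ((p : ℂ) - 1) * v := fun F v hv => by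
    rw [← Finset.add_sum_erase _ _ (Finset.mem_univ (0 : ZMod p)), ZMod.val_zero, pow_zero,
      Finset.sum_congr rfl fun i hi => hv _ (pow_mem hxP i.val) (hxi i (Finset.mem_erase.1 hi).1),
      Finset.sum_const, Finset.card_erase_of_mem (Finset.mem_univ _), Finset.card_univ, ZMod.card,
      nsmul_eq_mul, Nat.cast_sub hp.one_le, Nat.cast_one]
  obtain ⟨m, b, hm, hb, hbm⟩ :=
    InvolutionTrace.exists_bound (by omega) (Char.irr_isCharacter χ₁.2) hxo hzz hzx
  rw [hsplit _ _ (D.CF_val χ₁ hχ₁CF), ← BlockB.irr_degree_cast χ₁] at hm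
  have hYchar : IsCharacter G (fun g => ∑ η ∈ YF, (η : G → ℂ) g) := by
    rw [show (fun g => ∑ η ∈ YF, (η : G → ℂ) g) = ∑ η ∈ YF, (η : G → ℂ) from
      funext fun g => (Finset.sum_apply g YF fun η : IrrCharacter G => (η : G → ℂ)).symm]
    exact Char.isCharacter_sum YF fun η _ => Char.irr_isCharacter η.2
  obtain ⟨m', w, hm', hw, hwm⟩ := InvolutionTrace.exists_bound (by omega) hYchar hxo hzz hzx
  have hYz : ∀ η ∈ YF, (η : G → ℂ) z = (η₀ : G → ℂ) z := fun η hη =>
    mul_left_cancel₀ hσ0 ((hrowg η hη z hzreg).symm.trans (hrowg η₀ hη₀ z hzreg))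
  have hY1 : ∀ η ∈ YF, (η : G → ℂ) 1 = (d₀ : ℂ) := fun η hη => by
    rw [← BlockB.irr_degree_cast η, hYdeg η hη]
  rw [hsplit _ _ hcol, Finset.sum_congr rfl hY1, Finset.sum_const, hYcard, nsmul_eq_mul] at hm'
  replace hw : (t : ℂ) * (η₀ : G → ℂ) z = (w : ℂ) := by
    rw [← hw, Finset.sum_congr rfl hYz, Finset.sum_const, hYcard, nsmul_eq_mul]
  have hyz : (η₀ : G → ℂ) z = (σ : ℂ) * (1 + (ε χ₁ : ℂ) * (b : ℂ)) := by
    rw [← hb, hrowg η₀ hη₀ z hzreg, ← mul_assoc]
    rcases hσ with rfl | rfl <;> norm_num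
  have hd1 : 1 + (ε χ₁ : ℂ) * (charDegree (χ₁ : G → ℂ) : ℂ) = (σ : ℂ) * (d₀ : ℂ) := by
    rw [BlockB.irr_degree_cast χ₁, hrowg η₀ hη₀ 1 (by rw [orderOf_one]; exact hp.not_dvd_one), hY1 η₀ hη₀]
  set y : ℤ := σ * (1 + ε χ₁ * b) with hy
  refine ⟨1 + (ε χ₁ : ℝ) * ((b : ℝ) * b) / (charDegree (χ₁ : G → ℂ) : ℝ) +
    (y : ℝ) * y / (d₀ : ℝ) * (-(σ : ℝ)), ?_, ?_⟩
  · rw [← Finset.sum_subset (Finset.subset_univ (CF ∪ YF)) fun χ _ hχ => ?_,
      Finset.sum_union hdisj, hCF, Finset.sum_insert hone, Finset.sum_singleton,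
      Finset.sum_congr rfl (g := fun η : IrrCharacter G =>
        (η₀ : G → ℂ) z * (η₀ : G → ℂ) z / (d₀ : ℂ) * conj ((η : G → ℂ) x)) fun η hη => by
          rw [hYz η hη, hY1 η hη]; ring,
      ← Finset.mul_sum, ← map_sum, hcol x hxP hx1, map_intCast, hyz,
      D.CF_val χ₁ hχ₁CF x hxP hx1, map_intCast, hb, ← BlockB.irr_degree_cast χ₁, hy]
    · simp only [one, map_one, mul_one, div_one]
      push_cast
      ring
    · rw [apply_eq_zero_of_not_principal hP hCP hM χ (fun hB => hχ ?_) hxP hx1, map_zero, mul_zero,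
        zero_div]
      rcases hcover χ hB with h | h
      · exact Finset.mem_union_left _ h
      · exact Finset.mem_union_right _ h
  · have hD : 1 ≤ charDegree (χ₁ : G → ℂ) := BlockB.irr_degree_pos χ₁
    have hd₀ : 0 < d₀ := hYdeg η₀ hη₀ ▸ BlockB.irr_degree_pos η₀
    have hwy : w = t * y := by
      rw [hyz] at hw
      have : ((t * y : ℤ) : ℂ) = (w : ℂ) := by rw [← hw, hy]; push_cast; ring
      exact (Int.cast_inj.1 this).symm
    have hεR := D.eps_pm χ₁ hχ₁CF
    have e1 : ((charDegree (χ₁ : G → ℂ) : ℤ) + ((p : ℤ) - 1) * ε χ₁ : ℤ) = (p : ℤ) * m := by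
      apply Int.cast_injective (α := ℂ); push_cast; linear_combination hm
    have e2 : ((t : ℤ) * d₀ + ((p : ℤ) - 1) * (-σ) : ℤ) = (p : ℤ) * m' := by
      apply Int.cast_injective (α := ℂ); push_cast at hm' ⊢; linear_combination hm'
    have e3 : (1 + ε χ₁ * (charDegree (χ₁ : G → ℂ) : ℤ) : ℤ) = σ * (d₀ : ℤ) := by
      apply Int.cast_injective (α := ℂ); push_cast; exact hd1
    refine simple_arith (T := (t : ℝ)) (by exact_mod_cast D.t_pos) ?_ (by exact_mod_cast hD)
      (by exact_mod_cast hd₀) ?_ ?_ ?_ ?_ ?_ ?_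
    · have h : (p : ℝ) = ((t * 2 + 1 : ℕ) : ℝ) := by rw [hte]
      rw [h]; push_cast; ring
    · rcases hεR with h | h <;> simp [h]
    · rcases hσ with h | h <;> simp [h]
    · exact_mod_cast e3
    · rw [hy]; rcases hσ with h | h <;> simp [h]
    · have h : (p : ℤ) * |b| ≤ (charDegree (χ₁ : G → ℂ) : ℤ) + ((p : ℤ) - 1) * ε χ₁ := by
        rw [e1]; exact mul_le_mul_of_nonneg_left hbm (by positivity)
      exact_mod_cast h
    · have h : (p : ℤ) * ((t : ℤ) * |y|) ≤ (t : ℤ) * d₀ + ((p : ℤ) - 1) * (-σ) := by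
        rw [e2]
        refine mul_le_mul_of_nonneg_left ?_ (by positivity)
        rw [hwy, abs_mul, Nat.abs_cast] at hwm
        exact hwm
      have h' : (((p : ℤ) * ((t : ℤ) * |y|) : ℤ) : ℝ) ≤
          (((t : ℤ) * d₀ + ((p : ℤ) - 1) * (-σ) : ℤ) : ℝ) := Int.cast_le.2 h
      push_cast at h'
      linarith

end CfsgLib.Block.SmallShape
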