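import Cfsg.Agent.Lib.Block.SmallCore
import Cfsg.Agent.Lib.Block.SmallCentral
import Cfsg.Agent.Lib.Block.SmallSimple
import Mathlib.LinearAlgebra.Determinant

/-!
A perfect group, simple modulo its centre, with a faithful irreducible character of degree `p - 2`,
the Sylow subgroup having order `p`, has trivial centre.
-/

set_option autoImplicit false
set_option linter.unusedSectionVars false

namespace CfsgLib.Block.SmallShape

open Cfsg CfsgLib CfsgLib.Block CfsgLib.Block.CentralBlock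
open scoped ComplexConjugate

universe u

variable {G : Type u} [Group G] [Finite G] {p : ℕ} [hpf : Fact p.Prime] {x : G}

local notation "ψ" => (ZMod.stdAddChar (N := p))

/-- The centre of a perfect group with a faithful irreducible character of odd degree has odd order. -/
theorem eq_one_of_sq_eq_one (hperf : commutator G = ⊤) {χ : G → ℂ} (hχ : IsIrrCharacter G χ)
    (hfaith : ∀ g, χ g = χ 1 → g = 1) (hodd : Odd (charDegree χ)) {c : G}
    (hc : c ∈ Subgroup.center G) (hc2 : c * c = 1) : c = 1 := by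
  obtain ⟨m, ρ, hρ, hρχ⟩ := hχ
  obtain ⟨w, hw⟩ := CfsgLib.Char.exists_scalar_of_commute ρ (ρ c) fun k => by
    rw [← Module.End.mul_eq_comp, ← Module.End.mul_eq_comp, ← map_mul, ← map_mul,
      Subgroup.mem_center_iff.1 hc k]
  have hm : charDegree χ = m := by
    rw [charDegree, ← hρχ, Representation.char_one, Module.finrank_fin_fun, Complex.natCast_re,
      Nat.floor_natCast]
  let f : G →* ℂˣ :=
    MonoidHom.toHomUnits ((LinearMap.det : Module.End ℂ (Fin m → ℂ) →* ℂ).comp ρ)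
  have hker : commutator G ≤ f.ker := Abelianization.commutator_subset_ker f
  rw [hperf] at hker
  have hdet : LinearMap.det (ρ c) = 1 :=
    congrArg Units.val (MonoidHom.mem_ker.1 (hker (Subgroup.mem_top c)))
  rw [hw, LinearMap.det_smul, LinearMap.det_id, mul_one, Module.finrank_fin_fun] at hdet
  have h2 : ρ c * ρ c = 1 := by rw [← map_mul, hc2, map_one]
  obtain ⟨i, hi⟩ : Odd m := hm ▸ hodd
  have hv := LinearMap.congr_fun h2 (fun _ => (1 : ℂ))
  rw [hw] at hv
  have hww : w * w = 1 := by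
    have h := congrFun hv ⟨0, by omega⟩
    simpa using h
  rw [hi, pow_succ, pow_mul, sq, hww, one_pow, one_mul] at hdet
  refine hfaith c ?_
  rw [← hρχ, Representation.character, Representation.character, hw, hdet, one_smul, map_one]
  rfl

/-- The centre is trivial. -/
theorem center_eq_bot (hp5 : 5 < p) (hxo : orderOf x = p) (hsq : ¬ p ^ 2 ∣ Nat.card G)
    (hperf : commutator G = ⊤)
    (hnormal : ∀ R : Subgroup G, R.Normal → R ≤ Subgroup.center G ∨ R = ⊤)
    (hxZ : x ∉ Subgroup.center G) {χ : G → ℂ} (hχ : IsIrrCharacter G χ)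
    (hfaith : ∀ g, χ g = χ 1 → g = 1) (hd : charDegree χ = p - 2) :
    Subgroup.center G = ⊥ := by
  classical
  by_contra hZ
  have := Fintype.ofFinite G
  have := Fintype.ofFinite (IrrCharacter G)
  have hp := hpf.out
  have hodd : p % 2 = 1 := hp.eq_two_or_odd.resolve_left (by omega)
  obtain ⟨hC, ⟨n, hn⟩, hN, s, hs, hval⟩ := local_sub_two hp5 hxo hsq hxZ hχ hfaith hd
  set Z := Subgroup.center G
  have hxp : x ^ p = 1 := hxo ▸ pow_orderOf_eq_one x
  have hpZ : ¬ p ∣ Nat.card Z := fun h => by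
    obtain ⟨c, hc⟩ := exists_prime_orderOf_dvd_card' (G := Z) p h
    exact hxZ (mem_normal_of_orderOf_eq (x := (c : G)) (by rw [Subgroup.orderOf_coe, hc]) hsq Z c.2 hxo)
  have h2Z : ¬ 2 ∣ Nat.card Z := fun h => by
    obtain ⟨c, hc⟩ := exists_prime_orderOf_dvd_card' (G := Z) 2 h
    have h1 : (c : G) = 1 := eq_one_of_sq_eq_one hperf hχ hfaith
      (by rw [hd, Nat.odd_iff]; omega) c.2 (by
        rw [← sq, show 2 = orderOf (c : G) by rw [Subgroup.orderOf_coe, hc], pow_orderOf_eq_one])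
    rw [← Subgroup.orderOf_coe, h1, orderOf_one] at hc
    omega
  have hcp : ∀ c ∈ Z, c ^ p = 1 → c = 1 := fun c hc h => orderOf_eq_one_iff.1
    (Nat.eq_one_of_dvd_coprimes (hp.coprime_iff_not_dvd.2 hpZ) (orderOf_dvd_of_pow_eq_one h)
      (by rw [← Subgroup.orderOf_mk c hc]; exact orderOf_dvd_natCard _))
  have hmulp : ∀ c ∈ Z, ∀ j : ℕ, (c * x ^ j) ^ p = c ^ p := fun c hc j => by
    rw [Commute.mul_pow (Subgroup.mem_center_iff.1 hc _).symm, ← pow_mul, mul_comm j, pow_mul, hxp,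
      one_pow, mul_one]
  have hxi : ∀ i : ZMod p, i ≠ 0 → ∃ k : ℕ, (x ^ i.val) ^ k = x := fun i hi => by
    refine exists_pow_eq_self_of_coprime ?_
    rw [hxo]
    refine (hp.coprime_iff_not_dvd.2 fun h => hi ?_).symm
    rw [← ZMod.natCast_zmod_val i, (CharP.cast_eq_zero_iff (ZMod p) p _).2 h]
  -- centralizers
  have hcent0 : Nat.card (Subgroup.centralizer ({x} : Set G)) = p * Nat.card Z := by
    let f : ZMod p × Z → Subgroup.centralizer ({x} : Set G) := fun a =>
      ⟨x ^ a.1.val * (a.2 : G), mul_mem (pow_mem (Subgroup.mem_centralizer_singleton_iff.2 rfl) _)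
        (Subgroup.center_le_centralizer _ a.2.2)⟩
    have hf : Function.Bijective f := by
      refine ⟨fun a b h => ?_, fun c => ?_⟩
      · have h' : x ^ a.1.val * (a.2 : G) = x ^ b.1.val * (b.2 : G) := congrArg Subtype.val h
        have h1 : a.1 = b.1 := by
          by_contra hne
          have hmem : x ^ (a.1 - b.1).val ∈ Z := by
            have h3 : x ^ a.1.val = x ^ (a.1 - b.1).val * x ^ b.1.val := by
              rw [← pow_add, pow_eq_pow_iff_modEq, hxo, ← ZMod.natCast_eq_natCast_iff]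
              push_cast
              simp
            rw [h3, mul_assoc] at h'
            have h4 : x ^ (a.1 - b.1).val = x ^ b.1.val * ((b.2 : G) * (a.2 : G)⁻¹) * (x ^ b.1.val)⁻¹ := by
              rw [← mul_assoc (x ^ b.1.val), ← h']; group
            rw [h4]
            exact (inferInstance : Z.Normal).conj_mem _ (mul_mem b.2.2 (inv_mem a.2.2)) _
          obtain ⟨k, hk⟩ := hxi _ (sub_ne_zero.2 hne)
          exact hxZ (hk ▸ pow_mem hmem k)
        rw [h1] at h'
        exact Prod.ext h1 (Subtype.ext (mul_left_cancel h'))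
      · obtain ⟨i, hi⟩ := hC c c.2
        refine ⟨((i : ZMod p), ⟨_, hi⟩), Subtype.ext ?_⟩
        change x ^ (i : ZMod p).val * ((x ^ i)⁻¹ * (c : G)) = c
        rw [ZMod.val_natCast, ← hxo, pow_mod_orderOf, mul_inv_cancel_left]
    rw [← Nat.card_congr (Equiv.ofBijective f hf), Nat.card_prod, Nat.card_eq_fintype_card, ZMod.card]
  have hcent : ∀ i : ZMod p, i ≠ 0 →
      Nat.card (Subgroup.centralizer ({x ^ i.val} : Set G)) = p * Nat.card Z := fun i hi => by
    suffices h : Subgroup.centralizer ({x ^ i.val} : Set G) = Subgroup.centralizer ({x} : Set G) by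
      rw [h, hcent0]
    refine le_antisymm (fun c hc => ?_) fun c hc => ?_
    · obtain ⟨k, hk⟩ := hxi i hi
      rw [Subgroup.mem_centralizer_singleton_iff] at hc ⊢
      rw [← hk]
      exact (Commute.pow_right hc k).eq
    · rw [Subgroup.mem_centralizer_singleton_iff] at hc ⊢
      exact (Commute.pow_right hc i.val).eq
  have hfus : ∀ i j : ZMod p, i ≠ 0 → j ≠ 0 → IsConj (x ^ i.val) (x ^ j.val) → j = i ∨ j = -i :=
    fun i j hi _ h => by
    obtain ⟨g, hg⟩ := isConj_iff.1 h
    obtain ⟨k, hk⟩ := hxi i hi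
    have hgx : g * x * g⁻¹ ∈ Subgroup.zpowers x := by
      rw [show g * x * g⁻¹ = (x ^ j.val) ^ k by rw [← hg, conj_pow, hk]]
      exact pow_mem (pow_mem (Subgroup.mem_zpowers x) _) _
    rw [← conj_pow] at hg
    rcases hN g hgx with h' | h' <;>
      rw [h'] at hg
    · left
      rw [pow_eq_pow_iff_modEq, hxo, ← ZMod.natCast_eq_natCast_iff] at hg
      simpa using hg.symm
    · right
      rw [inv_pow, inv_eq_iff_mul_eq_one, ← pow_add, ← orderOf_dvd_iff_pow_eq_one, hxo,
        ← CharP.cast_eq_zero_iff (ZMod p) p, Nat.cast_add, ZMod.natCast_zmod_val,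
        ZMod.natCast_zmod_val] at hg
      exact eq_neg_of_add_eq_zero_right hg
  -- the involution
  have hn2 : n * n ∈ Subgroup.centralizer ({x} : Set G) := by
    rw [Subgroup.mem_centralizer_singleton_iff]
    refine mul_inv_eq_iff_eq_mul.1 ?_
    rw [show n * n * x * (n * n)⁻¹ = n * (n * x * n⁻¹) * n⁻¹ by group, hn, ← conj_inv, hn, inv_inv]
  obtain ⟨k, hk⟩ : Odd (p * Nat.card Z) := by
    rw [Nat.odd_mul, Nat.odd_iff, Nat.odd_iff]; omega
  set z := n ^ (p * Nat.card Z) with hzdef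
  have hzz : z * z = 1 := by
    rw [hzdef, ← pow_add, ← two_mul, pow_mul, sq, ← hcent0]
    exact congrArg Subtype.val (pow_card_eq_one'
      (x := (⟨n * n, hn2⟩ : Subgroup.centralizer ({x} : Set G))))
  have hzx : z * x * z⁻¹ = x⁻¹ := by
    have hc : (n * n) ^ k * x * ((n * n) ^ k)⁻¹ = x := mul_inv_eq_iff_eq_mul.2
      (Subgroup.mem_centralizer_singleton_iff.1 (pow_mem hn2 k))
    rw [hzdef, hk, pow_succ', pow_mul, sq, show n * (n * n) ^ k * x * (n * (n * n) ^ k)⁻¹ =
      n * ((n * n) ^ k * x * ((n * n) ^ k)⁻¹) * n⁻¹ by group, hc, hn]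
  have hx2 : x ≠ x⁻¹ := fun h => by
    have h5 : orderOf x ∣ 2 := orderOf_dvd_of_pow_eq_one (by
      rw [sq]; nth_rewrite 2 [h]; exact mul_inv_cancel x)
    have := Nat.le_of_dvd (by omega) (hxo ▸ h5)
    omega
  have hzZ : z ∉ Z := fun h => hx2 (by
    rwa [← Subgroup.mem_center_iff.1 h x, mul_inv_cancel_right] at hzx)
  have hzo : orderOf z = 2 :=
    orderOf_eq_prime (by rw [sq, hzz]) fun h => hzZ (h ▸ one_mem Z)
  have hzi : z⁻¹ = z := inv_eq_of_mul_eq_one_right hzz
  -- the central character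
  set χ' : IrrCharacter G := ⟨χ, hχ⟩
  obtain ⟨r, hr, hrle⟩ := central_bound hp5 hxo hperf hZ hpZ hsq hcent hfus hzo hzx χ' hfaith hd hs
    fun i hi => by
      rw [show (χ' : G → ℂ) (x ^ i.val) = χ (x ^ i.val) from rfl, hval i,
        Finset.sum_congr rfl fun a _ => congrArg ψ (mul_comm a i),
        Finset.sum_congr rfl fun a _ => congrArg ψ (mul_comm i a),
        AddChar.sum_mulShift i (ZMod.isPrimitive_stdAddChar p), if_neg hi]
      simp
  -- the simple quotient
  let q : G →* G ⧸ Z := QuotientGroup.mk' Z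
  have hq : Function.Surjective q := QuotientGroup.mk'_surjective Z
  have hq1 : ∀ g, q g = 1 ↔ g ∈ Z := fun g => QuotientGroup.eq_one_iff g
  have hqeq : ∀ g h, q g = q h → ∃ c ∈ Z, g = c * h := fun g h e => by
    refine ⟨g * h⁻¹, (hq1 _).1 ?_, by group⟩
    rw [map_mul, map_inv, e, mul_inv_cancel]
  have : Nontrivial (G ⧸ Z) := ⟨⟨q x, 1, fun h => hxZ ((hq1 x).1 h)⟩⟩
  have : IsSimpleGroup (G ⧸ Z) := ⟨fun R hR => by
    rcases hnormal (R.comap q) (hR.comap q) with h | h
    · left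
      refine (Subgroup.eq_bot_iff_forall R).2 fun a ha => ?_
      obtain ⟨g, rfl⟩ := hq a
      exact (hq1 g).2 (h (Subgroup.mem_comap.2 ha))
    · right
      rw [← Subgroup.map_comap_eq_self_of_surjective hq R, h, Subgroup.map_top_of_surjective q hq]⟩
  have hperfS : commutator (G ⧸ Z) = ⊤ := by
    rw [commutator_def, ← Subgroup.map_top_of_surjective q hq, ← Subgroup.map_commutator,
      ← commutator_def, hperf]
  have hxo' : orderOf (q x) = p := orderOf_eq_prime (by rw [← map_pow, hxp, map_one])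
    fun h => hxZ ((hq1 x).1 h)
  have hsq' : ¬ p ^ 2 ∣ Nat.card (G ⧸ Z) := fun h =>
    hsq (h.trans (Subgroup.card_quotient_dvd_card Z))
  have hzo' : orderOf (q z) = 2 := orderOf_eq_prime (by rw [← map_pow, sq, hzz, map_one])
    fun h => hzZ ((hq1 z).1 h)
  have hzx' : q z * q x * (q z)⁻¹ = (q x)⁻¹ := by rw [← map_inv, ← map_mul, ← map_mul, hzx, map_inv]
  have hlift : ∀ (g : G) (j : ℕ), q (g * x * g⁻¹) = q (x ^ j) → g * x * g⁻¹ = x ^ j := fun g j e => by
    obtain ⟨c, hc, he⟩ := hqeq _ _ e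
    have h := congrArg (· ^ p) he
    simp only [hmulp c hc, conj_pow, hxp, mul_one, mul_inv_cancel] at h
    rw [he, hcp c hc h.symm, one_mul]
  have hCS : Subgroup.centralizer ({q x} : Set (G ⧸ Z)) = Subgroup.zpowers (q x) := by
    refine le_antisymm (fun a ha => ?_) (Subgroup.zpowers_le.2 (Subgroup.mem_centralizer_singleton_iff.2 rfl))
    obtain ⟨g, rfl⟩ := hq a
    rw [Subgroup.mem_centralizer_singleton_iff] at ha
    have h : g * x * g⁻¹ = x ^ 1 :=
      hlift g 1 (by rw [pow_one, map_mul, map_mul, map_inv, ha, mul_inv_cancel_right])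
    rw [pow_one] at h
    obtain ⟨i, hi⟩ := hC g (Subgroup.mem_centralizer_singleton_iff.2 (mul_inv_eq_iff_eq_mul.1 h))
    refine Subgroup.mem_zpowers_iff.2 ⟨i, ?_⟩
    rw [zpow_natCast, ← map_pow]
    have := (hq1 _).2 hi
    rw [map_mul, map_inv] at this
    exact inv_mul_eq_one.1 this
  have hNS : ∀ a : G ⧸ Z, a * q x * a⁻¹ ∈ Subgroup.zpowers (q x) →
      a * q x * a⁻¹ = q x ∨ a * q x * a⁻¹ = (q x)⁻¹ := fun a ha => by
    obtain ⟨g, rfl⟩ := hq a
    obtain ⟨j, hj⟩ := mem_powers_iff_mem_zpowers.2 ha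
    replace hj : q x ^ j = q g * q x * (q g)⁻¹ := hj
    have h := hlift g j (by rw [map_mul, map_mul, map_inv, map_pow, hj])
    rw [← map_inv, ← map_mul, ← map_mul, ← map_inv]
    rcases hN g (h ▸ pow_mem (Subgroup.mem_zpowers x) j) with h' | h' <;> simp [h']
  have := Fintype.ofFinite (G ⧸ Z)
  have := Fintype.ofFinite (IrrCharacter (G ⧸ Z))
  obtain ⟨r', hr', hrle'⟩ := simple_bound hperfS hp5 hxo' hsq' hCS hzo' hzx' hNS
  -- comparison of the class multiplication sums
  have key : ∀ (w c : G), z * w * z⁻¹ = w⁻¹ → c ∈ Z → IsConj w (c * x) → c = 1 := fun w c hw hc hconj => by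
    obtain ⟨g, hg⟩ := isConj_iff.1 hconj
    have h1 : g * w ^ p * g⁻¹ = c ^ p := by
      rw [← conj_pow, hg]; simpa using hmulp c hc 1
    have h2 : w ^ p = c ^ p := by
      rw [show w ^ p = g⁻¹ * (g * w ^ p * g⁻¹) * g by group, h1,
        Subgroup.mem_center_iff.1 (pow_mem hc p) g⁻¹, inv_mul_cancel_right]
    have h3 : z * w ^ p * z⁻¹ = (w ^ p)⁻¹ := by rw [← conj_pow, hw, inv_pow]
    rw [h2, Subgroup.mem_center_iff.1 (pow_mem hc p) z, mul_inv_cancel_right] at h3
    refine hcp c hc ?_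
    have h4 : (c ^ p) ^ 2 = 1 := by rw [sq]; nth_rewrite 2 [h3]; exact mul_inv_cancel _
    refine orderOf_eq_one_iff.1 (Nat.eq_one_of_dvd_coprimes (Nat.prime_two.coprime_iff_not_dvd.2 h2Z)
      (orderOf_dvd_of_pow_eq_one h4) ?_)
    rw [← Subgroup.orderOf_mk (c ^ p) (pow_mem hc p)]
    exact orderOf_dvd_natCard _
  have hw : ∀ t : G, z * (z * (t * z * t⁻¹)) * z⁻¹ = (z * (t * z * t⁻¹))⁻¹ := fun t => by
    rw [← mul_assoc z z, hzz, one_mul, mul_inv_rev, hzi, show (t * z * t⁻¹)⁻¹ = t * z⁻¹ * t⁻¹ by group, hzi]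
  have htriG := triple χ' z z x fun c t hc => by
    obtain ⟨g, hg⟩ := isConj_iff.1 hc
    have h : IsConj (z * (t * z * t⁻¹)) (((c : G))⁻¹ * x) := isConj_iff.2 ⟨g, by
      rw [← hg, show g * ((c : G) * (z * (t * z * t⁻¹))) * g⁻¹ =
        (g * (c : G)) * (z * (t * z * t⁻¹)) * g⁻¹ by group, Subgroup.mem_center_iff.1 c.2 g]
      group⟩
    have := key _ _ (hw t) (inv_mem c.2) h
    exact Subtype.ext (inv_eq_one.1 this)
  have hbot : Subgroup.center (G ⧸ Z) = ⊥ := by
    refine (Subgroup.center (G ⧸ Z)).eq_bot_iff_forall.2 fun a ha => ?_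
    by_contra hne
    rcases IsSimpleGroup.eq_bot_or_eq_top_of_normal (Subgroup.center (G ⧸ Z)) inferInstance with h | h
    · exact hne (by rwa [h, Subgroup.mem_bot] at ha)
    · have hzc : q z ∈ Subgroup.center (G ⧸ Z) := h ▸ Subgroup.mem_top _
      rw [← Subgroup.mem_center_iff.1 hzc (q x), mul_inv_cancel_right] at hzx'
      have h5 : orderOf (q x) ∣ 2 := orderOf_dvd_of_pow_eq_one (by
        rw [sq]; nth_rewrite 2 [hzx']; exact mul_inv_cancel (q x))
      have := Nat.le_of_dvd (by omega) (hxo' ▸ h5)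
      omega
  have hsub : Subsingleton (Subgroup.center (G ⧸ Z)) := by rw [hbot]; infer_instance
  obtain ⟨θ⟩ : Nonempty (IrrCharacter (G ⧸ Z)) := ⟨⟨fun _ => 1, Char.isIrrCharacter_one⟩⟩
  have htriS := triple θ (q z) (q z) (q x) fun c t _ => Subsingleton.elim c 1
  have hover : overChars θ = Finset.univ := Finset.eq_univ_of_forall fun φ => mem_overChars.2 (by
    funext c
    rw [Subsingleton.elim c 1, omegaZ_one, omegaZ_one])
  rw [hover, hr', hbot, Subgroup.card_bot, Nat.cast_one, one_mul, hCS, Nat.card_zpowers, hxo'] at htriS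
  rw [hr, hcent0] at htriG
  have hcount : (Finset.univ.filter fun t : G => IsConj (z * (t * z * t⁻¹)) x).card =
      Nat.card Z * (Finset.univ.filter fun t : G ⧸ Z => IsConj (q z * (t * q z * t⁻¹)) (q x)).card := by
    have e : ∀ t : G, IsConj (z * (t * z * t⁻¹)) x ↔ IsConj (q z * (q t * q z * (q t)⁻¹)) (q x) := fun t => by
      refine ⟨fun h => by simpa using q.map_isConj h, fun h => ?_⟩
      obtain ⟨a, ha⟩ := isConj_iff.1 h
      obtain ⟨g, rfl⟩ := hq a
      obtain ⟨c, hc, he⟩ := hqeq (g * (z * (t * z * t⁻¹)) * g⁻¹) x (by simpa using ha)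
      have hc1 := key _ c (hw t) hc (isConj_iff.2 ⟨g, he⟩)
      rw [hc1, one_mul] at he
      exact isConj_iff.2 ⟨g, he⟩
    set T := Finset.univ.filter fun t : G ⧸ Z => IsConj (q z * (t * q z * t⁻¹)) (q x)
    refine Eq.trans ?_ (show Nat.card (Z × (T : Set (G ⧸ Z))) = Nat.card Z * T.card by
      rw [Nat.card_prod, Nat.card_coe_set_eq, Set.ncard_coe_finset])
    rw [← Nat.card_congr (QuotientGroup.preimageMkEquivSubgroupProdSet Z (T : Set (G ⧸ Z))),
      ← Nat.card_eq_finsetCard]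
    refine Nat.card_congr (Equiv.subtypeEquivRight fun t => ?_)
    simp only [T, Finset.mem_filter, Finset.mem_univ, true_and, Set.mem_preimage, Finset.coe_filter,
      Set.mem_setOf_eq]
    exact e t
  generalize hNG : Finset.card _ = NG at htriG
  obtain rfl : NG = Nat.card Z *
      (Finset.univ.filter fun t : G ⧸ Z => IsConj (q z * (t * q z * t⁻¹)) (q x)).card := by
    rw [← hNG, ← hcount]
    congr 1
    exact Finset.ext fun t => by simp
  generalize hNS' : Finset.card _ = NS at htriS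
  obtain rfl : NS = (Finset.univ.filter fun t : G ⧸ Z => IsConj (q z * (t * q z * t⁻¹)) (q x)).card := by
    rw [← hNS']
    congr 1
    exact Finset.ext fun t => by simp
  rw [Subgroup.card_eq_card_quotient_mul_card_subgroup Z] at htriG
  push_cast at htriG
  have hrr : r = r' := by
    have hZ0 : (Nat.card Z : ℂ) ≠ 0 := Nat.cast_ne_zero.2 Nat.card_pos.ne'
    have hS0 : (Nat.card (G ⧸ Z) : ℂ) ≠ 0 := Nat.cast_ne_zero.2 Nat.card_pos.ne'
    have h : (Nat.card Z : ℂ) * (Nat.card Z : ℂ) * (Nat.card (G ⧸ Z) : ℂ) * (r : ℂ) =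
        (Nat.card Z : ℂ) * (Nat.card Z : ℂ) * (Nat.card (G ⧸ Z) : ℂ) * (r' : ℂ) := by
      linear_combination htriG - (Nat.card Z : ℂ) * (Nat.card Z : ℂ) * htriS
    exact Complex.ofReal_inj.1 (mul_left_cancel₀ (mul_ne_zero (mul_ne_zero hZ0 hZ0) hS0) h)
  subst hrr
  have hp7 : (7 : ℝ) ≤ (p : ℝ) := by exact_mod_cast (show 7 ≤ p by omega)
  nlinarith [mul_le_mul_of_nonneg_left hrle' (by linarith : (0 : ℝ) ≤ 2 * ((p : ℝ) - 2))]

end CfsgLib.Block.SmallShape
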