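import Cfsg.Agent.Lib.BlockB.TwoPrimeDegrees
import Cfsg.Agent.Lib.BlockB.DefectZero
import Cfsg.Agent.Lib.BlockB.PModular
import Cfsg.Agent.Lib.BlockB.ClassMul
import Cfsg.Agent.Lib.BlockB.PrincipalKer
import Cfsg.Agent.Lib.Block.Orthogonality

/-!
Brauer's lemma: in a non-abelian simple group of order `p^a q^b r` no element has order
divisible by two of the primes, one of them `r`; a Sylow `r`-subgroup is self-centralizing.
-/

set_option autoImplicit false
set_option linter.unusedSectionVars false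

namespace CfsgLib.Block.ThreePrimeSimple

open Cfsg CfsgLib CfsgLib.Block Module
open scoped ComplexConjugate

universe u

variable {G : Type u} [Group G] [Finite G]

/-- A member of the principal `q`-block of a non-abelian simple group whose degree is a power
of `q` is the principal character. -/
theorem eq_one_of_degree_primes [IsSimpleGroup G] (hab : ¬ ∀ a b : G, a * b = b * a) {q : ℕ}
    {M : Ideal AlgInt} (hM : IsPModular q M) {χ : IrrCharacter G} (hχ : χ ∈ principalBlock M G)
    (hdeg : ∀ l : ℕ, l.Prime → l ∣ charDegree (χ : G → ℂ) → l = q) :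
    (χ : G → ℂ) = fun _ => 1 := by
  have := isPrime_of_pmodular hM
  by_contra hne
  obtain ⟨y, hy, hyq⟩ := BlockB.TwoPrimeDegrees.exists_ne_one_index (G := G) q hM.1
  obtain ⟨χ, n, ρ, hρ, rfl⟩ := χ
  have hd : Cfsg.charDegree ρ.character = finrank ℂ (Fin n → ℂ) := by
    have h1 := BlockB.charDegree_cast (G := G) ⟨n, ρ, rfl⟩
    rw [Representation.char_one] at h1
    exact_mod_cast h1
  have h0 : ρ.character y = 0 :=
    BlockB.TwoPrimeDegrees.apply_eq_zero_of_coprime hab hy ρ
      (Nat.coprime_of_dvd fun l hl h1 h2 => by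
        rw [← hd] at h1
        exact hyq (hdeg l hl h1 ▸ h2)) hne
  have h := (show SameBlock M (fun _ : G => (1 : ℂ)) ρ.character from hχ) y
  rw [BlockB.centralChar_one_fun, centralChar, h0, mul_zero, zero_div, sub_zero] at h
  exact hyq ((memLocalIdeal_natCast_iff hM _).1 h)

/-- No element has order divisible by `q` and by `r`. -/
theorem not_dvd_orderOf [IsSimpleGroup G] (hab : ¬ ∀ a b : G, a * b = b * a) {p q r : ℕ}
    (hp : p.Prime) (hq : q.Prime) [Fact r.Prime] (hr2 : ¬ r ^ 2 ∣ Nat.card G)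
    (hpr : ∀ l : ℕ, l.Prime → l ∣ Nat.card G → l = p ∨ l = q ∨ l = r) {g : G}
    (hgq : q ∣ orderOf g) : ¬ r ∣ orderOf g := by
  classical
  intro hgr
  obtain ⟨M, hM⟩ := BlockB.exists_isPModular hq
  have := isPrime_of_pmodular hM
  have := Fintype.ofFinite G
  have := Fintype.ofFinite (IrrCharacter G)
  have hr : r.Prime := Fact.out
  let one' : IrrCharacter G := ⟨fun _ => 1, Char.isIrrCharacter_one⟩
  let B := principalBlock M G
  have h0 := sum_block_eq_zero_of_regular_singular hM (isPBlock_principalBlock (M := M) (G := G))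
    (g := 1) (h := g) (by simpa using hM.1.not_dvd_one) hgq
  rw [finsum_mem_def, finsum_eq_sum_of_fintype,
    ← Finset.add_sum_erase _ _ (Finset.mem_univ one'),
    Set.indicator_of_mem one_mem_principalBlock] at h0
  have hint : ∀ χ ∈ (Finset.univ : Finset (IrrCharacter G)).erase one',
      IsIntegral ℤ ((principalBlock M G).indicator
        (fun φ : IrrCharacter G => (φ : G → ℂ) 1 * conj ((φ : G → ℂ) g)) χ / (p : ℂ)) := by
    intro χ hne
    rw [Finset.mem_erase] at hne
    by_cases hχ : χ ∈ principalBlock M G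
    swap
    · simp [Set.indicator_of_notMem hχ, isIntegral_zero]
    rw [Set.indicator_of_mem hχ]
    have hg : IsIntegral ℤ (conj ((χ : G → ℂ) g)) := by
      obtain ⟨χ, n, ρ, hρ, rfl⟩ := χ
      exact (Char.char_isIntegral ρ g).map (starRingEnd ℂ).toIntAlgHom
    by_cases hrd : r ∣ charDegree (χ : G → ℂ)
    · have hfac : (Nat.card G).factorization r ≤ 1 := by
        by_contra hlt
        exact hr2 ((hr.pow_dvd_iff_le_factorization Nat.card_pos.ne').2 (by omega))
      have hv : (χ : G → ℂ) g = 0 := BlockB.irr_apply_eq_zero_of_defect_zero χ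
        ((pow_dvd_pow r hfac).trans (by simpa using hrd)) hgr
      simp [hv, isIntegral_zero]
    by_cases hpd : p ∣ charDegree (χ : G → ℂ)
    · obtain ⟨c, hc⟩ := hpd
      rw [← BlockB.irr_degree_cast χ, hc]
      push_cast
      rw [mul_assoc, mul_div_cancel_left₀ _ (by exact_mod_cast hp.ne_zero)]
      exact (by simpa using isIntegral_algebraMap (R := ℤ) (A := ℂ) (x := (c : ℤ)) :
        IsIntegral ℤ (c : ℂ)).mul hg
    exact absurd (Subtype.ext (eq_one_of_degree_primes hab hM hχ fun l hl hld => by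
      rcases hpr l hl (hld.trans (BlockB.irr_degree_dvd_card χ)) with rfl | rfl | rfl
      · exact absurd hld hpd
      · rfl
      · exact absurd hld hrd)) hne.1
  have h2 : IsIntegral ℤ (((1 : ℕ) : ℂ) / (p : ℂ)) := by
    have heq : ((1 : ℕ) : ℂ) / (p : ℂ) = -∑ χ ∈ (Finset.univ : Finset (IrrCharacter G)).erase
        one', (principalBlock M G).indicator
          (fun φ : IrrCharacter G => (φ : G → ℂ) 1 * conj ((φ : G → ℂ) g)) χ / (p : ℂ) := by
      rw [← Finset.sum_div, ← neg_div, Nat.cast_one]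
      congr 1
      simp only [one', map_one, mul_one] at h0 ⊢
      linear_combination h0
    rw [heq]
    exact (IsIntegral.sum _ hint).neg
  exact hp.one_lt.ne' (Nat.dvd_one.mp (Char.dvd_of_isIntegral_div hp.pos h2))

/-- The centralizer of a Sylow `r`-subgroup is that subgroup. -/
theorem centralizer_sylow_eq [IsSimpleGroup G] {p q r a b : ℕ} (hp : p.Prime) (hq : q.Prime)
    [Fact r.Prime] (hpr : p ≠ r) (hqr : q ≠ r) (hcard : Nat.card G = p ^ a * q ^ b * r)
    (S : Sylow r G) : Subgroup.centralizer (S : Set G) = (S : Subgroup G) := by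
  have hr : r.Prime := Fact.out
  have hcop : (p ^ a * q ^ b).Coprime r :=
    Nat.Coprime.mul_left (((Nat.coprime_primes hp hr).2 hpr).pow_left a)
      (((Nat.coprime_primes hq hr).2 hqr).pow_left b)
  have hr2 : ¬ r ^ 2 ∣ Nat.card G := by
    rw [hcard, sq, Nat.mul_dvd_mul_iff_right hr.pos]
    exact fun h => hr.one_lt.ne' (Nat.eq_one_of_dvd_coprimes hcop h dvd_rfl)
  have hS : Nat.card S = r := by
    have h1 : r ∣ Nat.card S := S.dvd_card_of_dvd_card (hcard ▸ dvd_mul_left r _)
    obtain ⟨k, hk⟩ := IsPGroup.iff_card.mp S.isPGroup'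
    rw [hk] at h1 ⊢
    rcases k with _ | _ | k
    · exact absurd (Nat.dvd_one.mp (by simpa using h1)) hr.ne_one
    · simp
    · exact absurd ((pow_dvd_pow r (by omega : 2 ≤ k + 1 + 1)).trans
        (hk ▸ Subgroup.card_subgroup_dvd_card _)) hr2
  have hle : (S : Subgroup G) ≤ Subgroup.centralizer (S : Set G) := by
    have : IsCyclic S := isCyclic_of_prime_card hS
    intro x hx
    rw [Subgroup.mem_centralizer_iff]
    intro y hy
    obtain ⟨z, hz⟩ := IsCyclic.exists_generator (α := S)
    obtain ⟨i, hi⟩ := Subgroup.mem_zpowers_iff.mp (hz ⟨x, hx⟩)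
    obtain ⟨j, hj⟩ := Subgroup.mem_zpowers_iff.mp (hz ⟨y, hy⟩)
    exact congr_arg Subtype.val
      (show (⟨y, hy⟩ : S) * ⟨x, hx⟩ = ⟨x, hx⟩ * ⟨y, hy⟩ by
        rw [← hi, ← hj, ← zpow_add, ← zpow_add, add_comm])
  by_cases hab : ∀ a b : G, a * b = b * a
  · let : CommGroup G := { (inferInstance : Group G) with mul_comm := hab }
    have hG : (Nat.card G).Prime := IsSimpleGroup.prime_card
    have htop : (S : Subgroup G) = ⊤ := Subgroup.eq_top_of_card_eq _ (by
      rw [hS]
      exact ((hG.eq_one_or_self_of_dvd r (hcard ▸ dvd_mul_left r _)).resolve_left hr.ne_one))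
    exact le_antisymm (fun x _ => htop ▸ Subgroup.mem_top x) hle
  have hprimes : ∀ l : ℕ, l.Prime → l ∣ Nat.card G → l = p ∨ l = q ∨ l = r := by
    intro l hl hd
    rw [hcard] at hd
    rcases hl.dvd_mul.1 hd with h | h
    · rcases hl.dvd_mul.1 h with h | h
      · exact Or.inl ((Nat.prime_dvd_prime_iff_eq hl hp).1 (hl.dvd_of_dvd_pow h))
      · exact Or.inr (Or.inl ((Nat.prime_dvd_prime_iff_eq hl hq).1 (hl.dvd_of_dvd_pow h)))
    · exact Or.inr (Or.inr ((Nat.prime_dvd_prime_iff_eq hl hr).1 h))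
  refine S.is_maximal' ((IsPGroup.iff_orderOf).2 fun x => ?_) hle
  rw [Subgroup.orderOf_coe x |>.symm]
  refine ⟨_, Nat.eq_prime_pow_of_unique_prime_dvd (orderOf_pos (x : G)).ne' fun {l} hl hld => ?_⟩
  by_contra hlr
  obtain ⟨s, hs⟩ := exists_prime_orderOf_dvd_card' (G := S) r (by rw [hS])
  rw [← Subgroup.orderOf_coe] at hs
  set x' := (x : G) ^ (orderOf (x : G) / l) with hx'
  have hxo : orderOf x' = l := orderOf_pow_orderOf_div (orderOf_pos (x : G)).ne' hld
  have hcomm : Commute x' (s : G) :=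
    ((show Commute (x : G) (s : G) from ((Subgroup.mem_centralizer_iff.mp x.2) _ s.2).symm)).pow_left _
  have ho : orderOf (x' * s) = l * r := by
    rw [hcomm.orderOf_mul_eq_mul_orderOf_of_coprime (by
      rw [hxo, hs]; exact (Nat.coprime_primes hl hr).2 hlr), hxo, hs]
  rcases hprimes l hl (hxo ▸ orderOf_dvd_natCard x') with rfl | rfl | rfl
  · exact not_dvd_orderOf hab hq hl hr2 (fun i hi hd => by
      rcases hprimes i hi hd with h | h | h <;> tauto) (ho ▸ dvd_mul_right _ _)
      (ho ▸ dvd_mul_left _ _)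
  · exact not_dvd_orderOf hab hp hl hr2 hprimes (ho ▸ dvd_mul_right _ _)
      (ho ▸ dvd_mul_left _ _)
  · exact hlr rfl

end CfsgLib.Block.ThreePrimeSimple
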