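import Cfsg.Agent.Lib.Block.SmallDegreeNormal
import Cfsg.Agent.Lib.BlockB.ClassMul
import Cfsg.Agent.Lib.Clifford.OneConjugate
import Cfsg.Agent.Lib.Transfer.AbelianSylow
import Cfsg.Agent.Lib.Transfer.Basic

/-!
Groups with a faithful character of small degree: the Sylow subgroup is normal as soon as it is in
every subgroup whose order is divisible by `p` at most once.
-/

set_option autoImplicit false
set_option linter.unusedSectionVars false

namespace CfsgLib.Block

open Cfsg
open scoped ComplexConjugate commutatorElement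

universe u

namespace DegreeBound

section Scalar

variable {G : Type u} [Group G] [Fintype G] {p : ℕ} [hp : Fact p.Prime] {M : Ideal AlgInt}
  [M.IsPrime] {x : G}

local notation "C" => Subgroup.centralizer (Singleton.singleton x : Set G)

/-- Without fusion in the normalizer, a faithful irreducible character of degree less than
`p - 1` makes `x` central. -/
theorem mem_center_of_no_fusion (hM : IsPModular p M) (hxo : orderOf x = p)
    (hsq : ¬ p ^ 2 ∣ Nat.card G) (ξ : IrrCharacter G)
    (hn : charDegree (ξ : G → ℂ) + 1 < p)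
    (hfaith : ∀ g, (ξ : G → ℂ) g = (ξ : G → ℂ) 1 → g = 1)
    (hNC : Subgroup.normalizer ((Subgroup.zpowers x : Subgroup G) : Set G) ≤ C) :
    x ∈ Subgroup.center G := by
  classical
  have := Fintype.ofFinite (IrrCharacter C)
  have hchar := CfsgLib.Char.isCharacter_restrict (CfsgLib.Char.irr_isCharacter ξ.2) C
  have hnat : ∀ ρ : IrrCharacter C, ∃ k : ℕ,
      classInner (fun c : C => (ξ : G → ℂ) c) (ρ : C → ℂ) = k := fun ρ =>
    CfsgLib.Char.classInner_isCharacter_nat hchar (CfsgLib.Char.irr_isCharacter ρ.2)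
  choose k hk using hnat
  have hexp : ∀ c : C, (ξ : G → ℂ) c = ∑ ρ, (k ρ : ℂ) * (ρ : C → ℂ) c := fun c => by
    rw [CfsgLib.Char.classFunction_apply_eq_sum (CfsgLib.Char.isCharacter_isClassFunction hchar) c]
    simp only [hk]
  have hx1 : x ≠ 1 := fun h => hp.out.ne_one (by rw [← hxo, h, orderOf_one])
  obtain ⟨ρ₀, hρ₀, hne⟩ : ∃ ρ : IrrCharacter C, k ρ ≠ 0 ∧
      (ρ : C → ℂ) ⟨x, DefectOne.mem_cen_self⟩ ≠ (ρ : C → ℂ) 1 := by
    by_contra h
    push Not at h
    apply hx1
    apply hfaith
    have e1 := hexp ⟨x, DefectOne.mem_cen_self⟩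
    rw [Finset.sum_congr rfl fun ρ _ => show (k ρ : ℂ) * (ρ : C → ℂ) ⟨x, DefectOne.mem_cen_self⟩ =
      (k ρ : ℂ) * (ρ : C → ℂ) 1 by
        by_cases h0 : k ρ = 0
        · simp [h0]
        · rw [h ρ h0], ← hexp 1] at e1
    exact e1
  obtain ⟨φ, h1, h2, h3, -⟩ := DefectOne.exists_param hM hxo hsq (isPBlock_blockOf ρ₀)
  set O : OneBlock G p M := ⟨hM, x, hxo, hsq, _, isPBlock_blockOf ρ₀, φ, h1, h2, h3⟩
  have hmN : ∀ s, O.multN ξ s = k (φ s) := fun s => Nat.cast_injective (R := ℂ) (by
    rw [← OneBlock.mult_eq_multN, O.mult_def, ← hk])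
  obtain ⟨s₀, hs₀⟩ : ρ₀ ∈ Set.range φ := h2.symm ▸ mem_blockOf_self ρ₀
  have hs00 : s₀ ≠ 0 := fun h => hne (by rw [← hs₀, h]; exact O.phi0_z)
  have hm₀ : O.multN ξ s₀ ≠ 0 := by rw [hmN, hs₀]; exact hρ₀
  have hsum := O.sum_multN_le_degree ξ
  rw [PrimeRows.sum_eq_zero_add_units] at hsum
  have hp2 := hp.out.two_le
  have hcardU : Fintype.card (ZMod p)ˣ = p - 1 := ZMod.card_units p
  have hbound : ∀ s : Finset (ZMod p)ˣ, (∀ v ∈ s, 1 ≤ O.multN ξ v) →
      O.multN ξ 0 + s.card ≤ charDegree (ξ : G → ℂ) := fun s hs => by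
    refine le_trans (Nat.add_le_add_left ?_ _) hsum
    rw [Finset.card_eq_sum_ones]
    exact (Finset.sum_le_sum hs).trans (Finset.sum_le_sum_of_subset (Finset.subset_univ s))
  have huniv : ∀ c : ℕ, c ≠ 0 → ¬ ∀ v : (ZMod p)ˣ, c ≤ O.multN ξ v := fun c hc h => by
    have := hbound Finset.univ fun v _ => le_trans (Nat.one_le_iff_ne_zero.2 hc) (h v)
    rw [Finset.card_univ, hcardU] at this
    omega
  obtain ⟨B, hind⟩ := exists_isInducedBlock_centralizer hM (x := x)
    ⟨1, by rw [hxo, pow_one]⟩ (isPBlock_blockOf ρ₀)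
  have hξB : ξ ∈ B := by
    by_contra hξB
    have hall : ∀ v : (ZMod p)ˣ, O.multN ξ v = O.multN ξ 0 := fun v => by
      have h := O.row_eq_zero hind hξB v
      rw [OneBlock.row_eq_multN] at h
      omega
    refine huniv (O.multN ξ 0) ?_ fun v => (hall v).ge
    rw [← hall (Units.mk0 s₀ hs00), Units.val_mk0]
    exact hm₀
  have hTC : O.T ≤ C := le_trans O.T_le hNC
  have hH1 : Nat.card O.expSubgroup = 1 := by
    rw [O.natCard_expSubgroup, Subgroup.relIndex_eq_one]
    exact hTC
  have hHbot : O.expSubgroup = ⊥ := Subgroup.card_eq_one.1 hH1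
  -- the multiplicity pattern
  obtain ⟨w, hz0, hpat⟩ : ∃ w : (ZMod p)ˣ, O.multN ξ 0 = 0 ∧
      ∀ v : (ZMod p)ˣ, O.multN ξ v = if v = w then 1 else 0 := by
    obtain ⟨c, hc, hsh⟩ := O.shape hind hξB
    rcases hsh with hconst | ⟨w, hw⟩
    · exfalso
      rcases hc with rfl | rfl
      · refine huniv 1 one_ne_zero fun v => ?_
        have h := hconst v
        rw [OneBlock.row_eq_multN] at h
        omega
      · have h0 := hconst (Units.mk0 s₀ hs00)
        rw [OneBlock.row_eq_multN, Units.val_mk0] at h0
        refine huniv 1 one_ne_zero fun v => ?_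
        have h := hconst v
        rw [OneBlock.row_eq_multN] at h
        omega
    · have hmem : ∀ v, w⁻¹ * v ∈ O.expSubgroup ↔ v = w := fun v => by
        rw [hHbot, Subgroup.mem_bot, inv_mul_eq_one, eq_comm]
      rcases hc with rfl | rfl
      · have hz : O.multN ξ 0 = 0 := by
          by_contra h
          refine huniv 1 one_ne_zero fun v => ?_
          by_cases hv : v = w
          · have e := (hw v).1 ((hmem v).2 hv)
            rw [OneBlock.row_eq_multN] at e
            omega
          · have e := (hw v).2 (fun h' => hv ((hmem v).1 h'))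
            rw [OneBlock.row_eq_multN] at e
            omega
        refine ⟨w, hz, fun v => ?_⟩
        by_cases hv : v = w
        · rw [if_pos hv]
          have e := (hw v).1 ((hmem v).2 hv)
          rw [OneBlock.row_eq_multN] at e
          omega
        · rw [if_neg hv]
          have e := (hw v).2 (fun h' => hv ((hmem v).1 h'))
          rw [OneBlock.row_eq_multN] at e
          omega
      · exfalso
        have hw0 := (hw w).1 ((hmem w).2 rfl)
        rw [OneBlock.row_eq_multN] at hw0
        have := hbound (Finset.univ.erase w) fun v hv => by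
          have e := (hw v).2 fun h' => (Finset.mem_erase.1 hv).1 ((hmem v).1 h')
          rw [OneBlock.row_eq_multN] at e
          omega
        rw [Finset.card_erase_of_mem (Finset.mem_univ w), Finset.card_univ, hcardU] at this
        omega
  -- only one constituent
  have hk1 : ∀ ρ, k ρ = if ρ = φ (w : ZMod p) then 1 else 0 := by
    intro ρ
    by_cases hρ : k ρ = 0
    · rw [if_neg fun h => ?_]
      · exact hρ
      have e := hpat w
      rw [hmN, ← h, hρ, if_pos rfl] at e
      exact zero_ne_one e
    suffices h : ρ ∈ Set.range φ by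
      obtain ⟨s, rfl⟩ := h
      rw [← hmN] at hρ ⊢
      have hs : s ≠ 0 := fun h => hρ (by rw [h, hz0])
      have e := hpat (Units.mk0 s hs)
      rw [Units.val_mk0] at e
      rw [e]
      by_cases hsw : Units.mk0 s hs = w
      · rw [if_pos hsw, if_pos (by rw [← hsw, Units.val_mk0])]
      · rw [if_neg hsw] at e
        exact absurd e hρ
    -- a constituent of another block gives a conjugate block
    obtain ⟨ψ', i1, i2, i3, -⟩ := DefectOne.exists_param hM hxo hsq (isPBlock_blockOf ρ)
    set O' : OneBlock G p M := ⟨hM, x, hxo, hsq, _, isPBlock_blockOf ρ, ψ', i1, i2, i3⟩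
    obtain ⟨s, hs⟩ : ρ ∈ Set.range ψ' := i2.symm ▸ mem_blockOf_self ρ
    have hm : O'.multN ξ s ≠ 0 := by
      have : O'.multN ξ s = k (ψ' s) := Nat.cast_injective (R := ℂ) (by
        rw [← OneBlock.mult_eq_multN, O'.mult_def, ← hk])
      rw [this, hs]
      exact hρ
    obtain ⟨B', hind'⟩ := exists_isInducedBlock_centralizer hM (x := x)
      ⟨1, by rw [hxo, pow_one]⟩ (isPBlock_blockOf ρ)
    have hξB' : ξ ∈ B' := by
      by_contra hξB'
      have hall : ∀ v : (ZMod p)ˣ, O'.multN ξ v = O'.multN ξ 0 := fun v => by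
        have h := O'.row_eq_zero hind' hξB' v
        rw [OneBlock.row_eq_multN] at h
        omega
      have h0 : O'.multN ξ 0 ≠ 0 := by
        intro h
        rcases eq_or_ne s 0 with rfl | hs'
        · exact hm h
        · exact hm (by rw [show s = ((Units.mk0 s hs' : (ZMod p)ˣ) : ZMod p) from rfl, hall, h])
      have h1 := O'.sum_multN_le_degree ξ
      rw [PrimeRows.sum_eq_zero_add_units] at h1
      have h2 : ∑ v : (ZMod p)ˣ, 1 ≤ ∑ v : (ZMod p)ˣ, O'.multN ξ v :=
        Finset.sum_le_sum fun v _ => by rw [hall]; omega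
      rw [Finset.sum_const, Finset.card_univ, hcardU, smul_eq_mul, mul_one] at h2
      omega
    have hBB : B' = B := isPBlock_eq_of_mem hind'.2.1 hind.2.1 hξB' hξB
    subst hBB
    obtain ⟨g, hg, himg⟩ := O.exists_twist_of_inducing hind hind'
    have hgT : g ∈ O.T := O.cen_le_T (hNC hg)
    rw [(O.image_eq_iff_mem hg).2 hgT] at himg
    rw [h2]
    have : ρ ∈ blockOf M (ρ : C → ℂ) := mem_blockOf_self ρ
    rw [← himg] at this
    exact this
  -- the restriction is irreducible
  have hirr : ∀ c : C, (ξ : G → ℂ) c = (φ (w : ZMod p) : C → ℂ) c := fun c => by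
    rw [hexp c]
    simp [hk1]
  obtain ⟨m, rep, hrep, hξ⟩ := ξ.2
  let σ : Representation ℂ C (Fin m → ℂ) := rep.comp (Subgroup.centralizer ({x} : Set G)).subtype
  have hσ : σ.IsIrreducible := by
    refine CfsgLib.Char.isIrreducible_of_classInner_self σ ?_
    have he : σ.character = (φ (w : ZMod p) : C → ℂ) := funext fun c => by
      rw [← hirr c, ← hξ]; rfl
    rw [he]
    exact CfsgLib.Char.irr_classInner_self (φ _).2
  obtain ⟨a, ha⟩ := CfsgLib.Char.exists_scalar_of_commute σ (rep x) fun c => by
    change rep x ∘ₗ rep (c : G) = rep (c : G) ∘ₗ rep x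
    rw [← Module.End.mul_eq_comp, ← Module.End.mul_eq_comp, ← map_mul, ← map_mul,
      Subgroup.mem_centralizer_singleton_iff.1 c.2]
  rw [Subgroup.mem_center_iff]
  intro g
  have hcomm : rep g * rep x = rep x * rep g := by
    rw [ha, Module.End.mul_eq_comp, Module.End.mul_eq_comp, LinearMap.comp_smul,
      LinearMap.smul_comp, LinearMap.comp_id, LinearMap.id_comp]
  refine mul_inv_eq_one.1 (hfaith _ ?_)
  rw [← hξ]
  refine (CfsgLib.Char.mem_ker_iff_char rep _).1 ?_
  rw [MonoidHom.mem_ker, map_mul, map_mul, hcomm, ← map_mul, ← map_mul, mul_inv_cancel, map_one]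

end Scalar

section Main

variable {G : Type u} [Group G] [Fintype G] {p : ℕ} [hp : Fact p.Prime]

theorem charDegree_eq_one_of_pgroup {A : Type u} [Group A] [Fintype A] (hA : IsPGroup p A)
    (θ : IrrCharacter A) (hθ : charDegree (θ : A → ℂ) < p) : charDegree (θ : A → ℂ) = 1 := by
  obtain ⟨j, hj⟩ := IsPGroup.iff_card.1 hA
  have hdvd := CfsgLib.BlockB.irr_degree_dvd_card θ
  rw [hj] at hdvd
  obtain ⟨i, -, hi⟩ := (Nat.dvd_prime_pow hp.out).1 hdvd
  rcases Nat.eq_zero_or_pos i with rfl | hi0
  · simpa using hi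
  · exfalso
    rw [hi] at hθ
    exact absurd (Nat.le_self_pow hi0.ne' p) (not_le.2 hθ)

/-- A `p`-subgroup is abelian when a faithful character has degree less than `p`. -/
theorem commute_of_pgroup {χ : G → ℂ} (hχ : IsCharacter G χ) (hn : charDegree χ < p)
    (hfaith : ∀ g, χ g = χ 1 → g = 1) {Q : Subgroup G} (hQ : IsPGroup p Q) {a b : G}
    (ha : a ∈ Q) (hb : b ∈ Q) : a * b = b * a := by
  classical
  have := Fintype.ofFinite Q
  have := Fintype.ofFinite (IrrCharacter Q)
  have hchar := CfsgLib.Char.isCharacter_restrict hχ Q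
  have hnat : ∀ θ : IrrCharacter Q, ∃ k : ℕ, classInner (fun c : Q => χ c) (θ : Q → ℂ) = k :=
    fun θ => CfsgLib.Char.classInner_isCharacter_nat hchar (CfsgLib.Char.irr_isCharacter θ.2)
  choose k hk using hnat
  have hexp : ∀ c : Q, χ c = ∑ θ, (k θ : ℂ) * (θ : Q → ℂ) c := fun c => by
    rw [CfsgLib.Char.classFunction_apply_eq_sum (CfsgLib.Char.isCharacter_isClassFunction hchar) c]
    simp only [hk]
  set c : Q := ⟨a, ha⟩ * ⟨b, hb⟩ * (⟨b, hb⟩ * ⟨a, ha⟩)⁻¹ with hc
  suffices h : χ (c : G) = χ 1 by
    have h' := hfaith _ h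
    rw [hc] at h'
    push_cast at h'
    exact mul_inv_eq_one.1 h'
  rw [hexp c, show χ 1 = χ ((1 : Q) : G) by rw [Subgroup.coe_one], hexp 1]
  refine Finset.sum_congr rfl fun θ _ => ?_
  by_cases h0 : k θ = 0
  · simp [h0]
  have hdeg : charDegree (θ : Q → ℂ) ≤ charDegree χ := by
    have h := hexp 1
    simp only [Subgroup.coe_one, charDegree_spec hχ,
      charDegree_spec (CfsgLib.Char.irr_isCharacter (Subtype.property _))] at h
    have h' : charDegree χ = ∑ ξ, k ξ * charDegree (ξ : Q → ℂ) := by exact_mod_cast h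
    rw [h']
    exact (Nat.le_mul_of_pos_left _ (Nat.pos_of_ne_zero h0)).trans
      (Finset.single_le_sum (f := fun ξ : IrrCharacter Q => k ξ * charDegree (ξ : Q → ℂ))
        (fun ξ _ => Nat.zero_le _) (Finset.mem_univ θ))
  have h1 : (θ : Q → ℂ) 1 = 1 := by
    rw [charDegree_spec (CfsgLib.Char.irr_isCharacter θ.2),
      charDegree_eq_one_of_pgroup hQ θ (lt_of_le_of_lt hdeg hn), Nat.cast_one]
  obtain ⟨lam, hlam⟩ := CfsgLib.Char.exists_hom_of_degree_one (CfsgLib.Char.irr_isCharacter θ.2) h1
  congr 1
  rw [h1, hlam]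
  have : lam c = 1 := by
    rw [hc, map_mul, map_inv, map_mul, map_mul, mul_comm (lam ⟨b, hb⟩), mul_inv_cancel]
  change ((lam c : ℂˣ) : ℂ) = 1
  rw [this, Units.val_one]

/-- Every subgroup whose order is divisible by `p` at most once normalizes each of its subgroups
of order `p`. -/
def SmallNormal (p : ℕ) (G : Type u) [Group G] : Prop :=
  ∀ K : Subgroup G, ¬ p ^ 2 ∣ Nat.card K → ∀ x ∈ K, orderOf x = p → ∀ g ∈ K,
    g * x * g⁻¹ ∈ Subgroup.zpowers x

theorem sylow_normal_of_small : ∀ (m : ℕ) (H : Type u) [Group H] [Fintype H], Nat.card H ≤ m →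
    ∀ χ : H → ℂ, IsCharacter H χ → charDegree χ + 1 < p → (∀ h, χ h = χ 1 → h = 1) →
      SmallNormal p H → ∀ P : Sylow p H, (P : Subgroup H).Normal := by
  intro m
  induction m using Nat.strong_induction_on with
  | _ m IH =>
    intro H _ _ hm χ hχ hn hfaith hsmall P
    classical
    by_contra hnot
    have hcommP : ∀ Q : Subgroup H, IsPGroup p Q → ∀ a ∈ Q, ∀ b ∈ Q, a * b = b * a :=
      fun Q hQ a ha b hb => commute_of_pgroup hχ (by omega) hfaith hQ ha hb
    -- proper subgroups
    have hcore : ∀ K : Subgroup H, K ≠ ⊤ → ∃ Q : Subgroup H, IsPGroup p Q ∧ Q ≤ K ∧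
        ∀ (R : Subgroup H), R ≤ K → IsPGroup p R → R ≤ Q := by
      intro K hK
      have := Fintype.ofFinite K
      have hlt : Nat.card K < Nat.card H :=
        lt_of_le_of_ne (Nat.card_le_card_of_injective _ K.subtype_injective)
          fun h => hK ((K.card_eq_iff_eq_top).1 h)
      have hKsmall : SmallNormal p K := fun L hL x hx hxo g hg => by
        have hcard : Nat.card (L.map K.subtype) = Nat.card L :=
          Nat.card_congr (L.equivMapOfInjective K.subtype K.subtype_injective).symm.toEquiv
        have h := hsmall (L.map K.subtype) (by rw [hcard]; exact hL) (x : H)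
          (Subgroup.mem_map_of_mem _ hx) (by rw [Subgroup.orderOf_coe]; exact hxo) (g : H)
          (Subgroup.mem_map_of_mem _ hg)
        obtain ⟨j, hj⟩ := Subgroup.mem_zpowers_iff.1 h
        exact Subgroup.mem_zpowers_iff.2 ⟨j, Subtype.ext (by simpa using hj)⟩
      let Q : Sylow p K := default
      have hQn := IH (Nat.card K) (lt_of_lt_of_le hlt hm) K le_rfl (fun k => χ k)
        (CfsgLib.Char.isCharacter_restrict hχ K) hn (fun k hk => Subtype.ext (hfaith k hk))
        hKsmall Q
      refine ⟨(Q : Subgroup K).map K.subtype, Q.isPGroup'.map _, Subgroup.map_subtype_le _,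
        fun R hR hRp => ?_⟩
      have hR' : IsPGroup p (R.subgroupOf K) := hRp.comap_subtype
      obtain ⟨S, hS⟩ := hR'.exists_le_sylow
      obtain ⟨g, hg⟩ := MulAction.exists_smul_eq K Q S
      have hSQ : (S : Subgroup K) = Q := by
        rw [← hg, Sylow.coe_subgroup_smul]
        exact Subgroup.Normal.conjAct hQn _
      intro r hr
      exact ⟨⟨r, hR hr⟩, hSQ ▸ hS (Subgroup.mem_subgroupOf.2 hr), rfl⟩
    have hmax : ∀ (S : Sylow p H) (Q : Subgroup H), IsPGroup p Q → (S : Subgroup H) ≤ Q →
        Q = S := fun S Q hQ h => S.3 hQ h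
    -- normal subgroups containing the Sylow subgroup
    have hgen : ∀ K : Subgroup H, K.Normal → (P : Subgroup H) ≤ K → K = ⊤ := by
      intro K hKn hPK
      by_contra hK
      obtain ⟨Q, hQ, hQK, hQmax⟩ := hcore K hK
      have hQP : Q = P := hmax P Q hQ (hQmax _ hPK P.isPGroup')
      refine hnot ⟨fun a ha g => ?_⟩
      have hR : ((P : Subgroup H).map (MulAut.conj g).toMonoidHom) ≤ Q :=
        hQmax _ (fun y hy => by
          obtain ⟨a, ha, rfl⟩ := hy
          exact hKn.conj_mem a (hPK ha) g) (P.isPGroup'.map _)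
      rw [← hQP]
      exact hR ⟨a, ha, rfl⟩
    -- the Sylow subgroup has order at least `p²`
    have hp2dvd : p ^ 2 ∣ Nat.card H := by
      by_contra hsq
      apply hnot
      by_cases hdiv : p ∣ Nat.card H
      · obtain ⟨⟨x, hx⟩, hxo⟩ := exists_prime_orderOf_dvd_card' (G := (P : Subgroup H)) p (by
          rw [P.card_eq_multiplicity]
          exact dvd_pow_self p ((hp.out.dvd_iff_one_le_factorization Nat.card_pos.ne').1 hdiv |>
            Nat.one_le_iff_ne_zero.1))
        rw [Subgroup.orderOf_mk] at hxo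
        have hPx : (P : Subgroup H) = Subgroup.zpowers x :=
          DefectOne.eq_zpowers_of_isPGroup hxo hsq P.isPGroup' hx
        rw [hPx]
        exact zpowers_normal_of_conj fun g =>
          hsmall ⊤ (by rwa [Subgroup.card_top]) x (Subgroup.mem_top x) hxo g (Subgroup.mem_top g)
      · have hP1 : (P : Subgroup H) = ⊥ := by
          rw [← Subgroup.card_eq_one, P.card_eq_multiplicity,
            Nat.factorization_eq_zero_of_not_dvd hdiv, pow_zero]
        rw [hP1]
        infer_instance
    have hPcard2 : p ^ 2 ∣ Nat.card (P : Subgroup H) := by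
      rw [P.card_eq_multiplicity]
      exact pow_dvd_pow p ((hp.out.pow_dvd_iff_le_factorization Nat.card_pos.ne').1 hp2dvd)
    have hPne : (P : Subgroup H) ≠ ⊥ := fun h => by
      rw [h, Subgroup.card_bot] at hPcard2
      exact absurd (Nat.le_of_dvd one_pos hPcard2) (not_le.2 (Nat.one_lt_pow two_ne_zero hp.out.one_lt))
    have : IsMulCommutative (P : Subgroup H) :=
      ⟨⟨fun a b => Subtype.ext (hcommP _ P.isPGroup' a a.2 b b.2)⟩⟩
    have hPcop : (Nat.card (P : Subgroup H)).Coprime (P : Subgroup H).index := by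
      obtain ⟨j, hj⟩ := IsPGroup.iff_card.1 P.isPGroup'
      rw [hj]
      exact Nat.Coprime.pow_left j ((hp.out.coprime_iff_not_dvd).2 P.not_dvd_index)
    -- central elements of the Sylow subgroup avoid the residual
    have hres := CfsgLib.Transfer.pResidual_normal (G := H) (p := p)
    have hcenres : ∀ z ∈ (P : Subgroup H), z ∈ Subgroup.center H → z ∈ Cfsg.pResidual p H → z = 1 := by
      intro z hzP hzZ hzR
      by_contra hz1
      have hzc : z ∉ commutator H := fun h => hz1 (Subgroup.mem_bot.1
        (CfsgLib.Transfer.inf_commutator_inf_center_eq_bot (P : Subgroup H) hPcop ▸ ⟨⟨hzP, h⟩, hzZ⟩))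
      obtain ⟨lam, hlam⟩ := CfsgLib.Char.exists_linear_ne_one (G := H ⧸ commutator H)
        (fun a b => by
          obtain ⟨a, rfl⟩ := QuotientGroup.mk'_surjective _ a
          obtain ⟨b, rfl⟩ := QuotientGroup.mk'_surjective _ b
          rw [← map_mul, ← map_mul]
          refine QuotientGroup.eq.2 ?_
          rw [show (a * b)⁻¹ * (b * a) = ⁅b⁻¹, a⁻¹⁆ by group]
          exact Subgroup.commutator_mem_commutator (Subgroup.mem_top _) (Subgroup.mem_top _))
        (g := QuotientGroup.mk' _ z) (fun h => hzc ((QuotientGroup.eq_one_iff z).1 h))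
      set μ : H →* ℂˣ := (lam.comp (QuotientGroup.mk' _)) ^ (P : Subgroup H).index with hμ
      have hpp : IsPGroup p μ.range := by
        obtain ⟨j, hj⟩ := IsPGroup.iff_card.1 P.isPGroup'
        rintro ⟨_, g, rfl⟩
        refine ⟨j, Subtype.ext ?_⟩
        rw [SubmonoidClass.coe_pow, Subgroup.coe_one]
        change ((lam.comp (QuotientGroup.mk' _)) ^ (P : Subgroup H).index) g ^ p ^ j = 1
        rw [MonoidHom.pow_apply, ← pow_mul, ← hj, mul_comm, Subgroup.card_mul_index, ← map_pow,
          pow_card_eq_one', map_one]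
      have hk : μ.rangeRestrict z = 1 :=
        MonoidHom.mem_ker.1 (CfsgLib.Transfer.pResidual_le_ker μ.rangeRestrict hpp hzR)
      have hk' : μ z = 1 := congrArg Subtype.val hk
      apply hlam
      rw [← orderOf_eq_one_iff]
      refine Nat.eq_one_of_dvd_coprimes hPcop ?_ (orderOf_dvd_of_pow_eq_one hk')
      exact (orderOf_map_dvd (lam.comp (QuotientGroup.mk' (commutator H))) z).trans
        (Subgroup.orderOf_dvd_natCard _ hzP)
    -- constituents
    have := Fintype.ofFinite (IrrCharacter H)
    have hnat : ∀ η : IrrCharacter H, ∃ k : ℕ, classInner χ (η : H → ℂ) = k := fun η =>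
      CfsgLib.Char.classInner_isCharacter_nat hχ (CfsgLib.Char.irr_isCharacter η.2)
    choose k hk using hnat
    have hexp : ∀ g, χ g = ∑ η, (k η : ℂ) * (η : H → ℂ) g := fun g => by
      rw [CfsgLib.Char.classFunction_apply_eq_sum (CfsgLib.Char.isCharacter_isClassFunction hχ) g]
      simp only [hk]
    have hdeg : ∀ η, k η ≠ 0 → charDegree (η : H → ℂ) ≤ charDegree χ := fun η hη => by
      have h := hexp 1
      simp only [charDegree_spec hχ,
        charDegree_spec (CfsgLib.Char.irr_isCharacter (Subtype.property _))] at h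
      have h' : charDegree χ = ∑ θ, k θ * charDegree (θ : H → ℂ) := by exact_mod_cast h
      rw [h']
      exact (Nat.le_mul_of_pos_left _ (Nat.pos_of_ne_zero hη)).trans
        (Finset.single_le_sum (f := fun θ : IrrCharacter H => k θ * charDegree (θ : H → ℂ))
          (fun θ _ => Nat.zero_le _) (Finset.mem_univ η))
    have hdet : ∀ g, (∀ η : IrrCharacter H, k η ≠ 0 → (η : H → ℂ) g = (η : H → ℂ) 1) → g = 1 :=
      fun g h => hfaith g (by
        rw [hexp, hexp]
        refine Finset.sum_congr rfl fun η _ => ?_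
        by_cases h0 : k η = 0
        · simp [h0]
        · rw [h η h0])
    by_cases hR : Cfsg.pResidual p H = ⊤
    · -- no quotient of `p`-power order
      have hPZ : (P : Subgroup H) ⊓ Subgroup.center H = ⊥ := by
        rw [eq_bot_iff]
        intro z hz
        exact Subgroup.mem_bot.2 (hcenres z hz.1 hz.2 (hR ▸ Subgroup.mem_top z))
      obtain ⟨a, haP, ha1⟩ := (Subgroup.bot_or_exists_ne_one (P : Subgroup H)).resolve_left hPne
      obtain ⟨η, hη, hηa⟩ : ∃ η : IrrCharacter H, k η ≠ 0 ∧ (η : H → ℂ) a ≠ (η : H → ℂ) 1 := by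
        by_contra h
        push Not at h
        exact ha1 (hdet a h)
      have hη1 : (η : H → ℂ) 1 ≠ 1 := fun h1 => by
        obtain ⟨lam, hlam⟩ := CfsgLib.Char.exists_hom_of_degree_one
          (CfsgLib.Char.irr_isCharacter η.2) h1
        apply hηa
        rw [h1, hlam]
        change ((lam a : ℂˣ) : ℂ) = 1
        set μ : H →* ℂˣ := lam ^ (P : Subgroup H).index
        have hpp : IsPGroup p μ.range := by
          obtain ⟨j, hj⟩ := IsPGroup.iff_card.1 P.isPGroup'
          rintro ⟨_, g, rfl⟩
          refine ⟨j, Subtype.ext ?_⟩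
          rw [SubmonoidClass.coe_pow, Subgroup.coe_one]
          change (lam ^ (P : Subgroup H).index) g ^ p ^ j = 1
          rw [MonoidHom.pow_apply, ← pow_mul, ← hj, mul_comm, Subgroup.card_mul_index, ← map_pow,
            pow_card_eq_one', map_one]
        have hk' : μ a = 1 := congrArg Subtype.val
          (MonoidHom.mem_ker.1 (CfsgLib.Transfer.pResidual_le_ker μ.rangeRestrict hpp
            (hR ▸ Subgroup.mem_top a)))
        have : lam a = 1 := by
          rw [← orderOf_eq_one_iff]
          exact Nat.eq_one_of_dvd_coprimes hPcop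
            ((orderOf_map_dvd _ a).trans (Subgroup.orderOf_dvd_natCard _ haP))
            (orderOf_dvd_of_pow_eq_one hk')
        rw [this, Units.val_one]
      have hone : ∀ g : H, g ∉ Subgroup.center H → ∀ a b : H,
          Subgroup.centralizer ({g} : Set H) ⊓
            (P : Subgroup H).map (MulAut.conj a).toMonoidHom ≠ ⊥ →
          Subgroup.centralizer ({g} : Set H) ⊓
            (P : Subgroup H).map (MulAut.conj b).toMonoidHom ≠ ⊥ →
          (P : Subgroup H).map (MulAut.conj a).toMonoidHom =
            (P : Subgroup H).map (MulAut.conj b).toMonoidHom := by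
        intro g hg a b hA hB
        have hCg : Subgroup.centralizer ({g} : Set H) ≠ ⊤ := fun h => hg (Subgroup.mem_center_iff.2
          fun y => Subgroup.mem_centralizer_singleton_iff.1 (h ▸ Subgroup.mem_top y))
        obtain ⟨Q, hQ, hQC, hQmax⟩ := hcore _ hCg
        obtain ⟨S, hS⟩ := hQ.exists_le_sylow
        suffices key : ∀ a : H, Subgroup.centralizer ({g} : Set H) ⊓
            (P : Subgroup H).map (MulAut.conj a).toMonoidHom ≠ ⊥ →
            (P : Subgroup H).map (MulAut.conj a).toMonoidHom = S from (key a hA).trans (key b hB).symm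
        intro a hA
        set Pa : Sylow p H := a • P
        have hPa : (Pa : Subgroup H) = (P : Subgroup H).map (MulAut.conj a).toMonoidHom := rfl
        rw [← hPa] at hA ⊢
        obtain ⟨u, ⟨huC, huP⟩, hu1⟩ := (Subgroup.bot_or_exists_ne_one _).resolve_left hA
        have huS : u ∈ (S : Subgroup H) := hS (hQmax (Subgroup.zpowers u) (Subgroup.zpowers_le.2 huC)
          (Pa.isPGroup'.to_le (Subgroup.zpowers_le.2 huP)) (Subgroup.mem_zpowers u))
        have huZ : u ∉ Subgroup.center H := fun h => hu1 <| by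
          obtain ⟨y, hy, hyu⟩ : u ∈ (P : Subgroup H).map (MulAut.conj a).toMonoidHom := huP
          have hyu' : a * y * a⁻¹ = u := hyu
          have hy' : y = u := by
            calc y = a⁻¹ * (a * y * a⁻¹) * a := by group
              _ = a⁻¹ * u * a := by rw [hyu']
              _ = u := by rw [Subgroup.mem_center_iff.1 h a⁻¹, inv_mul_cancel_right]
          exact Subgroup.mem_bot.1 (hPZ ▸ ⟨hy' ▸ hy, h⟩)
        have hCu : Subgroup.centralizer ({u} : Set H) ≠ ⊤ := fun h => huZ (Subgroup.mem_center_iff.2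
          fun y => Subgroup.mem_centralizer_singleton_iff.1 (h ▸ Subgroup.mem_top y))
        obtain ⟨R, hR', -, hRmax⟩ := hcore _ hCu
        have hle : ∀ T : Sylow p H, u ∈ (T : Subgroup H) →
            (T : Subgroup H) = R := fun T hT => by
          refine (hmax T R hR' (hRmax _ (fun y hy => Subgroup.mem_centralizer_singleton_iff.2 ?_)
            T.isPGroup')).symm
          exact hcommP _ T.isPGroup' y hy u hT
        rw [hle Pa huP, hle S huS]
      have hmain := (CfsgLib.Clifford.sq_degree_gt_of_one_conjugate (P : Subgroup H)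
        (hcommP _ P.isPGroup') hPZ hone (η : H → ℂ) η.2 ⟨a, haP, hηa⟩).2 hη1
        fun K hK hPK => hgen K hK hPK
      rw [charDegree_spec (CfsgLib.Char.irr_isCharacter η.2), Complex.natCast_re] at hmain
      have h1 : (1 + charDegree (η : H → ℂ)) ^ 2 ≤ p ^ 2 :=
        Nat.pow_le_pow_left (by have := hdeg η hη; omega) 2
      have h2 : p ^ 2 ≤ Nat.card (P : Subgroup H) := Nat.le_of_dvd Nat.card_pos hPcard2
      have h3 : ((1 + charDegree (η : H → ℂ)) ^ 2 : ℝ) ≤ (Nat.card (P : Subgroup H) : ℝ) := by
        exact_mod_cast h1.trans h2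
      linarith
    · -- a quotient of `p`-power order
      set D := Cfsg.pResidual p H
      obtain ⟨Q, hQ, hQD, hQmax⟩ := hcore D hR
      have hQnorm : Q.Normal := ⟨fun a ha g => by
        refine hQmax (Q.map (MulAut.conj g).toMonoidHom) ?_ (hQ.map _) ⟨a, ha, rfl⟩
        rintro y ⟨b, hb, rfl⟩
        exact hres.conj_mem b (hQD hb) g⟩
      have hQP : Q ≤ (P : Subgroup H) := by
        obtain ⟨S, hS⟩ := hQ.exists_le_sylow
        obtain ⟨g, hg⟩ := MulAction.exists_smul_eq H P S
        intro y hy
        have h := hS (hQnorm.conj_mem y hy g)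
        rw [← hg] at h
        obtain ⟨b, hb, hby⟩ : g * y * g⁻¹ ∈ (P : Subgroup H).map (MulAut.conj g).toMonoidHom := h
        have hby' : g * b * g⁻¹ = g * y * g⁻¹ := hby
        rwa [mul_left_cancel (mul_right_cancel hby')] at hb
      have hQ1 : Q = ⊥ := by
        rw [eq_bot_iff]
        intro z hz
        refine Subgroup.mem_bot.2 (hcenres z (hQP hz) ?_ (hQD hz))
        have hC : Subgroup.centralizer (Q : Set H) = ⊤ := hgen _ inferInstance fun y hy =>
          Subgroup.mem_centralizer_iff.2 fun b hb => hcommP _ P.isPGroup' b (hQP hb) y hy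
        exact Subgroup.mem_center_iff.2 fun y =>
          (Subgroup.mem_centralizer_iff.1 (hC ▸ Subgroup.mem_top y) z hz).symm
      have hDP : D ⊓ (P : Subgroup H) = ⊥ := by
        rw [eq_bot_iff, ← hQ1]
        exact hQmax _ inf_le_left (P.isPGroup'.to_le inf_le_right)
      have hDcop := CfsgLib.Transfer.coprime_card_of_inf_sylow_eq_bot P hDP
      have hsup : D ⊔ (P : Subgroup H) = ⊤ := CfsgLib.Transfer.pResidual_sup_sylow P
      have hmeet : ∀ R : Subgroup H, IsPGroup p R → ∀ y ∈ R, y ∈ D → y = 1 := by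
        intro R hR y hyR hyD
        obtain ⟨j, hj⟩ := IsPGroup.iff_card.1 hR
        rw [← orderOf_eq_one_iff]
        exact Nat.eq_one_of_dvd_coprimes (Nat.Coprime.pow_right j hDcop)
          (Subgroup.orderOf_dvd_natCard _ hyD) (hj ▸ Subgroup.orderOf_dvd_natCard _ hyR)
      have hbad : ∀ u ∈ (P : Subgroup H), D ⊔ Subgroup.zpowers u ≠ ⊤ →
          ∀ v ∈ D, v * u = u * v := by
        intro u hu hK v hv
        obtain ⟨R, hR, -, hRmax⟩ := hcore _ hK
        have hmemK : ∀ y ∈ D ⊔ Subgroup.zpowers u, IsPGroup p (Subgroup.zpowers y) → y ∈ R :=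
          fun y hy hyp => hRmax _ (Subgroup.zpowers_le.2 hy) hyp (Subgroup.mem_zpowers y)
        have hup : IsPGroup p (Subgroup.zpowers u) := P.isPGroup'.to_le (Subgroup.zpowers_le.2 hu)
        have h1 : u ∈ R := hmemK u (Subgroup.mem_sup_right (Subgroup.mem_zpowers u)) hup
        have h2 : v * u * v⁻¹ ∈ R := by
          refine hmemK _ (mul_mem (mul_mem (Subgroup.mem_sup_left hv)
            (Subgroup.mem_sup_right (Subgroup.mem_zpowers u))) (inv_mem (Subgroup.mem_sup_left hv))) ?_
          have h := hup.map (MulAut.conj v).toMonoidHom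
          rwa [MonoidHom.map_zpowers] at h
        have h3 : v * u * v⁻¹ * u⁻¹ ∈ D := by
          rw [show v * u * v⁻¹ * u⁻¹ = v * (u * v⁻¹ * u⁻¹) by group]
          exact mul_mem hv (hres.conj_mem _ (inv_mem hv) u)
        have h4 := hmeet R hR _ (mul_mem h2 (inv_mem h1)) h3
        calc v * u = v * u * v⁻¹ * u⁻¹ * (u * v) := by group
          _ = u * v := by rw [h4, one_mul]
      obtain ⟨u, hu, hutop⟩ : ∃ u ∈ (P : Subgroup H), D ⊔ Subgroup.zpowers u = ⊤ := by
        by_contra h
        push Not at h
        refine hnot (Subgroup.normalizer_eq_top_iff.1 (top_le_iff.1 ?_))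
        rw [← hsup]
        refine sup_le (fun v hv => ?_) Subgroup.le_normalizer
        rw [Subgroup.mem_normalizer_iff]
        intro y
        constructor
        · intro hy
          rw [hbad y hy (h y hy) v hv, mul_inv_cancel_right]
          exact hy
        · intro hy
          have h' := hbad _ hy (h _ hy) v hv
          have : v * y * v⁻¹ = y := mul_left_cancel (h'.trans (by group))
          rwa [this] at hy
      -- the Sylow subgroup is generated by `u`
      have hPu : (P : Subgroup H) = Subgroup.zpowers u := by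
        refine le_antisymm (fun y hy => ?_) (Subgroup.zpowers_le.2 hu)
        have hy' : y ∈ D ⊔ Subgroup.zpowers u := hutop ▸ Subgroup.mem_top y
        rw [Subgroup.mem_sup_of_normal_left] at hy'
        obtain ⟨v, hv, w, hw, rfl⟩ := hy'
        have hwP : w ∈ (P : Subgroup H) := Subgroup.zpowers_le.2 hu hw
        have hvP : v ∈ (P : Subgroup H) := by simpa using mul_mem hy (inv_mem hwP)
        rw [hmeet _ P.isPGroup' v hvP hv, one_mul]
        exact hw
      obtain ⟨a, hua⟩ : ∃ a, orderOf u = p ^ a := by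
        obtain ⟨j, hj⟩ := IsPGroup.iff_card.1 P.isPGroup'
        rw [hPu, Nat.card_zpowers] at hj
        exact ⟨j, hj⟩
      have ha2 : 2 ≤ a := by
        rw [hPu, Nat.card_zpowers, hua] at hPcard2
        exact (Nat.pow_dvd_pow_iff_le_right hp.out.one_lt).1 hPcard2
      have hDu : ∀ j : ℤ, u ^ j ∈ D → u ^ j = 1 := fun j h =>
        hmeet _ P.isPGroup' _ (zpow_mem hu j) h
      -- the `p`-th power is central
      set v := u ^ p with hv
      have hvP : v ∈ (P : Subgroup H) := pow_mem hu p
      have hvtop : D ⊔ Subgroup.zpowers v ≠ ⊤ := by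
        intro h
        have hu' : u ∈ D ⊔ Subgroup.zpowers v := h ▸ Subgroup.mem_top u
        rw [Subgroup.mem_sup_of_normal_left] at hu'
        obtain ⟨d, hd, w, hw, hdw⟩ := hu'
        obtain ⟨j, rfl⟩ := Subgroup.mem_zpowers_iff.1 hw
        have hdu : d = u ^ (1 - (p : ℤ) * j) := by
          rw [eq_mul_inv_of_mul_eq hdw, hv, zpow_sub, zpow_one, zpow_mul, zpow_natCast]
        have h1 := hDu _ (hdu ▸ hd)
        rw [← orderOf_dvd_iff_zpow_eq_one, hua] at h1
        have h2 : (p : ℤ) ∣ 1 - (p : ℤ) * j := dvd_trans (by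
          push_cast; exact dvd_pow_self _ (by omega)) h1
        have h3 : (p : ℤ) ∣ 1 := by
          have := dvd_add h2 (dvd_mul_right (p : ℤ) j)
          simpa using this
        exact hp.out.ne_one (Nat.eq_one_of_dvd_one (Int.natCast_dvd_natCast.1 h3))
      have hvZ : v ∈ Subgroup.center H := by
        rw [Subgroup.mem_center_iff]
        intro y
        have hy : y ∈ D ⊔ Subgroup.zpowers u := hutop ▸ Subgroup.mem_top y
        rw [Subgroup.mem_sup_of_normal_left] at hy
        obtain ⟨d, hd, w, hw, rfl⟩ := hy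
        obtain ⟨j, rfl⟩ := Subgroup.mem_zpowers_iff.1 hw
        have hj : u ^ j * v = v * u ^ j := by
          rw [hv, ← zpow_natCast u p, ← zpow_add, ← zpow_add, add_comm]
        rw [mul_assoc, hj, ← mul_assoc, hbad v hvP hvtop d hd, mul_assoc]
      -- a contradiction at each constituent
      refine hnot ((Subgroup.normalizer_eq_top_iff).1 (top_le_iff.1 ?_))
      rw [← hsup]
      refine sup_le (fun d hd => ?_) Subgroup.le_normalizer
      suffices hcomm : d * u = u * d by
        rw [Subgroup.mem_normalizer_iff, hPu]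
        intro y
        constructor
        · intro hy
          obtain ⟨j, rfl⟩ := Subgroup.mem_zpowers_iff.1 hy
          rw [← conj_zpow, hcomm, mul_inv_cancel_right]
          exact hy
        · intro hy
          obtain ⟨j, hj⟩ := Subgroup.mem_zpowers_iff.1 hy
          have : y = u ^ j := by
            calc y = d⁻¹ * (d * y * d⁻¹) * d := by group
              _ = d⁻¹ * u ^ j * d := by rw [hj]
              _ = d⁻¹ * (d * u ^ j) := by rw [mul_assoc, (Commute.zpow_right hcomm j).eq]
              _ = u ^ j := inv_mul_cancel_left d _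
          rw [this]
          exact zpow_mem (Subgroup.mem_zpowers u) j
      refine mul_inv_eq_one.1 (hdet _ fun η hη => ?_)
      -- twist
      obtain ⟨ω, hω, hωη⟩ := CfsgLib.Clifford.exists_unit_norm_of_central η.2 hvZ
      have hωpow : ω ^ p ^ (a - 1) = 1 := by
        have hiter : ∀ j : ℕ, (η : H → ℂ) (v ^ j) = ω ^ j * (η : H → ℂ) 1 := by
          intro j
          induction j with
          | zero => simp
          | succ j ih => rw [pow_succ', hωη, ih, pow_succ', mul_assoc]
        have h := hiter (p ^ (a - 1))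
        rw [hv, ← pow_mul, ← pow_succ', show a - 1 + 1 = a by omega, ← hua, pow_orderOf_eq_one] at h
        exact (mul_eq_right₀ (CfsgLib.Char.irr_apply_one_ne_zero η.2)).1 h.symm
      obtain ⟨ν, hν⟩ := IsAlgClosed.exists_pow_nat_eq ω hp.out.pos
      have hνpow : ν ^ p ^ a = 1 := by
        rw [show a = a - 1 + 1 by omega, pow_succ', pow_mul, hν, hωpow]
      have hν0 : ν ≠ 0 := fun h => by
        rw [h, zero_pow (pow_pos hp.out.pos a).ne'] at hνpow
        exact zero_ne_one hνpow
      have hgenq : ∀ q : H ⧸ D, q ∈ Subgroup.zpowers (QuotientGroup.mk' D u) := fun q => by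
        obtain ⟨y, rfl⟩ := QuotientGroup.mk'_surjective D q
        have hy : y ∈ D ⊔ Subgroup.zpowers u := hutop ▸ Subgroup.mem_top y
        rw [Subgroup.mem_sup_of_normal_left] at hy
        obtain ⟨d, hd, w, hw, rfl⟩ := hy
        obtain ⟨j, rfl⟩ := Subgroup.mem_zpowers_iff.1 hw
        refine Subgroup.mem_zpowers_iff.2 ⟨j, ?_⟩
        have hd' : QuotientGroup.mk' D d = 1 := (QuotientGroup.eq_one_iff d).2 hd
        rw [map_mul, hd', one_mul, map_zpow]
      have hordq : orderOf (QuotientGroup.mk' D u) = orderOf u :=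
        Nat.dvd_antisymm (orderOf_map_dvd _ u) (orderOf_dvd_of_pow_eq_one (by
          rw [← zpow_natCast]
          exact hDu _ ((QuotientGroup.eq_one_iff _).1 (by
            change QuotientGroup.mk' D (u ^ _) = 1
            rw [map_zpow, zpow_natCast, pow_orderOf_eq_one]))))
      have hg' : orderOf (Units.mk0 ν hν0)⁻¹ ∣ orderOf (QuotientGroup.mk' D u) :=
        orderOf_dvd_of_pow_eq_one (by
          rw [hordq, hua, inv_pow, inv_eq_one]
          exact Units.ext (by rw [Units.val_pow_eq_pow_val]; exact hνpow))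
      let lam0 : H ⧸ D →* ℂˣ := monoidHomOfForallMemZpowers hgenq hg'
      let lam : H →* ℂˣ := lam0.comp (QuotientGroup.mk' D)
      have hlamu : lam u = (Units.mk0 ν hν0)⁻¹ :=
        monoidHomOfForallMemZpowers_apply_gen hgenq hg'
      have hlamd : lam d = 1 := by
        change lam0 (QuotientGroup.mk' D d) = 1
        rw [show QuotientGroup.mk' D d = 1 from (QuotientGroup.eq_one_iff d).2 hd, map_one]
      let η' : IrrCharacter H := ⟨fun g => (lam g : ℂ) * (η : H → ℂ) g,
        CfsgLib.Char.isIrrCharacter_mul_linear η.2 lam⟩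
      have hη'v : (η' : H → ℂ) v = (η' : H → ℂ) 1 := by
        change (lam v : ℂ) * (η : H → ℂ) v = (lam 1 : ℂ) * (η : H → ℂ) 1
        rw [← mul_one v, hωη, mul_one, map_one, Units.val_one, one_mul, hv, map_pow, hlamu,
          inv_pow, Units.val_inv_eq_inv_val, Units.val_pow_eq_pow_val, Units.val_mk0, hν,
          inv_mul_cancel_left₀]
        intro h0
        rw [h0, norm_zero] at hω
        exact zero_ne_one hω
      obtain ⟨l, rep, hrep, hrepη⟩ := η'.2
      set K : Subgroup H := MonoidHom.ker rep with hKdef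
      have : K.Normal := MonoidHom.normal_ker rep
      have hmemK : ∀ g, g ∈ K ↔ (η' : H → ℂ) g = (η' : H → ℂ) 1 := fun g => by
        rw [← hrepη]; exact CfsgLib.Char.mem_ker_iff_char rep g
      suffices hcK : d * u * (u * d)⁻¹ ∈ K by
        have h := (hmemK _).1 hcK
        change (lam (d * u * (u * d)⁻¹) : ℂ) * (η : H → ℂ) _ = (lam 1 : ℂ) * _ at h
        rw [map_mul, map_inv, map_mul, map_mul, mul_comm (lam u), mul_inv_cancel, map_one,
          Units.val_one, one_mul, one_mul] at h
        exact h
      by_cases huK : u ∈ K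
      · rw [show d * u * (u * d)⁻¹ = (d * u * d⁻¹) * u⁻¹ by group]
        exact mul_mem (Subgroup.Normal.conj_mem ‹K.Normal› u huK d) (inv_mem huK)
      have := Fintype.ofFinite (H ⧸ K)
      set π := QuotientGroup.mk' K with hπ
      have hordu : orderOf (π u) = p := by
        have h : π u ^ p = 1 := by
          rw [← map_pow]
          exact (QuotientGroup.eq_one_iff _).2 ((hmemK _).2 hη'v)
        exact orderOf_eq_prime h fun h1 => huK ((QuotientGroup.eq_one_iff u).1 h1)
      -- the quotient has a normal complement of index `p`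
      have hgenK : ∀ q : H ⧸ K, ∃ d ∈ D, ∃ j : ℤ, q = π d * π u ^ j := fun q => by
        obtain ⟨y, rfl⟩ := QuotientGroup.mk'_surjective K q
        have hy : y ∈ D ⊔ Subgroup.zpowers u := hutop ▸ Subgroup.mem_top y
        rw [Subgroup.mem_sup_of_normal_left] at hy
        obtain ⟨d, hd, w, hw, rfl⟩ := hy
        obtain ⟨j, rfl⟩ := Subgroup.mem_zpowers_iff.1 hw
        exact ⟨d, hd, j, by rw [map_mul, map_zpow]⟩
      have hDK : (D.map π).Normal := hres.map π (QuotientGroup.mk'_surjective K)
      have hDKcop : (Nat.card (D.map π)).Coprime p :=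
        Nat.Coprime.coprime_dvd_left (Subgroup.card_map_dvd _ _) hDcop
      have hsqK : ¬ p ^ 2 ∣ Nat.card (H ⧸ K) := by
        intro hdvd
        obtain ⟨R, hR⟩ := Sylow.exists_subgroup_card_pow_prime p hdvd
        have hinj : Function.Injective
            (fun r : R => (QuotientGroup.mk' (D.map π) (r : H ⧸ K))) := by
          intro r r' h
          have hmem : (r : H ⧸ K)⁻¹ * r' ∈ D.map π := QuotientGroup.eq.1 h
          have h1 : (r : H ⧸ K)⁻¹ * r' = 1 := by
            rw [← orderOf_eq_one_iff]
            refine Nat.eq_one_of_dvd_coprimes (Nat.Coprime.pow_right 2 hDKcop)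
              (Subgroup.orderOf_dvd_natCard _ hmem) ?_
            rw [← hR]
            exact Subgroup.orderOf_dvd_natCard _ (mul_mem (inv_mem r.2) r'.2)
          exact Subtype.ext (inv_mul_eq_one.1 h1)
        have hcyc : Nat.card ((H ⧸ K) ⧸ D.map π) ≤ p := by
          have htop : ∀ q : (H ⧸ K) ⧸ D.map π,
              q ∈ Subgroup.zpowers (QuotientGroup.mk' (D.map π) (π u)) := fun q => by
            obtain ⟨q, rfl⟩ := QuotientGroup.mk'_surjective _ q
            obtain ⟨d, hd, j, rfl⟩ := hgenK q
            refine Subgroup.mem_zpowers_iff.2 ⟨j, ?_⟩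
            have hd' : QuotientGroup.mk' (D.map π) (π d) = 1 :=
              (QuotientGroup.eq_one_iff _).2 (Subgroup.mem_map_of_mem _ hd)
            rw [map_mul, hd', one_mul, map_zpow]
          calc Nat.card ((H ⧸ K) ⧸ D.map π)
              = Nat.card (Subgroup.zpowers (QuotientGroup.mk' (D.map π) (π u))) := by
                rw [show Subgroup.zpowers (QuotientGroup.mk' (D.map π) (π u)) = ⊤ from
                  eq_top_iff.2 fun q _ => htop q, Subgroup.card_top]
            _ ≤ p := by
                rw [Nat.card_zpowers]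
                exact Nat.le_of_dvd hp.out.pos (hordu ▸ orderOf_map_dvd _ _)
        have := Nat.card_le_card_of_injective _ hinj
        rw [hR] at this
        have := hp.out.two_le
        nlinarith
      obtain ⟨M, hM⟩ := CfsgLib.BlockB.exists_isPModular hp.out
      have := hM.2.1.isPrime
      obtain ⟨η'', hη''i, hcomp⟩ := CfsgLib.Char.isIrr_quotient_lift K η'.2
        fun n hn => (hmemK n).1 hn
      have hval : ∀ g, (η' : H → ℂ) g = η'' (π g) := fun g => congrFun hcomp g
      have hc := mem_center_of_no_fusion (x := π u) hM hordu hsqK ⟨η'', hη''i⟩ (by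
          have : charDegree η'' = charDegree (η : H → ℂ) := by
            have h1 : η'' 1 = (η : H → ℂ) 1 := by
              rw [← map_one π, ← hval 1]
              simp [η']
            simp only [charDegree, h1]
          change charDegree η'' + 1 < p
          have := hdeg η hη
          omega)
        (fun q hq => by
          obtain ⟨g, rfl⟩ := QuotientGroup.mk'_surjective K q
          refine (QuotientGroup.eq_one_iff g).2 ((hmemK g).2 ?_)
          rw [hval g, hval 1, map_one]
          exact hq)
        (fun q hq => by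
          rw [Subgroup.mem_centralizer_singleton_iff]
          obtain ⟨d', hd', j, rfl⟩ := hgenK q
          have h1 : π d' * π u ^ j * π u * (π d' * π u ^ j)⁻¹ ∈ Subgroup.zpowers (π u) :=
            (Subgroup.mem_normalizer_iff.1 hq _).1 (Subgroup.mem_zpowers _)
          have he : π d' * π u ^ j * π u * (π d' * π u ^ j)⁻¹ * (π u)⁻¹ =
              π d' * (π u * (π d')⁻¹ * (π u)⁻¹) := by group
          have h2 : π d' * (π u * (π d')⁻¹ * (π u)⁻¹) ∈ D.map π :=
            mul_mem (Subgroup.mem_map_of_mem _ hd')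
              (hDK.conj_mem _ (inv_mem (Subgroup.mem_map_of_mem _ hd')) (π u))
          have h3 : π d' * π u ^ j * π u * (π d' * π u ^ j)⁻¹ * (π u)⁻¹ = 1 := by
            rw [← orderOf_eq_one_iff]
            refine Nat.eq_one_of_dvd_coprimes hDKcop
              (Subgroup.orderOf_dvd_natCard _ (he ▸ h2)) ?_
            have := Subgroup.orderOf_dvd_natCard _ (mul_mem h1 (inv_mem (Subgroup.mem_zpowers (π u))))
            rwa [Nat.card_zpowers, hordu] at this
          rw [mul_inv_eq_one, mul_inv_eq_iff_eq_mul] at h3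
          exact h3)
      have hcu := Subgroup.mem_center_iff.1 hc (π d)
      refine (QuotientGroup.eq_one_iff _).1 ?_
      change π (d * u * (u * d)⁻¹) = 1
      rw [map_mul, map_inv, map_mul, map_mul, hcu, mul_inv_cancel]

end Main

end DegreeBound

end CfsgLib.Block
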