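import Cfsg.Agent.Lib.Block.SmallCofactorTI
import Cfsg.Agent.Lib.Block.BrauerTuanTheorem
import Cfsg.Agent.Lib.Block.ThreePrimeSimple
import Cfsg.Agent.Lib.Block.SmallDegreeNormal
import Cfsg.Agent.Lib.Classical.PSLTwoPerm
import Cfsg.Agent.Lib.ClassK.SmallOrders
import Cfsg.Agent.S0899
import Cfsg.Agent.S0992
import Cfsg.Agent.S0205

/-!
Simple groups of order `4 p ^ a q ^ b` and `3 p ^ a q ^ b` with `a ≤ 2`.
-/

set_option autoImplicit false

namespace CfsgLib.Block.SmallCofactor

open Cfsg CfsgLib CfsgLib.Block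
open scoped Nat

universe u

variable {G : Type u} [Group G] [Finite G]

theorem not_two_primes [IsSimpleGroup G] (hG : ¬ IsMulCommutative G) {p q a b : ℕ} (hp : p.Prime)
    (hq : q.Prime) : Nat.card G ≠ p ^ a * q ^ b := fun h => by
  have := Char.burnside_pq p q hp hq a b G h
  exact hG ⟨⟨fun x y => IsSimpleGroup.comm_iff_isSolvable.2 this x y⟩⟩

theorem isSolvable_of_not_four {H : Type u} [Group H] [Finite H] (h4 : ¬ 4 ∣ Nat.card H) :
    Group.IsSolvable H := by
  by_cases h2 : Even (Nat.card H)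
  swap
  · exact Cfsg.Agent.S0205.result (Nat.not_even_iff_odd.1 h2)
  haveI : Fact (Nat.Prime 2) := ⟨Nat.prime_two⟩
  obtain ⟨S⟩ := (inferInstance : Nonempty (Sylow 2 H))
  obtain ⟨m, hm⟩ := IsPGroup.iff_card.1 S.isPGroup'
  have hm1 : m ≤ 1 := by
    by_contra hcon
    exact h4 ((pow_dvd_pow 2 (not_le.1 hcon : 2 ≤ m)).trans (hm ▸ Subgroup.card_subgroup_dvd_card _))
  haveI : IsCyclic (S : Subgroup H) := by
    interval_cases m
    · haveI : Subsingleton (S : Subgroup H) :=
        Finite.card_le_one_iff_subsingleton.1 (by rw [hm, pow_zero])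
      infer_instance
    · exact isCyclic_of_prime_card (p := 2) (by rw [hm, pow_one])
  have hmin : (Nat.card H).minFac = 2 := (Nat.minFac_eq_two_iff _).2 h2.two_dvd
  have hK := MonoidHom.ker_transferSylow_isComplement' S
    (IsCyclic.normalizer_le_centralizer hmin (P := S) inferInstance)
  set K := (MonoidHom.transferSylow S (IsCyclic.normalizer_le_centralizer hmin (P := S) inferInstance)).ker
  have hKodd : Odd (Nat.card K) := by
    by_contra hev
    obtain ⟨k, hk⟩ := Nat.not_odd_iff_even.1 hev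
    have hcard := hK.card_mul_card
    interval_cases m
    · exact S.ne_bot_of_dvd_card h2.two_dvd
        (Subgroup.card_eq_one.1 (by rw [hm, pow_zero]))
    · exact h4 ⟨k, by rw [← hcard, hm, hk]; ring⟩
  haveI := Cfsg.Agent.S0205.result hKodd
  exact Group.isSolvable_of_ker_le_range K.subtype
    (MonoidHom.transferSylow S (IsCyclic.normalizer_le_centralizer hmin (P := S) inferInstance))
    (by rw [Subgroup.range_subtype])

/-- Burnside: no centralizer of a nontrivial element has prime power index. -/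
theorem centralizer_index_ne [IsSimpleGroup G] (hG : ¬ IsMulCommutative G) {x : G} (hx : x ≠ 1)
    {l k : ℕ} (hl : l.Prime) :
    ¬ (Subgroup.centralizer ({x} : Set G)).index ∣ l ^ k := fun h => by
  obtain ⟨j, -, hj⟩ := (Nat.dvd_prime_pow hl).1 h
  have := Char.burnside_class_prime_power l j hl x hx hj
  haveI := Fact.mk this
  exact hG (isCyclic_of_prime_card (α := G) rfl).isMulCommutative

theorem exists_representation {χ : G → ℂ} (hχ : IsIrrCharacter G χ)
    (hf : ∀ g, χ g = χ 1 → g = 1) :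
    ∃ ρ : Representation ℂ G (Fin (charDegree χ) → ℂ), Function.Injective ρ := by
  obtain ⟨m, ρ, hρ, rfl⟩ := hχ
  have hm : charDegree ρ.character = m := by
    simp [charDegree, Representation.char_one, Module.finrank_fin_fun]
  rw [hm]
  refine ⟨ρ, fun g h hgh => ?_⟩
  have : g⁻¹ * h = 1 := hf _ ((Char.mem_ker_iff_char ρ _).1 (by
    rw [MonoidHom.mem_ker, map_mul, ← hgh, ← map_mul, inv_mul_cancel, map_one]))
  exact (inv_mul_eq_one.1 this)

theorem sylow_card {r c m : ℕ} [hr : Fact r.Prime] (hcard : Nat.card G = m * r ^ c)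
    (hm : ¬ r ∣ m) (P : Sylow r G) : Nat.card P = r ^ c := by
  rw [P.card_eq_multiplicity, hcard, Nat.factorization_mul
    (by rintro rfl; exact hm (dvd_zero r)) (pow_ne_zero _ hr.out.ne_zero), Finsupp.coe_add, Pi.add_apply,
    Nat.factorization_eq_zero_of_not_dvd hm, Nat.factorization_pow_self hr.out, zero_add]

theorem sylow_dvd {r c m : ℕ} [hr : Fact r.Prime] (hcard : Nat.card G = m * r ^ c)
    (hm : ¬ r ∣ m) : Nat.card (Sylow r G) ∣ m := by
  have P : Sylow r G := default
  refine P.card_dvd_index.trans (Dvd.intro_left 1 ?_)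
  have := (P : Subgroup G).card_mul_index
  rw [sylow_card hcard hm P, hcard, mul_comm m] at this
  rw [one_mul, Nat.eq_of_mul_eq_mul_left (pow_pos hr.out.pos c) this]

theorem mem_divisors_thirtysix {n : ℕ} (h : n ∣ 36) :
    n ∈ [1, 2, 3, 4, 6, 9, 12, 18, 36] := by
  have := Nat.le_of_dvd (by norm_num) h
  revert h
  interval_cases n <;> decide

/-- Order `4 r 3 ^ b`. -/
theorem four_r_three [IsSimpleGroup G] (hG : ¬ IsMulCommutative G) {r b : ℕ} (hr : r.Prime)
    (h5 : 5 ≤ r) (hcard : Nat.card G = 4 * r * 3 ^ b) : Nat.card G = 60 := by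
  have hcyc : ¬ IsCyclic G := fun h => hG h.isMulCommutative
  rcases eq_or_ne r 5 with rfl | h5'
  swap
  · exfalso
    have hr6 : 6 ≤ r := by omega
    rcases BrauerTuan.main hcyc hr Nat.prime_three (by omega)
        (show Nat.card G = r * 3 ^ b * 4 by rw [hcard]; ring) (by omega) (by norm_num) with
      ⟨-, -, -, -, -, h, -⟩ | ⟨m, F, _, _, hF, hm, -, ⟨e⟩⟩
    · omega
    · have hc := Nat.card_congr e.toEquiv
      have hm0 : m ≠ 0 := fun h => by subst h; simp at hm; omega
      rw [hcard, Classical.card_psl_two_eq hF (2 ^ m * ((2 ^ m) ^ 2 - 1)) (by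
        rw [Nat.Coprime.gcd_eq_one, one_mul]
        rcases m with _ | m
        · exact absurd rfl hm0
        · rw [pow_succ]
          refine (Nat.prime_two.coprime_iff_not_dvd.2 ?_)
          have := Nat.one_le_two_pow (n := m)
          omega)] at hc
      have h3 : m ≤ 2 := by
        by_contra hcon
        have h8 : 8 ∣ 4 * r * 3 ^ b :=
          hc ▸ ((pow_dvd_pow 2 (show 3 ≤ m by omega)).mul_right _)
        rw [mul_assoc] at h8
        have h2 : 2 ∣ r * 3 ^ b := (mul_dvd_mul_iff_left (by norm_num : (4 : ℕ) ≠ 0)).1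
          (show 4 * 2 ∣ 4 * (r * 3 ^ b) from h8)
        rcases (Nat.Prime.dvd_mul Nat.prime_two).1 h2 with h | h
        · have := (Nat.prime_dvd_prime_iff_eq Nat.prime_two hr).1 h; omega
        · have := Nat.prime_two.dvd_of_dvd_pow h; omega
      have := Nat.pow_le_pow_right (show 0 < 2 by norm_num) h3
      omega
  haveI : Fact (Nat.Prime 5) := ⟨hr⟩
  haveI : Fact (Nat.Prime 3) := ⟨Nat.prime_three⟩
  haveI : Fact (Nat.Prime 2) := ⟨Nat.prime_two⟩
  have hb0 : b ≠ 0 := fun h => by
    subst h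
    exact not_two_primes hG (a := 2) (b := 1) Nat.prime_two hr (by simpa using hcard)
  obtain ⟨n1, n2, -, n4⟩ := Transfer.sylow_count_of_simple hG (p := 3)
    (by rw [hcard]; exact (dvd_pow_self 3 hb0).mul_left _)
  have hn := sylow_dvd hcard (show ¬ 3 ∣ 4 * 5 by norm_num)
  have hn10 : Nat.card (Sylow 3 G) = 4 ∨ Nat.card (Sylow 3 G) = 10 := by
    have := Nat.le_of_dvd (by norm_num) hn
    revert n1 n2 hn
    generalize Nat.card (Sylow 3 G) = n at *
    interval_cases n <;> decide
  rcases hn10 with hn4 | hn10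
  · rw [hn4, hcard] at n4
    have := Nat.le_of_dvd (Nat.factorial_pos _) n4
    have := Nat.one_le_pow b 3 (by norm_num)
    simp [Nat.factorial] at *
    omega
  have hb4 : b ≤ 4 := by
    by_contra hcon
    rw [hn10, hcard] at n4
    have h : 3 ^ 5 ∣ (10 : ℕ)! := (pow_dvd_pow 3 (show 5 ≤ b by omega)).trans
      ((dvd_mul_left _ (2 * (4 * 5))).trans (by rw [mul_assoc 2]; exact n4))
    revert h; decide +kernel
  have hcard5 : Nat.card G = 4 * 3 ^ b * 5 ^ 1 := by rw [hcard]; ring
  have hnd : ¬ 5 ∣ 4 * 3 ^ b := fun h => by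
    rcases (Nat.Prime.dvd_mul hr).1 h with h | h
    · norm_num at h
    · exact absurd (hr.dvd_of_dvd_pow h) (by norm_num)
  obtain ⟨P⟩ := (inferInstance : Nonempty (Sylow 5 G))
  have hP : Nat.card P = 5 := by simpa using sylow_card hcard5 hnd P
  have hCP : Subgroup.centralizer ((P : Subgroup G) : Set G) = (P : Subgroup G) :=
    ThreePrimeSimple.centralizer_sylow_eq (p := 2) (q := 3) (a := 2) (b := b)
      Nat.prime_two Nat.prime_three (by norm_num) (by norm_num)
      (by rw [hcard]; ring) P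
  set N := Subgroup.normalizer ((P : Subgroup G) : Set G) with hN
  let ψn := (P : Subgroup G).normalizerMonoidHom
  have hker : ψn.ker = (P : Subgroup G).subgroupOf N := by
    rw [Subgroup.normalizerMonoidHom_ker, hCP]
  haveI : IsCyclic (P : Subgroup G) := isCyclic_of_prime_card hP
  have hindex : ψn.ker.index ∣ 4 := by
    rw [Subgroup.index_ker]
    refine (Subgroup.card_subgroup_dvd_card _).trans (dvd_of_eq ?_)
    rw [IsCyclic.card_mulAut, hP, Nat.totient_prime hr]
  have hNcard : Nat.card N = 5 * ψn.ker.index := by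
    rw [← ψn.ker.card_mul_index, hker,
      Nat.card_congr (Subgroup.subgroupOfEquivOfLe Subgroup.le_normalizer).toEquiv, hP]
  have he1 : ψn.ker.index ≠ 1 := fun h => by
    refine Transfer.not_normalizer_le_centralizer hG
      (p := 5) (by rw [hcard5]; exact dvd_mul_left 5 _) P fun g hg => ?_
    have hm : (⟨g, hg⟩ : N) ∈ ψn.ker := by rw [Subgroup.index_eq_one.1 h]; trivial
    rw [hker] at hm
    rw [hCP]
    exact hm
  have hKlein : ∀ S : Sylow 2 G, IsKleinFour (S : Subgroup G) := fun S =>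
    (Cfsg.Agent.S0992.result hG ⟨2 * 5 * 3 ^ b, by rw [hcard]; ring⟩ (fun h8 => by
      rw [hcard, mul_assoc] at h8
      have h2 : 2 ∣ 5 * 3 ^ b := (mul_dvd_mul_iff_left (by norm_num : (4 : ℕ) ≠ 0)).1
        (show 4 * 2 ∣ 4 * (5 * 3 ^ b) from h8)
      rcases (Nat.Prime.dvd_mul Nat.prime_two).1 h2 with h | h
      · norm_num at h
      · exact absurd (Nat.prime_two.dvd_of_dvd_pow h) (by norm_num)) S).1
  have he4 : ψn.ker.index ≠ 4 := fun h => by
    obtain ⟨T⟩ := (inferInstance : Nonempty (Sylow 2 N))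
    have hT : Nat.card T = 4 := by
      have := sylow_card (G := N) (r := 2) (c := 2) (m := 5) (by rw [hNcard, h]; norm_num)
        (by norm_num) T
      simpa using this
    obtain ⟨S, hS⟩ := (T.isPGroup'.map N.subtype).exists_le_sylow
    haveI := hKlein S
    have hexp : ∀ t : (T : Subgroup N), t * t = 1 := fun t => Subtype.ext (Subtype.ext (by
      simpa using congrArg Subtype.val (IsKleinFour.mul_self
        (⟨((t : N) : G), hS (Subgroup.mem_map_of_mem _ t.2)⟩ : (S : Subgroup G)))))
    let f : (T : Subgroup N) →* MulAut (P : Subgroup G) := ψn.comp (T : Subgroup N).subtype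
    have hf : Function.Injective f := by
      refine (injective_iff_map_eq_one f).2 fun t ht => ?_
      have htk : (t : N) ∈ ψn.ker := ht
      rw [hker] at htk
      have ho : orderOf ((t : N) : G) ∣ 2 := orderOf_dvd_of_pow_eq_one <| by
        rw [pow_two]; exact_mod_cast congrArg (fun u : (T : Subgroup N) => ((u : N) : G)) (hexp t)
      have ho5 : orderOf ((t : N) : G) ∣ 5 := hP ▸ Subgroup.orderOf_dvd_natCard _ htk
      have ho1 := Nat.dvd_gcd ho ho5
      norm_num at ho1
      exact ho1
    haveI : IsCyclic (MulAut (P : Subgroup G)) := by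
      haveI : IsCyclic (ZMod (Nat.card (P : Subgroup G)))ˣ := by
        rw [hP]; infer_instance
      exact isCyclic_of_surjective (IsCyclic.mulAutMulEquiv (P : Subgroup G)).symm.toMonoidHom
        (IsCyclic.mulAutMulEquiv (P : Subgroup G)).symm.surjective
    obtain ⟨g, hg⟩ := (isCyclic_of_injective f hf).exists_generator
    have hord := orderOf_eq_card_of_forall_mem_zpowers hg
    have : orderOf g ∣ 2 := orderOf_dvd_of_pow_eq_one (by rw [pow_two, hexp])
    rw [hord, hT] at this
    norm_num at this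
  have he2 : ψn.ker.index = 2 := by
    have := Nat.le_of_dvd (by norm_num) hindex
    revert he1 he4 hindex
    generalize ψn.ker.index = e at *
    interval_cases e <;> decide
  have hnc : 5 * 2 * Nat.card (Sylow 5 G) = 4 * 5 * 3 ^ b := by
    rw [← hcard, P.card_eq_index_normalizer, ← N.card_mul_index, hNcard, he2]; rfl
  have hmod := card_sylow_modEq_one 5 G
  rw [Nat.ModEq] at hmod
  have hb1 : b = 1 := by
    interval_cases b <;> omega
  rw [hcard, hb1]; norm_num

/-- Order `4 3 ^ a r ^ b`, `a ≤ 2`. -/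
theorem four_three_r [IsSimpleGroup G] (hG : ¬ IsMulCommutative G) {r a b : ℕ} (hr : r.Prime)
    (h5 : 5 ≤ r) (ha : a ≤ 2) (hcard : Nat.card G = 4 * 3 ^ a * r ^ b) : Nat.card G = 60 := by
  haveI := Fact.mk hr
  suffices hb : b ≤ 1 by
    interval_cases b
    · exact absurd (by rw [hcard]; ring)
        (not_two_primes hG (a := 2) (b := a) Nat.prime_two Nat.prime_three)
    · exact four_r_three hG hr h5 (b := a) (by rw [hcard]; ring)
  by_contra hb
  have hnd : ¬ r ∣ 4 * 3 ^ a := fun h => by
    rcases (Nat.Prime.dvd_mul hr).1 h with h | h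
    · have := Nat.le_of_dvd (by norm_num) h
      interval_cases r <;> simp_all
    · have := Nat.le_of_dvd (by norm_num) (hr.dvd_of_dvd_pow h)
      omega
  obtain ⟨n1, n2, -, n4⟩ := Transfer.sylow_count_of_simple hG (p := r)
    (by rw [hcard]; exact (dvd_pow_self r (by omega)).mul_left _)
  have hn36 : Nat.card (Sylow r G) ∣ 36 := (sylow_dvd hcard hnd).trans
    (show 4 * 3 ^ a ∣ 36 from (mul_dvd_mul_left 4 (pow_dvd_pow 3 ha)))
  have hr2 : r ^ 2 ∣ Nat.card G := by
    rw [hcard]; exact (pow_dvd_pow r (by omega)).mul_left _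
  have hfac : ∀ n, 2 * Nat.card G ∣ n ! → r ^ 2 ∣ n ! := fun n h =>
    (hr2.mul_left 2).trans h
  have hrn : r ∣ Nat.card (Sylow r G) - 1 :=
    ((Nat.modEq_iff_dvd' n1.le).1 (card_sylow_modEq_one r G).symm)
  have hmem := mem_divisors_thirtysix hn36
  have h36 : Nat.card (Sylow r G) = 36 := by
    have hrle := Nat.le_of_dvd (by omega) hrn
    simp only [List.mem_cons, List.not_mem_nil, or_false] at hmem
    have hf := hfac _ n4
    rcases hmem with h | h | h | h | h | h | h | h | h <;> rw [h] at hrn hrle hf n1 <;>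
      first
        | exact h
        | omega
        | (exfalso; interval_cases r <;> revert hf hrn hr <;> decide +kernel)
  rw [h36] at hrn
  have hr57 : r = 5 ∨ r = 7 := by
    have := Nat.le_of_dvd (by norm_num) hrn
    interval_cases r <;> revert hrn hr <;> decide +kernel
  have hns : ¬ Nat.card (Sylow r G) ≡ 1 [MOD r ^ 2] := by
    rw [h36]; rcases hr57 with rfl | rfl <;> decide
  obtain ⟨M, m, hMt, hm1, hm2, hmM⟩ := exists_local hG (b := b) (by omega)
    (sylow_card hcard hnd) hns
  have hMG : m * r ^ b * M.index ∣ Nat.card G := by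
    rw [← M.card_mul_index]; exact mul_dvd_mul_right hmM _
  rw [hcard, mul_right_comm, Nat.mul_dvd_mul_iff_right (pow_pos hr.pos b)] at hMG
  have hm36 : m * M.index ∣ 36 := hMG.trans (mul_dvd_mul_left 4 (pow_dvd_pow 3 ha))
  have hidx := Subgroup.one_lt_index_of_ne_top hMt
  have hM6 : M.index ≤ 6 := by
    have hm' := mem_divisors_thirtysix (dvd_of_mul_right_dvd hm36)
    simp only [List.mem_cons, List.not_mem_nil, or_false] at hm'
    have := Nat.le_of_dvd (by norm_num) hm36
    rcases hr57 with rfl | rfl <;>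
      rcases hm' with h | h | h | h | h | h | h | h | h <;> subst h <;> omega
  have h := Transfer.two_mul_card_dvd_factorial hG hMt
  have h6 : r ^ 2 ∣ 6 ! := (hfac _ h).trans (Nat.factorial_dvd_factorial hM6)
  rcases hr57 with rfl | rfl <;> revert h6 <;> decide

/-- Order `4 r ^ 2 3 ^ b`: none. -/
theorem four_sq_three [IsSimpleGroup G] (hG : ¬ IsMulCommutative G) {r b : ℕ} (hr : r.Prime)
    (h5 : 5 ≤ r) : Nat.card G ≠ 4 * r ^ 2 * 3 ^ b := by
  intro hcard
  haveI := Fact.mk hr
  haveI : Fact (Nat.Prime 3) := ⟨Nat.prime_three⟩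
  obtain ⟨χ, k, hχ, hk, hk2, hk3, hf⟩ := exists_faithful hG hr Nat.prime_two Nat.prime_three
    (b := 2) (c := b) (by omega) (by omega) (by norm_num) le_rfl
    (show Nat.card G = r ^ 2 * 2 ^ 2 * 3 ^ b by rw [hcard]; ring)
  have hd : charDegree χ = 4 := by
    rw [hk]
    interval_cases k <;> simp at hk3 ⊢
  have h1 : χ 1 = (4 : ℕ) := by rw [← BlockB.charDegree_cast (Char.irr_isCharacter hχ), hd]
  have hnd : ¬ r ∣ 4 * 3 ^ b := fun h => by
    rcases (Nat.Prime.dvd_mul hr).1 h with h | h
    · have := Nat.le_of_dvd (by norm_num) h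
      interval_cases r <;> simp_all
    · have := Nat.le_of_dvd (by norm_num) (hr.dvd_of_dvd_pow h)
      omega
  have hcard' : Nat.card G = 4 * 3 ^ b * r ^ 2 := by rw [hcard]; ring
  have hrdvd : r ∣ Nat.card G := by rw [hcard']; exact (dvd_pow_self r two_ne_zero).mul_left _
  have hP := sylow_card hcard' hnd
  obtain ⟨P⟩ := (inferInstance : Nonempty (Sylow r G))
  by_cases h11 : 11 ≤ r
  · obtain ⟨ρ, hρ⟩ := exists_representation hχ hf
    have hnorm := Cfsg.Agent.S0899.result (charDegree χ) ρ hρ r (Or.inr ⟨by omega,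
      fun K hK Q => ?_⟩) P
    · rcases hnorm.eq_bot_or_eq_top with h | h
      · exact P.ne_bot_of_dvd_card hrdvd h
      · exact Transfer.normalizer_ne_top_of_simple hG hrdvd P
          (top_le_iff.1 (h.ge.trans Subgroup.le_normalizer))
    · by_cases hrK : r ∣ Nat.card K
      · obtain ⟨j, hj⟩ := IsPGroup.iff_card.1 Q.isPGroup'
        have hj1 : j = 1 := by
          have h1 : j ≤ 1 := by
            by_contra hc
            exact hK ((pow_dvd_pow r (not_le.1 hc : 2 ≤ j)).trans
              (hj ▸ Subgroup.card_subgroup_dvd_card _))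
          have h0 : j ≠ 0 := fun h0 => Q.ne_bot_of_dvd_card hrK
            (Subgroup.card_eq_one.1 (by rw [hj, h0, pow_zero]))
          omega
        rw [hj1, pow_one] at hj
        obtain ⟨y, hy⟩ := exists_prime_orderOf_dvd_card' (G := (Q : Subgroup K)) r (by rw [hj])
        have hn := exists_normal_order_of_small_degree (x := (y : K))
          (by rw [Subgroup.orderOf_coe, hy]) hK
          (Char.isCharacter_restrict (Char.irr_isCharacter hχ) K)
          (by simp [charDegree] at hd ⊢; omega)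
          (fun g hg => Subtype.ext (hf g (by simpa using hg)))
        have he : Subgroup.zpowers (y : K) = (Q : Subgroup K) :=
          Subgroup.eq_of_le_of_card_ge (Subgroup.zpowers_le.2 y.2)
            (by rw [Nat.card_zpowers, Subgroup.orderOf_coe, hy, hj])
        rwa [he] at hn
      · obtain ⟨j, hj⟩ := IsPGroup.iff_card.1 Q.isPGroup'
        have h0 : (Q : Subgroup K) = ⊥ := by
          rcases j with _ | j
          · exact Subgroup.card_eq_one.1 (by rw [hj, pow_zero])
          · exact absurd ((dvd_pow_self r j.succ_ne_zero).trans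
              (hj ▸ Subgroup.card_subgroup_dvd_card _)) hrK
        rw [h0]; infer_instance
  have hb : b ≤ 10 := by
    obtain ⟨S⟩ := (inferInstance : Nonempty (Sylow 3 G))
    obtain ⟨d, e, hde, hd24, he⟩ :=
      exists_card_pgroup hG (Char.irr_isCharacter hχ) hf h1 (S : Subgroup G) S.isPGroup'
    rw [sylow_card (m := 4 * r ^ 2) (c := b) hcard (fun h => by
      rcases (Nat.Prime.dvd_mul Nat.prime_three).1 h with h | h
      · norm_num at h
      · have := (Nat.prime_dvd_prime_iff_eq Nat.prime_three hr).1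
          (Nat.prime_three.dvd_of_dvd_pow h)
        omega) S] at hde
    have hd3 : d ∣ 3 := by
      refine Nat.Coprime.dvd_of_dvd_mul_right (n := 8) ?_ (by simpa [Nat.factorial] using hd24)
      exact Nat.Coprime.coprime_dvd_left (hde ▸ dvd_mul_right d e)
        (Nat.Coprime.pow_left b (by norm_num))
    have := Nat.le_of_dvd (by norm_num) hd3
    by_contra hcon
    have : 3 ^ 11 ≤ 3 ^ b := Nat.pow_le_pow_right (by norm_num) (by omega)
    rw [← hde] at this
    have := Nat.mul_le_mul ‹d ≤ 3› he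
    omega
  have hmod := sylow_count_modEq_sq hG hχ hf (r := r) (by omega) hP fun x hx => by
    refine isSolvable_of_not_four fun h4 => ?_
    have hx1 : x ≠ 1 := fun h => hr.ne_one (by rw [← hx, h, orderOf_one])
    obtain ⟨S, hxS⟩ := (IsPGroup.of_card (G := Subgroup.zpowers x) (n := 1)
      (by rw [Nat.card_zpowers, hx, pow_one]) : IsPGroup r (Subgroup.zpowers x)).exists_le_sylow
    have hSC : (S : Subgroup G) ≤ Subgroup.centralizer ({x} : Set G) := fun g hg =>
      Subgroup.mem_centralizer_singleton_iff.2 <| congrArg Subtype.val <|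
        (IsPGroup.isMulCommutative_of_card_eq_prime_sq (hP S)).is_comm.comm
          (⟨g, hg⟩ : (S : Subgroup G)) ⟨x, hxS (Subgroup.mem_zpowers x)⟩
    have hdv : 4 * r ^ 2 ∣ Nat.card (Subgroup.centralizer ({x} : Set G)) :=
      Nat.Coprime.mul_dvd_of_dvd_of_dvd (Nat.Coprime.pow 2 2
        ((Nat.coprime_primes Nat.prime_two hr).2 (by omega))) h4
        (hP S ▸ Subgroup.card_dvd_of_le hSC)
    refine centralizer_index_ne hG hx1 Nat.prime_three (k := b) ?_
    have := mul_dvd_mul_right hdv (Subgroup.centralizer ({x} : Set G)).index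
    rw [Subgroup.card_mul_index, hcard] at this
    exact (mul_dvd_mul_iff_left (by positivity)).1 this
  have n1 := (Transfer.sylow_count_of_simple hG hrdvd).1
  obtain ⟨c₁, c₂, hc1, hc2, hcc⟩ := Nat.dvd_mul.1 (sylow_dvd hcard' hnd)
  obtain ⟨j, hj, rfl⟩ := (Nat.dvd_prime_pow Nat.prime_three).1 hc2
  rw [← hcc, Nat.ModEq] at hmod
  rw [← hcc] at n1
  have key : ∀ r ∈ [5, 7], ∀ c ∈ [1, 2, 4], ∀ j ≤ 10,
      c * 3 ^ j % r ^ 2 = 1 % r ^ 2 → c * 3 ^ j = 1 := by decide +kernel
  have hc4 : c₁ ∈ [1, 2, 4] := by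
    have := Nat.le_of_dvd (by norm_num) hc1
    interval_cases c₁ <;> revert hc1 <;> decide
  have hr57 : r ∈ [5, 7] := by
    interval_cases r <;> revert hr <;> decide +kernel
  have := key r hr57 c₁ hc4 j (hj.trans hb) hmod
  omega

/-- Order `4 p ^ a q ^ b`. -/
theorem four_case [IsSimpleGroup G] (hG : ¬ IsMulCommutative G) {p q a b : ℕ} (hp : p.Prime)
    (hq : q.Prime) (hpq : p ≠ q) (ha : a ≤ 2) (hcard : Nat.card G = 4 * p ^ a * q ^ b) :
    Nat.card G = 60 := by
  haveI : Fact (Nat.Prime 2) := ⟨Nat.prime_two⟩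
  haveI : Fact (Nat.Prime 3) := ⟨Nat.prime_three⟩
  rcases eq_or_ne p 2 with rfl | hp2
  · exact absurd (by rw [hcard]; ring) (not_two_primes hG (a := a + 2) (b := b) Nat.prime_two hq)
  rcases eq_or_ne q 2 with rfl | hq2
  · exact absurd (by rw [hcard]; ring) (not_two_primes hG (a := b + 2) (b := a) Nat.prime_two hp)
  have h8 : ¬ 8 ∣ Nat.card G := fun h8 => by
    rw [hcard, mul_assoc] at h8
    have h2 : 2 ∣ p ^ a * q ^ b := (mul_dvd_mul_iff_left (by norm_num : (4 : ℕ) ≠ 0)).1
      (show 4 * 2 ∣ 4 * (p ^ a * q ^ b) from h8)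
    rcases (Nat.Prime.dvd_mul Nat.prime_two).1 h2 with h | h
    · exact hp2 ((Nat.prime_dvd_prime_iff_eq Nat.prime_two hp).1
        (Nat.prime_two.dvd_of_dvd_pow h)).symm
    · exact hq2 ((Nat.prime_dvd_prime_iff_eq Nat.prime_two hq).1
        (Nat.prime_two.dvd_of_dvd_pow h)).symm
  have h3 : 3 ∣ Nat.card G := by
    obtain ⟨T⟩ := (inferInstance : Nonempty (Sylow 2 G))
    have := (Cfsg.Agent.S0992.result hG ⟨2 * p ^ a * q ^ b, by rw [hcard]; ring⟩ h8 T).2
    rw [← this]
    exact (Subgroup.index_dvd_card _).trans (Subgroup.card_subgroup_dvd_card _)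
  rw [hcard, mul_assoc] at h3
  rcases (Nat.Prime.dvd_mul Nat.prime_three).1 h3 with h | h
  · norm_num at h
  rcases (Nat.Prime.dvd_mul Nat.prime_three).1 h with h | h
  · obtain rfl := ((Nat.prime_dvd_prime_iff_eq Nat.prime_three hp).1
      (Nat.prime_three.dvd_of_dvd_pow h))
    refine four_three_r hG hq ?_ ha hcard
    have := hq.two_le
    have h4 : q ≠ 4 := fun h => by subst h; norm_num at hq
    omega
  · obtain rfl := ((Nat.prime_dvd_prime_iff_eq Nat.prime_three hq).1
      (Nat.prime_three.dvd_of_dvd_pow h))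
    have h5 : 5 ≤ p := by
      have := hp.two_le
      have h4 : p ≠ 4 := fun h => by subst h; norm_num at hp
      omega
    interval_cases a
    · exact absurd (by rw [hcard]; ring)
        (not_two_primes hG (a := 2) (b := b) Nat.prime_two Nat.prime_three)
    · exact four_r_three hG hp h5 (by rw [hcard, pow_one])
    · exact absurd hcard (four_sq_three hG hp h5)

/-- Order `3 p ^ 2 2 ^ b`: none. -/
theorem three_sq_two [IsSimpleGroup G] (hG : ¬ IsMulCommutative G) {p b : ℕ} (hp : p.Prime)
    (h5 : 5 ≤ p) : Nat.card G ≠ 3 * p ^ 2 * 2 ^ b := by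
  intro hcard
  haveI := Fact.mk hp
  haveI : Fact (Nat.Prime 2) := ⟨Nat.prime_two⟩
  obtain ⟨χ, k, hχ, hk, hk2, hk3, hf⟩ := exists_faithful hG hp Nat.prime_three Nat.prime_two
    (b := 1) (c := b) (by omega) (by omega) (by norm_num) le_rfl
    (show Nat.card G = p ^ 2 * 3 ^ 1 * 2 ^ b by rw [hcard]; ring)
  have hd : charDegree χ = 3 := by
    rw [hk]
    interval_cases k <;> simp at hk3 ⊢
  have h1 : χ 1 = (3 : ℕ) := by rw [← BlockB.charDegree_cast (Char.irr_isCharacter hχ), hd]
  have hnd : ¬ p ∣ 3 * 2 ^ b := fun h => by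
    rcases (Nat.Prime.dvd_mul hp).1 h with h | h
    · have := Nat.le_of_dvd (by norm_num) h
      omega
    · have := Nat.le_of_dvd (by norm_num) (hp.dvd_of_dvd_pow h)
      omega
  have hcard' : Nat.card G = 3 * 2 ^ b * p ^ 2 := by rw [hcard]; ring
  have hrdvd : p ∣ Nat.card G := by rw [hcard']; exact (dvd_pow_self p two_ne_zero).mul_left _
  have hP := sylow_card hcard' hnd
  obtain ⟨P⟩ := (inferInstance : Nonempty (Sylow p G))
  by_cases h16 : 16 ≤ p
  · obtain ⟨ρ, hρ⟩ := exists_representation hχ hf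
    have hnorm := Cfsg.Agent.S0899.result (charDegree χ) ρ hρ p (Or.inl (by rw [hd]; omega)) P
    rcases hnorm.eq_bot_or_eq_top with h | h
    · exact P.ne_bot_of_dvd_card hrdvd h
    · exact Transfer.normalizer_ne_top_of_simple hG hrdvd P
        (top_le_iff.1 (h.ge.trans Subgroup.le_normalizer))
  have hb : b ≤ 11 := by
    obtain ⟨S⟩ := (inferInstance : Nonempty (Sylow 2 G))
    obtain ⟨d, e, hde, hd6, he⟩ :=
      exists_card_pgroup hG (Char.irr_isCharacter hχ) hf h1 (S : Subgroup G) S.isPGroup'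
    rw [sylow_card (m := 3 * p ^ 2) (c := b) hcard (fun h => by
      rcases (Nat.Prime.dvd_mul Nat.prime_two).1 h with h | h
      · norm_num at h
      · have := (Nat.prime_dvd_prime_iff_eq Nat.prime_two hp).1
          (Nat.prime_two.dvd_of_dvd_pow h)
        omega) S] at hde
    have hd2 : d ∣ 2 := by
      refine Nat.Coprime.dvd_of_dvd_mul_right (n := 3) ?_ (by simpa [Nat.factorial] using hd6)
      exact Nat.Coprime.coprime_dvd_left (hde ▸ dvd_mul_right d e)
        (Nat.Coprime.pow_left b (by norm_num))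
    have := Nat.le_of_dvd (by norm_num) hd2
    by_contra hcon
    have : 2 ^ 12 ≤ 2 ^ b := Nat.pow_le_pow_right (by norm_num) (by omega)
    rw [← hde] at this
    have := Nat.mul_le_mul ‹d ≤ 2› he
    omega
  have hmod := sylow_count_modEq_sq hG hχ hf (r := p) (by omega) hP fun x hx => by
    have hx1 : x ≠ 1 := fun h => hp.ne_one (by rw [← hx, h, orderOf_one])
    obtain ⟨S, hxS⟩ := (IsPGroup.of_card (G := Subgroup.zpowers x) (n := 1)
      (by rw [Nat.card_zpowers, hx, pow_one]) : IsPGroup p (Subgroup.zpowers x)).exists_le_sylow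
    have hSC : (S : Subgroup G) ≤ Subgroup.centralizer ({x} : Set G) := fun g hg =>
      Subgroup.mem_centralizer_singleton_iff.2 <| congrArg Subtype.val <|
        (IsPGroup.isMulCommutative_of_card_eq_prime_sq (hP S)).is_comm.comm
          (⟨g, hg⟩ : (S : Subgroup G)) ⟨x, hxS (Subgroup.mem_zpowers x)⟩
    have h3 : ¬ 3 ∣ Nat.card (Subgroup.centralizer ({x} : Set G)) := fun h3 => by
      have hdv : 3 * p ^ 2 ∣ Nat.card (Subgroup.centralizer ({x} : Set G)) :=
        Nat.Coprime.mul_dvd_of_dvd_of_dvd (((Nat.coprime_primes Nat.prime_three hp).2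
          (by omega)).pow_right 2) h3 (hP S ▸ Subgroup.card_dvd_of_le hSC)
      refine centralizer_index_ne hG hx1 Nat.prime_two (k := b) ?_
      have := mul_dvd_mul_right hdv (Subgroup.centralizer ({x} : Set G)).index
      rw [Subgroup.card_mul_index, hcard] at this
      exact (mul_dvd_mul_iff_left (by positivity)).1 this
    have hdvd := Subgroup.card_subgroup_dvd_card (Subgroup.centralizer ({x} : Set G))
    rw [hcard, mul_assoc] at hdvd
    have h2 := ((Nat.prime_three.coprime_iff_not_dvd.2 h3).symm).dvd_of_dvd_mul_left hdvd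
    obtain ⟨c₁, c₂, hc1, hc2, hcc⟩ := Nat.dvd_mul.1 h2
    obtain ⟨i, -, rfl⟩ := (Nat.dvd_prime_pow hp).1 hc1
    obtain ⟨j, -, rfl⟩ := (Nat.dvd_prime_pow Nat.prime_two).1 hc2
    exact Char.burnside_pq p 2 hp Nat.prime_two i j _ hcc.symm
  have n1 := (Transfer.sylow_count_of_simple hG hrdvd).1
  obtain ⟨c₁, c₂, hc1, hc2, hcc⟩ := Nat.dvd_mul.1 (sylow_dvd hcard' hnd)
  obtain ⟨j, hj, rfl⟩ := (Nat.dvd_prime_pow Nat.prime_two).1 hc2
  rw [← hcc, Nat.ModEq] at hmod
  rw [← hcc] at n1
  have key : ∀ r ∈ [5, 7, 11, 13], ∀ c ∈ [1, 3], ∀ j ≤ 11,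
      c * 2 ^ j % r ^ 2 = 1 % r ^ 2 → c * 2 ^ j = 1 := by decide +kernel
  have hc3 : c₁ ∈ [1, 3] := by
    have := Nat.le_of_dvd (by norm_num) hc1
    interval_cases c₁ <;> revert hc1 <;> decide
  have hr57 : p ∈ [5, 7, 11, 13] := by
    interval_cases p <;> revert hp <;> decide +kernel
  have := key p hr57 c₁ hc3 j (hj.trans hb) hmod
  omega

/-- Order `3 p ^ a q ^ b`. -/
theorem three_case [IsSimpleGroup G] (hG : ¬ IsMulCommutative G) {p q a b : ℕ} (hp : p.Prime)
    (hq : q.Prime) (hpq : p ≠ q) (ha : a ≤ 2) (hcard : Nat.card G = 3 * p ^ a * q ^ b) :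
    Nat.card G = 60 ∨ Nat.card G = 168 := by
  haveI : Fact (Nat.Prime 2) := ⟨Nat.prime_two⟩
  have hcyc : ¬ IsCyclic G := fun h => hG h.isMulCommutative
  have h2 : 2 ∣ Nat.card G := by
    by_contra h
    have := Cfsg.Agent.S0205.result (G := G)
      (Nat.not_even_iff_odd.1 fun he => h (even_iff_two_dvd.1 he))
    exact hG ⟨⟨fun x y => IsSimpleGroup.comm_iff_isSolvable.2 this x y⟩⟩
  have h4 := BrauerTuan.four_dvd_of_two_dvd hcyc h2
  have h2' := h2
  rw [hcard, mul_assoc] at h2'
  rcases (Nat.Prime.dvd_mul Nat.prime_two).1 h2' with h | h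
  · norm_num at h
  rcases (Nat.Prime.dvd_mul Nat.prime_two).1 h with h | h
  · obtain rfl := ((Nat.prime_dvd_prime_iff_eq Nat.prime_two hp).1
      (Nat.prime_two.dvd_of_dvd_pow h))
    have ha2 : a = 2 := by
      by_contra hne
      rw [hcard] at h4
      have hodd : ¬ 2 ∣ 3 * q ^ b := fun h2 => by
        rcases (Nat.Prime.dvd_mul Nat.prime_two).1 h2 with h | h
        · norm_num at h
        · exact hpq ((Nat.prime_dvd_prime_iff_eq Nat.prime_two hq).1
            (Nat.prime_two.dvd_of_dvd_pow h))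
      have h4' : 2 * 2 ∣ 2 ^ a * (3 * q ^ b) := by rw [← mul_assoc]; convert h4 using 1; ring
      have ha1 : a ≤ 1 := by omega
      interval_cases a
      · exact hodd ((dvd_mul_right 2 2).trans (by simpa using h4'))
      · exact hodd ((mul_dvd_mul_iff_left (by norm_num : (2 : ℕ) ≠ 0)).1 (by simpa using h4'))
    subst ha2
    rcases eq_or_ne q 3 with rfl | hq3
    · exact absurd (by rw [hcard]; ring)
        (not_two_primes hG (a := 2) (b := b + 1) Nat.prime_two Nat.prime_three)
    exact Or.inl (four_case hG Nat.prime_three hq hq3.symm (a := 1) (b := b) (by norm_num)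
      (by rw [hcard]; ring))
  obtain rfl := ((Nat.prime_dvd_prime_iff_eq Nat.prime_two hq).1
    (Nat.prime_two.dvd_of_dvd_pow h))
  rcases eq_or_ne p 3 with rfl | hp3
  · exact absurd (by rw [hcard]; ring)
      (not_two_primes hG (a := a + 1) (b := b) Nat.prime_three Nat.prime_two)
  have h5 : 5 ≤ p := by
    have := hp.two_le
    have h4 : p ≠ 4 := fun h => by subst h; norm_num at hp
    omega
  interval_cases a
  · exact absurd (by rw [hcard]; ring)
      (not_two_primes hG (a := 1) (b := b) Nat.prime_three Nat.prime_two)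
  · rcases BrauerTuan.main hcyc hp Nat.prime_two hpq
        (show Nat.card G = p * 2 ^ b * 3 by rw [hcard]; ring) (by omega) (by norm_num) with
      ⟨-, -, -, -, -, -, hb, -⟩ | ⟨m, F, _, _, hF, hm, hp3', ⟨e⟩⟩
    · rcases hb with ⟨hb1, hb2⟩ | ⟨hb1, hb2⟩
      · right
        obtain rfl : p = 7 := by omega
        rw [hcard, show (2 : ℕ) ^ b = 8 by omega]; norm_num
      · left
        obtain rfl : p = 5 := by omega
        rw [hcard, show (2 : ℕ) ^ b = 4 by omega]; norm_num
    · left
      have hc := Nat.card_congr e.toEquiv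
      have hm0 : m ≠ 0 := fun h => by subst h; simp at hm; omega
      rw [hcard, Classical.card_psl_two_eq hF (2 ^ m * ((2 ^ m) ^ 2 - 1)) (by
        rw [Nat.Coprime.gcd_eq_one, one_mul]
        rcases m with _ | m
        · exact absurd rfl hm0
        · rw [pow_succ]
          refine (Nat.prime_two.coprime_iff_not_dvd.2 ?_)
          have := Nat.one_le_two_pow (n := m)
          omega)] at hc
      obtain ⟨s, hs⟩ : ∃ s, 2 ^ m = s + 1 := ⟨2 ^ m - 1, by have := Nat.one_le_two_pow (n := m); omega⟩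
      have hfac : (2 ^ m) ^ 2 - 1 = s * p := by
        have : (2 ^ m) ^ 2 = s * p + 1 := by
          have hp' : p = s + 2 := by omega
          rw [hs, hp']; ring
        omega
      rw [hfac, pow_one] at hc
      have hc' : 3 * 2 ^ b = s * 2 ^ m := Nat.eq_of_mul_eq_mul_left hp.pos (by linarith)
      have hsodd : ¬ 2 ∣ s := by
        intro hd
        have : 2 ∣ 2 ^ m := dvd_pow_self 2 (fun h0 => by subst h0; simp at hm; omega)
        omega
      have hs3 : s ∣ 3 :=
        ((Nat.prime_two.coprime_iff_not_dvd.2 hsodd).symm.pow_right b).dvd_of_dvd_mul_right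
          ⟨2 ^ m, hc'⟩
      have := Nat.le_of_dvd (by norm_num) hs3
      have hs' : s = 3 := by
        rcases (Nat.dvd_prime Nat.prime_three).1 hs3 with h | h
        · omega
        · exact h
      subst hs'
      obtain rfl : p = 5 := by omega
      rw [hcard, show (2 : ℕ) ^ b = 4 by omega]; norm_num
  · exact absurd hcard (three_sq_two hG hp h5)

end CfsgLib.Block.SmallCofactor
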