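import Mathlib.Data.Finite.Perm
import Cfsg.Prelude.Def_Blocks
import Cfsg.Prelude.Def_Solvable
import Cfsg.Agent.Lib.BlockA.Blichfeldt
import Cfsg.Agent.Lib.BlockA.SmallArcIndex
import Cfsg.Agent.Lib.Char.CliffordApps
import Cfsg.Agent.Lib.Char.Linear
import Cfsg.Agent.Lib.Char.Integral
import Cfsg.Agent.Lib.Char.Inner
import Cfsg.Agent.Lib.Char.Constituent
import Cfsg.Agent.Lib.Char.Misc
import Cfsg.Agent.Lib.Solvable.Nilpotent

/-!
Faithful irreducible degree `n < 2p`, `n ≠ p`, `p ≥ 7`, non-abelian Sylow `p`-subgroup: the group is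
monomial over an abelian normal subgroup and `p²` does not divide the index of the `p`-core.
-/

set_option autoImplicit false
set_option linter.all false

namespace CfsgLib.Block.SmallOp

open Module Matrix
open scoped ComplexConjugate commutatorElement

universe u
variable {G : Type u} [Group G]

/-- A central element of a group acts by a scalar in an irreducible character. -/
theorem central_scalar [Finite G] {ψ : G → ℂ} (hψ : Cfsg.IsIrrCharacter G ψ) :
    ∃ s : Subgroup.center G →* ℂ, ∀ z : Subgroup.center G, ψ z = ψ 1 * s z := by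
  obtain ⟨n, ρ, hρ, rfl⟩ := hψ
  have := CfsgLib.Char.nontrivial_of_isIrreducible ρ
  have hs : ∀ z : Subgroup.center G,
      ∃ c : ℂ, ρ z = c • (LinearMap.id : (Fin n → ℂ) →ₗ[ℂ] (Fin n → ℂ)) := fun z => by
    let T : Representation.IntertwiningMap ρ ρ := ⟨ρ z, fun g => by
      rw [← Module.End.mul_eq_comp, ← Module.End.mul_eq_comp, ← map_mul, ← map_mul,
        Subgroup.mem_center_iff.mp z.2 g]⟩
    obtain ⟨c, hc⟩ :=
      (Representation.IsIrreducible.algebraMap_intertwiningMap_bijective_of_isAlgClosed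
        (ρ := ρ) (k := ℂ)).2 T
    refine ⟨c, ?_⟩
    have := congr_arg Representation.IntertwiningMap.toLinearMap hc
    simp only [T] at this
    rw [← this]
    ext v
    simp [Algebra.algebraMap_eq_smul_one]
  choose c hc using hs
  have hid : (LinearMap.id : (Fin n → ℂ) →ₗ[ℂ] (Fin n → ℂ)) ≠ 0 := fun h => by
    obtain ⟨v, hv⟩ := exists_ne (0 : Fin n → ℂ)
    exact hv (LinearMap.congr_fun h v)
  have hcinj := smul_left_injective ℂ hid
  refine ⟨{ toFun := c
            map_one' := hcinj (by simp only [← hc]; simp [Module.End.one_eq_id])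
            map_mul' := fun y z => hcinj (by
              simp only [← hc]
              rw [Subgroup.coe_mul, map_mul, hc, hc]
              refine LinearMap.ext fun v => ?_
              simp [smul_smul, mul_comm]) }, fun z => ?_⟩
  show ρ.character z = ρ.character 1 * c z
  rw [Representation.character, hc z, map_smul, smul_eq_mul]
  simp [Representation.character, Module.End.one_eq_id, mul_comm]

theorem isCharacter_multiset_sum : ∀ l : Multiset (G → ℂ),
    (∀ ψ ∈ l, Cfsg.IsIrrCharacter G ψ) → Cfsg.IsCharacter G l.sum := fun l => by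
  induction l using Multiset.induction_on with
  | empty => exact fun _ => by simpa using CfsgLib.Char.isCharacter_zero
  | cons a l ih =>
    intro h
    rw [Multiset.sum_cons]
    exact CfsgLib.Char.isCharacter_add (CfsgLib.Char.irr_isCharacter (h a (Multiset.mem_cons_self a l)))
      (ih fun ψ hψ => h ψ (Multiset.mem_cons_of_mem hψ))

theorem sum_apply (l : Multiset (G → ℂ)) (g : G) : l.sum g = (l.map fun ψ => ψ g).sum := by
  induction l using Multiset.induction_on with
  | empty => simp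
  | cons a l ih => simp [ih]

/-- A subgroup all of whose constituents are linear is abelian, for a faithful character. -/
theorem comm_of_linear [Finite G] {χ : G → ℂ} (hf : ∀ g : G, χ g = χ 1 → g = 1) (M : Subgroup G)
    (l : Multiset (M → ℂ)) (hl : ∀ ψ ∈ l, Cfsg.IsIrrCharacter M ψ)
    (hsum : (fun m : M => χ m) = l.sum) (h1 : ∀ ψ ∈ l, ψ 1 = 1) :
    ∀ a ∈ M, ∀ b ∈ M, a * b = b * a := by
  intro a ha b hb
  have hone : ∀ ψ ∈ l, ψ ⁅(⟨a, ha⟩ : M), ⟨b, hb⟩⁆ = ψ 1 := fun ψ hψ => by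
    obtain ⟨f, hf'⟩ := CfsgLib.Char.exists_hom_of_degree_one
      (CfsgLib.Char.irr_isCharacter (hl ψ hψ)) (h1 ψ hψ)
    subst hf'
    show ((f ⁅(⟨a, ha⟩ : M), ⟨b, hb⟩⁆ : ℂˣ) : ℂ) = ((f 1 : ℂˣ) : ℂ)
    rw [map_commutatorElement, map_one]
    simp [commutatorElement_def, mul_comm, mul_assoc]
  have h : χ ((⁅(⟨a, ha⟩ : M), ⟨b, hb⟩⁆ : M) : G) = χ ((1 : M) : G) := by
    have e1 := congr_fun hsum ⁅(⟨a, ha⟩ : M), ⟨b, hb⟩⁆
    have e2 := congr_fun hsum 1
    rw [e1, e2, sum_apply, sum_apply, Multiset.map_congr rfl hone]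
  exact commutatorElement_eq_one_iff_mul_comm.mp (hf _ h)

/-- The Sylow restriction: a central element with two eigenvalues. -/
theorem exists_special [Finite G] {χ : G → ℂ} (hχ : Cfsg.IsCharacter G χ)
    (hf : ∀ g : G, χ g = χ 1 → g = 1) {n p : ℕ} (hn : χ 1 = n) (hp : p.Prime)
    (hn2 : n < 2 * p) (hnp : n ≠ p) (P : Sylow p G)
    (hna : ∃ x ∈ (P : Subgroup G), ∃ y ∈ (P : Subgroup G), x * y ≠ y * x) :
    p < n ∧ ∃ (z : G) (ω : ℂ), z ^ p = 1 ∧ IsPrimitiveRoot ω p ∧
      ∀ k : ℕ, χ (z ^ k) = p * ω ^ k + ((n - p : ℕ) : ℂ) := by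
  classical
  have : Fact p.Prime := ⟨hp⟩
  obtain ⟨l, hl, hsum⟩ := CfsgLib.Char.isCharacter_exists_multiset
    (CfsgLib.Char.isCharacter_restrict hχ (P : Subgroup G))
  have hdeg : ∀ ψ ∈ l, ∃ d : ℕ, ψ 1 = (d : ℂ) ∧ ∃ k, d = p ^ k := by
    intro ψ hψ
    obtain ⟨m, ρ, hρ, rfl⟩ := hl ψ hψ
    refine ⟨finrank ℂ (Fin m → ℂ), Representation.char_one ρ, ?_⟩
    obtain ⟨k, hk⟩ := IsPGroup.iff_card.mp P.isPGroup'
    obtain ⟨i, -, hi⟩ := (Nat.dvd_prime_pow hp).mp (hk ▸ CfsgLib.Char.degree_dvd_card ρ)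
    exact ⟨i, hi⟩
  have htot : (n : ℂ) = (l.map fun ψ => ψ 1).sum := by
    rw [← sum_apply, ← hsum, ← hn]; rfl
  obtain ⟨ψ, hψ, hψne⟩ : ∃ ψ ∈ l, ψ 1 ≠ 1 := by
    by_contra h
    push Not at h
    obtain ⟨x, hx, y, hy, hxy⟩ := hna
    exact hxy (comm_of_linear hf (P : Subgroup G) l hl hsum h x hx y hy)
  obtain ⟨l', rfl⟩ := Multiset.exists_cons_of_mem hψ
  obtain ⟨d, hd, k, hk⟩ := hdeg ψ hψ
  have hsub : ∀ ξ ∈ l', ∃ d : ℕ, ξ 1 = (d : ℂ) ∧ ∃ k, d = p ^ k :=
    fun ξ hξ => hdeg ξ (Multiset.mem_cons_of_mem hξ)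
  have hrest : ∃ r : ℕ, (r : ℂ) = (l'.map fun ξ => ξ 1).sum ∧
      ∀ ξ ∈ l', ∀ e : ℕ, ξ 1 = (e : ℂ) → e ≤ r := by
    clear htot hψ hsum hdeg hl
    induction l' using Multiset.induction_on with
    | empty => exact ⟨0, by simp, by simp⟩
    | cons a s ih =>
      obtain ⟨r, hr, hle⟩ := ih fun ξ hξ => hsub ξ (Multiset.mem_cons_of_mem hξ)
      obtain ⟨e, he, -⟩ := hsub a (Multiset.mem_cons_self a s)
      refine ⟨e + r, by rw [Multiset.map_cons, Multiset.sum_cons, he, ← hr]; push_cast; rfl, ?_⟩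
      intro ξ hξ e' he'
      rcases Multiset.mem_cons.mp hξ with rfl | hξ
      · have : e' = e := Nat.cast_injective (R := ℂ) (he'.symm.trans he)
        omega
      · have := hle ξ hξ e' he'
        omega
  obtain ⟨r, hr, hle⟩ := hrest
  have hnr : n = d + r := by
    rw [Multiset.map_cons, Multiset.sum_cons, hd, ← hr] at htot
    exact_mod_cast htot
  have hd1 : d ≠ 1 := fun h => hψne (by rw [hd, h, Nat.cast_one])
  have hk1 : k = 1 := by
    rcases Nat.lt_or_ge k 2 with h | h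
    · interval_cases k
      · simp at hk; omega
      · rfl
    · have := Nat.pow_le_pow_right hp.pos h
      have := hp.two_le
      nlinarith
  subst hk1
  rw [pow_one] at hk
  subst d
  have hlin : ∀ ξ ∈ l', ξ 1 = 1 := by
    intro ξ hξ
    obtain ⟨e, he, i, hi⟩ := hsub ξ hξ
    have := hle ξ hξ e he
    rcases Nat.eq_zero_or_pos i with rfl | hi0
    · simp [he, hi]
    · have := Nat.pow_le_pow_right hp.pos hi0
      rw [pow_one] at this
      omega
  refine ⟨by omega, ?_⟩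
  have hnc : commutator P ≠ ⊥ := fun h => by
    obtain ⟨x, hx, y, hy, hxy⟩ := hna
    apply hxy
    have hmem : ⁅(⟨x, hx⟩ : P), (⟨y, hy⟩ : P)⁆ ∈ commutator P :=
      Subgroup.commutator_mem_commutator (Subgroup.mem_top _) (Subgroup.mem_top _)
    rw [h, Subgroup.mem_bot, commutatorElement_eq_one_iff_mul_comm] at hmem
    exact congrArg Subtype.val hmem
  set Z := Subgroup.center P ⊓ commutator P with hZ
  have hZne : Z ≠ ⊥ := by
    have := P.isPGroup'.isNilpotent
    rw [hZ, inf_comm]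
    exact CfsgLib.Solvable.normal_inf_center_ne_bot (commutator P) hnc
  haveI : Nontrivial Z := (Subgroup.nontrivial_iff_ne_bot Z).mpr hZne
  obtain ⟨j, hj, hcard⟩ := (P.isPGroup'.to_subgroup Z).nontrivial_iff_card.mp inferInstance
  obtain ⟨z₀, hz₀⟩ := exists_prime_orderOf_dvd_card' (G := Z) p (hcard ▸ dvd_pow_self p hj.ne')
  obtain ⟨s, hs⟩ := central_scalar (hl ψ (Multiset.mem_cons_self ψ l'))
  let zc : Subgroup.center P := ⟨z₀.1, (Subgroup.mem_inf.mp z₀.2).1⟩
  have hzp : ((z₀.1 : P) : G) ^ p = 1 := by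
    have h := pow_orderOf_eq_one z₀
    rw [hz₀] at h
    exact congrArg (fun t : Z => ((t.1 : P) : G)) h
  have hlinz : ∀ k : ℕ, ∀ ξ ∈ l', ξ ((z₀.1 : P) ^ k) = 1 := fun k ξ hξ => by
    obtain ⟨f, hf'⟩ := CfsgLib.Char.exists_hom_of_degree_one
      (CfsgLib.Char.irr_isCharacter (hl ξ (Multiset.mem_cons_of_mem hξ))) (hlin ξ hξ)
    subst hf'
    show ((f _ : ℂˣ) : ℂ) = 1
    rw [map_pow, MonoidHom.mem_ker.mp (Abelianization.commutator_subset_ker f (Subgroup.mem_inf.mp z₀.2).2)]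
    simp
  have hval : ∀ k : ℕ, χ (((z₀.1 : P) : G) ^ k) = (p : ℂ) * s zc ^ k + (r : ℂ) := by
    intro k
    have e := congr_fun hsum ((z₀.1 : P) ^ k)
    simp only [Subgroup.coe_pow] at e
    rw [e, sum_apply, Multiset.map_cons, Multiset.sum_cons, Multiset.map_congr rfl (hlinz k)]
    congr 1
    · have h := hs (zc ^ k)
      rw [map_pow, hd] at h
      simpa [zc] using h
    · rw [Multiset.map_congr rfl hlin] at hr
      exact hr.symm
  have hnr' : r = n - p := by omega
  subst hnr'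
  refine ⟨((z₀.1 : P) : G), s zc, hzp, ?_, hval⟩
  have hzc : zc ^ p = 1 := Subtype.ext (Subtype.ext (by simpa [zc] using hzp))
  have hsp : s zc ^ p = 1 := by rw [← map_pow, hzc, map_one]
  have hord : orderOf (s zc) = p := by
    refine orderOf_eq_prime hsp fun h => ?_
    have h1 := hval 1
    rw [h, pow_one, one_pow, mul_one] at h1
    have : χ ((z₀.1 : P) : G) = χ 1 := by
      rw [h1, hn, ← Nat.cast_add]
      congr 1
      omega
    have hz1 : z₀ = 1 := Subtype.ext (Subtype.ext (hf _ this))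
    rw [hz1, orderOf_one] at hz₀
    exact hp.ne_one hz₀.symm
  have h := IsPrimitiveRoot.orderOf (s zc)
  rwa [hord] at h

/-- Conjugates of an element with eigenvalues `1` and one `p`-th root of unity commute. -/
theorem conj_commute [Finite G] {χ : G → ℂ} (hχ : Cfsg.IsCharacter G χ)
    (hf : ∀ g : G, χ g = χ 1 → g = 1) {n p : ℕ} (hn : χ 1 = n) (hpn : p < n) (hp : p.Prime)
    (h7 : 7 ≤ p) {z : G} {ω : ℂ} (hω : IsPrimitiveRoot ω p)
    (hval : ∀ k : ℕ, χ (z ^ k) = p * ω ^ k + ((n - p : ℕ) : ℂ)) :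
    ∃ j : ℕ, ¬ p ∣ j ∧ ∀ g : G, Commute (z ^ j) (g * z ^ j * g⁻¹) := by
  classical
  obtain ⟨m, R, hR, htr⟩ := CfsgLib.BlockA.exists_unitary_rep hχ
  have hinj : ∀ g, R g = 1 → g = 1 := fun g hg => hf g (by rw [← htr, ← htr, hg, map_one])
  set t : ℂ := Complex.exp ((Real.pi / p : ℝ) * Complex.I) with ht
  have hp0 : (0 : ℝ) < p := by exact_mod_cast hp.pos
  have htp : t ^ (2 * p) = 1 := by
    rw [ht, ← Complex.exp_nat_mul]
    have hpc : (p : ℂ) ≠ 0 := Nat.cast_ne_zero.mpr hp.pos.ne'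
    rw [show ((2 * p : ℕ) : ℂ) * (((Real.pi / p : ℝ) : ℂ) * Complex.I) = 2 * Real.pi * Complex.I by
      push_cast; field_simp]
    exact Complex.exp_two_pi_mul_I
  have ht2 : (t ^ 2) ^ p = 1 := by rw [← pow_mul, htp]
  haveI : NeZero p := ⟨hp.pos.ne'⟩
  obtain ⟨j, hjp, hj⟩ := hω.eq_pow_of_pow_eq_one ht2
  have ht21 : t ^ 2 ≠ 1 := by
    intro h
    rw [ht, ← Complex.exp_nat_mul, Complex.exp_eq_one_iff] at h
    obtain ⟨k, hk⟩ := h
    have hk' := congrArg Complex.im hk
    simp at hk'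
    have h2 : (1 : ℝ) / p = k := by
      field_simp at hk' ⊢
      nlinarith [Real.pi_pos]
    have h3 : (0 : ℝ) < k ∧ (k : ℝ) < 1 := by
      rw [← h2]
      refine ⟨by positivity, ?_⟩
      rw [div_lt_one hp0]
      exact_mod_cast hp.one_lt
    have h4 : (0 : ℤ) < k ∧ k < 1 := ⟨by exact_mod_cast h3.1, by exact_mod_cast h3.2⟩
    omega
  have hjne : ¬ p ∣ j := fun h => ht21 (by
    obtain ⟨i, rfl⟩ := h
    rw [← hj, pow_mul, hω.pow_eq_one, one_pow])
  refine ⟨j, hjne, fun g => ?_⟩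
  let C := rootsOfUnity (2 * p) ℂ
  haveI : NeZero (2 * p) := ⟨by have := hp.pos; omega⟩
  let φ₀ : G × C →* Matrix (Fin m) (Fin m) ℂ :=
    { toFun := fun x => ((x.2 : ℂˣ) : ℂ) • R x.1
      map_one' := by simp
      map_mul' := fun x y => by
        simp only [Prod.snd_mul, Prod.fst_mul, Subgroup.coe_mul, Units.val_mul, map_mul,
          smul_mul_assoc, mul_smul_comm, smul_smul, mul_comm] }
  let H := φ₀.toHomUnits.range
  haveI : Finite H := Finite.of_surjective φ₀.toHomUnits.rangeRestrict φ₀.toHomUnits.rangeRestrict_surjective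
  let R' : H →* Matrix (Fin m) (Fin m) ℂ := (Units.coeHom _).comp H.subtype
  have hR'inj : ∀ h, R' h = 1 → h = 1 := fun h hh => Subtype.ext (Units.ext hh)
  have hval' : ∀ x : G × C, R' (φ₀.toHomUnits.rangeRestrict x) = φ₀ x := fun x => rfl
  have hR'u : ∀ h, star (R' h) * R' h = 1 := by
    intro h
    obtain ⟨x, rfl⟩ := φ₀.toHomUnits.rangeRestrict_surjective h
    rw [hval']
    show star (((x.2 : ℂˣ) : ℂ) • R x.1) * (((x.2 : ℂˣ) : ℂ) • R x.1) = 1
    have hc : (((x.2 : ℂˣ) : ℂ)) ^ (2 * p) = 1 := by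
      have := (mem_rootsOfUnity _ _).mp x.2.2
      rw [← Units.val_pow_eq_pow_val, this, Units.val_one]
    have hn1 := Complex.norm_eq_one_of_pow_eq_one hc (NeZero.ne _)
    rw [star_smul, smul_mul_assoc, mul_smul_comm, hR, smul_smul, Complex.star_def,
      ← Complex.normSq_eq_conj_mul_self, Complex.normSq_eq_norm_sq, hn1]
    simp
  have htne : t ≠ 0 := Complex.exp_ne_zero _
  let c : C := ⟨(Units.mk0 t htne)⁻¹, by
    rw [mem_rootsOfUnity, inv_pow, inv_eq_one]
    exact Units.ext (by rw [Units.val_pow_eq_pow_val, Units.val_mk0, htp, Units.val_one])⟩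
  have hc : ((c : ℂˣ) : ℂ) = t⁻¹ := by simp [c]
  set x := φ₀.toHomUnits.rangeRestrict (z ^ j, c)
  set u := φ₀.toHomUnits.rangeRestrict ((1 : G), c)
  have hm : (0 : ℕ) < m := by
    rcases Nat.eq_zero_or_pos m with rfl | h
    · have h0 := htr 1
      rw [hn] at h0
      have : (n : ℂ) = 0 := by rw [← h0]; simp [Matrix.trace]
      have : n = 0 := by exact_mod_cast this
      omega
    · exact h
  have htH : t ^ Nat.card H = 1 := by
    have h := congrArg R' (pow_card_eq_one' (x := u))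
    rw [map_pow, map_one, hval'] at h
    change (((c : ℂˣ) : ℂ) • R 1) ^ Nat.card H = 1 at h
    rw [map_one, smul_pow, one_pow, hc] at h
    have h' := congrFun (congrFun h ⟨0, hm⟩) ⟨0, hm⟩
    simp at h'
    exact h'
  have hcos : ∀ w : ℂ, w = t ∨ w = t⁻¹ → 0 < w.re ∧ 3 / 4 < w.re ^ 2 := by
    have hre : t.re = Real.cos (Real.pi / p) := by rw [ht, Complex.exp_ofReal_mul_I_re]
    have hre' : (t⁻¹).re = Real.cos (Real.pi / p) := by
      rw [ht, ← Complex.exp_neg, ← neg_mul, ← Complex.ofReal_neg, Complex.exp_ofReal_mul_I_re,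
        Real.cos_neg]
    have hlt : Real.pi / p < Real.pi / 6 := by
      apply div_lt_div_of_pos_left Real.pi_pos (by norm_num)
      exact_mod_cast (by omega : 6 < p)
    have hpos : 0 ≤ Real.pi / p := by positivity
    have hcos := Real.cos_lt_cos_of_nonneg_of_le_pi_div_two hpos
      (by linarith [Real.pi_pos]) hlt
    rw [Real.cos_pi_div_six] at hcos
    have h3 : Real.sqrt 3 ^ 2 = 3 := Real.sq_sqrt (by norm_num)
    have h4 := Real.sqrt_nonneg 3
    rintro w (rfl | rfl)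
    · rw [hre]; constructor <;> nlinarith
    · rw [hre']; constructor <;> nlinarith
  have hx : CfsgLib.BlockA.SmallArc R' x := by
    refine CfsgLib.BlockA.smallArc_of_trace_pow hR'u
      (fun i : Fin n => if i.val < p then t else t⁻¹) (fun i => ?_) (fun k => ?_) (fun i => ?_)
    · split_ifs
      · exact htH
      · rw [inv_pow, htH, inv_one]
    · rw [hval', ← map_pow]
      show ((((c ^ k : C) : ℂˣ) : ℂ) • R ((z ^ j) ^ k)).trace = _
      rw [Matrix.trace_smul, htr, ← pow_mul, hval, smul_eq_mul, Subgroup.coe_pow,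
        Units.val_pow_eq_pow_val, hc]
      have hsum : (∑ i : Fin n, (if i.val < p then t else t⁻¹) ^ k) =
          (p : ℂ) * t ^ k + ((n - p : ℕ) : ℂ) * t⁻¹ ^ k := by
        have e : ∀ i : Fin n, (if i.val < p then t else t⁻¹) ^ k =
            if i.val < p then t ^ k else t⁻¹ ^ k := fun i => by split_ifs <;> rfl
        simp only [e]
        rw [Fin.sum_univ_eq_sum_range (fun i => if i < p then t ^ k else t⁻¹ ^ k),
          ← Finset.sum_range_add_sum_Ico _ hpn.le,
          Finset.sum_congr rfl (fun i hi => if_pos (Finset.mem_range.mp hi)),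
          Finset.sum_congr rfl (fun i hi => if_neg (not_lt.mpr (Finset.mem_Ico.mp hi).1))]
        simp
      rw [hsum, pow_mul, hj, ← pow_mul]
      have e : t ^ (2 * k) * t⁻¹ ^ k = t ^ k := by
        rw [pow_mul, ← mul_pow]
        congr 1
        field_simp
      linear_combination (p : ℂ) * e
    · split_ifs
      · exact hcos _ (Or.inl rfl)
      · exact hcos _ (Or.inr rfl)
  set γ := φ₀.toHomUnits.rangeRestrict (g, (1 : C))
  have hcomm := CfsgLib.BlockA.commute_of_smallArc hR'u hR'inj hx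
    (CfsgLib.BlockA.smallArc_conj hR'u hx γ)
  have hy : γ * x * γ⁻¹ = φ₀.toHomUnits.rangeRestrict (g * z ^ j * g⁻¹, c) := by
    simp only [γ, x, ← map_inv, ← map_mul]
    congr 1
    ext <;> simp
  rw [hy] at hcomm
  have h := congrArg R' hcomm.eq
  simp only [x, ← map_mul, hval'] at h
  simp only [φ₀, MonoidHom.coe_mk, OneHom.coe_mk, Prod.mk_mul_mk] at h
  have hcc : (((c * c : C) : ℂˣ) : ℂ) ≠ 0 := Units.ne_zero _
  have h' := smul_right_injective _ hcc h
  have h'' : R ((z ^ j * (g * z ^ j * g⁻¹)) * ((g * z ^ j * g⁻¹) * z ^ j)⁻¹) = 1 := by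
    rw [map_mul, h', ← map_mul, mul_inv_cancel, map_one]
  exact mul_inv_eq_one.mp (hinj _ h'')

/-- The normal abelian subgroup generated by the conjugates, and the monomial structure. -/
theorem exists_monomial [Fintype G] {χ : G → ℂ} (hχ : Cfsg.IsIrrCharacter G χ)
    (hf : ∀ g : G, χ g = χ 1 → g = 1) {n p : ℕ} (hn : χ 1 = n) (hp : p.Prime) (hpn : p < n)
    (hn2 : n < 2 * p) {z : G} (hzp : z ^ p = 1) {ω : ℂ} (hω : IsPrimitiveRoot ω p)
    (hval : ∀ k : ℕ, χ (z ^ k) = p * ω ^ k + ((n - p : ℕ) : ℂ))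
    {w : G} (hw : ∃ j, ¬ p ∣ j ∧ w = z ^ j) (hcomm : ∀ g : G, Commute w (g * w * g⁻¹)) :
    ∃ M : Subgroup G, M.Normal ∧ (∀ a ∈ M, ∀ b ∈ M, a * b = b * a) ∧ ¬ p ^ 2 ∣ M.index := by
  classical
  obtain ⟨j, hjne, rfl⟩ := hw
  have hgen : ∀ a ∈ Group.conjugatesOfSet {z ^ j}, ∀ b ∈ Group.conjugatesOfSet {z ^ j}, a * b = b * a := by
    intro a ha b hb
    simp only [Group.mem_conjugatesOfSet_iff, Set.mem_singleton_iff, exists_eq_left, isConj_iff] at ha hb
    obtain ⟨g, rfl⟩ := ha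
    obtain ⟨h, rfl⟩ := hb
    have := ((hcomm (g⁻¹ * h)).map (MulAut.conj g).toMonoidHom).eq
    simpa [mul_assoc] using this
  set N := Subgroup.normalClosure ({z ^ j} : Set G) with hN
  have hNn : N.Normal := Subgroup.normalClosure_normal
  haveI hNc := Subgroup.isMulCommutative_closure hgen
  have hNab : ∀ a ∈ N, ∀ b ∈ N, a * b = b * a := fun a ha b hb =>
    congrArg Subtype.val (hNc.is_comm.comm (⟨a, ha⟩ : Subgroup.closure (Group.conjugatesOfSet {z ^ j})) ⟨b, hb⟩)
  have hzN : z ∈ N := by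
    have hcop : j.Coprime p := ((Nat.Prime.coprime_iff_not_dvd hp).mpr hjne).symm
    obtain ⟨i, -, hi⟩ := Nat.exists_mul_mod_eq_one_of_coprime hcop hp.one_lt
    have hmem : z ^ j ∈ N := Subgroup.subset_normalClosure rfl
    have := pow_mem hmem i
    rw [← pow_mul, pow_eq_pow_mod _ hzp, hi, pow_one] at this
    exact this
  have hχc := CfsgLib.Char.irr_isCharacter hχ
  obtain ⟨lam, hlam, hlamne⟩ := CfsgLib.Char.exists_constituent
    (CfsgLib.Char.isCharacter_restrict hχc N) (by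
      show χ 1 ≠ 0
      rw [hn]; exact Nat.cast_ne_zero.mpr (by omega))
  set O : Set (N → ℂ) :=
    {ψ : N → ℂ | ∃ g : G, ψ = fun m : N => lam ⟨g * m * g⁻¹, hNn.conj_mem m m.2 g⟩} with hO
  have hOirr : ∀ ψ ∈ O, Cfsg.IsIrrCharacter N ψ := by
    rintro ψ ⟨g, rfl⟩; exact CfsgLib.Char.isIrr_conj_normal N hNn hlam g
  have hOfin : O.Finite := CfsgLib.Char.finite_setOf_isIrr.subset hOirr
  obtain ⟨d, hd⟩ := CfsgLib.Char.classInner_isCharacter_nat
    (CfsgLib.Char.isCharacter_restrict hχc N) (CfsgLib.Char.irr_isCharacter hlam)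
  have hdec := CfsgLib.Char.clifford_restrict N hNn hχ hlam hlamne
  rw [hd, finsum_mem_eq_finite_toFinset_sum _ hOfin] at hdec
  set F := hOfin.toFinset with hF
  have hdec' : ∀ m : N, χ m = (d : ℂ) * ∑ ψ ∈ F, ψ m := fun m => by
    have := congr_fun hdec m
    simpa [Finset.sum_apply] using this
  have hlin : ∀ ψ ∈ F, ∃ f : N →* ℂˣ, ψ = fun m => ((f m : ℂˣ) : ℂ) := fun ψ hψ => by
    have hi := hOirr ψ (hOfin.mem_toFinset.mp hψ)
    obtain ⟨f, hf'⟩ := CfsgLib.Char.exists_hom_of_degree_one (CfsgLib.Char.irr_isCharacter hi)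
      (CfsgLib.Char.irr_degree_one_of_comm (fun a b => Subtype.ext (hNab a a.2 b b.2)) hi)
    exact ⟨f, hf'⟩
  have hnk : n = d * F.card := by
    have h := hdec' 1
    rw [OneMemClass.coe_one, hn, Finset.sum_congr rfl (fun ψ hψ => show ψ 1 = (1 : ℂ) by
      obtain ⟨f, rfl⟩ := hlin ψ hψ; simp)] at h
    simp only [Finset.sum_const, nsmul_eq_mul, mul_one] at h
    exact_mod_cast h
  let zN : N := ⟨z, hzN⟩
  have hfix : n - p = d * (F.filter fun ψ => ψ zN = 1).card := by
    have h1 : ∑ k ∈ Finset.range p, χ (z ^ k) = (p : ℂ) * ((n - p : ℕ) : ℂ) := by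
      simp only [hval, Finset.sum_add_distrib, ← Finset.mul_sum, hω.geom_sum_eq_zero hp.one_lt]
      simp
    have h2 : ∑ k ∈ Finset.range p, χ (z ^ k) =
        (p : ℂ) * ((d : ℂ) * (F.filter fun ψ => ψ zN = 1).card) := by
      rw [Finset.sum_congr rfl (fun k _ => show χ (z ^ k) = (d : ℂ) * ∑ ψ ∈ F, ψ (zN ^ k) from
        hdec' (zN ^ k)), ← Finset.mul_sum, Finset.sum_comm]
      rw [Finset.sum_congr rfl (fun ψ hψ => show ∑ k ∈ Finset.range p, ψ (zN ^ k) =
          if ψ zN = (1 : ℂ) then (p : ℂ) else 0 by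
        obtain ⟨f, rfl⟩ := hlin ψ hψ
        simp only [map_pow, Units.val_pow_eq_pow_val]
        split_ifs with h
        · simp [h]
        · have hroot : ((f zN : ℂˣ) : ℂ) ^ p = 1 := by
            rw [← Units.val_pow_eq_pow_val, ← map_pow, show zN ^ p = 1 from Subtype.ext hzp,
              map_one, Units.val_one]
          rw [geom_sum_eq h, hroot, sub_self, zero_div])]
      rw [← Finset.sum_filter, Finset.sum_const, nsmul_eq_mul]
      ring
    have h3 := mul_left_cancel₀ (Nat.cast_ne_zero.mpr hp.pos.ne' : (p : ℂ) ≠ 0) (h1.symm.trans h2)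
    exact_mod_cast h3
  have hd1 : d = 1 := by
    have hdn : d ∣ n := ⟨_, hnk⟩
    have hdr : d ∣ n - p := ⟨_, hfix⟩
    have hdp : d ∣ p := by
      have := Nat.dvd_sub hdn hdr
      rwa [Nat.sub_sub_self hpn.le] at this
    rcases (Nat.dvd_prime hp).mp hdp with h | h
    · exact h
    · subst h
      have := Nat.le_of_dvd (by omega) hdr
      omega
  subst hd1
  rw [one_mul] at hnk
  have hNd : ∀ m : N, χ m = ∑ ψ ∈ F, ψ m := fun m => by rw [hdec' m, Nat.cast_one, one_mul]
  -- the permutation action on the constituents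
  have hclosed : ∀ g : G, ∀ ψ ∈ F, (fun m : N => ψ ⟨g * m * g⁻¹, hNn.conj_mem m m.2 g⟩) ∈ F := by
    intro g ψ hψ
    obtain ⟨g₀, rfl⟩ := hOfin.mem_toFinset.mp hψ
    refine hOfin.mem_toFinset.mpr ⟨g₀ * g, ?_⟩
    funext m
    refine congrArg lam (Subtype.ext ?_)
    simp [mul_assoc]
  let act : G → {ψ // ψ ∈ F} → {ψ // ψ ∈ F} := fun g ψ =>
    ⟨fun m : N => ψ.1 ⟨g⁻¹ * m * g⁻¹⁻¹, hNn.conj_mem m m.2 g⁻¹⟩, hclosed g⁻¹ ψ.1 ψ.2⟩
  letI : MulAction G {ψ // ψ ∈ F} :=
    { smul := act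
      one_smul := fun ψ => Subtype.ext (funext fun m => congrArg ψ.1 (Subtype.ext (by simp)))
      mul_smul := fun g h ψ => Subtype.ext (funext fun m => congrArg ψ.1 (Subtype.ext (by
        simp [mul_assoc]))) }
  set K := (MulAction.toPermHom G {ψ // ψ ∈ F}).ker with hK
  have hKC : ∀ g ∈ K, ∀ m : N, g * m = m * g := by
    intro g hg m
    have hg' := inv_mem hg
    have he : ∀ ψ ∈ F, ψ ⟨g * m * g⁻¹, hNn.conj_mem m m.2 g⟩ = ψ m := fun ψ hψ => by
      have h := Equiv.ext_iff.mp (MonoidHom.mem_ker.mp hg') (⟨ψ, hψ⟩ : {ψ // ψ ∈ F})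
      have h' := congrFun (congrArg Subtype.val h) m
      simp only [MulAction.toPermHom_apply, MulAction.toPerm_apply, Equiv.Perm.coe_one, id] at h'
      refine Eq.trans ?_ h'
      show ψ _ = ψ _
      congr 1
      exact Subtype.ext (by simp)
    have hq : χ (g * m * g⁻¹ * (m : G)⁻¹) = χ 1 := by
      have e1 := hNd (⟨g * m * g⁻¹, hNn.conj_mem m m.2 g⟩ * m⁻¹)
      have e2 := hNd 1
      rw [OneMemClass.coe_one] at e2
      simp only [Subgroup.coe_mul, Subgroup.coe_inv] at e1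
      rw [e1, e2]
      refine Finset.sum_congr rfl fun ψ hψ => ?_
      obtain ⟨f, hf'⟩ := hlin ψ hψ
      have := he ψ hψ
      subst hf'
      have h' : f ⟨g * m * g⁻¹, hNn.conj_mem m m.2 g⟩ = f m := Units.ext this
      show ((f _ : ℂˣ) : ℂ) = ((f 1 : ℂˣ) : ℂ)
      rw [map_mul, map_inv, h', mul_inv_cancel, map_one]
    have := hf _ hq
    rwa [mul_inv_eq_one, mul_inv_eq_iff_eq_mul] at this
  refine ⟨K, inferInstance, ?_, ?_⟩
  · -- the centraliser is abelian
    obtain ⟨l, hl, hsum⟩ := CfsgLib.Char.isCharacter_exists_multiset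
      (CfsgLib.Char.isCharacter_restrict hχc K)
    refine comm_of_linear hf K l hl hsum fun ψ hψ => ?_
    obtain ⟨l', rfl⟩ := Multiset.exists_cons_of_mem hψ
    obtain ⟨s, hs⟩ := central_scalar (hl ψ (Multiset.mem_cons_self ψ l'))
    have hNK : N ≤ K := by
      intro m hm
      rw [hK, MonoidHom.mem_ker]
      refine Equiv.ext fun ψ' => Subtype.ext (funext fun m' => ?_)
      refine congrArg ψ'.1 (Subtype.ext ?_)
      show m⁻¹ * m' * m⁻¹⁻¹ = m'
      rw [inv_inv, hNab m⁻¹ (inv_mem hm) m' m'.2, inv_mul_cancel_right]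
    let ι : N →* Subgroup.center K :=
      MonoidHom.codRestrict (Subgroup.inclusion hNK) (Subgroup.center K) fun m =>
        Subgroup.mem_center_iff.mpr fun k => Subtype.ext (hKC k k.2 m)
    let f : N →* ℂˣ := (s.comp ι).toHomUnits
    set μ : N → ℂ := fun m => ((f m : ℂˣ) : ℂ) with hμ
    have hμirr := CfsgLib.Char.isIrrCharacter_linear f
    obtain ⟨e, he⟩ : ∃ e : ℕ, ψ 1 = (e : ℂ) := by
      obtain ⟨q, ρ, hρ, rfl⟩ := hl ψ (Multiset.mem_cons_self ψ l')
      exact ⟨_, Representation.char_one ρ⟩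
    have hrest : Cfsg.IsCharacter N (fun m : N => l'.sum (Subgroup.inclusion hNK m)) :=
      CfsgLib.Char.isCharacter_comp
        (isCharacter_multiset_sum l' fun ξ hξ => hl ξ (Multiset.mem_cons_of_mem hξ))
        (Subgroup.inclusion hNK)
    obtain ⟨a, ha⟩ := CfsgLib.Char.classInner_isCharacter_nat hrest (CfsgLib.Char.irr_isCharacter hμirr)
    have hres : (fun m : N => χ m) = (e : ℂ) • μ + fun m : N => l'.sum (Subgroup.inclusion hNK m) := by
      funext m
      have h := congr_fun hsum (Subgroup.inclusion hNK m)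
      rw [Multiset.sum_cons] at h
      simp only [Pi.add_apply, Pi.smul_apply, smul_eq_mul, hμ] at h ⊢
      rw [← he]
      have hψm := hs (ι m)
      refine h.trans ?_
      congr 1
    have hlow : Cfsg.classInner (fun m : N => χ m) μ = ((e + a : ℕ) : ℂ) := by
      rw [hres, CfsgLib.Char.classInner_add_left, CfsgLib.Char.classInner_smul_left,
        CfsgLib.Char.irr_classInner_self hμirr, ha]
      push_cast
      ring
    have hup : Cfsg.classInner (fun m : N => χ m) μ = 0 ∨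
        Cfsg.classInner (fun m : N => χ m) μ = 1 := by
      have hsumN : (fun m : N => χ m) = ∑ ψ ∈ F, ψ := funext fun m => by
        rw [Finset.sum_apply]; exact hNd m
      rw [hsumN, CfsgLib.Char.classInner_sum_left]
      by_cases hmem : μ ∈ F
      · right
        rw [Finset.sum_eq_single μ]
        · exact CfsgLib.Char.irr_classInner_self hμirr
        · exact fun b hb hne => CfsgLib.Char.irr_classInner_ne (hOirr b (hOfin.mem_toFinset.mp hb)) hμirr hne
        · exact fun h => absurd hmem h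
      · left
        exact Finset.sum_eq_zero fun b hb => CfsgLib.Char.irr_classInner_ne
          (hOirr b (hOfin.mem_toFinset.mp hb)) hμirr fun h => hmem (h ▸ hb)
    have hψ0 := CfsgLib.Char.irr_apply_one_ne_zero (hl ψ (Multiset.mem_cons_self ψ l'))
    rw [hlow] at hup
    have he1 : e = 1 := by
      have he0 : e ≠ 0 := fun h => hψ0 (by rw [he, h, Nat.cast_zero])
      rcases hup with h | h <;> norm_cast at h <;> omega
    rw [he, he1, Nat.cast_one]
  · intro hdvd
    have h1 : K.index ∣ Nat.card (Equiv.Perm {ψ // ψ ∈ F}) := by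
      rw [hK, Subgroup.index_ker]
      exact Subgroup.card_subgroup_dvd_card _
    rw [Nat.card_perm, Nat.card_eq_fintype_card, Fintype.card_coe, ← hnk] at h1
    have h2 := hdvd.trans h1
    have : Fact p.Prime := ⟨hp⟩
    have h3 := (padicValNat_dvd_iff_le (Nat.factorial_ne_zero n)).mp h2
    have h4 : n < p * p := by nlinarith [hp.two_le]
    have h5 := padicValNat_factorial_mul_add (p := p) 1 (show n - p < p by omega)
    rw [show p * 1 + (n - p) = n by omega] at h5
    have h6 : padicValNat p (p * 1).factorial = 1 := by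
      rw [padicValNat_factorial_mul]
      simp
    omega

/-- Main result. -/
theorem main [Finite G] {χ : G → ℂ} (hχ : Cfsg.IsIrrCharacter G χ)
    (hf : ∀ g : G, χ g = χ 1 → g = 1) {n p : ℕ} (hn : χ 1 = n) (hp : p.Prime) (h7 : 7 ≤ p)
    (hn2 : n < 2 * p) (hnp : n ≠ p) (P : Sylow p G)
    (hna : ∃ x ∈ (P : Subgroup G), ∃ y ∈ (P : Subgroup G), x * y ≠ y * x) :
    ¬ p ^ 2 ∣ (Cfsg.pCore p G).index := by
  have := Fintype.ofFinite G
  have hχc := CfsgLib.Char.irr_isCharacter hχ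
  obtain ⟨hpn, z, ω, hzp, hω, hval⟩ := exists_special hχc hf hn hp hn2 hnp P hna
  obtain ⟨j, hj, hcomm⟩ := conj_commute hχc hf hn hpn hp h7 hω hval
  obtain ⟨M, hMn, hMab, hidx⟩ :=
    exists_monomial hχ hf hn hp hpn hn2 hzp hω hval ⟨j, hj, rfl⟩ hcomm
  have : Fact p.Prime := ⟨hp⟩
  intro hdvd
  apply hidx
  let S : Sylow p M := default
  have hSn : (S : Subgroup M).Normal := ⟨fun a ha b => by
    have : b * a * b⁻¹ = a := Subtype.ext (by
      simp only [Subgroup.coe_mul, Subgroup.coe_inv]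
      rw [hMab b b.2 a a.2, mul_inv_cancel_right])
    rwa [this]⟩
  haveI := hSn
  haveI : (S : Subgroup M).Characteristic := Sylow.characteristic_of_normal S hSn
  haveI := hMn
  have hmapn : ((S : Subgroup M).map M.subtype).Normal := ConjAct.normal_of_characteristic_of_normal
  have hle : (S : Subgroup M).map M.subtype ≤ Cfsg.pCore p G :=
    le_sSup ⟨hmapn, S.isPGroup'.map _⟩
  have hcardS : Nat.card ((S : Subgroup M).map M.subtype) = Nat.card (S : Subgroup M) :=
    Nat.card_congr (Subgroup.equivMapOfInjective _ _ M.subtype_injective).toEquiv.symm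
  have h1 : p ^ 2 * Nat.card (S : Subgroup M) ∣ Nat.card G := by
    rw [← (Cfsg.pCore p G).card_mul_index, mul_comm (p ^ 2)]
    exact Nat.mul_dvd_mul (hcardS ▸ Subgroup.card_dvd_of_le hle) hdvd
  rw [← M.card_mul_index, ← (S : Subgroup M).card_mul_index, mul_comm (p ^ 2), mul_assoc] at h1
  have h2 := Nat.dvd_of_mul_dvd_mul_left Nat.card_pos h1
  exact (Nat.Coprime.pow_left 2 ((Nat.Prime.coprime_iff_not_dvd hp).mpr S.not_dvd_index)).dvd_of_dvd_mul_left h2

end CfsgLib.Block.SmallOp
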