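import Cfsg.Agent.S4468
import Cfsg.Agent.S4500
import Cfsg.Agent.Lib.Block.BTSquare
import Cfsg.Agent.Lib.Block.BRDegrees
import Cfsg.Agent.Lib.BlockB.PrimeDegrees
import Cfsg.Agent.Lib.BlockA.SmallArcIndex
import Cfsg.Agent.Lib.Clifford.JordanBound
import Cfsg.Agent.Lib.Clifford.CentralTypeEmbed
import Cfsg.Agent.Lib.Char.MonomialAbelian
import Cfsg.Agent.Lib.Char.Burnside
import Cfsg.Agent.Lib.Block.SmallDegreeOp
import Cfsg.Agent.Lib.Transfer.SimpleCount
import Cfsg.Agent.Lib.PLength.DerivedBound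

/-!
Simple groups with a faithful character of small degree: a bound on the Sylow subgroups and,
when the centralizers of elements of order `r` are solvable and `r ^ 2` is the `r`-part,
trivial intersections of Sylow `r`-subgroups.
-/

set_option autoImplicit false

namespace CfsgLib.Block.SmallCofactor

open Cfsg CfsgLib CfsgLib.Block

universe u

variable {G : Type u} [Group G] [Finite G]

theorem center_eq_bot [IsSimpleGroup G] (hG : ¬ IsMulCommutative G) : Subgroup.center G = ⊥ := by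
  rcases (inferInstance : (Subgroup.center G).Normal).eq_bot_or_eq_top with h | h
  · exact h
  · exact absurd ⟨⟨fun a b => (Subgroup.mem_center_iff.1 (h ▸ Subgroup.mem_top a) b).symm⟩⟩ hG

/-- A faithful irreducible character of prime power degree other than one and two. -/
theorem exists_faithful [IsSimpleGroup G] (hG : ¬ IsMulCommutative G) {p q r a b c : ℕ}
    (hp : p.Prime) (hq : q.Prime) (hr : r.Prime) (hpq : p ≠ q) (hpr : p ≠ r) (hqr : q ≠ r)
    (ha : a ≤ 2) (hcard : Nat.card G = p ^ a * q ^ b * r ^ c) :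
    ∃ (χ : G → ℂ) (k : ℕ), IsIrrCharacter G χ ∧ charDegree χ = q ^ k ∧ k ≤ b ∧ 3 ≤ q ^ k ∧
      ∀ g, χ g = χ 1 → g = 1 := by
  obtain ⟨⟨χ, hne, k, hk⟩, -⟩ :=
    Cfsg.Agent.S4500.result p q r a b c hp hq hr hpq hpr hqr ha hcard
  have hperf := Transfer.commutator_eq_top_of_simple hG
  have hd := BlockB.charDegree_cast (Char.irr_isCharacter χ.2)
  have h1 : q ^ k ≠ 1 := fun h => hne <| BrauerReynolds.eq_one_of_degree_one hperf χ <| by
    rw [← hd, hk, h, Nat.cast_one]
  have h2 : q ^ k ≠ 2 := hk ▸ BlockB.PrimeDegrees.degree_ne_two hperf χ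
  have h0 := pow_pos hq.pos k
  refine ⟨χ, k, χ.2, hk, ?_, by omega, fun g hg =>
    BrauerTuan.eq_one_of_apply_eq_degree χ.2 (by omega) hg⟩
  have hdvd : q ^ k ∣ Nat.card G := hk ▸ BlockB.irr_degree_dvd_card χ
  rw [hcard] at hdvd
  have hco : (q ^ k).Coprime (p ^ a * r ^ c) := Nat.Coprime.mul_right
    (((Nat.coprime_primes hq hp).2 hpq.symm).pow k a) (((Nat.coprime_primes hq hr).2 hqr).pow k c)
  rw [mul_right_comm] at hdvd
  exact (Nat.pow_dvd_pow_iff_le_right hq.one_lt).1 (hco.dvd_of_dvd_mul_left hdvd)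

/-- An abelian subgroup has order at most `12 ^ n`. -/
theorem card_abelian_le [IsSimpleGroup G] (hG : ¬ IsMulCommutative G) {χ : G → ℂ}
    (hχ : IsCharacter G χ) (hf : ∀ g, χ g = χ 1 → g = 1) {n : ℕ} (hn : χ 1 = n) (H : Subgroup G)
    (hH : ∀ x ∈ H, ∀ y ∈ H, x * y = y * x) : Nat.card H ≤ 12 ^ n := by
  obtain ⟨A, hA, hAc, hb⟩ := BlockA.exists_abelian_normal_bound hχ hf n hn
  have hA' : A = ⊥ := hA.eq_bot_or_eq_top.resolve_right fun h => hG
    ⟨⟨fun a b => hAc a (h ▸ Subgroup.mem_top a) b (h ▸ Subgroup.mem_top b)⟩⟩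
  have := hb H hH
  rwa [hA', Subgroup.bot_subgroupOf, Subgroup.index_bot] at this

/-- A subgroup of prime power order has a factor dividing `n!` and a factor at most `12 ^ n`. -/
theorem exists_card_pgroup [IsSimpleGroup G] (hG : ¬ IsMulCommutative G) {χ : G → ℂ}
    (hχ : IsCharacter G χ) (hf : ∀ g, χ g = χ 1 → g = 1) {n : ℕ} (hn : χ 1 = n) {p : ℕ}
    [Fact p.Prime] (P : Subgroup G) (hP : IsPGroup p P) :
    ∃ d e : ℕ, d * e = Nat.card P ∧ d ∣ n.factorial ∧ e ≤ 12 ^ n := by
  have := Fintype.ofFinite P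
  have := hP.isNilpotent
  obtain ⟨B, -, hBc, hB⟩ := Clifford.JordanBound.exists_abelian_of_monomial
    (Char.monomial_of_isAbelianByNilpotent P Char.isAbelianByNilpotent_of_isNilpotent)
    (Char.isCharacter_restrict hχ P) (fun g hg => Subtype.ext (hf g (by simpa using hg)))
    (n := n) (by simpa using hn)
  refine ⟨B.index, Nat.card (B.map P.subtype), ?_, hB,
    card_abelian_le hG hχ hf hn _ ?_⟩
  · rw [Subgroup.card_map_of_injective P.subtype_injective, mul_comm, B.card_mul_index]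
  · rintro _ ⟨x, hx, rfl⟩ _ ⟨y, hy, rfl⟩
    rw [← map_mul, ← map_mul, hBc x hx y hy]

/-- The Sylow `r`-subgroups intersect trivially. -/
theorem sylow_count_modEq_sq [IsSimpleGroup G] (hG : ¬ IsMulCommutative G) {χ : G → ℂ}
    (hχ : IsIrrCharacter G χ) (hf : ∀ g, χ g = χ 1 → g = 1) {r : ℕ} [Fact r.Prime]
    (hnr : charDegree χ + 1 ≤ r) (h2 : ∀ P : Sylow r G, Nat.card P = r ^ 2)
    (hC : ∀ x : G, orderOf x = r → Group.IsSolvable (Subgroup.centralizer ({x} : Set G))) :
    Nat.card (Sylow r G) ≡ 1 [MOD r ^ 2] := by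
  by_contra hcon
  have hr : r.Prime := Fact.out
  obtain ⟨P, R, hPR, hidx⟩ := Transfer.exists_large_intersection 2 hcon
  set D := (R : Subgroup G).subgroupOf (P : Subgroup G)
  have hD : Nat.card D ≠ 1 := fun h => by
    have := D.card_mul_index
    rw [h, h2 P, one_mul] at this
    rw [this] at hidx
    have : r < r ^ 2 := lt_self_pow₀ hr.one_lt (by norm_num)
    simp at hidx
    omega
  have hDp : IsPGroup r D := P.isPGroup'.to_subgroup D
  obtain ⟨m, hm⟩ := IsPGroup.iff_card.1 hDp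
  obtain ⟨y, hy⟩ := exists_prime_orderOf_dvd_card' (G := D) r
    (hm ▸ dvd_pow_self r fun h0 => hD (by rw [hm, h0, pow_zero]))
  set x : G := ((y : (P : Subgroup G)) : G) with hxdef
  have hx : orderOf x = r := by rw [hxdef, Subgroup.orderOf_coe, Subgroup.orderOf_coe, hy]
  have hle : ∀ Q : Sylow r G, x ∈ (Q : Subgroup G) →
      (Q : Subgroup G) ≤ Subgroup.centralizer ({x} : Set G) := fun Q hQ g hg => by
    have hc := IsPGroup.commutative_of_card_eq_prime_sq (h2 Q) (G := (Q : Subgroup G))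
    exact Subgroup.mem_centralizer_singleton_iff.2
      (congrArg Subtype.val (hc ⟨g, hg⟩ ⟨x, hQ⟩))
  have := Fintype.ofFinite G
  set K := Subgroup.centralizer ({x} : Set G) with hKdef
  have hPK := hle P (y : (P : Subgroup G)).2
  have hRK := hle R y.2
  let PK : Sylow r K := P.subtype hPK
  have hnn : ¬ (PK : Subgroup K).Normal := fun h => by
    have huniq := PK.unique_of_normal h
    have he : PK = R.subtype hRK := Subsingleton.elim _ _
    exact hPR (Sylow.subtype_injective (hP := hPK) (hQ := hRK) he)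
  obtain ⟨_, hk⟩ := PLength.isPSolvable_of_isSolvable (p := r) _ K le_rfl (hC x hx)
  have hχK := Char.isCharacter_restrict (Char.irr_isCharacter hχ) K
  have hdeg : charDegree (fun k : K => χ k) = charDegree χ := by simp [charDegree]
  obtain ⟨-, -, hirr⟩ := Cfsg.Agent.S4468.result (fun k : K => χ k) hχK
    (fun g hg => Subtype.ext (hf g (by simpa using hg))) _ hdeg r hr hk.isPSolvable hnr PK hnn
  obtain ⟨s, hs⟩ := SmallOp.central_scalar hirr
  have hxK : (⟨x, Subgroup.mem_centralizer_singleton_iff.2 rfl⟩ : K) ∈ Subgroup.center K :=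
    Subgroup.mem_center_iff.2 fun g => Subtype.ext (Subgroup.mem_centralizer_singleton_iff.1 g.2)
  have hsx := hs ⟨_, hxK⟩
  have hnorm : ‖s ⟨_, hxK⟩‖ = 1 :=
    Complex.norm_eq_one_of_pow_eq_one
      (by rw [← map_pow, pow_card_eq_one', map_one]) Nat.card_pos.ne'
  have hxc : x ∈ Subgroup.center G := Clifford.CentralTypeEmbed.mem_center_of_norm hχ hf (by
    rw [show χ x = _ from hsx, norm_mul, hnorm, mul_one,
      ← BlockB.charDegree_cast hχK, hdeg, Complex.norm_natCast])
  rw [center_eq_bot hG, Subgroup.mem_bot] at hxc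
  rw [hxc, orderOf_one] at hx
  exact hr.ne_one hx.symm

/-- A proper overgroup of two Sylow subgroups with intersection of index `r` in one of them. -/
theorem exists_local [IsSimpleGroup G] (hG : ¬ IsMulCommutative G) {r b : ℕ} [Fact r.Prime]
    (hb : 2 ≤ b) (hcard : ∀ P : Sylow r G, Nat.card P = r ^ b)
    (h : ¬ Nat.card (Sylow r G) ≡ 1 [MOD r ^ 2]) :
    ∃ (M : Subgroup G) (m : ℕ),
      M ≠ ⊤ ∧ 1 < m ∧ m % r = 1 ∧ m * r ^ b ∣ Nat.card M := by
  have hr : r.Prime := Fact.out
  obtain ⟨P, R, hPR, hidx⟩ := Transfer.exists_large_intersection 2 h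
  simp only [show 2 - 1 = 1 from rfl, pow_one] at hidx
  set D : Subgroup G := (R : Subgroup G) ⊓ (P : Subgroup G) with hD
  have hnorm : ∀ Q : Sylow r G, D ≤ (Q : Subgroup G) →
      (D.subgroupOf (Q : Subgroup G)).index ≤ r → (D.subgroupOf (Q : Subgroup G)).index ≠ 1 →
      (Q : Subgroup G) ≤ Subgroup.normalizer (D : Set G) := fun Q hQ hi hi1 => by
    obtain ⟨j, -, hj⟩ := (Nat.dvd_prime_pow hr).1 (hcard Q ▸ Subgroup.index_dvd_card
      (D.subgroupOf (Q : Subgroup G)))
    have hj1 : j = 1 := by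
      rcases j with _ | _ | j
      · exact absurd (hj.trans (pow_zero r)) hi1
      · rfl
      · have hlt : r < r ^ (j + 2) := lt_self_pow₀ hr.one_lt (by omega)
        rw [hj] at hi
        exact absurd (hlt.trans_le hi) (lt_irrefl r)
    have hn : (D.subgroupOf (Q : Subgroup G)).Normal := Subgroup.normal_of_index_eq_minFac_card
      (by rw [hj, hj1, pow_one, hcard Q, Nat.Prime.pow_minFac hr (by omega)])
    exact (Subgroup.normal_subgroupOf_iff_le_normalizer hQ).1 hn
  have hne : ∀ Q Q' : Sylow r G, Q ≠ Q' →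
      ((Q' : Subgroup G).subgroupOf (Q : Subgroup G)).index ≠ 1 := fun Q Q' hQ h1 => by
    rw [Subgroup.index_eq_one, Subgroup.subgroupOf_eq_top] at h1
    exact hQ (Sylow.ext (Q.3 Q'.2 h1).symm)
  have hDP : D.subgroupOf (P : Subgroup G) = (R : Subgroup G).subgroupOf (P : Subgroup G) :=
    Subgroup.inf_subgroupOf_right _ _
  have hDR : D.subgroupOf (R : Subgroup G) = (P : Subgroup G).subgroupOf (R : Subgroup G) :=
    Subgroup.inf_subgroupOf_left _ _
  have hcardD : ∀ Q : Sylow r G, D ≤ (Q : Subgroup G) →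
      (D.subgroupOf (Q : Subgroup G)).index * Nat.card D = r ^ b := fun Q hQ => by
    rw [← Nat.card_congr (Subgroup.subgroupOfEquivOfLe hQ).toEquiv, mul_comm,
      Subgroup.card_mul_index, hcard Q]
  have heq : (D.subgroupOf (R : Subgroup G)).index = (D.subgroupOf (P : Subgroup G)).index :=
    Nat.eq_of_mul_eq_mul_right Nat.card_pos
      ((hcardD R inf_le_left).trans (hcardD P inf_le_right).symm)
  have hPM := hnorm P inf_le_right (hDP ▸ hidx) (hDP ▸ hne P R hPR)
  have hRM := hnorm R inf_le_left (heq ▸ hDP ▸ hidx) (hDR ▸ hne R P hPR.symm)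
  set M := Subgroup.normalizer (D : Set G) with hMdef
  have hDne : D ≠ ⊥ := fun h0 => by
    have := hcardD P inf_le_right
    rw [h0, Subgroup.card_bot, mul_one, ← h0, hDP] at this
    have h2 : r < r ^ b := lt_self_pow₀ hr.one_lt (by omega)
    omega
  have hMt : M ≠ ⊤ := fun h0 => by
    rcases (Subgroup.normalizer_eq_top_iff.1 h0).eq_bot_or_eq_top with h1 | h1
    · exact hDne h1
    · have hPt : (P : Subgroup G) = ⊤ := top_le_iff.1 (h1 ▸ inf_le_right)
      exact hPR (Sylow.ext (R.3 P.2 (le_top.trans hPt.ge)))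
  let PM : Sylow r M := P.subtype hPM
  refine ⟨M, Nat.card (Sylow r M), hMt, ?_, ?_, ?_⟩
  · rw [Finite.one_lt_card_iff_nontrivial]
    exact ⟨PM, R.subtype hRM, fun he => hPR (Sylow.subtype_injective he)⟩
  · have := card_sylow_modEq_one r M
    rwa [Nat.ModEq, Nat.mod_eq_of_lt hr.one_lt] at this
  · refine Nat.Coprime.mul_dvd_of_dvd_of_dvd ?_ (PM.card_dvd_index.trans
      (Subgroup.index_dvd_card _)) ?_
    · exact (hr.coprime_pow_of_not_dvd (not_dvd_card_sylow r M)).symm.symm
    · exact hcard P ▸ Subgroup.card_dvd_of_le hPM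

end CfsgLib.Block.SmallCofactor
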