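import Cfsg.Agent.Lib.Block.SmallSO3
import Cfsg.Agent.Lib.Block.SmallDegreeNormal

/-!
A three dimensional representation in which `x` is a single block is, up to scalars, in `SO₃`.
-/

set_option autoImplicit false

namespace CfsgLib.Block.SmallBlock

open Matrix

universe u v

variable {k : Type v} [Field k] {p : ℕ} [hp : Fact p.Prime] [CharP k p] {G : Type u} [Group G]

/-- The `p`th power of an element commuting with a single block is scalar. -/
theorem pow_scalar_of_commute_block (hp3 : 3 ≤ p) {X T : Matrix (Fin 3) (Fin 3) k} (hX : IsBlock X)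
    (h : Commute T X) : ∃ a : k, T ^ p = a • 1 := by
  obtain ⟨R, hR, hRX⟩ := hX
  have hRd : IsUnit R.det := (Matrix.isUnit_iff_isUnit_det R).1 hR
  set S := R⁻¹ * T * R
  have hRS : R * S = T * R := by
    rw [show R * S = R * R⁻¹ * T * R by simp only [S, mul_assoc], Matrix.mul_nonsing_inv R hRd, one_mul]
  have hSL : S * lower k 3 = lower k 3 * S := by
    have h1 : S * (1 + lower k 3) = (1 + lower k 3) * S := by
      refine hR.mul_left_cancel ?_
      rw [← mul_assoc, hRS, ← mul_assoc, ← hRX, mul_assoc, mul_assoc, ← hRX, hRS, ← mul_assoc,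
        ← mul_assoc, h.eq]
    rwa [mul_add, add_mul, mul_one, one_mul, add_right_inj] at h1
  have e : ∀ i j, (S * lower k 3) i j = (lower k 3 * S) i j := fun i j => by rw [hSL]
  have e00 := e 0 0
  have e01 := e 0 1
  have e11 := e 1 1
  have e10 := e 1 0
  have e21 := e 2 1
  simp [lower, Matrix.mul_apply, Fin.sum_univ_three] at e00 e01 e11 e10 e21
  have h3 : (S - S 0 0 • 1) ^ 3 = 0 := by
    have h12 : S 1 2 = 0 := e11.trans e00
    rw [show S - S 0 0 • 1 = !![0, 0, 0; S 1 0, 0, 0; S 2 0, S 2 1, 0] by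
      ext i j
      fin_cases i <;> fin_cases j <;> simp_all, pow_three]
    ext i j
    fin_cases i <;> fin_cases j <;> simp [Matrix.mul_apply, Fin.sum_univ_three]
  have hp' : (S - S 0 0 • 1) ^ p = 0 := pow_eq_zero_of_le hp3 h3
  rw [sub_pow_char_of_commute (p := p) ((Commute.one_right S).smul_right _), smul_pow, one_pow,
    sub_eq_zero] at hp'
  refine ⟨S 0 0 ^ p, hR.mul_right_cancel ?_⟩
  have hpow : ∀ i : ℕ, T ^ i * R = R * S ^ i := fun i => by
    induction i with
    | zero => simp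
    | succ i ih => rw [pow_succ, mul_assoc, ← hRS, ← mul_assoc, ih, mul_assoc, ← pow_succ]
  rw [hpow, hp', Matrix.mul_smul, mul_one, Matrix.smul_mul, one_mul]

variable [IsAlgClosed k] [Finite G] {x : G}

/-- A single block in dimension three gives a twisted special orthogonal representation. -/
theorem exists_so_three (hp7 : 7 ≤ p) (hx : orderOf x = p) (hsq : ¬ p ^ 2 ∣ Nat.card G)
    (ρ : G →* Matrix (Fin 3) (Fin 3) k) (hρ : IsBlock (ρ x)) :
    ∃ (ρ'' : G →* Matrix (Fin 3) (Fin 3) k) (A : Matrix (Fin 3) (Fin 3) k),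
      IsBlock (ρ'' x) ∧ Aᵀ = A ∧ IsUnit A.det ∧ (∀ g, ρ'' g * A * (ρ'' g)ᵀ = A) ∧
      (∀ g, (ρ'' g).det = 1) ∧ ∀ g, ρ'' g = 1 → ∃ b : k, ρ g = b • 1 := by
  classical
  obtain ⟨ρ', T, hρ', hT⟩ := exists_conj ρ hρ (isBlock_expo (p := p) (by omega))
  have h2 : (2 : k) ≠ 0 := two_ne_zero' (by omega)
  set v : Matrix (Fin 3) (Fin 3) k := !![0, 0, 1; 0, -1, 0; 1, 0, 0]
  have hDv : del k 3 v = 0 := by
    ext a b
    rw [del_apply]
    fin_cases a <;> fin_cases b <;> simp [v, entry]
  have hvsym : v ∈ symSub k 3 := by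
    rw [mem_symSub]
    ext a b
    fin_cases a <;> fin_cases b <;> simp [v]
  have hφv : pairing v v ≠ 0 := by
    rw [pairing_eq]
    simp [v, Fin.sum_univ_three, Fin.rev]
    intro h
    have h' : ((3 : ℕ) : k) = 0 := by push_cast; linear_combination h
    have := Nat.le_of_dvd (by omega) ((CharP.cast_eq_zero_iff k p 3).1 h')
    omega
  have hscal : ∀ c ∈ Subgroup.centralizer ({x} : Set G),
      ∃ a : k, ∀ u ∈ layer (subAction ρ' (symSub k 3) fun T A hA => symSub_conj T hA) x 0,
        subAction ρ' (symSub k 3) (fun T A hA => symSub_conj T hA) c u = a • u := by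
    intro c hc
    have hcx : Commute c x := Subgroup.mem_centralizer_singleton_iff.1 hc
    obtain ⟨m, hm, hmx⟩ : ∃ m, Nat.Coprime p m ∧ c ^ m ∈ Subgroup.zpowers x := by
      by_cases hd : p ∣ orderOf c
      · refine ⟨orderOf c / p, hp.out.coprime_iff_not_dvd.2 fun h => hsq ?_,
          DefectOne.mem_zpowers_of_commute hx hsq ⟨1, ?_⟩
            (Subgroup.mem_centralizer_singleton_iff.2 (hcx.pow_left _).eq)⟩
        · refine dvd_trans ?_ (orderOf_dvd_natCard c)
          rw [sq, ← Nat.mul_div_cancel' hd]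
          exact Nat.mul_dvd_mul_left p h
        · rw [orderOf_pow_orderOf_div (orderOf_pos c).ne' hd, pow_one]
      · exact ⟨orderOf c, hp.out.coprime_iff_not_dvd.2 hd, by simp [pow_orderOf_eq_one]⟩
    obtain ⟨t, z, hz, hct⟩ : ∃ (t : ℕ), ∃ z ∈ Subgroup.zpowers x, c = c ^ (p * t) * z := by
      refine ⟨(Nat.gcdA p m % m).toNat, _, ?_, (mul_inv_cancel_left (c ^ _) c).symm⟩
      rcases Nat.eq_zero_or_pos m with rfl | hm0
      · exact absurd (Nat.coprime_zero_right p |>.1 hm) hp.out.ne_one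
      rw [← zpow_natCast, Nat.cast_mul, Int.toNat_of_nonneg (Int.emod_nonneg _ (by omega)), ← _root_.zpow_neg,
        show ∀ a : ℤ, c ^ a * c = c ^ (a + 1) from fun a => (zpow_add_one c a).symm]
      have hbez := Nat.gcd_eq_gcd_ab p m
      rw [hm.gcd_eq_one, Nat.cast_one] at hbez
      have hmod := Int.emod_def (Nat.gcdA p m) m
      have : -((p : ℤ) * (Nat.gcdA p m % m)) + 1 =
          (m : ℤ) * ((p : ℤ) * (Nat.gcdA p m / m) + Nat.gcdB p m) := by
        rw [hmod, hbez]; ring
      rw [this, _root_.zpow_mul, zpow_natCast]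
      exact zpow_mem hmx _
    obtain ⟨b, hb⟩ := pow_scalar_of_commute_block (p := p) (by omega)
      (show IsBlock (ρ' x) from hρ' ▸ isBlock_expo (p := p) (by omega)) ((hcx.pow_left t).map ρ')
    refine ⟨b * b, fun u hu => ?_⟩
    rw [hct, map_mul, Module.End.mul_apply, apply_eq_self_of_tau _ (LinearMap.mem_ker.1 hu.1) hz]
    refine Subtype.ext ?_
    change formAction ρ' (c ^ (p * t)) (u : Matrix (Fin 3) (Fin 3) k) = _
    rw [formAction_apply, mul_comm p t, pow_mul, map_pow, hb]
    simp [smul_smul]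
  obtain ⟨W, w', hW, hs, hli, hz, hnr⟩ := exists_form_block_of_scalar hx hsq (d := 3) (by omega) ρ' hρ'
    (symSub k 3) (fun T A hA => symSub_conj T hA)
    (fun A _ a b hab => entry_level A a b (by omega)) 0 hscal hvsym (by simp) hDv
    (φ := pairing v) (fun B => by rw [zero_add, pow_one, pairing_del, hDv]; simp [pairing]) hφv
  set A : Matrix (Fin 3) (Fin 3) k := (w' : Matrix (Fin 3) (Fin 3) k)
  have hsym : Aᵀ = A := mem_symSub.1 w'.2
  have hτA : ∀ B : symSub k 3, ((tau (subAction ρ' (symSub k 3) fun T A hA => symSub_conj T hA) x B :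
      symSub k 3) : Matrix (Fin 3) (Fin 3) k) = del k 3 (unitPart k p 3 (B : Matrix (Fin 3) (Fin 3) k)) :=
    fun B => by
      change formAction ρ' x (B : Matrix (Fin 3) (Fin 3) k) - (B : Matrix (Fin 3) (Fin 3) k) = _
      rw [formAction_apply, hρ', conj_exp (by omega), add_sub_cancel_left]
  have hDA : del k 3 A = 0 := by
    have h := congrArg Subtype.val hz
    rw [pow_one, hτA] at h
    obtain ⟨U, hU⟩ := isUnit_unitPart (k := k) (p := p) (d := 3)
    have h2 : unitPart k p 3 (del k 3 A) = 0 := by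
      rw [← Module.End.mul_apply, unitPart_commute.eq, Module.End.mul_apply]; exact h
    have h3 := congrArg (U⁻¹ : (Module.End k (Matrix (Fin 3) (Fin 3) k))ˣ).val h2
    rwa [map_zero, ← Module.End.mul_apply, ← hU, Units.inv_mul, Module.End.one_apply] at h3
  have e : ∀ a b, entry A a b = entry A b a := fun a b => by
    unfold entry
    by_cases h : a < 3 ∧ b < 3
    · rw [dif_pos h, dif_pos ⟨h.2, h.1⟩]
      exact (congrFun (congrFun hsym ⟨a, h.1⟩) ⟨b, h.2⟩).symm
    · rw [dif_neg h, dif_neg (fun h' => h ⟨h'.2, h'.1⟩)]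
  have eq : ∀ a b : Fin 3, entry A (a + 1) b + entry A a (b + 1) = 0 := fun a b => by
    rw [← del_apply, hDA, Matrix.zero_apply]
  have e00 := eq 0 0
  have e01 := eq 0 1
  have e02 := eq 0 2
  have e12 := eq 1 2
  have hA01 : A 0 1 = 0 := by
    have h1 := congrFun (congrFun hsym 0) 1
    simp [entry] at e00 h1
    rw [h1, ← two_mul, mul_eq_zero] at e00
    exact e00.resolve_left h2
  have hA11 : A 1 1 + A 0 2 = 0 := by simpa [entry] using e01
  have hA12 : A 1 2 = 0 := by simpa [entry] using e02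
  have hA22 : A 2 2 = 0 := by simpa [entry] using e12
  have hsy : ∀ a b, A a b = A b a := fun a b => (congrFun (congrFun hsym a) b).symm
  have hdet : A.det = A 0 2 ^ 3 := by
    rw [Matrix.det_fin_three, hsy 1 0, hsy 2 0, hsy 2 1, hA01, hA12, hA22,
      eq_neg_of_add_eq_zero_left hA11]
    ring
  have hβ : A 0 2 ≠ 0 := fun h0 => by
    refine hnr ?_
    set z : Matrix (Fin 3) (Fin 3) k :=
      (A 0 0 / 2) • !![0, 1, 0; 1, 0, 0; 0, 0, 0]
    have hzs : z ∈ symSub k 3 := by
      rw [mem_symSub]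
      ext a b
      fin_cases a <;> fin_cases b <;> simp [z]
    have hAz : del k 3 z = A := by
      have h11 : A 1 1 = 0 := by rw [h0, add_zero] at hA11; exact hA11
      ext a b
      rw [del_apply]
      fin_cases a <;> fin_cases b <;>
        simp [z, entry, hsy 1 0, hsy 2 0, hsy 2 1, hA01, hA12, hA22, h0, h11]
      field_simp
      ring
    refine ⟨⟨z, hzs⟩, Subtype.ext ?_⟩
    rw [zero_add, pow_one, hτA, pow_zero, Module.End.one_apply, ← Module.End.mul_apply,
      ← unitPart_commute.eq, Module.End.mul_apply, hAz, unitPart_of_del_eq_zero hDA]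
  have hAne : A ≠ 0 := fun h => hβ (by rw [h]; rfl)
  have hc : ∀ g, ∃ c : k, ρ' g * A * (ρ' g)ᵀ = c • A := fun g => by
    have hw'W : w' ∈ W := hs ▸ Submodule.subset_span ⟨0, by simp⟩
    have h := hW g w' hw'W
    rw [hs] at h
    have hr : (Set.range fun i : Fin (0 + 1) =>
        (tau (subAction ρ' (symSub k 3) fun T A hA => symSub_conj T hA) x ^ (i : ℕ)) w') = {w'} := by
      ext y
      simp [Fin.forall_fin_one, eq_comm]
    rw [hr, Submodule.mem_span_singleton] at h
    obtain ⟨c, hc⟩ := h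
    refine ⟨c, ?_⟩
    have h' := congrArg Subtype.val hc
    rw [← formAction_apply]
    exact h'.symm
  choose c hc using hc
  have hinj : ∀ a b : k, a • A = b • A → a = b := fun a b h => smul_left_injective k hAne h
  let χ : G →* k :=
    { toFun := c
      map_one' := hinj _ _ (by rw [← hc, map_one, Matrix.transpose_one, one_mul, mul_one, one_smul])
      map_mul' := fun g h => hinj _ _ (by
        rw [← hc, map_mul, Matrix.transpose_mul, show ρ' g * ρ' h * A * ((ρ' h)ᵀ * (ρ' g)ᵀ) =
          ρ' g * (ρ' h * A * (ρ' h)ᵀ) * (ρ' g)ᵀ by simp only [mul_assoc], hc, Matrix.mul_smul,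
          Matrix.smul_mul, hc, smul_smul, mul_comm]) }
  have hx0 : x ^ p = 1 := hx ▸ pow_orderOf_eq_one x
  have hAd : A.det ≠ 0 := by rw [hdet]; exact pow_ne_zero 3 hβ
  have hgdet : ∀ g, (ρ' g).det ≠ 0 := fun g h => by
    have h1 := congrArg Matrix.det (show ρ' g * ρ' g⁻¹ = 1 by rw [← map_mul, mul_inv_cancel, map_one])
    rw [Matrix.det_mul, h, zero_mul, Matrix.det_one] at h1
    exact zero_ne_one h1
  have hrel : ∀ g, (ρ' g).det ^ 2 = c g ^ 3 := fun g => by
    have h1 := congrArg Matrix.det (hc g)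
    rw [Matrix.det_mul, Matrix.det_mul, Matrix.det_transpose, Matrix.det_smul, Fintype.card_fin] at h1
    refine mul_right_cancel₀ hAd ?_
    linear_combination h1
  have hc0 : ∀ g, c g ≠ 0 := fun g h => hgdet g (by
    have := hrel g; rw [h, zero_pow (by norm_num)] at this; exact (pow_eq_zero_iff two_ne_zero).1 this)
  let θ : G →* k :=
    { toFun := fun g => c g / (ρ' g).det
      map_one' := by rw [show c 1 = 1 from χ.map_one, map_one, Matrix.det_one, div_one]
      map_mul' := fun g h => by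
        rw [show c (g * h) = c g * c h from χ.map_mul g h, map_mul, Matrix.det_mul, mul_div_mul_comm] }
  let ρ'' : G →* Matrix (Fin 3) (Fin 3) k :=
    { toFun := fun g => θ g • ρ' g
      map_one' := by rw [map_one, map_one, one_smul]
      map_mul' := fun g h => by rw [map_mul, map_mul, Matrix.smul_mul, Matrix.mul_smul, smul_smul] }
  have hθx : θ x = 1 := by
    have h1 : θ x ^ p = 1 := by rw [← map_pow, hx0, map_one]
    have : (θ x - 1) ^ p = 0 := by rw [sub_pow_char, h1, one_pow, sub_self]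
    exact sub_eq_zero.1 ((pow_eq_zero_iff hp.out.ne_zero).1 this)
  refine ⟨ρ'', A, ?_, hsym, hAd.isUnit, fun g => ?_, fun g => ?_, fun g hg => ?_⟩
  · change IsBlock (θ x • ρ' x)
    rw [hθx, one_smul, hρ']
    exact isBlock_expo (p := p) (by omega)
  · change θ g • ρ' g * A * (θ g • ρ' g)ᵀ = A
    rw [Matrix.transpose_smul, Matrix.smul_mul, Matrix.smul_mul, Matrix.mul_smul, hc, smul_smul,
      smul_smul]
    have : θ g * θ g * c g = 1 := by
      change c g / (ρ' g).det * (c g / (ρ' g).det) * c g = 1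
      field_simp [hgdet g]
      linear_combination -(hrel g)
    rw [this, one_smul]
  · change (θ g • ρ' g).det = 1
    rw [Matrix.det_smul, Fintype.card_fin]
    change (c g / (ρ' g).det) ^ 3 * (ρ' g).det = 1
    field_simp [hgdet g]
    linear_combination -(hrel g)
  · have hθ0 : θ g ≠ 0 := div_ne_zero (hc0 g) (hgdet g)
    have h1 : ρ' g = (θ g)⁻¹ • (1 : Matrix (Fin 3) (Fin 3) k) := by
      rw [← hg]
      change ρ' g = (θ g)⁻¹ • (θ g • ρ' g)
      rw [inv_smul_smul₀ hθ0]
    refine ⟨(θ g)⁻¹, ?_⟩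
    have h2 := hT g
    calc ρ g = (T : Matrix (Fin 3) (Fin 3) k) * ((T⁻¹ : (Matrix (Fin 3) (Fin 3) k)ˣ) * ρ g * T) *
          (T⁻¹ : (Matrix (Fin 3) (Fin 3) k)ˣ) := by simp only [mul_assoc, Units.mul_inv, mul_one, Units.mul_inv_cancel_left]
      _ = (θ g)⁻¹ • 1 := by
        rw [← h2, h1, Matrix.mul_smul, mul_one, Matrix.smul_mul, Units.mul_inv]

end CfsgLib.Block.SmallBlock
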