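import Cfsg.Agent.Lib.Block.ConicCount
import Cfsg.Agent.Lib.Block.SmallTwist

/-!
A subgroup of `SO₃` in characteristic `p` with Sylow subgroups of order `p`, not normal and not
completely fused, has order `p (p² - 1) / 2`.
-/

set_option autoImplicit false

namespace CfsgLib.Block.SmallBlock

open Matrix

universe u v

/-- The solution of the two orbit equation. -/
theorem conic_exact {p e n m s : ℕ} (hp5 : 5 ≤ p) (hn : n ≠ 0) (he1 : 1 ≤ e) (he : 2 * e + 1 ≤ p)
    (hm : m * s = p * e * (1 + n * p)) (hsum : m = 2 + (p - 2) * (1 + n * p)) :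
    n = 1 ∧ 2 * e + 1 = p := by
  obtain ⟨c, rfl⟩ : ∃ c, p = c + 2 := ⟨p - 2, by omega⟩
  simp only [Nat.add_sub_cancel] at hsum
  subst hsum
  set T := 1 + n * (c + 2) with hT
  have hT0 : c + 3 ≤ T := by
    have := Nat.le_mul_of_pos_left (c + 2) (Nat.pos_of_ne_zero hn)
    omega
  have h1 : 2 * s + c * s * T = (c + 2) * e * T := by rw [← hm]; ring
  have hlt : c * s < (c + 2) * e := by
    by_contra hge
    push Not at hge
    have h2 : (c + 2) * e * T ≤ c * s * T := Nat.mul_le_mul_right _ hge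
    rcases Nat.eq_zero_or_pos s with rfl | hs
    · have := Nat.mul_pos (Nat.mul_pos (show 0 < c + 2 by omega) he1) (show 0 < T by omega)
      omega
    · omega
  obtain ⟨D, hD⟩ : ∃ D, (c + 2) * e = c * s + (D + 1) := ⟨(c + 2) * e - c * s - 1, by omega⟩
  have h4 : (D + 1) * T = 2 * s := by
    rw [hD, add_mul] at h1
    omega
  have h5 : c + 3 ≤ 2 * s := le_trans hT0 (h4 ▸ Nat.le_mul_of_pos_left _ (by omega))
  have h6 : 2 * ((c + 2) * e) ≤ (c + 2) * (c + 1) := by
    rw [mul_left_comm]; exact Nat.mul_le_mul_left _ (by omega)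
  have h7 : c * (c + 3) ≤ 2 * (c * s) := by
    rw [mul_left_comm]; exact Nat.mul_le_mul_left _ h5
  have h8 : c * (c + 3) + 2 = (c + 2) * (c + 1) := by ring
  have hD0 : D = 0 := by omega
  subst hD0
  have h9 : 2 * (c * s) = c * (c + 3) := by omega
  have h10 : 2 * s = c + 3 := by
    refine Nat.eq_of_mul_eq_mul_left (show 0 < c by omega) ?_
    rw [← h9]; ring
  refine ⟨?_, ?_⟩
  · have h11 : n * (c + 2) = 1 * (c + 2) := by omega
    exact Nat.eq_of_mul_eq_mul_right (by omega) h11
  · have h12 : (c + 2) * (2 * e) = (c + 2) * (c + 1) := by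
      rw [mul_left_comm]; omega
    have := Nat.eq_of_mul_eq_mul_left (by omega) h12
    omega

variable {k : Type v} [Field k] [IsAlgClosed k] {p : ℕ} [hp : Fact p.Prime] [CharP k p]
  {G : Type u} [Group G] [Finite G] {x : G}

/-- The element is self-centralizing. -/
theorem centralizer_eq_of_so_three (hp5 : 5 ≤ p) (ρ : G →* Matrix (Fin 3) (Fin 3) k)
    (hinj : Function.Injective ρ) (hdet : ∀ g, (ρ g).det = 1) {A : Matrix (Fin 3) (Fin 3) k}
    (hAdet : IsUnit A.det) (hinv : ∀ g, ρ g * A * (ρ g)ᵀ = A) (hxb : IsBlock (ρ x))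
    (hx : orderOf x = p) (hsq : ¬ p ^ 2 ∣ Nat.card G) :
    Subgroup.centralizer ({x} : Set G) = Subgroup.zpowers x := by
  refine le_antisymm (fun c hc => ?_) (Subgroup.zpowers_le.2 (Subgroup.mem_centralizer_singleton_iff.2 rfl))
  have hcx : Commute c x := Subgroup.mem_centralizer_singleton_iff.1 hc
  obtain ⟨a, ha⟩ := pow_scalar_of_commute_block (p := p) (by omega) hxb (hcx.map ρ)
  rw [← map_pow] at ha
  have hA0 : A ≠ 0 := fun h => hAdet.ne_zero (by rw [h, Matrix.det_zero])
  have h2 : a * a = 1 := smul_left_injective k hA0 (by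
    have h := hinv (c ^ p)
    rw [ha] at h
    simpa [smul_smul] using h)
  have h3 : a ^ 3 = 1 := by
    have h := hdet (c ^ p)
    rw [ha] at h
    simpa using h
  have ha1 : a = 1 := by linear_combination h3 - a * h2
  refine DefectOne.mem_zpowers_of_commute hx hsq ?_ hc
  have hc1 : c ^ p = 1 := hinj (by rw [ha, ha1, one_smul, map_one])
  obtain ⟨i, -, hi⟩ := (Nat.dvd_prime_pow hp.out).1 (show orderOf c ∣ p ^ 1 by
    rw [pow_one]; exact orderOf_dvd_of_pow_eq_one hc1)
  exact ⟨i, hi⟩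

/-- The order of such a subgroup. -/
theorem so_three_card (hp5 : 5 ≤ p) (ρ : G →* Matrix (Fin 3) (Fin 3) k)
    (hinj : Function.Injective ρ) (hdet : ∀ g, (ρ g).det = 1) {A : Matrix (Fin 3) (Fin 3) k}
    (hA : Aᵀ = A) (hAdet : IsUnit A.det) (hinv : ∀ g, ρ g * A * (ρ g)ᵀ = A) (hxb : IsBlock (ρ x))
    (hx : orderOf x = p) (hsq : ¬ p ^ 2 ∣ Nat.card G) (hnn : ¬ (Subgroup.zpowers x).Normal)
    (hfus : ∃ i : ℕ, ¬ p ∣ i ∧ ∀ g : G, g * x * g⁻¹ ≠ x ^ i) :
    2 * Nat.card G = p * (p - 1) * (p + 1) ∧ Nat.card (Sylow p G) = 1 + 1 * p := by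
  classical
  let act := lineAction ρ
  have hC := centralizer_eq_of_so_three hp5 ρ hinj hdet hAdet hinv hxb hx hsq
  obtain ⟨ℓ, hℓ, hfix, huniq, hstab⟩ :=
    fixed_unipotent_of_det hp5 ρ hinj hdet hA hAdet hinv hxb hx hsq
  obtain ⟨e, n, m, s, he1, hep, hN, hn0, hn, hG, hms, hsum⟩ := conic_data_of_fixed_points
    (X := isoPts A⁻¹) hp5 (isoPts_move hp5 ρ hinj hdet hA hAdet hinv) hx hsq hC hnn hℓ hfix huniq
    (fun g hg => hstab g hg)
    (fun g h1 h2 => fixed_regular_of_det hp5 ρ hinj hdet hA hAdet hinv g h1 h2)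
  have hcyc : IsCyclic (Subgroup.zpowers x) := inferInstance
  have hP : Nat.card (Subgroup.zpowers x) = p := by rw [Nat.card_zpowers, hx]
  have he : 2 * e + 1 ≤ p := by
    set P := Subgroup.zpowers x
    set N := Subgroup.normalizer (P : Set G)
    let φ : N →* MulAut P := Subgroup.normalizerMonoidHom P
    have hker : Nat.card φ.ker = p := by
      rw [Subgroup.normalizerMonoidHom_ker,
        Nat.card_congr (Subgroup.subgroupOfEquivOfLe (Subgroup.centralizer_le_normalizer _)).toEquiv,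
        show Subgroup.centralizer (P : Set G) = Subgroup.centralizer ({x} : Set G) by
          rw [← Subgroup.centralizer_closure ({x} : Set G), ← Subgroup.zpowers_eq_closure],
        hC, hP]
    have hcard : Nat.card φ.range = e := by
      refine Nat.eq_of_mul_eq_mul_left hp.out.pos ?_
      rw [← hN]
      conv_lhs => rw [← hker, ← Subgroup.index_ker, Subgroup.card_mul_index]
    have haut : Nat.card (MulAut P) = p - 1 := by
      rw [IsCyclic.card_mulAut, hP, Nat.totient_prime hp.out]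
    have hdvd : e ∣ p - 1 := haut ▸ hcard ▸ Subgroup.card_subgroup_dvd_card φ.range
    obtain ⟨d, hd⟩ := hdvd
    rcases Nat.lt_or_ge d 2 with hd2 | hd2
    · exfalso
      obtain rfl : d = 1 := by
        rcases Nat.eq_zero_or_pos d with rfl | h
        · omega
        · omega
      have htop : φ.range = ⊤ := Subgroup.eq_top_of_card_eq _ (by rw [hcard, haut]; omega)
      obtain ⟨i, hi, hne⟩ := hfus
      obtain ⟨⟨g, hg⟩, hgi⟩ : ∃ g : N, (φ g) ⟨x, Subgroup.mem_zpowers x⟩ =
          ⟨x ^ i, Subgroup.npow_mem_zpowers x i⟩ := by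
        have hco : (Nat.card P).Coprime i := hP.symm ▸ hp.out.coprime_iff_not_dvd.2 hi
        let ψ : MulAut P :=
          { powCoprime hco with
            map_mul' := fun a b => by
              change (a * b) ^ i = a ^ i * b ^ i
              exact Commute.mul_pow (IsCyclic.commGroup.mul_comm a b) i }
        obtain ⟨g, hg⟩ := (htop ▸ Subgroup.mem_top ψ : ψ ∈ φ.range)
        exact ⟨g, by rw [hg]; rfl⟩
      exact hne g (congrArg Subtype.val hgi)
    · have := Nat.mul_le_mul_left e hd2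
      omega
  obtain ⟨rfl, he'⟩ := conic_exact hp5 hn0 he1 he (hms.trans hG) hsum
  refine ⟨?_, hn⟩
  rw [hG, one_mul, show p - 1 = 2 * e by omega]
  ring

end CfsgLib.Block.SmallBlock
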