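import Cfsg.Agent.Lib.Block.SmallShape
import Cfsg.Agent.Lib.Block.SmallDegreeNormal
import Cfsg.Agent.Lib.Clifford.Correspondence
import Cfsg.Agent.Lib.Clifford.Constituents
import Cfsg.Agent.Lib.Char.Diag
import Cfsg.Agent.Lib.Char.Inner
import Cfsg.Agent.Lib.BlockB.ItoPSolvable

/-!
Faithful irreducible characters of degree `p - 2`, the Sylow subgroup having order `p`:
centralizer and normalizer of an element of order `p`, and the subgroup generated by its conjugates.
-/

set_option autoImplicit false
set_option linter.unusedSectionVars false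

namespace CfsgLib.Block.SmallShape

open Cfsg CfsgLib CfsgLib.Block
open scoped ComplexConjugate

universe u

variable {G : Type u} [Group G] [Finite G] {p : ℕ} [hpf : Fact p.Prime] {x : G}

local notation "ψ" => (ZMod.stdAddChar (N := p))

/-- An element acting as a scalar on every constituent of a faithful character is central. -/
theorem mem_center_of_scalar [Fintype G] {F : G → ℂ} (hF : IsCharacter G F)
    (hfaith : ∀ g, F g = F 1 → g = 1)
    (h : ∀ θ : IrrCharacter G, classInner F (θ : G → ℂ) ≠ 0 →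
      ‖(θ : G → ℂ) x‖ = (charDegree (θ : G → ℂ) : ℝ)) : x ∈ Subgroup.center G := by
  classical
  have := Fintype.ofFinite (IrrCharacter G)
  refine Subgroup.mem_center_iff.2 fun g => mul_inv_eq_one.1 (hfaith _ ?_)
  rw [Char.classFunction_apply_eq_sum (Char.isCharacter_isClassFunction hF),
    Char.classFunction_apply_eq_sum (Char.isCharacter_isClassFunction hF) 1]
  refine Finset.sum_congr rfl fun θ _ => ?_
  rcases eq_or_ne (classInner F (θ : G → ℂ)) 0 with h0 | h0
  · rw [h0, zero_mul, zero_mul]
  congr 1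
  have hn := h θ h0
  obtain ⟨m, ρ, hρ, hρθ⟩ := θ.2
  have hfin : Module.finrank ℂ (Fin m → ℂ) = charDegree (θ : G → ℂ) := by
    have : ((Module.finrank ℂ (Fin m → ℂ) : ℕ) : ℂ) = (charDegree (θ : G → ℂ) : ℂ) := by
      rw [BlockB.irr_degree_cast θ, ← hρθ, Representation.char_one]
    exact_mod_cast this
  obtain ⟨ω, hω, -⟩ := CfsgLib.Char.eq_smul_id_of_norm_char_eq ρ x (by rw [hρθ, hfin]; exact hn)
  have hcomm : ρ (g * x) = ρ (x * g) := by
    rw [map_mul, map_mul, hω, Module.End.mul_eq_comp, Module.End.mul_eq_comp, LinearMap.comp_smul,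
      LinearMap.smul_comp, LinearMap.comp_id, LinearMap.id_comp]
  rw [← hρθ, Representation.character, Representation.character, map_mul, hcomm, ← map_mul,
    mul_inv_cancel]

/-- The degree of a constituent. -/
theorem charDegree_le_of_constituent [Fintype G] {F : G → ℂ} (hF : IsCharacter G F)
    {θ : G → ℂ} (hθ : IsIrrCharacter G θ) (h : classInner F θ ≠ 0) :
    charDegree θ ≤ charDegree F := by
  obtain ⟨R, hR, hFR⟩ := Clifford.exists_add_of_constituent hF hθ h
  have h1 : ((charDegree θ + charDegree R : ℕ) : ℂ) = (charDegree F : ℂ) := by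
    rw [Nat.cast_add, BlockB.charDegree_cast hF, BlockB.charDegree_cast hR,
      BlockB.charDegree_cast (Char.irr_isCharacter hθ), hFR, Pi.add_apply]
  have h2 : charDegree θ + charDegree R = charDegree F := by exact_mod_cast h1
  omega

/-- Without fusion in `⟨x⟩`, small faithful characters make `x` central. -/
theorem mem_center_of_no_fusion (hxo : orderOf x = p) (hsq : ¬ p ^ 2 ∣ Nat.card G) {F : G → ℂ}
    (hF : IsCharacter G F) (hfaith : ∀ g, F g = F 1 → g = 1) (hd : charDegree F + 1 < p)
    (hN : ∀ n : G, n * x * n⁻¹ ∈ Subgroup.zpowers x → n * x * n⁻¹ = x) :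
    x ∈ Subgroup.center G := by
  classical
  have := Fintype.ofFinite G
  obtain ⟨M, hM⟩ := BlockB.exists_isPModular (p := p) hpf.out
  refine mem_center_of_scalar hF hfaith fun θ hθ => ?_
  have hdθ := charDegree_le_of_constituent hF θ.2 hθ
  have hone : (Subgroup.centralizer ({x} : Set G)).relIndex
      (Subgroup.normalizer ((Subgroup.zpowers x : Subgroup G) : Set G)) = 1 := by
    refine Subgroup.relIndex_eq_one.2 fun n hn => ?_
    have h := hN n ((Subgroup.mem_normalizer_iff.1 hn x).1 (Subgroup.mem_zpowers x))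
    exact Subgroup.mem_centralizer_singleton_iff.2 (mul_inv_eq_iff_eq_mul.1 h)
  rcases exists_shape hM hxo hsq θ (by omega) with h | ⟨h, -⟩ | ⟨h, -, -⟩
  · exact h
  · omega
  · omega

/-- The local structure for degree `p - 2`. -/
theorem local_sub_two (hp5 : 5 < p) (hxo : orderOf x = p) (hsq : ¬ p ^ 2 ∣ Nat.card G)
    (hxZ : x ∉ Subgroup.center G) {χ : G → ℂ} (hχ : IsIrrCharacter G χ)
    (hfaith : ∀ g, χ g = χ 1 → g = 1) (hd : charDegree χ = p - 2) :
    (∀ c ∈ Subgroup.centralizer ({x} : Set G), ∃ i : ℕ, (x ^ i)⁻¹ * c ∈ Subgroup.center G) ∧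
      (∃ n : G, n * x * n⁻¹ = x⁻¹) ∧
      (∀ n : G, n * x * n⁻¹ ∈ Subgroup.zpowers x → n * x * n⁻¹ = x ∨ n * x * n⁻¹ = x⁻¹) ∧
      ∃ s : ZMod p, s ≠ 0 ∧ ∀ i : ZMod p, χ (x ^ i.val) =
        (∑ r : ZMod p, ψ (r * i)) - (ψ (s * i) + ψ (-(s * i))) := by
  classical
  have := Fintype.ofFinite G
  have hp := hpf.out
  obtain ⟨M, hM⟩ := BlockB.exists_isPModular (p := p) hp
  set Cx := Subgroup.centralizer ({x} : Set G) with hCx
  set N := Subgroup.normalizer ((Subgroup.zpowers x : Subgroup G) : Set G) with hNdef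
  have hnorm : ∀ g, ‖χ g‖ = (charDegree χ : ℝ) → g ∈ Subgroup.center G := fun g hg => by
    refine mem_center_of_scalar (Char.irr_isCharacter hχ) hfaith fun θ hθ => ?_
    have e : χ = (θ : G → ℂ) := by
      by_contra hne
      exact hθ (Char.irr_classInner_ne hχ θ.2 hne)
    rw [← e]; exact hg
  have hodd : p % 2 = 1 := hp.eq_two_or_odd.resolve_left (by omega)
  rcases exists_shape hM hxo hsq (⟨χ, hχ⟩ : IrrCharacter G)
      (show charDegree χ + 1 < p by omega) with h | ⟨h2, hdvd⟩ | ⟨hsum, -, hreg, U, hU, hU0, hval⟩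
  · exact absurd (hnorm x h) hxZ
  · exfalso
    rw [show charDegree ((⟨χ, hχ⟩ : IrrCharacter G) : G → ℂ) = p - 2 from hd] at hdvd
    have h1 : (p - 2).Coprime (p - 1) := by
      rw [show p - 1 = p - 2 + 1 by omega]; simp
    have := Nat.eq_one_of_dvd_coprimes h1 hdvd (relIndex_dvd hxo hsq)
    omega
  have hdeg : charDegree ((⟨χ, hχ⟩ : IrrCharacter G) : G → ℂ) = p - 2 := hd
  have hidx : Cx.relIndex N = 2 := by
    rw [hdeg, ← hCx, ← hNdef] at hsum; omega
  have hxC : x ∈ Cx := Subgroup.mem_centralizer_singleton_iff.2 rfl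
  refine ⟨fun c hc => ?_, ?_, ?_, ?_⟩
  · obtain ⟨i, y, hy, hyr, rfl⟩ := DefectOne.exists_decomp hxo hsq hc
    exact ⟨i.val, by rw [inv_mul_cancel_left]; exact hnorm y (hreg y hy hyr)⟩
  · -- an element outside the centralizer
    obtain ⟨n, hnN, hnC⟩ : ∃ n ∈ N, n ∉ Cx := by
      by_contra hno
      push Not at hno
      rw [Subgroup.relIndex_eq_one.2 hno] at hidx
      omega
    refine ⟨n, ?_⟩
    have hsqC : n * n ∈ Cx := by
      have h := Subgroup.mul_self_mem_of_index_two (H := Cx.subgroupOf N) hidx ⟨n, hnN⟩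
      simpa [Subgroup.mem_subgroupOf] using h
    obtain ⟨k, hk⟩ := mem_powers_iff_mem_zpowers.2
      ((Subgroup.mem_normalizer_iff.1 hnN x).1 (Subgroup.mem_zpowers x))
    replace hk : x ^ k = n * x * n⁻¹ := hk
    have h2 : x ^ (k * k) = x ^ 1 := by
      rw [pow_mul, hk, conj_pow, hk,
        show n * (n * x * n⁻¹) * n⁻¹ = n * n * x * (n * n)⁻¹ by group, pow_one,
        Subgroup.mem_centralizer_singleton_iff.1 hsqC, mul_inv_cancel_right]
    have h3 : (k : ZMod p) * k = 1 := by
      have h4 := pow_eq_pow_iff_modEq.1 h2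
      rw [hxo, ← ZMod.natCast_eq_natCast_iff] at h4
      exact_mod_cast h4
    rcases mul_self_eq_one_iff.1 h3 with h5 | h5
    · exfalso
      refine hnC (Subgroup.mem_centralizer_singleton_iff.2 (mul_inv_eq_iff_eq_mul.1 ?_))
      rw [← hk]
      nth_rewrite 2 [← pow_one x]
      rw [pow_eq_pow_iff_modEq, hxo, ← ZMod.natCast_eq_natCast_iff, h5, Nat.cast_one]
    · rw [← hk, eq_inv_iff_mul_eq_one, ← pow_succ, ← orderOf_dvd_iff_pow_eq_one, hxo,
        ← CharP.cast_eq_zero_iff (ZMod p) p]
      · push_cast; rw [h5]; ring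
  · intro n hn
    obtain ⟨k, hk⟩ := mem_powers_iff_mem_zpowers.2 hn
    replace hk : x ^ k = n * x * n⁻¹ := hk
    have hnN : n ∈ N := by
      refine Subgroup.mem_normalizer_iff.2 fun a => ⟨fun ha => ?_, fun ha => ?_⟩
      · obtain ⟨j, rfl⟩ := Subgroup.mem_zpowers_iff.1 ha
        rw [← conj_zpow]; exact zpow_mem hn j
      · have hgen : Subgroup.zpowers (n * x * n⁻¹) = Subgroup.zpowers x :=
          Subgroup.eq_of_le_of_card_ge (Subgroup.zpowers_le.2 hn) (by
            rw [Nat.card_zpowers, Nat.card_zpowers, show orderOf (n * x * n⁻¹) = orderOf x from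
              orderOf_injective (MulAut.conj n).toMonoidHom (MulAut.conj n).injective x])
        rw [← hgen] at ha
        obtain ⟨j, hj⟩ := Subgroup.mem_zpowers_iff.1 ha
        rw [conj_zpow] at hj
        exact Subgroup.mem_zpowers_iff.2 ⟨j, mul_left_cancel (mul_right_cancel hj)⟩
    have hsqC : n * n ∈ Cx := by
      have h := Subgroup.mul_self_mem_of_index_two (H := Cx.subgroupOf N) hidx ⟨n, hnN⟩
      simpa [Subgroup.mem_subgroupOf] using h
    have h2 : x ^ (k * k) = x ^ 1 := by
      rw [pow_mul, hk, conj_pow, hk,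
        show n * (n * x * n⁻¹) * n⁻¹ = n * n * x * (n * n)⁻¹ by group, pow_one,
        Subgroup.mem_centralizer_singleton_iff.1 hsqC, mul_inv_cancel_right]
    have h3 : (k : ZMod p) * k = 1 := by
      have h4 := pow_eq_pow_iff_modEq.1 h2
      rw [hxo, ← ZMod.natCast_eq_natCast_iff] at h4
      exact_mod_cast h4
    rcases mul_self_eq_one_iff.1 h3 with h5 | h5
    · left
      rw [← hk]
      nth_rewrite 2 [← pow_one x]
      rw [pow_eq_pow_iff_modEq, hxo, ← ZMod.natCast_eq_natCast_iff, h5, Nat.cast_one]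
    · right
      rw [← hk, eq_inv_iff_mul_eq_one, ← pow_succ, ← orderOf_dvd_iff_pow_eq_one, hxo,
        ← CharP.cast_eq_zero_iff (ZMod p) p]
      · push_cast; rw [h5]; ring
  · -- the absent eigenvalues
    rw [hdeg, ← hCx, ← hNdef, hidx] at hsum
    rw [← hCx, ← hNdef, hidx] at hU
    obtain ⟨s, r, hsr, rfl⟩ := Finset.card_eq_two.1 hU
    have hs0 : s ≠ 0 := fun h => hU0 (by simp [h])
    have hr0 : r ≠ 0 := fun h => hU0 (by simp [h])
    obtain ⟨n, hnN, hnC⟩ : ∃ n ∈ N, n ∉ Cx := by
      by_contra hno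
      push Not at hno
      rw [Subgroup.relIndex_eq_one.2 hno] at hidx
      omega
    -- the fusion permutes them
    obtain ⟨k, hk⟩ := mem_powers_iff_mem_zpowers.2
      ((Subgroup.mem_normalizer_iff.1 hnN x).1 (Subgroup.mem_zpowers x))
    replace hk : x ^ k = n * x * n⁻¹ := hk
    have hk1 : (k : ZMod p) ≠ 1 := fun h => by
      refine hnC (Subgroup.mem_centralizer_singleton_iff.2 (mul_inv_eq_iff_eq_mul.1 ?_))
      rw [← hk]
      nth_rewrite 2 [← pow_one x]
      rw [pow_eq_pow_iff_modEq, hxo, ← ZMod.natCast_eq_natCast_iff, h, Nat.cast_one]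
    have hsqC : n * n ∈ Cx := by
      have h := Subgroup.mul_self_mem_of_index_two (H := Cx.subgroupOf N) hidx ⟨n, hnN⟩
      simpa [Subgroup.mem_subgroupOf] using h
    have hkk : (k : ZMod p) * k = 1 := by
      have h2 : x ^ (k * k) = x ^ 1 := by
        rw [pow_mul, hk, conj_pow, hk,
          show n * (n * x * n⁻¹) * n⁻¹ = n * n * x * (n * n)⁻¹ by group, pow_one,
          Subgroup.mem_centralizer_singleton_iff.1 hsqC, mul_inv_cancel_right]
      have h4 := pow_eq_pow_iff_modEq.1 h2
      rw [hxo, ← ZMod.natCast_eq_natCast_iff] at h4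
      exact_mod_cast h4
    have hkm : (k : ZMod p) = -1 := (mul_self_eq_one_iff.1 hkk).resolve_left hk1
    have hinv : ∀ i : ZMod p, χ (x ^ (-i).val) = χ (x ^ i.val) := fun i => by
      rw [show x ^ (-i).val = n * x ^ i.val * n⁻¹ by
        rw [← conj_pow, ← hk, ← pow_mul, pow_eq_pow_iff_modEq, hxo, ← ZMod.natCast_eq_natCast_iff]
        push_cast
        rw [ZMod.natCast_zmod_val, ZMod.natCast_zmod_val, hkm]; ring]
      exact Char.irr_isClassFunction hχ _ _
    refine ⟨s, hs0, fun i => ?_⟩
    have hrs : r = -s := by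
      have hfun : ∀ i : ZMod p, ψ (s * i) + ψ (r * i) = ψ (-(s * i)) + ψ (-(r * i)) := fun i => by
        have h1 := hval i
        have h2 := hval (-i)
        simp only at h1 h2
        rw [hinv, h1, Finset.sum_pair hsr, Finset.sum_pair hsr] at h2
        have e : ∑ t : ZMod p, ψ (t * -i) = ∑ t : ZMod p, ψ (t * i) :=
          Fintype.sum_equiv (Equiv.neg _) _ _ fun t => by simp
        rw [e, mul_neg, mul_neg] at h2
        linear_combination -h2
      -- compare the Fourier coefficients at `s`
      have horth : ∀ a : ZMod p, ∑ i : ZMod p, ψ (a * i) = if a = 0 then (p : ℂ) else 0 := fun a => by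
        rw [Finset.sum_congr rfl fun i _ => congrArg ψ (mul_comm a i),
          AddChar.sum_mulShift a (ZMod.isPrimitive_stdAddChar p), ZMod.card]
        split_ifs <;> simp
      have hsum2 := Finset.sum_congr rfl (s₁ := (Finset.univ : Finset (ZMod p)))
        (fun i _ => congrArg (ψ (-(s * i)) * ·) (hfun i))
      simp only [mul_add, ← AddChar.map_add_eq_mul, Finset.sum_add_distrib] at hsum2
      rw [Finset.sum_congr rfl fun i _ => congrArg ψ (show -(s * i) + s * i = (0 : ZMod p) * i by ring),
        Finset.sum_congr rfl fun i _ => congrArg ψ (show -(s * i) + r * i = (r - s) * i by ring),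
        Finset.sum_congr rfl fun i _ => congrArg ψ (show -(s * i) + -(s * i) = (-(2 * s)) * i by ring),
        Finset.sum_congr rfl fun i _ => congrArg ψ (show -(s * i) + -(r * i) = (-(s + r)) * i by ring),
        horth, horth, horth, horth, if_pos rfl, if_neg (sub_ne_zero.2 hsr.symm)] at hsum2
      have h2s : -(2 * s) ≠ (0 : ZMod p) := by
        rw [neg_ne_zero]
        refine mul_ne_zero ?_ hs0
        intro h
        have h' : ((2 : ℕ) : ZMod p) = 0 := by exact_mod_cast h
        rw [CharP.cast_eq_zero_iff (ZMod p) p] at h'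
        have := Nat.le_of_dvd (by omega) h'
        omega
      rw [if_neg h2s] at hsum2
      by_contra hne
      rw [if_neg fun h => hne (eq_neg_of_add_eq_zero_right (neg_eq_zero.1 h))] at hsum2
      simp [hp.ne_zero] at hsum2
    have h1 := hval i
    simp only at h1
    rw [h1, Finset.sum_pair hsr, hrs, neg_mul]

/-- A normal subgroup with one element of order `p` has all. -/
theorem mem_normal_of_orderOf_eq (hxo : orderOf x = p) (hsq : ¬ p ^ 2 ∣ Nat.card G) (R : Subgroup G)
    [hR : R.Normal] (hxR : x ∈ R) {y : G} (hy : orderOf y = p) : y ∈ R := by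
  have hp := hpf.out
  have hPc : Nat.card (Subgroup.zpowers x) = p ^ (Nat.card G).factorization p := by
    rw [Nat.card_zpowers, hxo]
    have h1 : p ∣ Nat.card G := hxo ▸ orderOf_dvd_natCard x
    have h2 := (hp.dvd_iff_one_le_factorization Nat.card_pos.ne').1 h1
    have h3 : ¬ 2 ≤ (Nat.card G).factorization p := fun h =>
      hsq ((hp.pow_dvd_iff_le_factorization Nat.card_pos.ne').2 h)
    rw [show (Nat.card G).factorization p = 1 by omega, pow_one]
  let P : Sylow p G := Sylow.ofCard (Subgroup.zpowers x) hPc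
  obtain ⟨Q, hQ⟩ := (IsPGroup.of_card (n := 1)
    (show Nat.card (Subgroup.zpowers y) = p ^ 1 by rw [Nat.card_zpowers, hy, pow_one])).exists_le_sylow
  obtain ⟨a, ha⟩ := MulAction.exists_smul_eq G Q P
  have hmem : a * y * a⁻¹ ∈ (P : Subgroup G) := by
    rw [← ha]
    exact Subgroup.mem_map_of_mem _ (hQ (Subgroup.mem_zpowers y))
  have h := hR.conj_mem _ ((Subgroup.zpowers_le.2 hxR : Subgroup.zpowers x ≤ R) hmem) a⁻¹
  simpa [mul_assoc] using h

/-- The subgroup generated by the conjugates of `x`. -/
theorem core_facts (hp5 : 5 < p) (hxo : orderOf x = p) (hsq : ¬ p ^ 2 ∣ Nat.card G)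
    (hnn : ¬ (Subgroup.zpowers x).Normal) {χ : G → ℂ} (hχ : IsIrrCharacter G χ)
    (hfaith : ∀ g, χ g = χ 1 → g = 1) (hd : charDegree χ = p - 2) :
    let K := Subgroup.normalClosure ({x} : Set G)
    IsIrrCharacter K (fun k : K => χ k) ∧ (⟨x, Subgroup.subset_normalClosure rfl⟩ : K) ∉ Subgroup.center K ∧
      (∀ R : Subgroup K, R.Normal → R ≤ Subgroup.center K ∨ R = ⊤) ∧
      commutator K = ⊤ ∧
      ∀ g : G, (∀ k ∈ K, g * k = k * g) → g ∈ Subgroup.center G := by
  classical
  intro K
  have := Fintype.ofFinite G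
  have hp := hpf.out
  have hxK : x ∈ K := Subgroup.subset_normalClosure rfl
  set x' : K := ⟨x, hxK⟩
  have hxo' : orderOf x' = p := (Subgroup.orderOf_mk x hxK).trans hxo
  have hsq' : ¬ p ^ 2 ∣ Nat.card K := fun h => hsq (h.trans (Subgroup.card_subgroup_dvd_card K))
  have := Fintype.ofFinite K
  have hF : IsCharacter K (fun k : K => χ k) := Char.isCharacter_restrict (Char.irr_isCharacter hχ) K
  have hfaithK : ∀ k : K, χ k = χ (1 : K) → k = 1 := fun k hk => Subtype.ext (hfaith k hk)
  -- `x` is not central in `K`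
  have hxZ : x' ∉ Subgroup.center K := fun hc => by
    refine hnn (DegreeBound.zpowers_normal_of_conj fun g => ?_)
    refine DegreeBound.mem_zpowers_of_mem_normalizer hxo hsq (by
      rw [show orderOf (g * x * g⁻¹) = orderOf x from
        orderOf_injective (MulAut.conj g).toMonoidHom (MulAut.conj g).injective x, hxo]) ?_
    have hy : g * x * g⁻¹ ∈ K := Subgroup.normalClosure_normal.conj_mem x hxK g
    have hcomm : g * x * g⁻¹ * x = x * (g * x * g⁻¹) :=
      congrArg Subtype.val (Subgroup.mem_center_iff.1 hc ⟨_, hy⟩)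
    have hle : Subgroup.zpowers x ≤ Subgroup.centralizer ({g * x * g⁻¹} : Set G) :=
      Subgroup.zpowers_le.2 (Subgroup.mem_centralizer_singleton_iff.2 hcomm.symm)
    exact Subgroup.centralizer_le_normalizer _ (Subgroup.mem_centralizer_iff.2 fun a ha =>
      Subgroup.mem_centralizer_singleton_iff.1 (hle ha))
  obtain ⟨M, hM⟩ := BlockB.exists_isPModular (p := p) hp
  -- irreducibility
  have hirr : IsIrrCharacter K (fun k : K => χ k) := by
    obtain ⟨θ, hθ, hθF⟩ := Clifford.exists_irr_constituent_restrict (N := K) hχ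
    have hdK : charDegree (fun k : K => χ k) = p - 2 := hd
    have hle := charDegree_le_of_constituent hF hθ hθF
    rw [hdK] at hle
    rcases eq_or_lt_of_le hle with heq | hlt
    · obtain ⟨R, hR, hFR⟩ := Clifford.exists_add_of_constituent hF hθ hθF
      have hR1 : R 1 = 0 := by
        have h1 := congrFun hFR 1
        rw [Pi.add_apply, ← BlockB.charDegree_cast hF, hdK, ← BlockB.charDegree_cast (Char.irr_isCharacter hθ),
          heq] at h1
        linear_combination -h1
      have hR0 : R = 0 := by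
        obtain ⟨m, ρ, rfl⟩ := hR
        funext k
        rw [Representation.char_one, Nat.cast_eq_zero] at hR1
        have : Subsingleton (Fin m → ℂ) := Module.finrank_zero_iff.1 hR1
        rw [Representation.character, Subsingleton.elim (ρ k) 0, map_zero, Pi.zero_apply]
      rw [hFR, hR0, add_zero]
      exact hθ
    · -- otherwise `x` is scalar on every constituent
      exfalso
      refine hxZ (mem_center_of_scalar hF hfaithK fun φ hφ => ?_)
      obtain ⟨g, hg⟩ := Clifford.exists_conj_of_constituents hχ hθ φ.2 hθF hφ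
      have hdeq : charDegree (φ : K → ℂ) = charDegree θ := by
        unfold charDegree
        rw [← hg, Clifford.conjFn_apply,
          show Clifford.conjN g (1 : K) = 1 from Subtype.ext (by simp)]
      have hdvd : charDegree θ ∣ p - 2 := by
        exact hd ▸ BlockB.ItoPSolvable.charDegree_dvd_of_constituent K hχ hθ hθF
      have h3 : 3 * charDegree θ ≤ p - 2 := by
        obtain ⟨k, hk⟩ := hdvd
        have hodd : p % 2 = 1 := hp.eq_two_or_odd.resolve_left (by omega)
        have hkodd : 3 ≤ k := by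
          rcases k with _ | _ | _ | k
          · omega
          · omega
          · exfalso; omega
          · omega
        calc 3 * charDegree θ ≤ k * charDegree θ := Nat.mul_le_mul_right _ hkodd
          _ = _ := by rw [mul_comm, ← hk]
      rcases exists_shape hM hxo' hsq' φ (by omega) with h | ⟨h2, hdvd'⟩ | ⟨hsum, hle', -⟩
      · exact h
      · exfalso
        rw [hdeq] at hdvd'
        have h1 : (p - 2).Coprime (p - 1) := by
          rw [show p - 1 = p - 2 + 1 by omega]; simp
        have := Nat.eq_one_of_dvd_coprimes h1 (hdvd'.trans hdvd) (relIndex_dvd hxo' hsq')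
        omega
      · exfalso; omega
  -- local structure in `K`
  obtain ⟨hC, ⟨n, hn⟩, hN, -⟩ := local_sub_two hp5 hxo' hsq' hxZ hirr hfaithK hd
  have hgen : ∀ R : Subgroup G, R.Normal → x ∈ R → K ≤ R := fun R hR hxR =>
    Subgroup.normalClosure_le_normal (Set.singleton_subset_iff.2 hxR)
  have hcentral : ∀ g : G, (∀ k ∈ K, g * k = k * g) → g ∈ Subgroup.center G := fun g hg => by
    obtain ⟨m, ρ, hρ, hρχ⟩ := hirr
    obtain ⟨a, σ, hσ, hσχ⟩ := hχ
    let σK : Representation ℂ K (Fin a → ℂ) := σ.comp K.subtype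
    have hσirr : σK.IsIrreducible := Char.isIrreducible_of_classInner_self σK (by
      have e : σK.character = fun k : K => χ k := by
        funext k
        rw [← hσχ]
        rfl
      rw [e, ← hρχ]
      exact Char.irr_classInner_self ⟨m, ρ, hρ, rfl⟩)
    obtain ⟨c, hc⟩ := CfsgLib.Char.exists_scalar_of_commute σK (σ g) fun k => by
      rw [← Module.End.mul_eq_comp, ← Module.End.mul_eq_comp]
      change σ g * σ k = σ k * σ g
      rw [← map_mul, ← map_mul, hg k k.2]
    refine Subgroup.mem_center_iff.2 fun h => mul_inv_eq_one.1 (hfaith _ ?_)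
    have hcomm : σ (h * g) = σ (g * h) := by
      rw [map_mul, map_mul, hc, Module.End.mul_eq_comp, Module.End.mul_eq_comp, LinearMap.comp_smul,
        LinearMap.smul_comp, LinearMap.comp_id, LinearMap.id_comp]
    rw [← hσχ, Representation.character, Representation.character, map_mul, hcomm, ← map_mul,
      mul_inv_cancel]
  -- normal subgroups containing `x`
  have htopK : ∀ R : Subgroup K, R.Normal → x' ∈ R → R = ⊤ := fun R hR hxR => by
    have hall : ∀ g : G, (⟨g * x * g⁻¹, Subgroup.normalClosure_normal.conj_mem x hxK g⟩ : K) ∈ R :=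
      fun g => by
      set y : K := ⟨g * x * g⁻¹, Subgroup.normalClosure_normal.conj_mem x hxK g⟩
      have hyo : orderOf y = p := by
        rw [Subgroup.orderOf_mk, show orderOf (g * x * g⁻¹) = orderOf x from
          orderOf_injective (MulAut.conj g).toMonoidHom (MulAut.conj g).injective x, hxo]
      exact mem_normal_of_orderOf_eq hxo' hsq' R hxR hyo
    refine eq_top_iff.2 fun k _ => ?_
    have hle : K ≤ R.map K.subtype := by
      change Subgroup.closure _ ≤ _
      rw [Subgroup.closure_le]
      intro y hy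
      obtain ⟨a, ha, hy⟩ := Group.mem_conjugatesOfSet_iff.1 hy
      rw [Set.mem_singleton_iff] at ha
      obtain ⟨g, rfl⟩ := isConj_iff.1 (ha ▸ hy)
      exact ⟨_, hall g, rfl⟩
    obtain ⟨r, hr, hrk⟩ := hle k.2
    rwa [← Subtype.ext hrk]
  refine ⟨hirr, hxZ, fun R hR => ?_, ?_, hcentral⟩
  · by_cases hxR : x' ∈ R
    · exact Or.inr (htopK R hR hxR)
    · left
      -- `x` centralizes `R`
      have hpR : ¬ p ∣ Nat.card R := fun h => by
        obtain ⟨r, hr⟩ := exists_prime_orderOf_dvd_card' (G := R) p h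
        exact hxR (mem_normal_of_orderOf_eq (x := (r : K)) (by rw [Subgroup.orderOf_coe, hr]) hsq' R r.2
          hxo')
      set L := R ⊔ Subgroup.zpowers x'
      have hxL : x' ∈ L := Subgroup.mem_sup_right (Subgroup.mem_zpowers x')
      have hcxL : (⟨x', hxL⟩ : L) ∈ Subgroup.center L := by
        have := Fintype.ofFinite L
        refine mem_center_of_no_fusion ((Subgroup.orderOf_mk x' hxL).trans hxo')
          (fun h => hsq' (h.trans (Subgroup.card_subgroup_dvd_card L)))
          (Char.isCharacter_restrict hF L) (fun g hg => Subtype.ext (hfaithK g hg))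
          (show charDegree χ + 1 < p by omega) fun m hm => ?_
        -- `m = r x^i`, so the commutator lies in `R` and in `⟨x⟩`
        obtain ⟨j, hj⟩ := Subgroup.mem_zpowers_iff.1 hm
        have hjK : x' ^ j = (m : K) * x' * (m : K)⁻¹ := congrArg Subtype.val hj
        obtain ⟨r, hr, w, hw, hrw⟩ := Subgroup.mem_sup_of_normal_left.1 m.2
        obtain ⟨i, rfl⟩ := Subgroup.mem_zpowers_iff.1 hw
        have he : (m : K) * x' * (m : K)⁻¹ = r * x' * r⁻¹ := by rw [← hrw]; group
        have h1 : r * x' * r⁻¹ * x'⁻¹ ∈ R := by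
          have := mul_mem hr (hR.conj_mem r⁻¹ (inv_mem hr) x')
          simpa [mul_assoc] using this
        have h2 : r * x' * r⁻¹ * x'⁻¹ ∈ Subgroup.zpowers x' := by
          rw [← he, ← hjK]
          exact mul_mem (zpow_mem (Subgroup.mem_zpowers x') j) (inv_mem (Subgroup.mem_zpowers x'))
        have h3 : r * x' * r⁻¹ * x'⁻¹ = 1 := by
          rw [← orderOf_eq_one_iff]
          have d1 := Subgroup.orderOf_dvd_natCard _ h1
          have d2 := Subgroup.orderOf_dvd_natCard _ h2
          rw [Nat.card_zpowers, hxo'] at d2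
          rcases hp.eq_one_or_self_of_dvd _ d2 with h | h
          · exact h
          · rw [h] at d1; exact absurd d1 hpR
        refine Subtype.ext ?_
        change (m : K) * x' * (m : K)⁻¹ = x'
        rw [he]
        exact mul_inv_eq_one.1 h3
      have hRC : R ≤ Subgroup.centralizer ({x'} : Set K) := fun r hr =>
        Subgroup.mem_centralizer_singleton_iff.2
          (congrArg Subtype.val (Subgroup.mem_center_iff.1 hcxL ⟨r, Subgroup.mem_sup_left hr⟩))
      intro r hr
      have hnorm : x' ∈ Subgroup.centralizer (R : Set K) :=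
        Subgroup.mem_centralizer_iff.2 fun a ha => Subgroup.mem_centralizer_singleton_iff.1 (hRC ha)
      have := hR
      have h := htopK _ inferInstance hnorm
      refine Subgroup.mem_center_iff.2 fun k => ?_
      have hk : k ∈ Subgroup.centralizer (R : Set K) := h ▸ Subgroup.mem_top k
      exact (Subgroup.mem_centralizer_iff.1 hk r hr).symm
  · -- perfect
    refine htopK _ inferInstance ?_
    have h : x' ^ 2 ∈ commutator K := by
      have e : x' ^ 2 = (n * x' * n⁻¹ * x'⁻¹)⁻¹ := by rw [hn]; group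
      rw [e]
      exact inv_mem (Subgroup.commutator_mem_commutator (Subgroup.mem_top _) (Subgroup.mem_top _))
    obtain ⟨k, hk⟩ := exists_pow_eq_self_of_coprime (x := x') (n := 2) (by
      rw [hxo']; exact (Nat.coprime_primes Nat.prime_two hp).2 (by omega))
    rw [← hk]
    exact pow_mem h k

end CfsgLib.Block.SmallShape
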