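import Cfsg.Agent.Lib.Block.SmallModels

/-!
A two dimensional representation yields, through symmetric squares, a special orthogonal one.
-/

set_option autoImplicit false

namespace CfsgLib.Block.SmallBlock

open Matrix

universe v

variable {k : Type v} [Field k]

/-- The symmetric square, unnormalized. -/
def symTwo (M : Matrix (Fin 2) (Fin 2) k) : Matrix (Fin 3) (Fin 3) k :=
  !![M 0 0 ^ 2, 2 * M 0 0 * M 0 1, M 0 1 ^ 2;
     M 0 0 * M 1 0, M 0 0 * M 1 1 + M 0 1 * M 1 0, M 0 1 * M 1 1;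
     M 1 0 ^ 2, 2 * M 1 0 * M 1 1, M 1 1 ^ 2]

/-- The invariant form of the symmetric square. -/
def symForm (k : Type v) [Field k] : Matrix (Fin 3) (Fin 3) k :=
  !![0, 0, -2; 0, 1, 0; -2, 0, 0]

theorem symTwo_mul (M N : Matrix (Fin 2) (Fin 2) k) : symTwo (M * N) = symTwo M * symTwo N := by
  ext i j
  fin_cases i <;> fin_cases j <;>
    simp [symTwo, Matrix.mul_apply, Fin.sum_univ_two, Fin.sum_univ_three] <;> ring

theorem symTwo_one : symTwo (1 : Matrix (Fin 2) (Fin 2) k) = 1 := by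
  ext i j
  fin_cases i <;> fin_cases j <;> simp [symTwo, Matrix.one_apply]

theorem symTwo_form (M : Matrix (Fin 2) (Fin 2) k) :
    symTwo M * symForm k * (symTwo M)ᵀ = M.det ^ 2 • symForm k := by
  ext i j
  fin_cases i <;> fin_cases j <;>
    simp [symTwo, symForm, Matrix.mul_apply, Fin.sum_univ_three, Matrix.det_fin_two] <;> ring

theorem det_symTwo (M : Matrix (Fin 2) (Fin 2) k) : (symTwo M).det = M.det ^ 3 := by
  simp [symTwo, Matrix.det_fin_three, Matrix.det_fin_two]
  ring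

theorem symTwo_lower : IsBlock (symTwo (1 + lower k 2)) ∨ (2 : k) = 0 := by
  by_cases h2 : (2 : k) = 0
  · exact Or.inr h2
  refine Or.inl ⟨!![1, 0, 0; 0, 1, 0; 0, 1, 2], ?_, ?_⟩
  · rw [Matrix.isUnit_iff_isUnit_det]
    rw [show (!![1, 0, 0; 0, 1, 0; 0, 1, 2] : Matrix (Fin 3) (Fin 3) k).det = 2 by
      simp [Matrix.det_fin_three]]
    exact isUnit_iff_ne_zero.2 h2
  · ext i j
    fin_cases i <;> fin_cases j <;>
      simp [symTwo, lower, Matrix.mul_apply, Fin.sum_univ_three, Matrix.one_apply] <;> ring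

variable {G : Type*} [Group G]

/-- The normalized symmetric square representation. -/
theorem exists_sym_two (σ : G →* Matrix (Fin 2) (Fin 2) k) :
    ∃ ρ : G →* Matrix (Fin 3) (Fin 3) k, (∀ g, ρ g = (σ g).det⁻¹ • symTwo (σ g)) ∧
      (∀ g, ρ g * symForm k * (ρ g)ᵀ = symForm k) ∧ (∀ g, (ρ g).det = 1) ∧
      ∀ g, ρ g = 1 → (2 : k) ≠ 0 → ∃ a : k, σ g = a • 1 := by
  have hd : ∀ g, (σ g).det ≠ 0 := fun g h => by
    have h1 := congrArg Matrix.det (show σ g * σ g⁻¹ = 1 by rw [← map_mul, mul_inv_cancel, map_one])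
    rw [Matrix.det_mul, h, zero_mul, Matrix.det_one] at h1
    exact zero_ne_one h1
  let ρ : G →* Matrix (Fin 3) (Fin 3) k :=
    { toFun := fun g => (σ g).det⁻¹ • symTwo (σ g)
      map_one' := by rw [map_one, Matrix.det_one, inv_one, one_smul, symTwo_one]
      map_mul' := fun g h => by
        rw [map_mul, Matrix.det_mul, symTwo_mul, Matrix.smul_mul, Matrix.mul_smul, smul_smul,
          mul_inv] }
  refine ⟨ρ, fun g => rfl, fun g => ?_, fun g => ?_, fun g hg h2 => ?_⟩
  · change ((σ g).det⁻¹ • symTwo (σ g)) * symForm k * ((σ g).det⁻¹ • symTwo (σ g))ᵀ = _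
    rw [Matrix.transpose_smul, Matrix.smul_mul, Matrix.smul_mul, Matrix.mul_smul, symTwo_form,
      smul_smul, smul_smul]
    have : (σ g).det⁻¹ * (σ g).det⁻¹ * (σ g).det ^ 2 = 1 := by field_simp [hd g]
    rw [this, one_smul]
  · change ((σ g).det⁻¹ • symTwo (σ g)).det = 1
    rw [Matrix.det_smul, Fintype.card_fin, det_symTwo]
    field_simp [hd g]
  · have h1 : symTwo (σ g) = (σ g).det • (1 : Matrix (Fin 3) (Fin 3) k) := by
      rw [← hg]
      change symTwo (σ g) = (σ g).det • ((σ g).det⁻¹ • symTwo (σ g))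
      rw [smul_smul, mul_inv_cancel₀ (hd g), one_smul]
    have e : ∀ i j, symTwo (σ g) i j = ((σ g).det • (1 : Matrix (Fin 3) (Fin 3) k)) i j := fun i j => by
      rw [h1]
    have e00 := e 0 0
    have e02 := e 0 2
    have e20 := e 2 0
    simp [symTwo] at e00 e02 e20
    rw [Matrix.det_fin_two, e02, e20, mul_zero, sub_zero, sq] at e00
    have h11 : σ g 1 1 = σ g 0 0 := by
      have ha : σ g 0 0 ≠ 0 := fun h => hd g (by rw [Matrix.det_fin_two, h, e02]; ring)
      exact (mul_left_cancel₀ ha e00).symm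
    refine ⟨σ g 0 0, ?_⟩
    ext i j
    fin_cases i <;> fin_cases j <;> simp [e02, e20, h11]

end CfsgLib.Block.SmallBlock
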