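import Cfsg.Agent.Lib.Block.SmallAdjoint
import Cfsg.Agent.Lib.Block.SmallConic
import Cfsg.Agent.Lib.Block.SmallSymTwo
import Cfsg.Agent.Lib.Block.SmallDegreeNormal
import Cfsg.Agent.Lib.Block.DegreeAux
import Cfsg.Agent.Lib.Block.LatticeRed

/-!
Faithful characters of degree `(p - 1) / 2`: the special orthogonal representation and the facts
about characters used to identify the quotient by the centre with `PSL(2, p)`.
-/

set_option autoImplicit false

namespace CfsgLib.Block.SmallBlock

open Cfsg CfsgLib CfsgLib.Block Matrix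

universe u v

section modular

variable {G : Type u} [Group G] [Finite G] {k : Type v} [Field k] [IsAlgClosed k] {p : ℕ}
  [hp : Fact p.Prime] [CharP k p] {x : G}

omit [Finite G] [IsAlgClosed k] in
/-- A nontrivial unipotent element in dimension two is a single block. -/
theorem isBlock_two {T : Matrix (Fin 2) (Fin 2) k} (hne : T ≠ 1) (hsq : (T - 1) ^ 2 = 0) : IsBlock T := by
  obtain ⟨w, hw⟩ : ∃ w, (T - 1) *ᵥ w ≠ 0 := by
    by_contra h
    push Not at h
    exact hne (sub_eq_zero.1 (Matrix.ext_iff_mulVec.2 fun v => by rw [h, Matrix.zero_mulVec]))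
  set z := (T - 1) *ᵥ w with hz
  have hz0 : (T - 1) *ᵥ z = 0 := by rw [hz, Matrix.mulVec_mulVec, ← sq, hsq, Matrix.zero_mulVec]
  refine ⟨Matrix.of fun i j => ![w, z] j i, ?_, ?_⟩
  · rw [← Matrix.mulVec_injective_iff_isUnit]
    intro a b hab
    have h : (a 0 - b 0) • w + (a 1 - b 1) • z = 0 := by
      funext i
      have := congrFun hab i
      simp [Matrix.mulVec, dotProduct, Fin.sum_univ_two] at this ⊢
      linear_combination this
    have h0 := congrArg ((T - 1) *ᵥ ·) h
    simp only [Matrix.mulVec_add, Matrix.mulVec_smul, hz0, smul_zero, add_zero, ← hz,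
      Matrix.mulVec_zero] at h0
    have e0 : a 0 - b 0 = 0 := (smul_eq_zero.1 h0).resolve_right hw
    rw [e0, zero_smul, zero_add] at h
    have e1 : a 1 - b 1 = 0 := (smul_eq_zero.1 h).resolve_right hw
    funext i
    fin_cases i
    · exact sub_eq_zero.1 e0
    · exact sub_eq_zero.1 e1
  · ext i j
    have hw' := congrFun (hz : z = (T - 1) *ᵥ w) i
    have hz' := congrFun hz0 i
    fin_cases i <;> fin_cases j <;>
      simp [Matrix.mul_apply, Matrix.mulVec, dotProduct, Fin.sum_univ_two, lower, Matrix.one_apply,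
        Matrix.sub_apply] at hw' hz' ⊢ <;>
      first | linear_combination -hw' | linear_combination hz'

/-- A faithful modular representation of degree at most `(p - 1) / 2` gives a special orthogonal
one whose kernel normalizes `⟨x⟩`. -/
theorem exists_so_three_of_small (hp5 : 5 ≤ p) {n : ℕ} (ρ : G →* Matrix (Fin n) (Fin n) k)
    (hinj : Function.Injective ρ) (hx : orderOf x = p) (hsq : ¬ p ^ 2 ∣ Nat.card G)
    (hn : 2 * n + 1 ≤ p) :
    ∃ (ρ'' : G →* Matrix (Fin 3) (Fin 3) k) (A : Matrix (Fin 3) (Fin 3) k),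
      IsBlock (ρ'' x) ∧ Aᵀ = A ∧ IsUnit A.det ∧ (∀ g, ρ'' g * A * (ρ'' g)ᵀ = A) ∧
      (∀ g, (ρ'' g).det = 1) ∧ ∀ g, ρ'' g = 1 → g * x * g⁻¹ ∈ Subgroup.zpowers x := by
  classical
  have hconj : ∀ g : G, Commute (ρ (g * x * g⁻¹)) (ρ x) → g * x * g⁻¹ ∈ Subgroup.zpowers x := by
    intro g h
    refine DefectOne.mem_zpowers_of_commute hx hsq ⟨1, ?_⟩
      (Subgroup.mem_centralizer_singleton_iff.2 (hinj (by rw [map_mul, map_mul _ x]; exact h.eq)))
    rw [show orderOf (g * x * g⁻¹) = orderOf x from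
      orderOf_injective (MulAut.conj g).toMonoidHom (MulAut.conj g).injective x, hx, pow_one]
  have hx1 : x ≠ 1 := fun h => by rw [h, orderOf_one] at hx; exact hp.out.ne_one hx.symm
  rcases Nat.lt_or_ge p 7 with hp7 | hp7
  · -- `p = 5`
    obtain rfl : p = 5 := by
      rcases (show p = 5 ∨ p = 6 by omega) with h | h
      · exact h
      · exact absurd (h ▸ hp.out) (by norm_num)
    have hne : ρ x ≠ 1 := fun h => hx1 (hinj (h.trans ρ.map_one.symm))
    have hn2 : n = 2 := by
      rcases (show n = 0 ∨ n = 1 ∨ n = 2 by omega) with rfl | rfl | rfl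
      · exact absurd (Subsingleton.elim _ _) hne
      · exfalso
        refine hne (Matrix.ext fun i j => ?_)
        obtain rfl := Subsingleton.elim i 0
        obtain rfl := Subsingleton.elim j 0
        have h1 : (ρ x 0 0) ^ 5 = 1 := by
          have h := congrArg Matrix.det (map_pow ρ x 5)
          rw [show x ^ 5 = 1 by rw [← hx, pow_orderOf_eq_one], map_one, Matrix.det_one, Matrix.det_pow,
            Matrix.det_fin_one (ρ x)] at h
          exact h.symm
        have h2 : (ρ x 0 0 - 1) ^ 5 = 0 := by rw [sub_pow_char, h1, one_pow, sub_self]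
        rw [sub_eq_zero.1 ((pow_eq_zero_iff (by norm_num)).1 h2), Matrix.one_apply_eq]
      · rfl
    subst hn2
    have h2 : (2 : k) ≠ 0 := two_ne_zero' (p := 5) (by norm_num)
    have hnil : (ρ x - 1) ^ 2 = 0 := by
      have h5 : (ρ x - 1) ^ 5 = 0 := by
        rw [sub_pow_char_of_commute (p := 5) (Commute.one_right _), ← map_pow, ← hx, pow_orderOf_eq_one,
          map_one, one_pow, sub_self]
      have h := Matrix.aeval_self_charpoly (ρ x - 1)
      rwa [sub_eq_zero.1 ((Matrix.isNilpotent_charpoly_sub_pow_of_isNilpotent ⟨5, h5⟩).eq_zero),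
        Polynomial.aeval_X_pow, Fintype.card_fin] at h
    obtain ⟨σ, T, hσx, hσ⟩ := exists_conj ρ (isBlock_two hne hnil)
      (⟨1, isUnit_one, by rw [mul_one, one_mul]⟩ : IsBlock (1 + lower k 2))
    obtain ⟨ρ₃, hρ₃, hinv, hdet, hker⟩ := exists_sym_two σ
    refine ⟨ρ₃, symForm k, ?_, ?_, ?_, hinv, hdet, fun g hg => hconj g ?_⟩
    · rw [hρ₃, hσx]
      simpa [lower, Matrix.det_fin_two] using (symTwo_lower (k := k)).resolve_right h2
    · ext i j; fin_cases i <;> fin_cases j <;> simp [symForm]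
    · simp [Matrix.det_fin_three, symForm, isUnit_iff_ne_zero, h2]
    · obtain ⟨a, ha⟩ := hker g hg h2
      have hg' : ρ g = a • 1 := by
        calc ρ g = (T : Matrix (Fin 2) (Fin 2) k) * ((T⁻¹ : (Matrix (Fin 2) (Fin 2) k)ˣ) * ρ g * T) *
              (T⁻¹ : (Matrix (Fin 2) (Fin 2) k)ˣ) := by
              simp only [mul_assoc, Units.mul_inv, mul_one, Units.mul_inv_cancel_left]
          _ = a • 1 := by rw [← hσ, ha, Matrix.mul_smul, mul_one, Matrix.smul_mul, Units.mul_inv]
      have hcomm : ρ (g * x * g⁻¹) = ρ x := by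
        have h1 : ρ g * ρ g⁻¹ = 1 := by rw [← map_mul, mul_inv_cancel, map_one]
        rw [map_mul, map_mul, show ρ g * ρ x = ρ x * ρ g by rw [hg']; simp, mul_assoc, h1, mul_one]
      rw [hcomm]
  · let e := (Matrix.toLinAlgEquiv' : Matrix (Fin n) (Fin n) k ≃ₐ[k] _)
    let σ : G →* Module.End k (Fin n → k) := e.toMulEquiv.toMonoidHom.comp ρ
    obtain ⟨ρ₃, hρ₃, hker⟩ := exists_adjoint_three hp5 σ (e.injective.comp hinj) hx hsq
      (by rw [Module.finrank_fin_fun]; exact hn)
    obtain ⟨ρ'', A, hb, hA, hAd, hinv, hdet, hker'⟩ := exists_so_three hp7 hx hsq ρ₃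
      ⟨1, isUnit_one, by rw [hρ₃, mul_one, one_mul]⟩
    refine ⟨ρ'', A, hb, hA, hAd, hinv, hdet, fun g hg => hconj g ?_⟩
    have h := hker g (hker' g hg)
    have h' : Commute (σ (g * x * g⁻¹)) (σ x) := by
      have h1 : σ g * σ g⁻¹ = 1 := by rw [← map_mul, mul_inv_cancel, map_one]
      have h2 : σ g * tau σ x * σ g⁻¹ = σ (g * x * g⁻¹) - 1 := by
        rw [tau, mul_sub, sub_mul, mul_one, h1, map_mul, map_mul]
      rw [h2] at h
      simpa [tau] using (h.add_left (Commute.one_left _)).add_right (Commute.one_right _)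
    exact e.injective (by simpa [σ, map_mul] using h'.eq)

/-- Reduction of a faithful character gives a faithful modular representation. -/
theorem exists_faithful_red {M : Ideal AlgInt} [M.IsPrime] (hM : IsPModular p M)
    (hx : orderOf x = p) (hsq : ¬ p ^ 2 ∣ Nat.card G)
    (hnn : ∀ H : Subgroup G, H.Normal → Nat.card H ≠ p) {χ : G → ℂ} (hχ : IsCharacter G χ)
    (hfaith : ∀ g, χ g = χ 1 → g = 1) :
    ∃ ρ : G →* Matrix (Fin (charDegree χ)) (Fin (charDegree χ)) (kres M), Function.Injective ρ := by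
  obtain ⟨X, hX⟩ := exists_local_rep hM hχ
  let ρ := ((red M).mapMatrix.toMonoidHom).comp X
  refine ⟨ρ, ?_⟩
  let H := ρ.toHomUnits.ker
  have hreg : ∀ g ∈ H, ¬ p ∣ orderOf g → g = 1 := fun g hg hd => hfaith g (by
    have h := map_eq_one_of_red hM X hd (congrArg Units.val (MonoidHom.mem_ker.1 hg))
    rw [hX g, hX 1, h, map_one])
  have hbot : H = ⊥ := by
    have hpg : IsPGroup p H := by
      intro g
      refine ⟨(orderOf (g : G)).factorization p, Subtype.ext ?_⟩
      rw [Subgroup.coe_pow, Subgroup.coe_one]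
      refine hreg _ (pow_mem g.2 _) ?_
      rw [orderOf_pow' _ (pow_ne_zero _ hp.out.ne_zero), Nat.gcd_eq_right (Nat.ordProj_dvd _ p)]
      exact Nat.not_dvd_ordCompl hp.out (orderOf_pos (g : G)).ne'
    obtain ⟨i, hi⟩ := IsPGroup.iff_card.1 hpg
    rcases Nat.lt_or_ge i 2 with h | h
    · rcases (show i = 0 ∨ i = 1 by omega) with rfl | rfl
      · exact Subgroup.eq_bot_of_card_eq _ (by rw [hi, pow_zero])
      · exact absurd (by rw [hi, pow_one]) (hnn H inferInstance)
    · exact absurd ((pow_dvd_pow p h).trans (hi ▸ Subgroup.card_subgroup_dvd_card H)) hsq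
  intro a b hab
  exact (MonoidHom.ker_eq_bot_iff _).1 hbot (Units.ext hab)

end modular

section characters

variable {G : Type u} [Group G] [Finite G] {p : ℕ} [hp : Fact p.Prime] {x : G}

/-- A faithful character of degree `(p - 1) / 2` is irreducible unless `⟨x⟩` is normal. -/
theorem isIrrCharacter_or_normal [Fintype G] (hx : orderOf x = p) (hsq : ¬ p ^ 2 ∣ Nat.card G)
    {χ : G → ℂ} (hχ : IsCharacter G χ) (hn : 2 * charDegree χ + 1 ≤ p)
    (hfaith : ∀ g, χ g = χ 1 → g = 1) :
    IsIrrCharacter G χ ∨ (Subgroup.zpowers x).Normal := by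
  classical
  have := Fintype.ofFinite (IrrCharacter G)
  have hnat : ∀ η : IrrCharacter G, ∃ k : ℕ, classInner χ (η : G → ℂ) = k := fun η =>
    CfsgLib.Char.classInner_isCharacter_nat hχ (CfsgLib.Char.irr_isCharacter η.2)
  choose k hk using hnat
  have hexp : ∀ g, χ g = ∑ η, (k η : ℂ) * (η : G → ℂ) g := fun g => by
    rw [CfsgLib.Char.classFunction_apply_eq_sum (CfsgLib.Char.isCharacter_isClassFunction hχ) g]
    simp only [hk]
  have hsum : charDegree χ = ∑ θ, k θ * charDegree (θ : G → ℂ) := by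
    have h := hexp 1
    simp only [charDegree_spec hχ, charDegree_spec (CfsgLib.Char.irr_isCharacter (Subtype.property _))]
      at h
    exact_mod_cast h
  have hle : ∀ η : IrrCharacter G, k η ≠ 0 → charDegree (η : G → ℂ) ≤ charDegree χ := fun η hη => by
    rw [hsum]
    exact (Nat.le_mul_of_pos_left _ (Nat.pos_of_ne_zero hη)).trans
      (Finset.single_le_sum (f := fun θ : IrrCharacter G => k θ * charDegree (θ : G → ℂ))
        (fun θ _ => Nat.zero_le _) (Finset.mem_univ η))
  by_cases hbig : ∃ η : IrrCharacter G, k η ≠ 0 ∧ charDegree χ ≤ charDegree (η : G → ℂ)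
  · obtain ⟨η, hη, hdη⟩ := hbig
    left
    have hpos : ∀ θ : IrrCharacter G, 0 < charDegree (θ : G → ℂ) := fun θ => by
      refine Nat.pos_of_ne_zero fun h0 => CfsgLib.Char.irr_apply_one_ne_zero θ.2 ?_
      rw [charDegree_spec (CfsgLib.Char.irr_isCharacter θ.2), h0, Nat.cast_zero]
    have hrest : ∀ θ, θ ≠ η → k θ = 0 := fun θ hθ => by
      by_contra h0
      rw [← Finset.add_sum_erase _ _ (Finset.mem_univ η)] at hsum
      have h1 := Finset.single_le_sum (f := fun θ : IrrCharacter G => k θ * charDegree (θ : G → ℂ))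
        (fun θ _ => Nat.zero_le _) (Finset.mem_erase.2 ⟨hθ, Finset.mem_univ θ⟩)
      have h2 := Nat.mul_pos (Nat.pos_of_ne_zero h0) (hpos θ)
      have h3 := Nat.le_mul_of_pos_left (charDegree (η : G → ℂ)) (Nat.pos_of_ne_zero hη)
      omega
    have hk1 : k η = 1 := by
      rw [Finset.sum_eq_single η (fun θ _ hθ => by rw [hrest θ hθ, zero_mul])
        (fun h => absurd (Finset.mem_univ η) h)] at hsum
      have h3 : k η * charDegree (η : G → ℂ) ≤ 1 * charDegree (η : G → ℂ) := by omega
      have := Nat.le_of_mul_le_mul_right h3 (hpos η)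
      omega
    have : χ = (η : G → ℂ) := funext fun g => by
      rw [hexp, Finset.sum_eq_single η (fun θ _ hθ => by rw [hrest θ hθ, Nat.cast_zero, zero_mul])
        (fun h => absurd (Finset.mem_univ η) h), hk1, Nat.cast_one, one_mul]
    exact this ▸ η.2
  · right
    push Not at hbig
    refine DegreeBound.zpowers_normal_of_conj fun g => ?_
    set y := g * x * g⁻¹ with hy
    have hyo : orderOf y = p := by
      rw [hy, show orderOf (g * x * g⁻¹) = orderOf x from
        orderOf_injective (MulAut.conj g).toMonoidHom (MulAut.conj g).injective x, hx]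
    refine DefectOne.mem_zpowers_of_commute hx hsq ⟨1, by rw [hyo, pow_one]⟩
      (Subgroup.mem_centralizer_singleton_iff.2 (mul_inv_eq_one.1 (hfaith _ ?_)))
    rw [hexp, hexp]
    refine Finset.sum_congr rfl fun η _ => ?_
    by_cases h0 : k η = 0
    · simp [h0]
    congr 1
    have hdeg : 2 * charDegree (η : G → ℂ) + 3 ≤ p := by
      have := hbig η h0
      omega
    obtain ⟨l, rep, hrep, hηe⟩ := η.2
    set K : Subgroup G := MonoidHom.ker rep with hK
    have : K.Normal := MonoidHom.normal_ker rep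
    have hmemK : ∀ g, g ∈ K ↔ (η : G → ℂ) g = (η : G → ℂ) 1 := fun g => by
      rw [← hηe]; exact CfsgLib.Char.mem_ker_iff_char rep g
    rw [← hmemK]
    by_cases hxK : x ∈ K
    · have hyK : y ∈ K := Subgroup.Normal.conj_mem ‹K.Normal› x hxK g
      exact mul_mem (mul_mem hyK hxK) (inv_mem (mul_mem hxK hyK))
    obtain ⟨η', hη', hcomp⟩ := CfsgLib.Char.isIrr_quotient_lift K η.2 fun n hn => (hmemK n).1 hn
    have hqx : orderOf (QuotientGroup.mk' K x) = p := by
      have h := orderOf_map_dvd (QuotientGroup.mk' K) x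
      rw [hx] at h
      rcases (Nat.dvd_prime hp.out).1 h with h1 | h1
      · exact absurd ((QuotientGroup.eq_one_iff x).1 (orderOf_eq_one_iff.1 h1)) hxK
      · exact h1
    have hval : ∀ g, (η : G → ℂ) g = η' (QuotientGroup.mk' K g) := fun g => congrFun hcomp g
    have hN := exists_normal_order_of_small_degree hqx
      (fun h => hsq (h.trans (Subgroup.card_quotient_dvd_card K)))
      (CfsgLib.Char.irr_isCharacter hη')
      (by
        have : charDegree η' = charDegree (η : G → ℂ) := by simp only [charDegree, hval 1, map_one]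
        omega)
      (fun q hq => by
        obtain ⟨g, rfl⟩ := QuotientGroup.mk'_surjective K q
        refine (QuotientGroup.eq_one_iff g).2 ((hmemK g).2 ?_)
        rw [hval g, hval 1, map_one]
        exact hq)
    have hyq : QuotientGroup.mk' K y ∈ Subgroup.zpowers (QuotientGroup.mk' K x) := by
      rw [hy, map_mul, map_mul, map_inv]
      exact hN.conj_mem _ (Subgroup.mem_zpowers _) _
    obtain ⟨j, hj⟩ := Subgroup.mem_zpowers_iff.1 hyq
    refine (QuotientGroup.eq_one_iff _).1 ?_
    change QuotientGroup.mk' K (y * x * (x * y)⁻¹) = 1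
    clear_value y
    rw [map_mul, map_mul, map_inv, map_mul, ← hj, (Commute.zpow_self _ j).eq, mul_inv_cancel]

/-- A faithful character of degree at most `(p - 1) / 2` is not constant on the generators. -/
theorem exists_not_conj_pow (hx : orderOf x = p) {χ : G → ℂ} (hχ : IsCharacter G χ)
    (hn : 2 * charDegree χ + 1 ≤ p) (hfaith : ∀ g, χ g = χ 1 → g = 1) :
    ∃ i : ℕ, ¬ p ∣ i ∧ ∀ g : G, g * x * g⁻¹ ≠ x ^ i := by
  by_contra hall
  push Not at hall
  have := Fintype.ofFinite G
  set H := Subgroup.zpowers x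
  have := Fintype.ofFinite H
  have hval : ∀ h : H, h ≠ 1 → χ (h : G) = χ x := by
    rintro ⟨h, hh⟩ hne
    obtain ⟨i, rfl⟩ := mem_powers_iff_mem_zpowers.2 hh
    have hi : ¬ p ∣ i := fun hd => hne (Subtype.ext (by
      exact orderOf_dvd_iff_pow_eq_one.1 (hx.symm ▸ hd)))
    obtain ⟨g, hg⟩ := hall i hi
    exact (congrArg χ hg).symm.trans (CfsgLib.Char.isCharacter_isClassFunction hχ x g)
  obtain ⟨a, ha⟩ := CfsgLib.Char.classInner_isCharacter_nat
    (CfsgLib.Char.isCharacter_restrict hχ H) (CfsgLib.Char.isCharacter_one (G := H))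
  have hcard : Nat.card H = p := by rw [Nat.card_zpowers, hx]
  classical
  rw [classInner, hcard] at ha
  have hsum : ∑ g : H, χ (g : G) * (starRingEnd ℂ) 1 = (charDegree χ : ℂ) + ((p : ℂ) - 1) * χ x := by
    simp only [map_one, mul_one]
    rw [← Finset.add_sum_erase _ _ (Finset.mem_univ (1 : H)), Subgroup.coe_one, charDegree_spec hχ,
      Finset.sum_congr rfl fun h hh => hval h (Finset.mem_erase.1 hh).1, Finset.sum_const, nsmul_eq_mul,
      Finset.card_erase_of_mem (Finset.mem_univ _), Finset.card_univ, ← Nat.card_eq_fintype_card, hcard,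
      Nat.cast_sub hp.out.one_lt.le, Nat.cast_one]
  rw [hsum] at ha
  have hp0 : (p : ℂ) ≠ 0 := Nat.cast_ne_zero.2 hp.out.ne_zero
  have hp1 : (p : ℂ) - 1 ≠ 0 := by
    rw [sub_ne_zero]; exact_mod_cast hp.out.ne_one
  have heq : (charDegree χ : ℂ) + ((p : ℂ) - 1) * χ x = p * a := by
    rw [← ha, ← mul_assoc, mul_inv_cancel₀ hp0, one_mul]
  set q : ℚ := ((p : ℚ) * a - charDegree χ) / ((p : ℚ) - 1)
  have hq : χ x = (q : ℂ) := by
    simp only [q]; push_cast
    rw [eq_div_iff hp1]
    linear_combination heq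
  obtain ⟨c, hc⟩ := CfsgLib.Char.exists_int_of_isIntegral_rat (q := q) (by
    rw [← hq]; obtain ⟨m, ρ, rfl⟩ := hχ; exact CfsgLib.Char.char_isIntegral ρ x)
  rw [hc, Rat.cast_intCast] at hq
  have hi : ((charDegree χ : ℤ)) + ((p : ℤ) - 1) * c = (p : ℤ) * a := by
    rw [hq] at heq; exact_mod_cast heq
  have hnorm := norm_char_le_degree hχ x
  rw [hq, Complex.norm_intCast] at hnorm
  have habs : |c| ≤ (charDegree χ : ℤ) := by exact_mod_cast hnorm
  have hdvd : (p : ℤ) ∣ (charDegree χ : ℤ) - c := ⟨(a : ℤ) - c, by linear_combination hi⟩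
  have hb := abs_le.1 habs
  have hzero := Int.eq_zero_of_abs_lt_dvd hdvd (abs_lt.2 ⟨by omega, by omega⟩)
  have hx1 : x = 1 := hfaith x (by
    rw [hq, charDegree_spec hχ, show c = (charDegree χ : ℤ) by omega]; push_cast; rfl)
  rw [hx1, orderOf_one] at hx
  exact hp.out.ne_one hx.symm

end characters

end CfsgLib.Block.SmallBlock
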