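import Cfsg.Agent.Lib.Block.SmallBlock

/-!
The three dimensional constituent of the tensor square of a single Jordan block, and the invariant
form of a three dimensional single block representation.
-/

set_option autoImplicit false

namespace CfsgLib.Block.SmallBlock

open Matrix

universe u v

variable {k : Type v} [Field k]

/-- Upper shift. -/
def upper (k : Type v) [Field k] (d : ℕ) : Matrix (Fin d) (Fin d) k :=
  Matrix.of fun i j => if (j : ℕ) = i + 1 then 1 else 0

/-- Lower shift. -/
def lower (k : Type v) [Field k] (d : ℕ) : Matrix (Fin d) (Fin d) k :=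
  Matrix.of fun i j => if (i : ℕ) = j + 1 then 1 else 0

/-- A matrix is one unipotent Jordan block. -/
def IsBlock {d : ℕ} (X : Matrix (Fin d) (Fin d) k) : Prop :=
  ∃ R : Matrix (Fin d) (Fin d) k, IsUnit R ∧ X * R = R * (1 + lower k d)

/-- Entries extended by zero. -/
def entry {d : ℕ} (A : Matrix (Fin d) (Fin d) k) (a b : ℕ) : k :=
  if h : a < d ∧ b < d then A ⟨a, h.1⟩ ⟨b, h.2⟩ else 0

theorem entry_apply {d : ℕ} (A : Matrix (Fin d) (Fin d) k) (a b : Fin d) :
    entry A a b = A a b := by
  rw [entry, dif_pos ⟨a.2, b.2⟩]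

theorem upper_mul {d : ℕ} (A : Matrix (Fin d) (Fin d) k) (a b : Fin d) :
    (upper k d * A) a b = entry A (a + 1) b := by
  rw [Matrix.mul_apply]
  by_cases h : (a : ℕ) + 1 < d
  · rw [Finset.sum_eq_single ⟨a + 1, h⟩, entry, dif_pos ⟨h, b.2⟩]
    · simp [upper]
    · intro j _ hj
      simp only [upper, Matrix.of_apply]
      rw [if_neg fun h' => hj (Fin.ext h'), zero_mul]
    · intro h'; exact absurd (Finset.mem_univ _) h'
  · rw [entry, dif_neg (fun h' => h h'.1), Finset.sum_eq_zero]
    intro j _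
    have := j.2
    simp [upper, show (j : ℕ) ≠ a + 1 by omega]

theorem mul_upper_transpose {d : ℕ} (A : Matrix (Fin d) (Fin d) k) (a b : Fin d) :
    (A * (upper k d)ᵀ) a b = entry A a (b + 1) := by
  rw [← Matrix.transpose_apply (A * (upper k d)ᵀ), Matrix.transpose_mul, Matrix.transpose_transpose,
    upper_mul]
  simp only [entry, Matrix.transpose_apply]
  by_cases h : (b : ℕ) + 1 < d
  · rw [dif_pos ⟨h, a.2⟩, dif_pos ⟨a.2, h⟩]
  · rw [dif_neg (fun h' => h h'.1), dif_neg (fun h' => h h'.2)]

/-- The derivation `A ↦ N A + A Nᵀ`. -/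
def del (k : Type v) [Field k] (d : ℕ) :
    Module.End k (Matrix (Fin d) (Fin d) k) :=
  LinearMap.mulLeft k (upper k d) + LinearMap.mulRight k (upper k d)ᵀ

theorem del_apply {d : ℕ} (A : Matrix (Fin d) (Fin d) k) (a b : Fin d) :
    del k d A a b = entry A (a + 1) b + entry A a (b + 1) := by
  simp only [del, LinearMap.add_apply, LinearMap.mulLeft_apply, LinearMap.mulRight_apply,
    Matrix.add_apply, upper_mul, mul_upper_transpose]

/-- Vanishing above a level passes to the derivative one level lower. -/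
theorem entry_del_pow {d L : ℕ} (A : Matrix (Fin d) (Fin d) k)
    (hA : ∀ a b, L ≤ a + b → entry A a b = 0) :
    ∀ (m a b : ℕ), L ≤ a + b + m → entry ((del k d ^ m) A) a b = 0 := by
  intro m
  induction m with
  | zero => simpa using hA
  | succ m ih =>
    intro a b h
    rw [pow_succ', Module.End.mul_apply, entry]
    split_ifs with hab
    · rw [del_apply, ih _ _ (by simp only; omega), ih _ _ (by simp only; omega), add_zero]
    · rfl

theorem del_pow_eq_zero {d L : ℕ} (A : Matrix (Fin d) (Fin d) k)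
    (hA : ∀ a b, L ≤ a + b → entry A a b = 0) : (del k d ^ L) A = 0 := by
  ext a b
  rw [← entry_apply ((del k d ^ L) A) a b, entry_del_pow A hA L a b (by omega)]
  rfl

theorem entry_level {d : ℕ} (A : Matrix (Fin d) (Fin d) k) (a b : ℕ) (h : 2 * d - 1 ≤ a + b) :
    entry A a b = 0 := by
  rw [entry, dif_neg]
  omega

theorem upper_pow_eq_zero (k : Type v) [Field k] (d : ℕ) : upper k d ^ d = 0 := by
  have key : ∀ (m : ℕ) (a b : ℕ), d ≤ a + m → entry (upper k d ^ m) a b = 0 := fun m => by
    induction m with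
    | zero => intro a b h; rw [entry, dif_neg]; omega
    | succ m ih =>
      intro a b h
      rw [pow_succ', entry]
      split_ifs with hab
      · rw [upper_mul, ih _ _ (by simp only; omega)]
      · rfl
  ext a b
  rw [← entry_apply (upper k d ^ d) a b, key d a b (by omega)]
  rfl

/-- The truncated exponential of the shift. -/
def expo (k : Type v) [Field k] (p d : ℕ) : Matrix (Fin d) (Fin d) k :=
  ∑ i ∈ Finset.range p, ((i.factorial : k))⁻¹ • upper k d ^ i

/-- The series `(exp Δ - 1) / Δ`. -/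
def unitPart (k : Type v) [Field k] (p d : ℕ) : Module.End k (Matrix (Fin d) (Fin d) k) :=
  ∑ m ∈ Finset.range (p - 1), (((m + 1).factorial : k))⁻¹ • del k d ^ m

variable {p : ℕ} [hp : Fact p.Prime] [CharP k p] {d : ℕ}

theorem factorial_ne_zero {i : ℕ} (hi : i < p) : (i.factorial : k) ≠ 0 := fun h => by
  have := (hp.out.dvd_factorial).1 ((CharP.cast_eq_zero_iff k p _).1 h)
  omega

theorem conj_exp (hd : 2 * d ≤ p + 1) (A : Matrix (Fin d) (Fin d) k) :
    expo k p d * A * (expo k p d)ᵀ = A + del k d (unitPart k p d A) := by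
  classical
  set L := LinearMap.mulLeft k (upper k d)
  set R := LinearMap.mulRight k (upper k d)ᵀ
  have hLR : Commute L R := LinearMap.commute_mulLeft_right _ _
  have hz : ∀ m, d ≤ m → upper k d ^ m = 0 := fun m hm => by
    rw [← Nat.add_sub_of_le hm, pow_add, upper_pow_eq_zero, zero_mul]
  set T : ℕ → ℕ → Matrix (Fin d) (Fin d) k := fun i l =>
    ((i.factorial : k)⁻¹ * (l.factorial : k)⁻¹) • (upper k d ^ i * A * ((upper k d)ᵀ) ^ l)
  have hE : expo k p d * A * (expo k p d)ᵀ = ∑ i ∈ Finset.range p, ∑ l ∈ Finset.range p, T i l := by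
    simp only [expo, Matrix.transpose_sum, Matrix.transpose_smul, Matrix.transpose_pow,
      Finset.sum_mul, Finset.mul_sum, Matrix.smul_mul, Matrix.mul_smul, smul_smul, T]
    rw [Finset.sum_comm]
    exact Finset.sum_congr rfl fun i _ => Finset.sum_congr rfl fun l _ => by rw [mul_comm]
  have hm : ∀ m, m < p → ∑ i ∈ Finset.range (m + 1), T i (m - i) =
      ((m.factorial : k))⁻¹ • (del k d ^ m) A := fun m hm => by
    rw [show del k d = L + R from rfl, hLR.add_pow, LinearMap.sum_apply, Finset.smul_sum]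
    refine Finset.sum_congr rfl fun i hi => ?_
    have hi' := Nat.lt_succ_iff.1 (Finset.mem_range.1 hi)
    rw [← Nat.cast_comm, ← nsmul_eq_mul, LinearMap.smul_apply, Module.End.mul_apply,
      LinearMap.pow_mulLeft, LinearMap.pow_mulRight, LinearMap.mulLeft_apply,
      LinearMap.mulRight_apply, ← Matrix.mul_assoc, ← Nat.cast_smul_eq_nsmul k, smul_smul]
    refine congrArg (· • _) ?_
    have h := Nat.choose_mul_factorial_mul_factorial hi'
    have h' : (m.choose i : k) * (i.factorial : k) * ((m - i).factorial : k) = (m.factorial : k) := by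
      exact_mod_cast congrArg (Nat.cast (R := k)) h
    have h1 := factorial_ne_zero (k := k) hm
    have h2 := factorial_ne_zero (k := k) (lt_of_le_of_lt hi' hm)
    have h3 := factorial_ne_zero (k := k) (lt_of_le_of_lt (Nat.sub_le m i) hm)
    field_simp
    linear_combination -h'
  have hsplit : ∑ i ∈ Finset.range p, ∑ l ∈ Finset.range p, T i l =
      ∑ m ∈ Finset.range p, ∑ i ∈ Finset.range (m + 1), T i (m - i) := by
    rw [← Finset.sum_product', ← Finset.sum_filter_add_sum_filter_not _ (fun q : ℕ × ℕ => q.1 + q.2 < p),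
      Finset.sum_eq_zero (s := Finset.filter (fun q : ℕ × ℕ => ¬ q.1 + q.2 < p) _) fun q hq => ?_,
      add_zero, Finset.sum_sigma']
    · refine Finset.sum_nbij' (fun q => ⟨q.1 + q.2, q.1⟩) (fun s => (s.2, s.1 - s.2)) ?_ ?_ ?_ ?_ ?_
      · intro q hq; simp at hq ⊢; omega
      · intro s hs; simp at hs ⊢; omega
      · intro q _; simp
      · rintro ⟨m, i⟩ hs; simp at hs ⊢; omega
      · intro q _; simp
    · have h2 := (Finset.mem_filter.1 hq).2
      simp only [T]
      rcases le_or_gt d q.1 with h | h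
      · rw [hz _ h]; simp
      · rw [← Matrix.transpose_pow, hz q.2 (by omega)]; simp
  rw [hE, hsplit, Finset.sum_congr rfl fun m hm' => hm m (Finset.mem_range.1 hm')]
  obtain ⟨q, hq⟩ : ∃ q, p = q + 1 := ⟨p - 1, by have := hp.out.pos; omega⟩
  rw [unitPart, hq, Finset.sum_range_succ', Nat.add_sub_cancel, add_comm, Nat.factorial_zero,
    Nat.cast_one, inv_one, one_smul, pow_zero, Module.End.one_apply, LinearMap.sum_apply, map_sum]
  refine congrArg (A + ·) (Finset.sum_congr rfl fun m _ => ?_)
  rw [LinearMap.smul_apply, map_smul, ← Module.End.mul_apply, ← pow_succ']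

theorem unitPart_commute : Commute (unitPart k p d) (del k d) :=
  Commute.sum_left _ _ _ fun m _ => ((Commute.refl (del k d)).pow_left m).smul_left _

theorem unitPart_of_del_eq_zero {v : Matrix (Fin d) (Fin d) k} (hv : del k d v = 0) :
    unitPart k p d v = v := by
  obtain ⟨q, hq⟩ : ∃ q, p - 1 = q + 1 := ⟨p - 2, by have := hp.out.two_le; omega⟩
  rw [unitPart, hq, Finset.sum_range_succ', LinearMap.add_apply, LinearMap.sum_apply,
    Finset.sum_eq_zero fun m _ => ?_]
  · simp
  · rw [LinearMap.smul_apply, pow_succ, Module.End.mul_apply, hv, map_zero, smul_zero]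

theorem isUnit_unitPart : IsUnit (unitPart k p d) := by
  obtain ⟨q, hq⟩ : ∃ q, p - 1 = q + 1 := ⟨p - 2, by have := hp.out.two_le; omega⟩
  have hnil : IsNilpotent (del k d) :=
    ⟨2 * d - 1, LinearMap.ext fun A => del_pow_eq_zero A (entry_level A)⟩
  rw [unitPart, hq, Finset.sum_range_succ']
  simp only [zero_add, Nat.factorial_one, Nat.cast_one, inv_one, pow_zero, one_smul]
  rw [add_comm]
  refine IsNilpotent.isUnit_one_add ?_
  simp only [pow_succ, ← smul_mul_assoc, ← Finset.sum_mul]
  exact Commute.isNilpotent_mul_left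
    (Commute.sum_left _ _ _ fun m _ => ((Commute.refl (del k d)).pow_left m).smul_left _) hnil

/-- The exponential is one Jordan block. -/
theorem isBlock_expo (hd : 2 * d ≤ p + 1) : IsBlock (expo k p d) := by
  classical
  rcases Nat.eq_zero_or_pos d with hd0 | hd0
  · subst hd0
    exact ⟨1, isUnit_one, Subsingleton.elim _ _⟩
  set N := upper k d
  obtain ⟨q, hq⟩ : ∃ q, p = q + 1 := ⟨p - 1, by have := hp.out.pos; omega⟩
  set c := ∑ i ∈ Finset.range q, (((i + 1).factorial : k))⁻¹ • N ^ i
  have hX : expo k p d = 1 + N * c := by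
    rw [expo, hq, Finset.sum_range_succ', Nat.factorial_zero, Nat.cast_one, inv_one, one_smul,
      pow_zero, add_comm, Finset.mul_sum]
    refine congrArg (1 + ·) (Finset.sum_congr rfl fun i _ => ?_)
    rw [mul_smul_comm, ← pow_succ']
  have hNc : Commute N c :=
    Commute.sum_right _ _ _ fun i _ => ((Commute.refl N).pow_right i).smul_right _
  have hcd : N ^ (d - 1) * c = N ^ (d - 1) := by
    rcases Nat.eq_zero_or_pos q with h0 | h0
    · have := hp.out.two_le; omega
    obtain ⟨q', rfl⟩ : ∃ q', q = q' + 1 := ⟨q - 1, by omega⟩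
    simp only [c, Finset.mul_sum, mul_smul_comm, ← pow_add]
    rw [Finset.sum_range_succ', Finset.sum_eq_zero fun i _ => ?_]
    · simp
    · rw [show d - 1 + (i + 1) = d + i by omega, pow_add, upper_pow_eq_zero, zero_mul, smul_zero]
  have hpow : ∀ i, (N * c) ^ i = N ^ i * c ^ i := fun i => hNc.mul_pow i
  have hd' : (N * c) ^ d = 0 := by rw [hpow, upper_pow_eq_zero, zero_mul]
  have htop : (N * c) ^ (d - 1) = N ^ (d - 1) := by
    rw [hpow]
    generalize d - 1 = l at hcd ⊢
    induction l with
    | zero => simp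
    | succ l _ =>
      have : ∀ i, N ^ (l + 1) * c ^ i = N ^ (l + 1) := fun i => by
        induction i with
        | zero => simp
        | succ i ih => rw [pow_succ c i, ← mul_assoc, ih, hcd]
      exact this _
  set last : Fin d := ⟨d - 1, by omega⟩
  set e : Fin d → k := Pi.single last 1
  have hne : ((N * c) ^ (d - 1)).mulVec e ⟨0, hd0⟩ ≠ 0 := by
    rw [htop, Matrix.mulVec_single_one]
    have key : ∀ (m a : ℕ), a + m = d - 1 → entry (N ^ m) a (d - 1) = 1 := fun m => by
      induction m with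
      | zero =>
        intro a ha
        rw [entry, dif_pos ⟨by omega, by omega⟩, pow_zero, Matrix.one_apply, if_pos (Fin.ext (by simpa using ha))]
      | succ m ih =>
        intro a ha
        rw [entry, dif_pos ⟨by omega, by omega⟩, pow_succ', upper_mul]
        exact ih (a + 1) (by omega)
    have h := key (d - 1) 0 (by omega)
    rw [entry, dif_pos ⟨hd0, by omega⟩] at h
    change (N ^ (d - 1)) ⟨0, hd0⟩ last ≠ 0
    rw [h]; exact one_ne_zero
  refine ⟨Matrix.of fun i j : Fin d => ((N * c) ^ (j : ℕ)).mulVec e i, ?_, ?_⟩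
  · rw [← Matrix.linearIndependent_cols_iff_isUnit, Fintype.linearIndependent_iff]
    intro g hg
    by_contra hne'
    push Not at hne'
    obtain ⟨i₀, hi₀, hmin⟩ := Finset.exists_min_image (Finset.univ.filter fun i => g i ≠ 0) id
      (by obtain ⟨i, hi⟩ := hne'; exact ⟨i, by simp [hi]⟩)
    have h1 : ∑ i, g i • ((N * c) ^ (d - 1 - (i₀ : ℕ) + (i : ℕ))).mulVec e = 0 := by
      have h := congrArg (((N * c) ^ (d - 1 - (i₀ : ℕ))).mulVec) hg
      rw [Matrix.mulVec_sum, Matrix.mulVec_zero] at h
      rw [← h]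
      refine Finset.sum_congr rfl fun i _ => ?_
      rw [Matrix.mulVec_smul, pow_add, ← Matrix.mulVec_mulVec]
      rfl
    rw [Finset.sum_eq_single i₀ ?_ (fun h => absurd (Finset.mem_univ i₀) h)] at h1
    · have h2 := congrFun h1 ⟨0, hd0⟩
      have := i₀.2
      rw [show d - 1 - (i₀ : ℕ) + i₀ = d - 1 by omega, Pi.smul_apply, smul_eq_mul,
        Pi.zero_apply, mul_eq_zero] at h2
      exact h2.elim (Finset.mem_filter.1 hi₀).2 hne
    · intro i _ hi
      by_cases hgi : g i = 0
      · rw [hgi, zero_smul]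
      · have hlt : (i₀ : ℕ) < i := lt_of_le_of_ne (hmin i (by simp [hgi])) fun h => hi (Fin.ext h.symm)
        have := i₀.2
        rw [show d - 1 - (i₀ : ℕ) + i = d + ((i : ℕ) - i₀ - 1) by omega, pow_add, hd', zero_mul,
          Matrix.zero_mulVec, smul_zero]
  · ext i j
    rw [hX, add_mul, one_mul, mul_add, mul_one, Matrix.add_apply, Matrix.add_apply]
    refine congrArg (_ + ·) ?_
    have h1 : (N * c * Matrix.of fun i j : Fin d => ((N * c) ^ (j : ℕ)).mulVec e i) i j =
        ((N * c) ^ ((j : ℕ) + 1)).mulVec e i := by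
      rw [pow_succ', ← Matrix.mulVec_mulVec]
      rfl
    rw [h1, Matrix.mul_apply]
    by_cases hj : (j : ℕ) + 1 < d
    · rw [Finset.sum_eq_single ⟨j + 1, hj⟩]
      · simp [lower]
      · intro l _ hl
        simp only [lower, Matrix.of_apply]
        rw [if_neg fun h' => hl (Fin.ext h'), mul_zero]
      · intro h; exact absurd (Finset.mem_univ _) h
    · rw [show (j : ℕ) + 1 = d by have := j.2; omega, hd', Matrix.zero_mulVec, Finset.sum_eq_zero]
      · rfl
      · intro l _
        have := l.2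
        simp [lower, show (l : ℕ) ≠ j + 1 by omega]

omit [CharP k p] hp in
/-- The action on bilinear forms. -/
def formAction {G : Type u} [Group G] (ρ : G →* Matrix (Fin d) (Fin d) k) :
    G →* Module.End k (Matrix (Fin d) (Fin d) k) where
  toFun g := LinearMap.mulLeft k (ρ g) ∘ₗ LinearMap.mulRight k (ρ g)ᵀ
  map_one' := by ext A; simp
  map_mul' g h := by
    refine LinearMap.ext fun A => ?_
    simp [Matrix.transpose_mul, Matrix.mul_assoc]

omit [CharP k p] hp in
theorem formAction_apply {G : Type u} [Group G] (ρ : G →* Matrix (Fin d) (Fin d) k) (g : G)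
    (A : Matrix (Fin d) (Fin d) k) : formAction ρ g A = ρ g * A * (ρ g)ᵀ := by
  simp [formAction, Matrix.mul_assoc]

omit [CharP k p] hp in
/-- Change of basis between single blocks. -/
theorem exists_conj {G : Type u} [Group G] (ρ : G →* Matrix (Fin d) (Fin d) k) {x : G}
    (hx : IsBlock (ρ x)) {E : Matrix (Fin d) (Fin d) k} (hE : IsBlock E) :
    ∃ (ρ' : G →* Matrix (Fin d) (Fin d) k) (T : (Matrix (Fin d) (Fin d) k)ˣ),
      ρ' x = E ∧ ∀ g, ρ' g = (T⁻¹ : (Matrix (Fin d) (Fin d) k)ˣ) * ρ g * T := by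
  obtain ⟨R, hR, hRx⟩ := hx
  obtain ⟨S, hS, hSE⟩ := hE
  set T : (Matrix (Fin d) (Fin d) k)ˣ := hR.unit * hS.unit⁻¹
  refine ⟨{ toFun := fun g => (T⁻¹ : (Matrix (Fin d) (Fin d) k)ˣ) * ρ g * T
            map_one' := by simp
            map_mul' := fun g h => by simp [mul_assoc] }, T, ?_, fun g => rfl⟩
  change ((T⁻¹ : (Matrix (Fin d) (Fin d) k)ˣ) : Matrix (Fin d) (Fin d) k) * ρ x * T = E
  simp only [T, _root_.mul_inv_rev, inv_inv, Units.val_mul, IsUnit.unit_spec]
  rw [show S * (↑hR.unit⁻¹ : Matrix (Fin d) (Fin d) k) * ρ x * (R * ↑hS.unit⁻¹) =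
      S * ((↑hR.unit⁻¹ : Matrix (Fin d) (Fin d) k) * (ρ x * R)) * ↑hS.unit⁻¹ by simp only [mul_assoc],
    hRx, ← mul_assoc (↑hR.unit⁻¹ : Matrix (Fin d) (Fin d) k), hR.val_inv_mul, one_mul, ← hSE,
    mul_assoc, hS.mul_val_inv, mul_one]

end CfsgLib.Block.SmallBlock
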