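import Cfsg.Agent.Lib.Block.DefectOneCount
import Cfsg.Agent.Lib.Block.DegreeAux

/-!
The restriction to the centralizer of `x` of a character of degree less than `(p - 1) / 2`.
-/

set_option autoImplicit false
set_option linter.unusedSectionVars false

namespace CfsgLib.Block

open Cfsg
open scoped ComplexConjugate

universe u

namespace OneBlock

variable {G : Type u} [Group G] [Fintype G] {p : ℕ} [hp : Fact p.Prime] {M : Ideal AlgInt}
  [M.IsPrime] (O : OneBlock G p M)

local notation "Cx" => Subgroup.centralizer (Singleton.singleton (OneBlock.x O) : Set G)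

/-- The multiplicity as a natural number. -/
noncomputable def multN (χ : IrrCharacter G) (s : ZMod p) : ℕ := (O.exists_mult_nat χ).choose s

theorem mult_eq_multN (χ : IrrCharacter G) (s : ZMod p) : O.mult χ s = (O.multN χ s : ℂ) :=
  (O.exists_mult_nat χ).choose_spec s

theorem row_eq_multN (χ : IrrCharacter G) (v : (ZMod p)ˣ) :
    O.row χ v = (O.multN χ v : ℤ) - (O.multN χ 0 : ℤ) := rfl

theorem charDegree_phi (s : ZMod p) :
    charDegree (O.φ s : Cx → ℂ) = charDegree (O.φ 0 : Cx → ℂ) := by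
  simp only [charDegree, O.phi_one s]

theorem charDegree_twist {n : G} (hn : n ∈ O.N) (θ : IrrCharacter Cx) :
    charDegree (O.twist n hn θ : Cx → ℂ) = charDegree (θ : Cx → ℂ) := by
  simp only [charDegree, twist_apply, map_one]

/-- Translation by the central element multiplies by a root of unity. -/
theorem phi_shift (s i : ZMod p) (c : Cx) :
    (O.φ s : Cx → ℂ) (O.z ^ i.val * c) =
      ZMod.stdAddChar (s * i) * (O.φ s : Cx → ℂ) c := by
  obtain ⟨j, w, hw, rfl⟩ := O.exists_split c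
  have hpow : O.z ^ i.val * (O.z ^ j.val * w) = O.z ^ (i + j).val * w := by
    rw [← mul_assoc]
    congr 1
    refine Subtype.ext ?_
    simp [z, DefectOne.pow_val_add O.hxo i j]
  rw [hpow, z, O.hval s (i + j) w hw, O.hval s j w hw, mul_add, AddChar.map_add_eq_mul]
  ring

theorem phi_z (s : ZMod p) :
    (O.φ s : Cx → ℂ) O.z = ZMod.stdAddChar s * (O.φ 0 : Cx → ℂ) 1 := by
  have h := O.phi_shift s 1 1
  rwa [ZMod.val_one, pow_one, mul_one, mul_one, O.phi_one] at h

theorem phi_z_ne {s : ZMod p} (hs : s ≠ 0) :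
    (O.φ s : Cx → ℂ) O.z ≠ (O.φ s : Cx → ℂ) 1 := by
  rw [O.phi_z, O.phi_one s]
  intro h
  apply hs
  have h1 : ZMod.stdAddChar s = (1 : ℂ) :=
    mul_right_cancel₀ O.phi0_one_ne_zero (by rw [one_mul]; exact h)
  exact ZMod.injective_stdAddChar (h1.trans (AddChar.map_zero_eq_one _).symm)

/-- The multiplicities weighted by the degree are bounded by the degree. -/
theorem sum_multN_le (χ : IrrCharacter G) :
    (∑ s, O.multN χ s) * charDegree (O.φ 0 : Cx → ℂ) ≤ charDegree (χ : G → ℂ) := by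
  classical
  have := Fintype.ofFinite (IrrCharacter Cx)
  have hchar := CfsgLib.Char.isCharacter_restrict (CfsgLib.Char.irr_isCharacter χ.2) Cx
  have hnat : ∀ ρ : IrrCharacter Cx, ∃ k : ℕ,
      classInner (fun c : Cx => (χ : G → ℂ) c) (ρ : Cx → ℂ) = k := fun ρ =>
    CfsgLib.Char.classInner_isCharacter_nat hchar (CfsgLib.Char.irr_isCharacter ρ.2)
  choose k hk using hnat
  have h := CfsgLib.Char.classFunction_apply_eq_sum
    (CfsgLib.Char.isCharacter_isClassFunction hchar) (1 : Cx)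
  simp only [hk, charDegree_spec (CfsgLib.Char.irr_isCharacter (Subtype.property _))] at h
  rw [show ((1 : Cx) : G) = 1 from rfl, charDegree_spec (CfsgLib.Char.irr_isCharacter χ.2)] at h
  have h2 : charDegree (χ : G → ℂ) = ∑ ρ, k ρ * charDegree (ρ : Cx → ℂ) := by exact_mod_cast h
  rw [h2, Finset.sum_mul]
  have hks : ∀ s, O.multN χ s = k (O.φ s) := fun s =>
    Nat.cast_injective (R := ℂ) (by rw [← mult_eq_multN, O.mult_def, hk])
  calc ∑ s, O.multN χ s * charDegree (O.φ 0 : Cx → ℂ)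
      = ∑ s, k (O.φ s) * charDegree (O.φ s : Cx → ℂ) :=
        Finset.sum_congr rfl fun s _ => by rw [hks, ← O.charDegree_phi s]
    _ = ∑ ρ ∈ Finset.univ.image O.φ, k ρ * charDegree (ρ : Cx → ℂ) :=
        (Finset.sum_image (f := fun ρ : IrrCharacter Cx => k ρ * charDegree (ρ : Cx → ℂ))
          fun a _ b _ h => O.hinj h).symm
    _ ≤ _ := Finset.sum_le_sum_of_subset (Finset.subset_univ _)

theorem charDegree_phi0_pos : 0 < charDegree (O.φ 0 : Cx → ℂ) :=
  Nat.pos_of_ne_zero (charDegree_ne_zero (O.φ 0).2)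

theorem sum_multN_le_degree (χ : IrrCharacter G) :
    ∑ s, O.multN χ s ≤ charDegree (χ : G → ℂ) :=
  le_trans (Nat.le_mul_of_pos_right _ O.charDegree_phi0_pos) (O.sum_multN_le χ)

theorem phi0_principal (hb : O.b = principalBlock M (Subgroup.centralizer ({O.x} : Set G))) :
    (O.φ 0 : Cx → ℂ) = fun _ => 1 := by
  have h : (⟨fun _ => 1, CfsgLib.Char.isIrrCharacter_one⟩ : IrrCharacter Cx) = O.φ 0 :=
    O.eq_phi0_of_trivial (hb ▸ one_mem_principalBlock) rfl
  exact (congrArg Subtype.val h).symm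

theorem T_principal (hb : O.b = principalBlock M (Subgroup.centralizer ({O.x} : Set G))) :
    O.T = O.N :=
  le_antisymm O.T_le fun n hn => ⟨hn, Subtype.ext (funext fun c => by
    rw [twist_apply, O.phi0_principal hb])⟩

theorem natCard_expSubgroup_principal
    (hb : O.b = principalBlock M (Subgroup.centralizer ({O.x} : Set G))) :
    Nat.card O.expSubgroup = Subgroup.relIndex Cx O.N := by
  rw [O.natCard_expSubgroup, O.T_principal hb]

variable {B : Set (IrrCharacter G)} (hind : IsInducedBlock M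
  (Subgroup.centralizer ({O.x} : Set G)) O.b B)
include hind

theorem row_eq_zero {χ : IrrCharacter G} (hχ : χ ∉ B) (v : (ZMod p)ˣ) : O.row χ v = 0 := by
  have h := O.mul_row χ v
  rw [Finset.sum_eq_zero fun i _ => by rw [O.ah_eq_zero hind hχ i.ne_zero, zero_mul],
    mul_eq_zero] at h
  exact_mod_cast h.resolve_left (Nat.cast_ne_zero.2 hp.out.ne_zero)

omit hind in
/-- The multiplicities of a character of small degree at one block. -/
theorem small_mult (χ : IrrCharacter G) (hn : 2 * charDegree (χ : G → ℂ) + 3 ≤ p) {s₀ : ZMod p}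
    (h0 : O.multN χ s₀ ≠ 0) :
    ∃ B, IsInducedBlock M (Subgroup.centralizer ({O.x} : Set G)) O.b B ∧ χ ∈ B ∧
      ((∀ s, s ≠ 0 → O.multN χ s = 0) ∨
        (O.multN χ 0 = 0 ∧ (∀ s, O.multN χ s ≤ 1) ∧
          ∑ s, O.multN χ s = Nat.card O.expSubgroup ∧
          ∑ v, O.row χ v = Nat.card O.expSubgroup)) := by
  classical
  obtain ⟨B, hind⟩ := exists_isInducedBlock_centralizer O.hM (x := O.x)
    ⟨1, by rw [O.hxo, pow_one]⟩ O.hb
  have hn' := O.sum_multN_le_degree χ
  have hsplit : ∑ s, O.multN χ s = O.multN χ 0 + ∑ v : (ZMod p)ˣ, O.multN χ v :=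
    PrimeRows.sum_eq_zero_add_units _
  have hcardU : Fintype.card (ZMod p)ˣ = p - 1 := ZMod.card_units p
  have hp2 := hp.out.two_le
  have hconstbound : ∀ k, (∀ v : (ZMod p)ˣ, k ≤ O.multN χ v) → k = 0 := by
    intro k hk
    by_contra hk0
    have h1 : ∑ v : (ZMod p)ˣ, 1 ≤ ∑ v : (ZMod p)ˣ, O.multN χ v :=
      Finset.sum_le_sum fun v _ => le_trans (Nat.one_le_iff_ne_zero.2 hk0) (hk v)
    rw [Finset.sum_const, Finset.card_univ, hcardU, smul_eq_mul, mul_one] at h1
    omega
  have hχB : χ ∈ B := by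
    by_contra hχB
    apply h0
    have hall : ∀ v : (ZMod p)ˣ, O.multN χ v = O.multN χ 0 := fun v => by
      have h := O.row_eq_zero hind hχB v
      rw [row_eq_multN] at h
      omega
    have h00 : O.multN χ 0 = 0 := hconstbound _ fun v => (hall v).ge
    rcases eq_or_ne s₀ 0 with rfl | hs
    · exact h00
    · rw [show s₀ = ((Units.mk0 s₀ hs : (ZMod p)ˣ) : ZMod p) from rfl, hall, h00]
  refine ⟨B, hind, hχB, ?_⟩
  obtain ⟨c, hc, hshape⟩ := O.shape hind hχB
  rcases hshape with hconst | ⟨w, hw⟩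
  · left
    intro s hs
    have hv := hconst (Units.mk0 s hs)
    rw [row_eq_multN, Units.val_mk0] at hv
    rcases hc with rfl | rfl
    · exfalso
      have := hconstbound 1 fun v => by
        have h := hconst v
        rw [row_eq_multN] at h
        omega
      omega
    · have h2 : ∀ v : (ZMod p)ˣ, O.multN χ 0 - 1 ≤ O.multN χ v := fun v => by
        have h := hconst v
        rw [row_eq_multN] at h
        omega
      have := hconstbound _ h2
      omega
  · set H := O.expSubgroup with hH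
    by_cases hHtop : H = ⊤
    · left
      have hconst : ∀ v, O.row χ v = c := fun v => (hw v).1 (hHtop ▸ Subgroup.mem_top _)
      intro s hs
      have hv := hconst (Units.mk0 s hs)
      rw [row_eq_multN, Units.val_mk0] at hv
      rcases hc with rfl | rfl
      · exfalso
        have := hconstbound 1 fun v => by
          have h := hconst v
          rw [row_eq_multN] at h
          omega
        omega
      · have h2 : ∀ v : (ZMod p)ˣ, O.multN χ 0 - 1 ≤ O.multN χ v := fun v => by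
          have h := hconst v
          rw [row_eq_multN] at h
          omega
        have := hconstbound _ h2
        omega
    have hidx : 2 ≤ H.index := by
      have h1 := H.index_ne_zero_of_finite
      have h2 : H.index ≠ 1 := fun h => hHtop (Subgroup.index_eq_one.1 h)
      omega
    have he : 2 * Nat.card H ≤ p - 1 := by
      rw [← O.natCard_mul_index, mul_comm 2]
      exact Nat.mul_le_mul_left _ hidx
    have hsum : ∑ v : (ZMod p)ˣ, O.row χ v = (Nat.card H : ℤ) * c :=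
      O.sum_indicator w c _ fun v => by
        by_cases hv : w⁻¹ * v ∈ H
        · rw [if_pos hv]; exact (hw v).1 hv
        · rw [if_neg hv]; exact (hw v).2 hv
    have hrowsum : (∑ v : (ZMod p)ˣ, (O.multN χ v : ℤ)) =
        ((p - 1 : ℕ) : ℤ) * O.multN χ 0 + (Nat.card H : ℤ) * c := by
      rw [← hsum]
      simp only [row_eq_multN, Finset.sum_sub_distrib, Finset.sum_const, Finset.card_univ, hcardU,
        nsmul_eq_mul]
      ring
    have hz : O.multN χ 0 = 0 ∧ c = 1 := by
      have hle : ((O.multN χ 0 : ℤ) + ∑ v : (ZMod p)ˣ, (O.multN χ v : ℤ)) ≤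
          (charDegree (χ : G → ℂ) : ℤ) := by
        have h := hn'
        rw [hsplit] at h
        exact_mod_cast h
      rw [hrowsum] at hle
      rcases hc with rfl | rfl
      · refine ⟨?_, rfl⟩
        by_contra h
        have h1 : ((p - 1 : ℕ) : ℤ) ≤ ((p - 1 : ℕ) : ℤ) * O.multN χ 0 :=
          le_mul_of_one_le_right (by positivity) (by omega)
        omega
      · exfalso
        rcases Nat.eq_zero_or_pos (O.multN χ 0) with h | h
        · have h2 := (hw w).1 (by simp)
          rw [row_eq_multN] at h2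
          omega
        · have h1 : ((p - 1 : ℕ) : ℤ) ≤ ((p - 1 : ℕ) : ℤ) * O.multN χ 0 :=
            le_mul_of_one_le_right (by positivity) (by omega)
          omega
    obtain ⟨hz0, rfl⟩ := hz
    refine Or.inr ⟨hz0, fun s => ?_, ?_, by rw [hsum, mul_one]⟩
    · rcases eq_or_ne s 0 with rfl | hs
      · omega
      · have hv : O.row χ (Units.mk0 s hs) ≤ 1 := by
          by_cases hv : w⁻¹ * Units.mk0 s hs ∈ H
          · exact ((hw _).1 hv).le
          · rw [(hw _).2 hv]; exact zero_le_one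
        rw [row_eq_multN, Units.val_mk0, hz0] at hv
        omega
    · rw [hsplit, hz0, zero_add]
      rw [hz0, Nat.cast_zero, mul_zero, zero_add, mul_one] at hrowsum
      exact_mod_cast hrowsum

omit hind in
theorem mult_twist [Fintype Cx] {n : G} (hn : n ∈ O.N) (χ : IrrCharacter G) (θ : IrrCharacter Cx) :
    classInner (fun c : Cx => (χ : G → ℂ) c) (O.twist n hn θ : Cx → ℂ) =
      classInner (fun c : Cx => (χ : G → ℂ) c) (θ : Cx → ℂ) := by
  classical
  rw [CfsgLib.Char.classInner_def, CfsgLib.Char.classInner_def]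
  congr 1
  refine Fintype.sum_equiv (normConjEquiv Cx n (O.N_le hn)).toEquiv _ _ fun d => ?_
  rw [twist_apply]
  congr 1
  exact (CfsgLib.Char.irr_isClassFunction χ.2 (d : G) n).symm

end OneBlock

namespace DefectOne

variable {G : Type u} [Group G] [Fintype G] {p : ℕ} [hp : Fact p.Prime] {M : Ideal AlgInt}
  [M.IsPrime] {x : G}

local notation "C" => Subgroup.centralizer (Singleton.singleton x : Set G)

/-- The index of the centralizer in the normalizer divides `p - 1`. -/
theorem relIndex_dvd_sub_one (hM : IsPModular p M) (hxo : orderOf x = p)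
    (hsq : ¬ p ^ 2 ∣ Nat.card G) :
    Subgroup.relIndex C (Subgroup.normalizer ((Subgroup.zpowers x : Subgroup G) : Set G)) ∣ p - 1 := by
  obtain ⟨φ, h1, h2, h3, -⟩ := exists_param (b := principalBlock M C) hM hxo hsq
    isPBlock_principalBlock
  have h := (⟨hM, x, hxo, hsq, principalBlock M C, isPBlock_principalBlock, φ, h1, h2, h3⟩ :
    OneBlock G p M).natCard_expSubgroup_principal rfl
  exact ⟨_, (OneBlock.natCard_mul_index _).symm.trans (by rw [h]; rfl)⟩

/-- A character of degree less than `(p - 1) / 2` not trivial on `x` restricts to the centralizer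
multiplicity-freely, all constituents of one degree and none trivial on `x`. -/
theorem small_restriction (hM : IsPModular p M) (hxo : orderOf x = p)
    (hsq : ¬ p ^ 2 ∣ Nat.card G) (ξ : IrrCharacter G)
    (hn : 2 * charDegree (ξ : G → ℂ) + 3 ≤ p) (hker : (ξ : G → ℂ) x ≠ (ξ : G → ℂ) 1) :
    ∃ (R : Finset (IrrCharacter C)) (d : ℕ), 0 < d ∧
      R.card = Subgroup.relIndex C (Subgroup.normalizer ((Subgroup.zpowers x : Subgroup G) : Set G)) ∧
      charDegree (ξ : G → ℂ) = R.card * d ∧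
      (∀ ρ ∈ R, charDegree (ρ : C → ℂ) = d ∧
        (ρ : C → ℂ) ⟨x, mem_cen_self⟩ ≠ (ρ : C → ℂ) 1) ∧
      ∀ c : C, (ξ : G → ℂ) c = ∑ ρ ∈ R, (ρ : C → ℂ) c := by
  classical
  have := Fintype.ofFinite (IrrCharacter C)
  have hchar := CfsgLib.Char.isCharacter_restrict (CfsgLib.Char.irr_isCharacter ξ.2) C
  have hnat : ∀ ρ : IrrCharacter C, ∃ k : ℕ,
      classInner (fun c : C => (ξ : G → ℂ) c) (ρ : C → ℂ) = k := fun ρ =>
    CfsgLib.Char.classInner_isCharacter_nat hchar (CfsgLib.Char.irr_isCharacter ρ.2)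
  choose k hk using hnat
  set R := Finset.univ.filter fun ρ : IrrCharacter C => k ρ ≠ 0
  have hexp : ∀ c : C, (ξ : G → ℂ) c = ∑ ρ ∈ R, (k ρ : ℂ) * (ρ : C → ℂ) c := fun c => by
    rw [CfsgLib.Char.classFunction_apply_eq_sum (CfsgLib.Char.isCharacter_isClassFunction hchar) c]
    simp only [hk]
    symm
    refine Finset.sum_subset (Finset.subset_univ _) fun ρ _ hρ => ?_
    rw [Finset.mem_filter, not_and, not_not] at hρ
    rw [hρ (Finset.mem_univ _), Nat.cast_zero, zero_mul]
  have key : ∀ ρ : IrrCharacter C, ∃ φ : ZMod p → IrrCharacter C,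
      ∃ (h1 : Function.Injective φ) (h2 : Set.range φ = blockOf M (ρ : C → ℂ))
        (h3 : ∀ (s i : ZMod p) (y : C), ¬ p ∣ orderOf y →
          (φ s : C → ℂ) (⟨x, mem_cen_self⟩ ^ i.val * y) =
            ZMod.stdAddChar (s * i) * (φ 0 : C → ℂ) y), True := fun ρ => by
    obtain ⟨φ, h1, h2, h3, -⟩ := exists_param hM hxo hsq (isPBlock_blockOf ρ)
    exact ⟨φ, h1, h2, h3, trivial⟩
  choose φ h1 h2 h3 _ using key
  let Oρ : IrrCharacter C → OneBlock G p M := fun ρ =>
    ⟨hM, x, hxo, hsq, blockOf M (ρ : C → ℂ), isPBlock_blockOf ρ, φ ρ, h1 ρ, h2 ρ, h3 ρ⟩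
  have hs : ∀ ρ, ∃ s, φ ρ s = ρ := fun ρ => by
    have h := mem_blockOf_self (M := M) ρ
    rwa [← h2 ρ] at h
  choose sρ hsρ using hs
  have hmN : ∀ ρ s, (Oρ ρ).multN ξ s = k (φ ρ s) := fun ρ s =>
    Nat.cast_injective (R := ℂ) (by
      rw [← OneBlock.mult_eq_multN, (Oρ ρ).mult_def, ← hk])
  have hρ0 : ∀ ρ ∈ R, (Oρ ρ).multN ξ (sρ ρ) ≠ 0 := fun ρ hρ => by
    rw [hmN, hsρ]; exact (Finset.mem_filter.1 hρ).2
  have hsmall := fun ρ hρ => (Oρ ρ).small_mult ξ hn (hρ0 ρ hρ)
  obtain ⟨ρ₀, hρ₀, hne⟩ : ∃ ρ ∈ R, (ρ : C → ℂ) ⟨x, mem_cen_self⟩ ≠ (ρ : C → ℂ) 1 := by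
    by_contra h
    push Not at h
    apply hker
    have e1 := hexp ⟨x, mem_cen_self⟩
    rw [Finset.sum_congr rfl fun ρ hρ => by rw [h ρ hρ], ← hexp 1] at e1
    exact e1
  obtain ⟨B, hindB, hξB, hgood⟩ := hsmall ρ₀ hρ₀
  have hgood' : (Oρ ρ₀).multN ξ 0 = 0 ∧ (∀ s, (Oρ ρ₀).multN ξ s ≤ 1) ∧
      ∑ s, (Oρ ρ₀).multN ξ s = Nat.card (Oρ ρ₀).expSubgroup ∧
      ∑ v, (Oρ ρ₀).row ξ v = Nat.card (Oρ ρ₀).expSubgroup := by
    refine hgood.resolve_left fun hbad => hne ?_
    have hs0 : sρ ρ₀ = 0 := by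
      by_contra h
      exact hρ0 ρ₀ hρ₀ (hbad _ h)
    rw [← hsρ ρ₀, hs0]
    exact (Oρ ρ₀).phi0_z
  obtain ⟨hm0, hm1, hmsum, hrow⟩ := hgood'
  have hall : ∀ ρ ∈ R, charDegree (ρ : C → ℂ) = charDegree (φ ρ₀ 0 : C → ℂ) ∧
      (ρ : C → ℂ) ⟨x, mem_cen_self⟩ ≠ (ρ : C → ℂ) 1 ∧ k ρ = 1 := by
    intro ρ hρ
    obtain ⟨B', hind', hξB', -⟩ := hsmall ρ hρ
    have hBB : B' = B := isPBlock_eq_of_mem hind'.2.1 hindB.2.1 hξB' hξB
    subst hBB
    obtain ⟨g, hg, himg⟩ := (Oρ ρ₀).exists_twist_of_inducing hindB hind'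
    obtain ⟨θ, hθ, hθe⟩ : ρ ∈ (Oρ ρ₀).twist g hg '' (Oρ ρ₀).b := himg ▸ mem_blockOf_self ρ
    rw [← (Oρ ρ₀).hrange] at hθ
    obtain ⟨s, rfl⟩ := hθ
    have hk' : k ρ = (Oρ ρ₀).multN ξ s := Nat.cast_injective (R := ℂ) (by
      rw [← hk, ← OneBlock.mult_eq_multN, (Oρ ρ₀).mult_def]
      subst hθe
      exact (Oρ ρ₀).mult_twist hg ξ ((Oρ ρ₀).φ s))
    have hs : s ≠ 0 := fun h => (Finset.mem_filter.1 hρ).2 (by rw [hk', h, hm0])
    refine ⟨?_, ?_, le_antisymm (hk' ▸ hm1 s) (Nat.one_le_iff_ne_zero.2 (Finset.mem_filter.1 hρ).2)⟩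
    · subst hθe
      exact ((Oρ ρ₀).charDegree_twist hg _).trans ((Oρ ρ₀).charDegree_phi s)
    · subst hθe
      obtain ⟨c, hc0, hc⟩ := (Oρ ρ₀).exists_conj hg
      have hv := (Oρ ρ₀).twist_val hg hc s 1 (y := 1) (by rw [orderOf_one]; exact hp.out.not_dvd_one)
      rw [ZMod.val_one, pow_one, mul_one, mul_one] at hv
      intro he
      have he' : ((Oρ ρ₀).twist g hg ((Oρ ρ₀).φ s) : C → ℂ) (Oρ ρ₀).z =
          ((Oρ ρ₀).twist g hg ((Oρ ρ₀).φ s) : C → ℂ) 1 := he
      rw [hv, OneBlock.twist_apply, OneBlock.twist_apply, map_one, (Oρ ρ₀).phi_one s] at he'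
      have h1 : ZMod.stdAddChar (s * c) = (1 : ℂ) :=
        mul_right_cancel₀ (Oρ ρ₀).phi0_one_ne_zero (by rw [one_mul]; exact he')
      exact (mul_ne_zero hs hc0) (ZMod.injective_stdAddChar
        (h1.trans (AddChar.map_zero_eq_one _).symm))
  set d := charDegree (φ ρ₀ 0 : C → ℂ) with hd
  have hdpos : 0 < d := (Oρ ρ₀).charDegree_phi0_pos
  have hdeg : charDegree (ξ : G → ℂ) = R.card * d := by
    have h := hexp 1
    rw [Finset.sum_congr rfl (g := fun _ => (d : ℂ)) fun ρ hρ => by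
      rw [(hall ρ hρ).2.2, charDegree_spec (CfsgLib.Char.irr_isCharacter ρ.2), (hall ρ hρ).1,
        Nat.cast_one, one_mul], Finset.sum_const, nsmul_eq_mul,
      show ((1 : C) : G) = 1 from rfl, charDegree_spec (CfsgLib.Char.irr_isCharacter ξ.2)] at h
    exact_mod_cast h
  refine ⟨R, d, hdpos, ?_, hdeg, fun ρ hρ => ⟨(hall ρ hρ).1, (hall ρ hρ).2.1⟩, fun c => ?_⟩
  · set f := Subgroup.relIndex C (Subgroup.normalizer ((Subgroup.zpowers x : Subgroup G) : Set G))
    have hf : f = Nat.card (Oρ ρ₀).expSubgroup * Subgroup.relIndex (Oρ ρ₀).T (Oρ ρ₀).N := by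
      rw [(Oρ ρ₀).natCard_expSubgroup]
      exact ((Oρ ρ₀).relIndex_mul).symm
    obtain ⟨m, hm⟩ := (Oρ ρ₀).charDegree_eq hindB hξB
    rw [hrow, hdeg] at hm
    have hdvd : (p : ℤ) ∣ (((R.card : ℤ) - f) * d) := ⟨m, by
      rw [hf]; push_cast at hm ⊢; linarith⟩
    have hpd : ¬ (p : ℤ) ∣ (d : ℤ) := by
      rw [Int.natCast_dvd_natCast]; exact (Oρ ρ₀).not_dvd_phi0
    have h := ((Nat.prime_iff_prime_int.1 hp.out).dvd_mul.1 hdvd).resolve_right hpd
    have hfl : f ≤ p - 1 := by
      have hNfix : Subgroup.relIndex C (Subgroup.normalizer ((Subgroup.zpowers x : Subgroup G) : Set G)) ∣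
          (p - 1) := relIndex_dvd_sub_one hM hxo hsq
      exact Nat.le_of_dvd (by have := hp.out.two_le; omega) hNfix
    have hRl : R.card ≤ charDegree (ξ : G → ℂ) := hdeg ▸ Nat.le_mul_of_pos_right _ hdpos
    obtain ⟨q, hq⟩ := h
    have hq0 : q = 0 := by
      by_contra hq0
      rcases Int.lt_or_gt_of_ne hq0 with hl | hl
      · have : (p : ℤ) * q ≤ -(p : ℤ) := by
          have := mul_le_mul_of_nonneg_left (show q ≤ -1 by omega) (Int.natCast_nonneg p)
          linarith
        omega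
      · have : (p : ℤ) ≤ (p : ℤ) * q := le_mul_of_one_le_right (Int.natCast_nonneg p) (by omega)
        omega
    rw [hq0, mul_zero] at hq
    omega
  · rw [hexp c]
    exact Finset.sum_congr rfl fun ρ hρ => by rw [(hall ρ hρ).2.2, Nat.cast_one, one_mul]

end DefectOne

end CfsgLib.Block
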