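import Cfsg.Agent.Lib.Block.StableBlock
import Cfsg.Agent.Lib.Block.StableTITrace

/-!
Uniqueness of the weight of a simple module with a live vector, over a block with uniserial
structure, and the resulting separated trace functionals.
-/

set_option autoImplicit false
set_option linter.unusedSectionVars false
set_option maxHeartbeats 600000

namespace CfsgLib.Block

open MonoidAlgebra

universe u v w

namespace StableData

variable {G : Type u} [Group G] [Finite G] {k : Type v} [Field k] {p : ℕ} [hp : Fact p.Prime]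
  [CharP k p]
variable (S : StableData G k p)
variable {V : Type w} [AddCommGroup V] [Module (MonoidAlgebra k G) V]
  [Module k V] [IsScalarTower k (MonoidAlgebra k G) V]

/-- Conjugation of a linear map by a group element. -/
noncomputable def conjEnd (g : G) (f : V →ₗ[k] V) : V →ₗ[k] V :=
  (Algebra.lsmul k k V (of k G g)) ∘ₗ f ∘ₗ (Algebra.lsmul k k V (of k G g⁻¹))

theorem conjEnd_apply (g : G) (f : V →ₗ[k] V) (z : V) :
    conjEnd g f z = of k G g • f (of k G g⁻¹ • z) := rfl

theorem conjEnd_mul (g h : G) (f : V →ₗ[k] V) : conjEnd (g * h) f = conjEnd g (conjEnd h f) := by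
  ext z
  simp only [conjEnd_apply, mul_inv_rev, map_mul, mul_smul]

theorem conjEnd_eq_of_commute {g : G} {f : V →ₗ[k] V}
    (h : ∀ z, f (of k G g • z) = of k G g • f z) : conjEnd g f = f := by
  ext z
  rw [conjEnd_apply, ← h, smul_smul, ← map_mul, mul_inv_cancel, map_one, one_smul]

/-- The relative trace from the trivial subgroup kills `ker X` modulo the image of `X ^ (q-1)`. -/
theorem exists_eq_trace_one [Fintype S.C] [FiniteDimensional k V] (h : V →ₗ[k] V) {v : V}
    (hv : S.X • v = 0) :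
    ∃ z : V, S.X ^ (S.q - 1) • z = S.b • ∑ c : S.C, conjEnd (c : G) h v := by
  classical
  have := Fintype.ofFinite G
  let e := Module.finBasis k V
  let φ : Fin (Module.finrank k V) → (V →ₗ[k] k) := fun i => e.coord i
  -- the coefficients
  let wt : Fin (Module.finrank k V) → MonoidAlgebra k G := fun i =>
    ∑ c : S.C, φ i (of k G (c : G)⁻¹ • v) • (S.b * of k G (c : G))
  have hwt : ∀ i, SuppIn S.C (wt i) := fun i => Finset.sum_induction _ (SuppIn S.C)
    (fun _ _ => suppIn_add) (suppIn_zero _) fun c _ => suppIn_smul _ (suppIn_mul S.hbC (suppIn_of c.2))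
  have hbw : ∀ i, S.b * wt i = wt i := fun i => by
    simp only [wt, Finset.mul_sum, mul_smul_comm, ← mul_assoc, S.hbb]
  have hXw : ∀ i, S.X * wt i = 0 := by
    intro i
    have hX := eq_sum_of_suppIn (k := k) S.hXC
    calc S.X * wt i = ∑ c : S.C, φ i (of k G (c : G)⁻¹ • v) • (S.X * of k G (c : G)) := by
          simp only [wt, Finset.mul_sum, mul_smul_comm, ← mul_assoc, S.hXb]
      _ = ∑ c : S.C, ∑ d : S.C, (φ i (of k G (c : G)⁻¹ • v) * S.X.coeff (d : G)) •
            of k G ((d : G) * (c : G)) := by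
          refine Finset.sum_congr rfl fun c _ => ?_
          conv_lhs => rw [hX, Finset.sum_mul, Finset.smul_sum]
          rw [Finset.sum_subtype (Finset.univ.filter (· ∈ S.C)) (p := (· ∈ S.C)) (by simp)
            (fun d => φ i (of k G (c : G)⁻¹ • v) • (S.X.coeff d • of k G d * of k G (c : G)))]
          refine Finset.sum_congr rfl fun d _ => ?_
          rw [smul_mul_assoc, ← map_mul, smul_smul]
      _ = ∑ c : S.C, φ i (of k G (c : G)⁻¹ • S.X • v) • of k G (c : G) := by
          rw [Finset.sum_comm]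
          have h1 : ∀ d : S.C, ∑ c : S.C, (φ i (of k G (c : G)⁻¹ • v) * S.X.coeff (d : G)) •
              of k G ((d : G) * (c : G)) =
              ∑ c : S.C, (φ i (of k G ((d⁻¹ * c : S.C) : G)⁻¹ • v) * S.X.coeff (d : G)) •
                of k G (c : G) := fun d =>
            Fintype.sum_equiv (Equiv.mulLeft d) _ _ fun c => by
              simp only [Equiv.coe_mulLeft, inv_mul_cancel_left]
              rfl
          rw [Finset.sum_congr rfl fun d _ => h1 d, Finset.sum_comm]
          refine Finset.sum_congr rfl fun c _ => ?_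
          rw [← Finset.sum_smul]
          congr 1
          conv_rhs => rw [hX, Finset.sum_smul, Finset.smul_sum, map_sum]
          rw [Finset.sum_subtype (Finset.univ.filter (· ∈ S.C)) (p := (· ∈ S.C)) (by simp)
            (fun d => φ i (of k G (c : G)⁻¹ • (S.X.coeff d • of k G d) • v))]
          refine Finset.sum_congr rfl fun d _ => ?_
          rw [smul_assoc, smul_comm (of k G (c : G)⁻¹), (φ i).map_smul, smul_eq_mul, smul_smul, ← map_mul, mul_comm]
          congr 3
          simp
      _ = 0 := by simp [hv]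
  choose u hu hwu using fun i => S.hann (wt i) (hwt i) (hbw i) (hXw i)
  refine ⟨∑ i, u i • h (e i), ?_⟩
  rw [Finset.smul_sum, Finset.smul_sum]
  calc ∑ i, S.X ^ (S.q - 1) • u i • h (e i) = ∑ i, wt i • h (e i) := by
        refine Finset.sum_congr rfl fun i _ => ?_
        rw [smul_smul, ← hwu]
    _ = _ := by
        simp only [wt, Finset.sum_smul, smul_assoc]
        rw [Finset.sum_comm]
        refine Finset.sum_congr rfl fun c _ => ?_
        rw [conjEnd_apply]
        conv_rhs => rw [← e.sum_repr (of k G (c : G)⁻¹ • v), map_sum, Finset.smul_sum, Finset.smul_sum]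
        refine Finset.sum_congr rfl fun i _ => ?_
        rw [LinearMap.map_smul, mul_smul, smul_comm (of k G (c : G)) (_ : k), smul_comm S.b (_ : k)]
        rfl

/-- A sum of an equivariant function over a free invariant set is a relative trace. -/
theorem exists_trace_sum {Q : Type*} [MulAction S.D Q] (f : Q → (V →ₗ[k] V))
    (hf : ∀ (y : S.D) (q : Q), f (y • q) = conjEnd (y : G) (f q)) (s : Finset Q)
    (hs : ∀ q ∈ s, ∀ y : S.D, y • q ∈ s) (hfree : ∀ q ∈ s, ∀ y : S.D, y • q = q → y = 1)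
    [Fintype S.D] :
    ∃ h : V →ₗ[k] V, ∑ y : S.D, conjEnd (y : G) h = ∑ q ∈ s, f q := by
  classical
  induction s using Finset.strongInduction with
  | H s ih =>
    rcases s.eq_empty_or_nonempty with rfl | ⟨q, hq⟩
    · exact ⟨0, by simp [conjEnd]⟩
    · have hinj : Function.Injective fun y : S.D => y • q := by
        intro a b h
        simp only at h
        have h' := hfree q hq (b⁻¹ * a) (by rw [mul_smul, h, inv_smul_smul])
        rw [inv_mul_eq_one] at h'
        exact h'.symm
      set o := Finset.univ.image fun y : S.D => y • q with ho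
      have hos : o ⊆ s := fun r hr => by
        obtain ⟨y, -, rfl⟩ := Finset.mem_image.1 hr
        exact hs q hq y
      obtain ⟨h, hh⟩ := ih (s \ o) (Finset.sdiff_ssubset hos ⟨q, Finset.mem_image.2
        ⟨1, Finset.mem_univ _, one_smul _ q⟩⟩) (fun r hr y => by
          rw [Finset.mem_sdiff] at hr ⊢
          refine ⟨hs r hr.1 y, fun h => hr.2 ?_⟩
          obtain ⟨a, -, ha⟩ := Finset.mem_image.1 h
          exact Finset.mem_image.2 ⟨y⁻¹ * a, Finset.mem_univ _, by
            rw [mul_smul, ha, inv_smul_smul]⟩) (fun r hr => hfree r (Finset.mem_sdiff.1 hr).1)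
      refine ⟨h + f q, ?_⟩
      rw [← Finset.sum_sdiff hos, ← hh, Finset.sum_image fun a _ b _ h => hinj h,
        ← Finset.sum_add_distrib]
      refine Finset.sum_congr rfl fun y _ => ?_
      rw [hf]
      ext z
      simp [conjEnd_apply]

variable [IsAlgClosed k] [IsSimpleModule (MonoidAlgebra k G) V] [FiniteDimensional k V]

/-- The endomorphisms commuting with `C` built from an endomorphism of the `ε`-part. -/
theorem exists_extension (f : V →ₗ[k] V) (hfe : ∀ z, S.eps • f z = f z)
    (hef : ∀ z, f (S.eps • z) = f z) (hfX : ∀ z, f (S.X • z) = S.X • f z) :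
    ∃ F : V →ₗ[k] V, (∀ c ∈ S.C, ∀ z, F (of k G c • z) = of k G c • F z) ∧
      (∀ z, F (S.b • z) = F z) ∧ (∀ z, S.b • F z = F z) ∧
      (∀ z, S.b • z = z → (∀ r : MonoidAlgebra k G, SuppIn S.C r → f (S.eps • r • z) = S.eps • r • z) →
        F z = z) ∧
      ∀ z, (∀ r : MonoidAlgebra k G, SuppIn S.C r → f (S.eps • r • z) = 0) → F z = 0 := by
  classical
  obtain ⟨n, a, c, ha, hc, hb⟩ := S.hfull
  have hXf : ∀ (i : ℕ) (z : V), f (S.X ^ i • z) = S.X ^ i • f z := by
    intro i
    induction i with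
    | zero => intro z; simp
    | succ i ih => intro z; rw [pow_succ, mul_smul, mul_smul, ih, hfX]
  have hfeps : ∀ (r : MonoidAlgebra k G), SuppIn S.C r → ∀ z,
      f ((S.eps * r * S.eps) • z) = (S.eps * r * S.eps) • f z := by
    intro r hr z
    obtain ⟨co, hco⟩ := S.heps r hr
    rw [hco, Finset.sum_smul, Finset.sum_smul, map_sum]
    refine Finset.sum_congr rfl fun i _ => ?_
    rw [smul_assoc, smul_assoc, map_smul, mul_smul, hXf, mul_smul, hfe, hef]
  have hbe : S.b * S.eps = S.eps := by rw [← S.hbT' (suppIn_mono S.hCT S.hepsC), S.hepsb]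
  have hbf : ∀ z, S.b • f z = f z := fun z => by rw [← hfe z, smul_smul, hbe]
  have hcomm : ∀ r, SuppIn S.C r → r * S.b = S.b * r := fun r hr => S.hbT' (suppIn_mono S.hCT hr)
  let F : V →ₗ[k] V := ∑ i, (Algebra.lsmul k k V (a i)) ∘ₗ f ∘ₗ (Algebra.lsmul k k V (S.eps * c i))
  have hF : ∀ z, F z = ∑ i, a i • f ((S.eps * c i) • z) := fun z => by
    simp only [F, LinearMap.sum_apply]
    rfl
  refine ⟨F, fun g hg z => ?_, fun z => ?_, fun z => ?_, fun z hz h => ?_, fun z h => ?_⟩
  · set r := of k G g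
    have hr : SuppIn S.C r := suppIn_of hg
    have hexp : ∀ i, (S.eps * c i) • r • z =
        ∑ j, (S.eps * (c i * r * a j) * S.eps) • (S.eps * c j) • z := fun i => by
      rw [smul_smul, show S.eps * c i * r = S.eps * (c i * r) * S.b by
        rw [mul_assoc S.eps (c i * r) S.b, hcomm _ (suppIn_mul (hc i) hr), ← mul_assoc S.eps S.b,
          S.hepsb, mul_assoc],
        hb, Finset.mul_sum, Finset.sum_smul]
      refine Finset.sum_congr rfl fun j _ => ?_
      rw [smul_smul]
      congr 1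
      simp only [← mul_assoc]
      rw [mul_assoc _ S.eps S.eps, S.hee]
    rw [hF, hF]
    calc ∑ i, a i • f ((S.eps * c i) • r • z)
        = ∑ i, ∑ j, (a i * (S.eps * (c i * r * a j) * S.eps)) • f ((S.eps * c j) • z) := by
          refine Finset.sum_congr rfl fun i _ => ?_
          rw [hexp, map_sum, Finset.smul_sum]
          refine Finset.sum_congr rfl fun j _ => ?_
          rw [hfeps _ (suppIn_mul (suppIn_mul (hc i) hr) (ha j)), smul_smul]
      _ = ∑ j, ∑ i, (a i * S.eps * c i * (r * a j)) • f ((S.eps * c j) • z) := by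
          rw [Finset.sum_comm]
          refine Finset.sum_congr rfl fun j _ => Finset.sum_congr rfl fun i _ => ?_
          rw [← mul_assoc (a i), mul_smul, hfe]
          simp only [mul_assoc]
      _ = _ := by
          rw [Finset.smul_sum]
          refine Finset.sum_congr rfl fun j _ => ?_
          rw [← Finset.sum_smul, ← Finset.sum_mul, ← hb, ← hcomm _ (suppIn_mul hr (ha j)), mul_smul,
            hbf, mul_smul]
  · rw [hF, hF]
    refine Finset.sum_congr rfl fun i _ => ?_
    rw [smul_smul, show S.eps * c i * S.b = S.eps * c i by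
      rw [mul_assoc, hcomm _ (hc i), ← mul_assoc, S.hepsb]]
  · rw [hF, Finset.smul_sum]
    refine Finset.sum_congr rfl fun i _ => ?_
    rw [smul_smul, ← hcomm _ (ha i), mul_smul, hbf]
  · rw [hF]
    conv_rhs => rw [← hz, hb, Finset.sum_smul]
    refine Finset.sum_congr rfl fun i _ => ?_
    rw [mul_smul, h (c i) (hc i), smul_smul, smul_smul, mul_assoc]
  · rw [hF]
    refine Finset.sum_eq_zero fun i _ => ?_
    rw [mul_smul, h (c i) (hc i), smul_zero]

/-- The weight of a live vector in a simple module is unique. -/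
theorem live_unique {η₁ η₂ : MonoidAlgebra k G} (h₁ : S.Weight η₁) (h₂ : S.Weight η₂)
    (horth : ∀ a, SuppIn S.T a → S.InI (η₁ * a * η₂)) {v₁ v₂ : V} (hv₁ : S.IsLive η₁ v₁)
    (hv₂ : S.IsLive η₂ v₂) : False := by
  classical
  have := Fintype.ofFinite G
  have := Fintype.ofFinite S.C
  have := Fintype.ofFinite S.D
  have hXT : ∀ (m : ℕ) {r : MonoidAlgebra k G}, SuppIn S.T r → ∀ z : V,
      ∃ z', r • S.X ^ m • z = S.X ^ m • z' := by
    intro m r hr z
    obtain ⟨c, -, hc⟩ := S.exists_comm_X_pow hr m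
    exact ⟨c • z, by rw [smul_smul, hc, mul_smul]⟩
  -- the height of `v₁`
  have hex : ∃ i, ∀ z : V, S.X ^ i • z ≠ v₁ := ⟨S.q - 1, hv₁.2.2⟩
  obtain ⟨i, hi⟩ : ∃ i, Nat.find hex = i + 1 := ⟨Nat.find hex - 1, by
    have : Nat.find hex ≠ 0 := fun h => (h ▸ Nat.find_spec hex) v₁ (by rw [pow_zero, one_smul])
    omega⟩
  have hnot : ∀ z : V, S.X ^ (i + 1) • z ≠ v₁ := hi ▸ Nat.find_spec hex
  obtain ⟨w, hw⟩ : ∃ w : V, S.X ^ i • w = v₁ := by
    by_contra h
    push Not at h
    exact Nat.find_min hex (show i < Nat.find hex by omega) h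
  -- the spaces
  let TA : Submodule k (MonoidAlgebra k G) :=
    { carrier := {a | SuppIn S.T a}
      add_mem' := suppIn_add
      zero_mem' := suppIn_zero _
      smul_mem' := fun c _ ha => suppIn_smul c ha }
  let orb : V → Submodule k V := fun v =>
    TA.map ((Algebra.lsmul k k V).toLinearMap.flip v)
  have horb : ∀ v x, x ∈ orb v ↔ ∃ a, SuppIn S.T a ∧ a • v = x := fun v x => Submodule.mem_map
  let W : Submodule k V := LinearMap.range (Algebra.lsmul k k V (S.X ^ (i + 1))) ⊔ orb v₂
  have hinter : ∀ x ∈ orb v₁, x ∈ W → x = 0 := by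
    intro x hx hxW
    obtain ⟨a, ha, rfl⟩ := (horb _ _).1 hx
    obtain ⟨_, ⟨z, rfl⟩, y, hy, hzy⟩ := Submodule.mem_sup.1 hxW
    obtain ⟨a₂, ha₂, rfl⟩ := (horb _ _).1 hy
    by_contra hne
    have hI : ¬ S.InI (a * η₁) := fun h => hne (by
      have h' := S.inI_smul h hv₁.1
      rwa [mul_smul, hv₁.2.1] at h')
    obtain ⟨c, hc, hci⟩ := h₁.sep a ha hI
    obtain ⟨co, hco⟩ := h₁.scalar (c * a) (suppIn_mul hc ha)
    have hco0 : co ≠ 0 := fun h => hci (by
      rw [h, zero_smul, sub_zero] at hco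
      simpa [mul_assoc] using hco)
    have e1 : (η₁ * (c * a) * η₁) • v₁ = co • v₁ := by
      have h' := S.inI_smul hco hv₁.1
      rwa [sub_smul, sub_eq_zero, smul_assoc, hv₁.2.1] at h'
    have e2 : (η₁ * (c * a₂) * η₂) • v₂ = 0 :=
      S.inI_smul (horth _ (suppIn_mul hc ha₂)) hv₂.1
    have e3 : (η₁ * c) • (a • v₁) = co • v₁ := by
      rw [← e1, mul_smul _ η₁ v₁, hv₁.2.1, smul_smul, mul_assoc]
    rw [← hzy, smul_add, smul_smul (η₁ * c) a₂,
      show (η₁ * c * a₂) • v₂ = 0 by rw [← e2, mul_smul _ η₂ v₂, hv₂.2.1, mul_assoc], add_zero,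
      Algebra.lsmul_coe] at e3
    obtain ⟨z', hz'⟩ := hXT (i + 1) (suppIn_mul h₁.supp hc) z
    change (η₁ * c) • (S.X ^ (i + 1) • z) = co • v₁ at e3
    rw [hz'] at e3
    apply hnot (co⁻¹ • z')
    rw [smul_comm, e3, smul_smul, inv_mul_cancel₀ hco0, one_smul]
  let E := Algebra.lsmul k k V S.eps
  let Λ : Submodule k V := (orb v₁).map E
  have hΛorb : Λ ≤ orb v₁ := by
    rintro _ ⟨x, hx, rfl⟩
    obtain ⟨a, ha, rfl⟩ := (horb _ _).1 hx
    exact (horb _ _).2 ⟨S.eps * a, suppIn_mul (suppIn_mono S.hCT S.hepsC) ha, mul_smul _ _ _⟩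
  have hΛe : ∀ x ∈ Λ, S.eps • x = x := by
    rintro _ ⟨x, -, rfl⟩
    change S.eps • S.eps • x = S.eps • x
    rw [smul_smul, S.hee]
  have hΛX : ∀ x ∈ Λ, S.X • x = 0 := fun x hx => by
    obtain ⟨a, ha, rfl⟩ := (horb _ _).1 (hΛorb hx)
    exact S.X_smul_smul ha hv₁.1
  -- a projection onto `Λ`
  obtain ⟨φ, hφ1, hφ0⟩ : ∃ φ : V →ₗ[k] Λ, (∀ x : Λ, φ x = x) ∧ ∀ x ∈ W, φ x = 0 := by
    have hdis : Disjoint Λ W :=
      Submodule.disjoint_def.2 fun x hx hxW => hinter x (hΛorb hx) hxW
    obtain ⟨U', hU'⟩ := Submodule.exists_isCompl (Λ ⊔ W)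
    have hU : IsCompl Λ (W ⊔ U') := ⟨hdis.disjoint_sup_right_of_disjoint_sup_left hU'.disjoint,
      by rw [codisjoint_iff, ← sup_assoc]; exact hU'.sup_eq_top⟩
    set U := W ⊔ U'
    have hWU : W ≤ U := le_sup_left
    refine ⟨Submodule.projectionOnto Λ U hU, fun x => ?_, fun x hx => ?_⟩
    · exact Submodule.projectionOnto_apply_left hU x
    · exact Submodule.projectionOnto_apply_of_mem_right hU (hWU hx)
  -- a section
  obtain ⟨σ, hσ⟩ : ∃ σ : Λ →ₗ[k] V, ∀ x : Λ, S.X ^ i • σ x = x := by
    have hsur : ∀ x : Λ, ∃ z, S.X ^ i • z = (x : V) := fun x => by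
      obtain ⟨a, ha, hax⟩ := (horb _ _).1 (hΛorb x.2)
      obtain ⟨z', hz'⟩ := hXT i ha w
      exact ⟨z', by rw [← hz', hw, hax]⟩
    choose g hg using hsur
    let e := Module.finBasis k Λ
    refine ⟨e.constr k fun j => g (e j), fun x => ?_⟩
    have h : (Algebra.lsmul k k V (S.X ^ i)) ∘ₗ (e.constr k fun j => g (e j)) = Λ.subtype :=
      e.ext fun j => by simp [hg, -map_pow]
    exact LinearMap.congr_fun h x
  have hcomm : ∀ m : ℕ, S.eps * S.X ^ m = S.X ^ m * S.eps := fun m => (S.commute_eps.pow_right m).eq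
  let f : V →ₗ[k] V := ∑ s ∈ Finset.range (i + 1),
    (Algebra.lsmul k k V (S.X ^ s * S.eps)) ∘ₗ σ ∘ₗ φ ∘ₗ (Algebra.lsmul k k V (S.X ^ (i - s) * S.eps))
  have hf : ∀ z, f z = ∑ s ∈ Finset.range (i + 1),
      (S.X ^ s * S.eps) • σ (φ ((S.X ^ (i - s) * S.eps) • z)) := fun z => by
    simp only [f, LinearMap.sum_apply]
    rfl
  have hfX : ∀ z, f (S.X • z) = S.X • f z := by
    intro z
    rw [hf, hf, Finset.smul_sum, Finset.sum_range_succ', Finset.sum_range_succ]
    have h0 : φ ((S.X ^ (i - 0) * S.eps) • S.X • z) = 0 := hφ0 _ (Submodule.mem_sup_left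
      ⟨S.eps • z, by
        change S.X ^ (i + 1) • S.eps • z = _
        rw [Nat.sub_zero, smul_smul, smul_smul, pow_succ, mul_assoc, mul_assoc, S.commute_eps.eq]⟩)
    have hlast : ∀ x : Λ, S.X • (S.X ^ i * S.eps) • σ x = 0 := fun x => by
      rw [← hcomm, mul_smul, hσ, hΛe _ x.2, hΛX _ x.2]
    rw [h0, map_zero, smul_zero, add_zero, hlast, add_zero]
    refine Finset.sum_congr rfl fun s hs => ?_
    have hs' : i - (s + 1) + 1 = i - s := by have := Finset.mem_range.1 hs; omega
    rw [smul_smul (S.X ^ (i - (s + 1)) * S.eps), mul_assoc _ S.eps, S.commute_eps.eq, ← mul_assoc,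
      ← pow_succ, hs', smul_smul S.X, ← mul_assoc S.X, ← pow_succ']
  have hfe : ∀ z, S.eps • f z = f z := fun z => by
    rw [hf, Finset.smul_sum]
    refine Finset.sum_congr rfl fun s _ => ?_
    rw [smul_smul, ← mul_assoc, hcomm, mul_assoc, S.hee]
  have hef : ∀ z, f (S.eps • z) = f z := fun z => by
    rw [hf, hf]
    refine Finset.sum_congr rfl fun s _ => ?_
    rw [smul_smul (S.X ^ (i - s) * S.eps), mul_assoc, S.hee]
  obtain ⟨F, hFC, hFb, hbF, hFid, hFzero⟩ := S.exists_extension f hfe hef hfX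
  have hbv : ∀ {η : MonoidAlgebra k G}, S.Weight η → ∀ {v : V}, S.IsLive η v → S.b • v = v :=
    fun hη v hv => by rw [← hv.2.1, smul_smul, hη.hb]
  have hF1 : ∀ a : MonoidAlgebra k G, SuppIn S.T a → F (a • v₁) = a • v₁ := by
    intro a ha
    refine hFid _ (by rw [smul_smul, ← S.hbT' ha, mul_smul, hbv h₁ hv₁])
      fun (r : MonoidAlgebra k G) hr => ?_
    have hx : S.eps • r • a • v₁ ∈ Λ := ⟨r • a • v₁, (horb _ _).2
      ⟨r * a, suppIn_mul (suppIn_mono S.hCT hr) ha, mul_smul _ _ _⟩, rfl⟩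
    set x : Λ := ⟨_, hx⟩ with hxdef
    rw [show S.eps • r • a • v₁ = (x : V) from rfl, hf,
      Finset.sum_range_succ, Finset.sum_eq_zero, zero_add, Nat.sub_self, pow_zero, one_mul,
      hΛe _ x.2, hφ1, ← hcomm, mul_smul, hσ, hΛe _ x.2]
    intro s hs
    obtain ⟨d, hd⟩ : ∃ d, i - s = d + 1 := ⟨i - s - 1, by have := Finset.mem_range.1 hs; omega⟩
    rw [mul_smul (S.X ^ (i - s)), hΛe _ x.2, hd, pow_succ, mul_smul (S.X ^ d), hΛX _ x.2, smul_zero, map_zero, map_zero,
      smul_zero]
  have hF2 : ∀ a : MonoidAlgebra k G, SuppIn S.T a → F (a • v₂) = 0 := by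
    intro a ha
    refine hFzero _ fun r hr => ?_
    rw [hf]
    refine Finset.sum_eq_zero fun s _ => ?_
    rw [show φ ((S.X ^ (i - s) * S.eps) • S.eps • r • a • v₂) = 0 from hφ0 _
      (Submodule.mem_sup_right ((horb _ _).2 ⟨S.X ^ (i - s) * S.eps * S.eps * r * a,
        suppIn_mul (suppIn_mul (suppIn_mul (suppIn_mul (S.suppIn_X_pow _) (suppIn_mono S.hCT S.hepsC))
          (suppIn_mono S.hCT S.hepsC)) (suppIn_mono S.hCT hr)) ha, by simp only [mul_smul]⟩)),
      map_zero, smul_zero]
  -- average over `T/C`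
  let C' : Subgroup S.T := S.C.subgroupOf S.T
  have := Fintype.ofFinite (S.T ⧸ C')
  have hm : (Fintype.card (S.T ⧸ C') : k) ≠ 0 := fun h => S.hidx (by
    rw [CharP.cast_eq_zero_iff k p, ← Nat.card_eq_fintype_card] at h
    exact h)
  set m : k := (Fintype.card (S.T ⧸ C') : k)
  have hwdC : ∀ t c : G, t ∈ S.T → c ∈ S.C → conjEnd (t * c) F = conjEnd t F := fun t c _ hc => by
    rw [conjEnd_mul, conjEnd_eq_of_commute fun z => hFC c hc z]
  let π : V →ₗ[k] V := m⁻¹ • ∑ q : S.T ⧸ C', conjEnd ((q.out : S.T) : G) F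
  have hπ : ∀ z, π z = m⁻¹ • ∑ q : S.T ⧸ C', conjEnd ((q.out : S.T) : G) F z := fun z => by
    simp [π, LinearMap.sum_apply]
  have hπT : ∀ t ∈ S.T, ∀ z, π (of k G t • z) = of k G t • π z := by
    intro t ht z
    rw [hπ, hπ, smul_comm (of k G t)]
    congr 1
    rw [Finset.smul_sum]
    symm
    refine Fintype.sum_equiv (MulAction.toPerm (⟨t, ht⟩ : S.T)) _ _ fun q => ?_
    obtain ⟨c, hc⟩ := QuotientGroup.mk_out_eq_mul C' (⟨t, ht⟩ * q.out)
    rw [MulAction.toPerm_apply, show (⟨t, ht⟩ : S.T) • q =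
        (((⟨t, ht⟩ * q.out : S.T)) : S.T ⧸ C') by
      conv_lhs => rw [← QuotientGroup.out_eq' q]
      rfl, hc, Subgroup.coe_mul,
      hwdC _ _ (((⟨t, ht⟩ : S.T) * q.out).2) (Subgroup.mem_subgroupOf.1 c.2), Subgroup.coe_mul,
      conjEnd_mul, conjEnd_apply (g := t), smul_smul (of k G t⁻¹), ← map_mul, inv_mul_cancel,
      map_one, one_smul]
  have hπC : ∀ c ∈ S.C, ∀ z, π (of k G c • z) = of k G c • π z := fun c hc => hπT c (S.hCT hc)
  have hπb : ∀ z, π (S.b • z) = π z := fun z => by
    rw [hπ, hπ]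
    congr 1
    refine Finset.sum_congr rfl fun q _ => ?_
    rw [conjEnd_apply, conjEnd_apply, smul_smul _ S.b, S.hbT _ (inv_mem (q.out : S.T).2), mul_smul,
      hFb]
  have hbπ : ∀ z, S.b • π z = π z := fun z => by
    rw [hπ, smul_comm, Finset.smul_sum]
    congr 1
    refine Finset.sum_congr rfl fun q _ => ?_
    rw [conjEnd_apply, smul_smul, ← S.hbT _ (q.out : S.T).2, mul_smul, hbF]
  have hπ1 : π v₁ = v₁ := by
    rw [hπ, Finset.sum_congr rfl (g := fun _ => v₁), Finset.sum_const, Finset.card_univ,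
      ← Nat.cast_smul_eq_nsmul k, smul_smul, inv_mul_cancel₀ hm, one_smul]
    intro q _
    rw [conjEnd_apply, hF1 _ (suppIn_of (inv_mem (q.out : S.T).2)), smul_smul, ← map_mul,
      mul_inv_cancel, map_one, one_smul]
  have hπ2 : π v₂ = 0 := by
    rw [hπ, Finset.sum_eq_zero, smul_zero]
    intro q _
    rw [conjEnd_apply, hF2 _ (suppIn_of (inv_mem (q.out : S.T).2)), smul_zero]
  -- the trace to `G`
  have := Fintype.ofFinite (G ⧸ S.T)
  have hwd : ∀ g t, t ∈ S.T → conjEnd (g * t) π = conjEnd g π := fun g t ht => by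
    rw [conjEnd_mul, conjEnd_eq_of_commute fun z => hπT t ht z]
  let Φ : G ⧸ S.T → (V →ₗ[k] V) := fun q => conjEnd q.out π
  have hΦ : ∀ g : G, Φ (g : G ⧸ S.T) = conjEnd g π := by
    intro g
    obtain ⟨h, hh⟩ := QuotientGroup.mk_out_eq_mul S.T g
    simp only [Φ, hh]
    exact hwd g h h.2
  have hΦh : ∀ (h : G) (q : G ⧸ S.T), Φ (h • q) = conjEnd h (Φ q) := by
    intro h q
    obtain ⟨g, rfl⟩ := QuotientGroup.mk_surjective q
    rw [show h • (g : G ⧸ S.T) = ((h * g : G) : G ⧸ S.T) from rfl, hΦ, hΦ, conjEnd_mul]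
  have hcommG : ∀ (h : G) (z : V), (∑ q, Φ q) (of k G h • z) = of k G h • (∑ q, Φ q) z := by
    intro h z
    rw [LinearMap.sum_apply, LinearMap.sum_apply, Finset.smul_sum]
    refine (Fintype.sum_equiv (MulAction.toPerm h) _ _ fun q => ?_).symm
    rw [MulAction.toPerm_apply, hΦh, conjEnd_apply (g := h), smul_smul (of k G h⁻¹), ← map_mul,
      inv_mul_cancel, map_one, one_smul]
  have hlin : ∀ (r : MonoidAlgebra k G) (z : V), (∑ q, Φ q) (r • z) = r • (∑ q, Φ q) z := by
    intro r z
    induction r using MonoidAlgebra.induction_on with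
    | of g => exact hcommG g z
    | add a b ha hb => rw [add_smul, map_add, ha, hb, add_smul]
    | smul c a ha => rw [smul_assoc, map_smul, ha, smul_assoc]
  obtain ⟨c₀, hc₀⟩ := (IsSimpleModule.algebraMap_end_bijective_of_isAlgClosed k).2
    ({ toFun := fun z => (∑ q, Φ q) z
       map_add' := map_add _
       map_smul' := fun r z => hlin r z } : Module.End (MonoidAlgebra k G) V)
  -- representatives of `C` modulo `D`
  let D' : Subgroup S.C := S.D.subgroupOf S.C
  have := Fintype.ofFinite (S.C ⧸ D')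
  let R : Finset G := Finset.univ.image fun r : S.C ⧸ D' => ((r.out : S.C) : G)
  have hRinj : Function.Injective fun r : S.C ⧸ D' => ((r.out : S.C) : G) := fun r r' h => by
    rw [← QuotientGroup.out_eq' r, ← QuotientGroup.out_eq' r', Subtype.ext h]
  have hRC : ∀ d ∈ R, d ∈ S.C := fun d hd => by
    obtain ⟨r, -, rfl⟩ := Finset.mem_image.1 hd; exact (r.out : S.C).2
  have hR : ∀ c ∈ S.C, ∃! d, d ∈ R ∧ d⁻¹ * c ∈ S.D := by
    intro c hc
    refine ⟨((((⟨c, hc⟩ : S.C) : S.C ⧸ D').out : S.C) : G),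
      ⟨Finset.mem_image.2 ⟨_, Finset.mem_univ _, rfl⟩, ?_⟩, ?_⟩
    · have h := QuotientGroup.eq.1 (QuotientGroup.out_eq' ((⟨c, hc⟩ : S.C) : S.C ⧸ D'))
      exact Subgroup.mem_subgroupOf.1 h
    · rintro d ⟨hd, hdc⟩
      obtain ⟨r, -, rfl⟩ := Finset.mem_image.1 hd
      have h : (r.out : S.C)⁻¹ * ⟨c, hc⟩ ∈ D' := Subgroup.mem_subgroupOf.2 hdc
      rw [← QuotientGroup.eq, QuotientGroup.out_eq'] at h
      rw [← h]
  have hbsum := S.hβ R hR hRC
  let L : MonoidAlgebra k G →ₐ[k] Module.End k V := Algebra.lsmul k k V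
  have hβπ : ∀ y ∈ S.D, conjEnd y (L S.β ∘ₗ π) = L S.β ∘ₗ π := fun y hy =>
    conjEnd_eq_of_commute fun z => by
      change S.β • π (of k G y • z) = of k G y • S.β • π z
      rw [hπC y (S.hDC hy), smul_smul, smul_smul, S.hβD y hy]
  -- the cosets off `T`
  have hoff : ∀ v : V, S.X • v = 0 → S.b • v = v → ∀ q₀ : G ⧸ S.T, q₀ = ((1 : G) : G ⧸ S.T) →
      ∃ z, S.X ^ (S.q - 1) • z = S.b • ∑ q ∈ Finset.univ.erase q₀, Φ q v := by
    intro v hXv hbv q₀ hq₀
    subst hq₀
    set s : Finset (G ⧸ S.T) := Finset.univ.erase ((1 : G) : G ⧸ S.T) with hs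
    -- refine the cosets of `T` to the cosets of `D` lying in a coset of `C`
    let C₀ : G ⧸ S.C → G ⧸ S.T := Quotient.map' id fun a b h => by
      rw [QuotientGroup.leftRel_apply] at h ⊢
      exact S.hCT h
    let D₀ : G ⧸ S.D → G ⧸ S.T := Quotient.map' id fun a b h => by
      rw [QuotientGroup.leftRel_apply] at h ⊢
      exact S.hCT (S.hDC h)
    have := Fintype.ofFinite (G ⧸ S.D)
    let Ψ : G ⧸ S.D → (V →ₗ[k] V) := fun q => conjEnd q.out (L S.β ∘ₗ π)
    have hΨ : ∀ g : G, Ψ (g : G ⧸ S.D) = conjEnd g (L S.β ∘ₗ π) := by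
      intro g
      obtain ⟨h, hh⟩ := QuotientGroup.mk_out_eq_mul S.D g
      simp only [Ψ, hh]
      rw [conjEnd_mul, hβπ h h.2]
    let X' : Finset (G ⧸ S.D) := Finset.univ.filter fun q => D₀ q ∈ s
    let X'' : Finset (G ⧸ S.D) := X'.filter fun q => ∀ y : S.D, y • q = q → y = 1
    have hzero : ∀ q ∈ X', q ∉ X'' → ∀ z, Ψ q (S.b • z) = 0 := by
      intro q hq hq' z
      obtain ⟨g, rfl⟩ := QuotientGroup.mk_surjective q
      have hg : g ∉ S.T := fun h => (Finset.mem_erase.1 (Finset.mem_filter.1 hq).2).1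
        (QuotientGroup.eq.2 (by simpa using inv_mem h))
      have hor := (S.hTI g hg).resolve_right fun hfree => hq' (Finset.mem_filter.2 ⟨hq, fun y hy => by
        have h := QuotientGroup.eq.1 (hy :).symm
        refine Subtype.ext (hfree y y.2 ?_)
        rw [mul_assoc]
        exact h⟩)
      rw [hΨ, conjEnd_apply]
      change of k G g • S.β • π (of k G g⁻¹ • S.b • z) = 0
      rw [← hπb, smul_smul S.b, smul_smul _ S.b z,
        show S.b * of k G g⁻¹ * S.b = of k G g⁻¹ * (of k G g * S.b * of k G g⁻¹ * S.b) by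
          simp only [← mul_assoc, ← map_mul, inv_mul_cancel, map_one, one_mul],
        hor, mul_zero, zero_smul, map_zero, smul_zero, smul_zero]
    -- the sum over cosets of `D` in a coset of `T` is a multiple of `Φ`
    have hfib : ∀ q : G ⧸ S.T, ∑ x ∈ Finset.univ.filter (fun x => D₀ x = q), Ψ x = m • Φ q := by
      intro q
      obtain ⟨g, rfl⟩ := QuotientGroup.mk_surjective q
      rw [hΦ]
      calc ∑ x ∈ Finset.univ.filter (fun x => D₀ x = (g : G ⧸ S.T)), Ψ x
          = ∑ tc : (S.T ⧸ C') × (S.C ⧸ D'),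
              conjEnd g (conjEnd ((tc.1.out : S.T) : G) (conjEnd ((tc.2.out : S.C) : G)
                (L S.β ∘ₗ π))) := by
            symm
            refine Finset.sum_bij (fun tc _ =>
              ((g * (((tc.1.out : S.T) : G) * ((tc.2.out : S.C) : G)) : G) : G ⧸ S.D)) ?_ ?_ ?_ ?_
            · intro tc _
              refine Finset.mem_filter.2 ⟨Finset.mem_univ _, ?_⟩
              change ((g * (((tc.1.out : S.T) : G) * ((tc.2.out : S.C) : G)) : G) : G ⧸ S.T) = _
              rw [QuotientGroup.eq]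
              simpa [mul_assoc] using mul_mem (inv_mem (S.hCT (tc.2.out : S.C).2))
                (inv_mem (tc.1.out : S.T).2)
            · rintro ⟨t, c⟩ _ ⟨t', c'⟩ _ h
              rw [QuotientGroup.eq] at h
              simp only [mul_inv_rev, mul_assoc, inv_mul_cancel_left] at h
              have ht : t = t' := by
                rw [← QuotientGroup.out_eq' t, ← QuotientGroup.out_eq' t', QuotientGroup.eq]
                have h2 := mul_mem (mul_mem (c.out : S.C).2 (S.hDC h)) (inv_mem (c'.out : S.C).2)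
                simpa [Subgroup.mem_subgroupOf, mul_assoc, C'] using h2
              subst ht
              have hc : c = c' := by
                rw [← QuotientGroup.out_eq' c, ← QuotientGroup.out_eq' c', QuotientGroup.eq]
                simpa [Subgroup.mem_subgroupOf, mul_assoc, D'] using h
              rw [hc]
            · intro x hx
              obtain ⟨y, rfl⟩ := QuotientGroup.mk_surjective x
              have hy : g⁻¹ * y ∈ S.T := by
                have h := QuotientGroup.eq.1 ((Finset.mem_filter.1 hx).2 :)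
                simpa using inv_mem h
              set t : S.T ⧸ C' := ((⟨g⁻¹ * y, hy⟩ : S.T) : S.T ⧸ C')
              have hc : ((t.out : S.T) : G)⁻¹ * (g⁻¹ * y) ∈ S.C :=
                Subgroup.mem_subgroupOf.1 (QuotientGroup.eq.1 (QuotientGroup.out_eq' t))
              set c : S.C ⧸ D' := ((⟨_, hc⟩ : S.C) : S.C ⧸ D')
              refine ⟨(t, c), Finset.mem_univ _, ?_⟩
              rw [QuotientGroup.eq]
              have h := Subgroup.mem_subgroupOf.1 (QuotientGroup.eq.1 (QuotientGroup.out_eq' c))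
              simpa [mul_assoc] using h
            · intro tc _
              rw [hΨ, conjEnd_mul, conjEnd_mul]
        _ = ∑ t : S.T ⧸ C', conjEnd g (conjEnd ((t.out : S.T) : G) π) := by
            rw [Fintype.sum_prod_type]
            refine Finset.sum_congr rfl fun t _ => ?_
            ext z
            simp only [LinearMap.sum_apply, conjEnd_apply, ← Finset.smul_sum]
            congr 2
            set z' := of k G ((t.out : S.T) : G)⁻¹ • of k G g⁻¹ • z
            calc ∑ c : S.C ⧸ D', of k G ((c.out : S.C) : G) • (L S.β ∘ₗ π)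
                  (of k G ((c.out : S.C) : G)⁻¹ • z')
                = ∑ c : S.C ⧸ D', (of k G ((c.out : S.C) : G) * S.β *
                    of k G ((c.out : S.C) : G)⁻¹) • π z' := by
                  refine Finset.sum_congr rfl fun c _ => ?_
                  change of k G _ • S.β • π _ = _
                  rw [hπC _ (inv_mem (c.out : S.C).2), mul_smul, mul_smul]
              _ = π z' := by
                  rw [← Finset.sum_smul]
                  conv_rhs => rw [← hbπ, ← hbsum, Finset.sum_image fun a _ b _ h => hRinj h]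
        _ = m • conjEnd g π := by
            rw [Finset.sum_congr rfl (g := fun _ => conjEnd g π) fun t _ => by
              rw [conjEnd_eq_of_commute (g := ((t.out : S.T) : G)) fun z =>
                hπT _ (t.out : S.T).2 z]]
            rw [Finset.sum_const, Finset.card_univ, ← Nat.cast_smul_eq_nsmul k]
    let act : MulAction S.D (G ⧸ S.D) := inferInstance
    obtain ⟨h₀, hh₀⟩ := exists_trace_sum S (Q := G ⧸ S.D) (fun q => L S.β ∘ₗ L S.b ∘ₗ Ψ q ∘ₗ L S.b)
      (fun y q => by
        obtain ⟨g, rfl⟩ := QuotientGroup.mk_surjective q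
        rw [show y • (g : G ⧸ S.D) = (((y : G) * g : G) : G ⧸ S.D) from rfl, hΨ, hΨ, conjEnd_mul]
        ext z
        have hyb := S.hbT (y : G) (S.hCT (S.hDC y.2))
        have hyb' := S.hbT (y : G)⁻¹ (inv_mem (S.hCT (S.hDC y.2)))
        simp only [LinearMap.comp_apply, conjEnd_apply, L, Algebra.lsmul_coe]
        rw [smul_smul (of k G (y : G)⁻¹) S.b z, hyb', mul_smul, smul_smul S.b (of k G (y : G)),
          ← hyb, mul_smul, smul_smul S.β (of k G (y : G)), ← S.hβD _ y.2, mul_smul])
      X'' (fun q hq y => by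
        obtain ⟨hqX, hqf⟩ := Finset.mem_filter.1 hq
        obtain ⟨g, rfl⟩ := QuotientGroup.mk_surjective q
        refine Finset.mem_filter.2 ⟨Finset.mem_filter.2 ⟨Finset.mem_univ _, ?_⟩, fun y' hy' => ?_⟩
        · refine Finset.mem_erase.2 ⟨fun h => ?_, Finset.mem_univ _⟩
          refine (Finset.mem_erase.1 (Finset.mem_filter.1 hqX).2).1 ?_
          change ((g : G) : G ⧸ S.T) = _
          change (((y : G) * g : G) : G ⧸ S.T) = _ at h
          rw [QuotientGroup.eq, mul_one] at h ⊢
          simpa [mul_assoc] using mul_mem h (S.hCT (S.hDC y.2))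
        · have h := hqf (y⁻¹ * y' * y) (by rw [mul_smul, mul_smul, hy', inv_smul_smul])
          have := congrArg (fun u => y * u * y⁻¹) h
          simp only [mul_assoc, mul_inv_cancel_left, mul_inv_cancel, mul_one] at this
          exact this)
      (fun q hq => (Finset.mem_filter.1 hq).2)
    -- assemble
    let hc : V →ₗ[k] V := m⁻¹ • h₀
    obtain ⟨z, hz⟩ := S.exists_eq_trace_one hc hXv
    refine ⟨z, ?_⟩
    rw [hz]
    refine (congrArg (S.b • ·) (?_ : _ = S.b • ∑ q ∈ s, Φ q v)).trans (by rw [smul_smul, S.hbb])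
    have hsum : ∑ q ∈ X', Ψ q = ∑ q ∈ s, m • Φ q := by
      rw [← Finset.sum_fiberwise_of_maps_to (s := X') (t := s) (g := D₀)
        (fun q hq => (Finset.mem_filter.1 hq).2)]
      refine Finset.sum_congr rfl fun q hq => ?_
      rw [← hfib q]
      refine Finset.sum_congr ?_ fun _ _ => rfl
      ext x
      simp only [X', Finset.mem_filter, Finset.mem_univ, true_and]
      exact ⟨fun h => h.2, fun h => ⟨h ▸ hq, h⟩⟩
    have hH : ∀ z', ∑ q ∈ X'', (L S.β ∘ₗ L S.b ∘ₗ Ψ q ∘ₗ L S.b) z' =
        S.β • S.b • m • ∑ q ∈ s, Φ q (S.b • z') := by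
      intro z'
      rw [Finset.sum_subset (Finset.filter_subset _ X') fun q hq hq' => by
        change S.β • S.b • Ψ q (S.b • z') = 0
        rw [hzero q hq hq', smul_zero, smul_zero]]
      change ∑ q ∈ X', S.β • S.b • Ψ q (S.b • z') = _
      rw [← Finset.smul_sum, ← Finset.smul_sum, ← LinearMap.sum_apply, hsum, LinearMap.sum_apply,
        Finset.smul_sum]
      simp only [LinearMap.smul_apply, Finset.smul_sum]
    -- group the elements of `C` by the representatives
    calc ∑ c : S.C, conjEnd (c : G) hc v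
        = ∑ r : S.C ⧸ D', ∑ y : S.D, conjEnd ((r.out : S.C) : G) (conjEnd (y : G) hc) v := by
          rw [← Fintype.sum_prod_type']
          refine (Finset.sum_bij (fun ry _ => (⟨((ry.1.out : S.C) : G) * (ry.2 : G),
            mul_mem (ry.1.out : S.C).2 (S.hDC ry.2.2)⟩ : S.C)) (fun _ _ => Finset.mem_univ _)
            ?_ ?_ ?_).symm
          · rintro ⟨r, y⟩ _ ⟨r', y'⟩ _ h
            have h' : ((r.out : S.C) : G) * (y : G) = ((r'.out : S.C) : G) * (y' : G) :=
              congrArg Subtype.val h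
            have hr : r = r' := by
              rw [← QuotientGroup.out_eq' r, ← QuotientGroup.out_eq' r', QuotientGroup.eq]
              refine Subgroup.mem_subgroupOf.2 ?_
              rw [Subgroup.coe_mul, Subgroup.coe_inv]
              rw [show ((r'.out : S.C) : G) = ((r.out : S.C) : G) * (y : G) * (y' : G)⁻¹ by
                rw [h', mul_inv_cancel_right], ← mul_assoc, inv_mul_cancel_left]
              exact mul_mem y.2 (inv_mem y'.2)
            subst hr
            exact Prod.ext rfl (Subtype.ext (mul_left_cancel h'))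
          · intro c _
            set r : S.C ⧸ D' := (c : S.C ⧸ D')
            refine ⟨(r, ⟨((r.out : S.C) : G)⁻¹ * (c : G),
              Subgroup.mem_subgroupOf.1 (QuotientGroup.eq.1 (QuotientGroup.out_eq' r))⟩),
              Finset.mem_univ _, Subtype.ext ?_⟩
            exact mul_inv_cancel_left _ _
          · intro ry _
            simp only [conjEnd_mul]
      _ = ∑ r : S.C ⧸ D', (of k G ((r.out : S.C) : G) * S.β * of k G ((r.out : S.C) : G)⁻¹) •
            S.b • ∑ q ∈ s, Φ q v := by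
          refine Finset.sum_congr rfl fun r _ => ?_
          simp only [conjEnd_apply (g := ((r.out : S.C) : G)), ← Finset.smul_sum]
          rw [mul_smul, mul_smul]
          congr 1
          have hhc : ∀ (y : S.D) (z' : V), conjEnd (y : G) hc z' = m⁻¹ • conjEnd (y : G) h₀ z' := by
            intro y z'
            simp only [hc, conjEnd_apply, LinearMap.smul_apply]
            rw [smul_comm]
          rw [Finset.sum_congr rfl fun y _ => hhc y _, ← Finset.smul_sum, ← LinearMap.sum_apply,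
            hh₀, LinearMap.sum_apply, hH, smul_comm S.b m, smul_comm S.β m, smul_smul,
            inv_mul_cancel₀ hm, one_smul]
          congr 1
          have hrC := inv_mem (r.out : S.C).2
          rw [smul_smul (of k G ((r.out : S.C) : G)⁻¹) S.b, S.hbT _ (S.hCT hrC), mul_smul,
            smul_smul S.b (of k G ((r.out : S.C) : G)⁻¹), ← S.hbT _ (S.hCT hrC), mul_smul, hbv]
          congr 1
          rw [Finset.smul_sum]
          set a : G := ((r.out : S.C) : G)
          have ha : a ∈ S.T := S.hCT (r.out : S.C).2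
          have hmem : ∀ t : G, t ∈ S.T → ∀ q ∈ s, t • q ∈ s := by
            intro t ht q hq
            refine Finset.mem_erase.2 ⟨fun h => (Finset.mem_erase.1 hq).1 ?_, Finset.mem_univ _⟩
            rw [eq_inv_smul_iff.2 h]
            change ((t⁻¹ * 1 : G) : G ⧸ S.T) = _
            rw [QuotientGroup.eq]
            simpa using ht
          refine Finset.sum_nbij' (fun q => a • q) (fun q => a⁻¹ • q) (hmem a ha)
            (hmem _ (inv_mem ha)) (fun q _ => inv_smul_smul a q) (fun q _ => smul_inv_smul a q)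
            fun q _ => ?_
          rw [hΦh, conjEnd_apply (g := a), smul_smul (of k G a⁻¹) (of k G a), ← map_mul,
            inv_mul_cancel, map_one, one_smul]
      _ = _ := by
          rw [← Finset.sum_smul, ← Finset.sum_image (f := fun d => of k G d * S.β * of k G d⁻¹)
            (fun a _ b _ h => hRinj h), hbsum, smul_smul, S.hbb]
  have hval : ∀ v : V, S.X • v = 0 → S.b • v = v →
      ∃ z, S.X ^ (S.q - 1) • z = c₀ • v - π v := by
    intro v hXv hbv
    obtain ⟨z, hz⟩ := hoff v hXv hbv _ rfl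
    refine ⟨z, ?_⟩
    have h : c₀ • v = (∑ q, Φ q) v := LinearMap.congr_fun hc₀ v
    have h1 : Φ ((1 : G) : G ⧸ S.T) v = π v := by
      rw [hΦ, conjEnd_apply, inv_one, map_one, one_smul, one_smul]
    have hbc : c₀ • v = S.b • (c₀ • v) := by rw [smul_comm, hbv]
    rw [hz, hbc, h, LinearMap.sum_apply,
      ← Finset.add_sum_erase _ (fun q => Φ q v) (Finset.mem_univ ((1 : G) : G ⧸ S.T)), smul_add, h1,
      hbπ, add_sub_cancel_left]
  obtain ⟨z₁, hz₁⟩ := hval v₁ hv₁.1 (hbv h₁ hv₁)
  obtain ⟨z₂, hz₂⟩ := hval v₂ hv₂.1 (hbv h₂ hv₂)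
  rw [hπ1] at hz₁
  rw [hπ2, sub_zero] at hz₂
  by_cases hc1 : c₀ = 1
  · rw [hc1, one_smul] at hz₂
    exact hv₂.2.2 z₂ hz₂
  · apply hv₁.2.2 ((c₀ - 1)⁻¹ • z₁)
    rw [smul_comm, hz₁, smul_sub, smul_smul, ← sub_smul, ← mul_sub_one,
      inv_mul_cancel₀ (sub_ne_zero.2 hc1), one_smul]

end StableData

end CfsgLib.Block
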