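import Cfsg.Agent.Lib.Block.GroupAlg
import Mathlib.RingTheory.SimpleModule.Basic
import Mathlib.FieldTheory.IsAlgClosed.Basic
import Mathlib.LinearAlgebra.Dual.Lemmas
import Mathlib.LinearAlgebra.Basis.VectorSpace
import Mathlib.LinearAlgebra.Trace
import Mathlib.GroupTheory.GroupAction.Quotient
import Mathlib.Tactic

/-!
Simple modules attached to the linear characters of the normalizer of a subgroup of prime order
whose conjugates meet trivially: an elementary form of the stable correspondence.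
-/

set_option autoImplicit false
set_option linter.unusedSectionVars false

namespace CfsgLib.Block

open MonoidAlgebra

universe u v w

/-- A subgroup `P = ⟨x⟩` of prime order, its normalizer `N` and a complement `K` of `P` in `N`. -/
structure TIData (G : Type u) [Group G] (p : ℕ) where
  P : Subgroup G
  N : Subgroup G
  K : Subgroup G
  x : G
  gen : P = Subgroup.zpowers x
  ord : orderOf x = p
  normal : ∀ n ∈ N, ∀ y ∈ P, n * y * n⁻¹ ∈ P
  leK : K ≤ N
  split : ∀ n ∈ N, ∃ a ∈ K, ∃ y ∈ P, n = a * y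
  cop : ¬ p ∣ Nat.card K
  leN : Subgroup.centralizer (P : Set G) ≤ N
  ti : ∀ g : G, (∀ y ∈ P, g⁻¹ * y * g ∈ N) → g ∈ N

variable {G : Type u} [Group G] [Finite G] {p : ℕ} [hp : Fact p.Prime]
  {k : Type v} [Field k] [CharP k p]

/-- A multiplicative function on `N` trivial on the centralizer of `P`. -/
structure TIData.LinChar (D : TIData G p) (ω : G → k) : Prop where
  map_mul : ∀ a ∈ D.N, ∀ b ∈ D.N, ω (a * b) = ω a * ω b
  map_cen : ∀ c ∈ Subgroup.centralizer (D.P : Set G), ω c = 1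

namespace TIData

variable (D : TIData G p)

theorem natCard_P : Nat.card D.P = p := by rw [D.gen, Nat.card_zpowers, D.ord]

theorem isPGroup_P : IsPGroup p D.P := IsPGroup.of_card (n := 1) (by rw [D.natCard_P, pow_one])

theorem x_mem : D.x ∈ D.P := by rw [D.gen]; exact Subgroup.mem_zpowers D.x

theorem P_le_centralizer : D.P ≤ Subgroup.centralizer (D.P : Set G) := by
  intro y hy
  rw [Subgroup.mem_centralizer_iff]
  intro z hz
  rw [SetLike.mem_coe, D.gen, Subgroup.mem_zpowers_iff] at hz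
  rw [D.gen, Subgroup.mem_zpowers_iff] at hy
  obtain ⟨i, rfl⟩ := hy
  obtain ⟨j, rfl⟩ := hz
  rw [← zpow_add, ← zpow_add, add_comm]

theorem P_le_N : D.P ≤ D.N := D.P_le_centralizer.trans D.leN

theorem exists_pow {y : G} (hy : y ∈ D.P) : ∃ i : ℕ, D.x ^ i = y := by
  rw [D.gen] at hy
  exact mem_powers_iff_mem_zpowers.2 hy

theorem one_map {ω : G → k} (hω : D.LinChar ω) : ω 1 = 1 := hω.map_cen 1 (one_mem _)

theorem map_P {ω : G → k} (hω : D.LinChar ω) {y : G} (hy : y ∈ D.P) : ω y = 1 :=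
  hω.map_cen y (D.P_le_centralizer hy)

theorem map_ne_zero {ω : G → k} (hω : D.LinChar ω) {n : G} (hn : n ∈ D.N) : ω n ≠ 0 := by
  intro h
  have h1 := hω.map_mul n hn n⁻¹ (inv_mem hn)
  rw [mul_inv_cancel, D.one_map hω, h, zero_mul] at h1
  exact one_ne_zero h1

theorem map_inv {ω : G → k} (hω : D.LinChar ω) {n : G} (hn : n ∈ D.N) : ω n⁻¹ = (ω n)⁻¹ := by
  apply eq_inv_of_mul_eq_one_left
  rw [← hω.map_mul _ (inv_mem hn) _ hn, inv_mul_cancel, D.one_map hω]

omit [Finite G] [CharP k p] in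
theorem natCast_K_ne_zero [CharP k p] : (Nat.card D.K : k) ≠ 0 := fun h =>
  D.cop ((CharP.cast_eq_zero_iff k p _).1 h)

/-- The sum of the elements of `P`. -/
noncomputable def T : MonoidAlgebra k G := ∑ i ∈ Finset.range p, of k G (D.x ^ i)

theorem T_eq_sum [Fintype D.P] : (D.T : MonoidAlgebra k G) = ∑ y : D.P, of k G (y : G) := by
  refine Finset.sum_nbij' (fun i => (⟨D.x ^ i, pow_mem D.x_mem i⟩ : D.P))
    (fun y => (D.exists_pow y.2).choose % p) (fun _ _ => Finset.mem_univ _) ?_ ?_ ?_ fun _ _ => rfl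
  · intro y _
    exact Finset.mem_range.2 (Nat.mod_lt _ hp.out.pos)
  · intro i hi
    have h := (D.exists_pow (pow_mem D.x_mem i : D.x ^ i ∈ D.P)).choose_spec
    rw [pow_inj_mod, D.ord] at h
    simp only
    rw [h, Nat.mod_eq_of_lt (Finset.mem_range.1 hi)]
  · intro y _
    refine Subtype.ext ?_
    simp only
    have h := pow_mod_orderOf D.x (D.exists_pow y.2).choose
    rw [D.ord] at h
    exact h.trans (D.exists_pow y.2).choose_spec

theorem mul_T {y : G} (hy : y ∈ D.P) : of k G y * D.T = D.T := by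
  have := Fintype.ofFinite D.P
  rw [D.T_eq_sum, Finset.mul_sum]
  refine Fintype.sum_equiv (Equiv.mulLeft (⟨y, hy⟩ : D.P)) _ _ fun z => ?_
  simp

theorem T_comm {n : G} (hn : n ∈ D.N) :
    of k G n * (D.T : MonoidAlgebra k G) = D.T * of k G n := by
  have := Fintype.ofFinite D.P
  rw [D.T_eq_sum, Finset.mul_sum, Finset.sum_mul]
  refine Finset.sum_nbij' (fun y : D.P => (⟨n * y * n⁻¹, D.normal n hn _ y.2⟩ : D.P))
    (fun y : D.P => (⟨n⁻¹ * y * n, by simpa using D.normal n⁻¹ (inv_mem hn) _ y.2⟩ : D.P))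
    (fun _ _ => Finset.mem_univ _) (fun _ _ => Finset.mem_univ _) (fun y _ => ?_) (fun y _ => ?_)
    (fun y _ => ?_)
  · apply Subtype.ext; simp only; group
  · apply Subtype.ext; simp only; group
  · rw [← map_mul, ← map_mul]; congr 1; group

/-- The averaging element of `ω`. -/
noncomputable def avg (ω : G → k) : MonoidAlgebra k G :=
  (Nat.card D.K : k)⁻¹ • ∑ᶠ a : D.K, (ω (a : G))⁻¹ • of k G (a : G)

theorem avg_eq [Fintype D.K] (ω : G → k) :
    D.avg ω = (Nat.card D.K : k)⁻¹ • ∑ a : D.K, (ω (a : G))⁻¹ • of k G (a : G) := by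
  rw [avg, finsum_eq_sum_of_fintype]

theorem mul_avg {ω : G → k} (hω : D.LinChar ω) {a : G} (ha : a ∈ D.K) :
    of k G a * D.avg ω = ω a • D.avg ω := by
  have := Fintype.ofFinite D.K
  rw [D.avg_eq, mul_smul_comm, Finset.mul_sum, smul_comm]
  congr 1
  rw [Finset.smul_sum]
  refine Fintype.sum_equiv (Equiv.mulLeft (⟨a, ha⟩ : D.K)) _ _ fun b => ?_
  rw [Equiv.coe_mulLeft, Subgroup.coe_mul, mul_smul_comm, ← map_mul, smul_smul,
    hω.map_mul a (D.leK ha) b (D.leK b.2), mul_inv, ← mul_assoc,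
    mul_inv_cancel₀ (D.map_ne_zero hω (D.leK ha)), one_mul]

theorem avg_comm_T (ω : G → k) : D.avg ω * (D.T : MonoidAlgebra k G) = D.T * D.avg ω := by
  have := Fintype.ofFinite D.K
  rw [D.avg_eq, mul_smul_comm, smul_mul_assoc, Finset.mul_sum, Finset.sum_mul]
  congr 1
  refine Finset.sum_congr rfl fun a _ => ?_
  rw [smul_mul_assoc, mul_smul_comm, D.T_comm (D.leK a.2)]

section Module

variable {V : Type w} [AddCommGroup V] [Module (MonoidAlgebra k G) V]
  [Module k V] [IsScalarTower k (MonoidAlgebra k G) V]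

theorem of_smul_comm (c : k) (g : G) (v : V) :
    of k G g • c • v = c • of k G g • v := smul_comm _ _ _

/-- An element of weight `ω`. -/
def IsWeight (ω : G → k) (v : V) : Prop := ∀ n ∈ D.N, of k G n • v = ω n • v

/-- A weight vector which is not in the image of the trace from the trivial subgroup to `P`. -/
def IsLive (ω : G → k) (v : V) : Prop :=
  D.IsWeight ω v ∧ ∀ z : V, (D.T : MonoidAlgebra k G) • z ≠ v

theorem isWeight_avg_T {ω : G → k} (hω : D.LinChar ω) (z : V) :
    D.IsWeight ω (D.avg ω • (D.T : MonoidAlgebra k G) • z) := by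
  intro n hn
  obtain ⟨a, ha, y, hy, rfl⟩ := D.split n hn
  rw [hω.map_mul a (D.leK ha) y (D.P_le_N hy), D.map_P hω hy, mul_one, smul_smul, smul_smul,
    map_mul, mul_assoc (of k G a * of k G y), D.avg_comm_T, ← mul_assoc, mul_assoc (of k G a),
    D.mul_T hy, D.T_comm (D.leK ha),
    mul_assoc, D.mul_avg hω ha, mul_smul_comm, smul_assoc, ← D.avg_comm_T, smul_smul]

theorem avg_smul_weight {ω : G → k} (hω : D.LinChar ω) {v : V} (hv : D.IsWeight ω v) :
    D.avg ω • v = v := by
  have := Fintype.ofFinite D.K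
  rw [D.avg_eq, smul_assoc, Finset.sum_smul, Finset.sum_congr rfl (g := fun _ => v),
    Finset.sum_const, Finset.card_univ, ← Nat.card_eq_fintype_card,
    ← Nat.cast_smul_eq_nsmul k, smul_smul, inv_mul_cancel₀ D.natCast_K_ne_zero, one_smul]
  intro a _
  rw [smul_assoc, hv _ (D.leK a.2), smul_smul,
    inv_mul_cancel₀ (D.map_ne_zero hω (D.leK a.2)), one_smul]

theorem avg_smul_other {ω ω' : G → k} (hω : D.LinChar ω) (hω' : D.LinChar ω')
    (hne : ∃ n ∈ D.N, ω n ≠ ω' n) {v : V} (hv : D.IsWeight ω' v) : D.avg ω • v = 0 := by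
  have := Fintype.ofFinite D.K
  obtain ⟨n, hn, hne⟩ := hne
  obtain ⟨a, ha, y, hy, rfl⟩ := D.split n hn
  rw [hω.map_mul a (D.leK ha) y (D.P_le_N hy), hω'.map_mul a (D.leK ha) y (D.P_le_N hy),
    D.map_P hω hy, D.map_P hω' hy, mul_one, mul_one] at hne
  have h1 : ∀ b : G, b ∈ D.K → of k G b • D.avg ω • v = ω b • D.avg ω • v := fun b hb => by
    rw [smul_smul, D.mul_avg hω hb, smul_assoc]
  have h2 : D.avg ω • v = (Nat.card D.K : k)⁻¹ •
      (∑ b : D.K, (ω (b : G))⁻¹ * ω' (b : G)) • v := by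
    rw [D.avg_eq, smul_assoc, Finset.sum_smul, Finset.sum_smul]
    congr 1
    refine Finset.sum_congr rfl fun b _ => ?_
    rw [smul_assoc, hv _ (D.leK b.2), smul_smul]
  have h3 := h1 a ha
  rw [h2, of_smul_comm, of_smul_comm, hv a (D.leK ha),
    smul_comm (∑ b : D.K, (ω (b : G))⁻¹ * ω' (b : G)) (ω' a) v,
    smul_comm ((Nat.card D.K : k)⁻¹) (ω' a), ← h2] at h3
  have h4 : (ω a - ω' a) • D.avg ω • v = 0 := by rw [sub_smul, h3, sub_self]
  exact (smul_eq_zero.1 h4).resolve_left (sub_ne_zero.2 hne)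

/-- Half exactness. -/
theorem exists_live_sub_or_quot {ω : G → k} (hω : D.LinChar ω) (U : Submodule (MonoidAlgebra k G) V)
    {v : V} (hv : D.IsLive ω v) :
    (∃ w : U, D.IsLive ω w) ∨ (∃ w : V ⧸ U, D.IsLive ω w) := by
  by_cases h : ∀ z : V ⧸ U, (D.T : MonoidAlgebra k G) • z ≠ Submodule.Quotient.mk v
  · refine Or.inr ⟨_, fun n hn => ?_, h⟩
    rw [← Submodule.Quotient.mk_smul, hv.1 n hn, Submodule.Quotient.mk_smul]
  · push Not at h
    obtain ⟨z, hz⟩ := h
    obtain ⟨z, rfl⟩ := Submodule.Quotient.mk_surjective _ z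
    rw [← Submodule.Quotient.mk_smul] at hz
    have hmem : v - D.avg ω • (D.T : MonoidAlgebra k G) • z ∈ U := by
      rw [← Submodule.Quotient.eq, Submodule.Quotient.mk_smul, hz, ← Submodule.Quotient.mk_smul,
        D.avg_smul_weight hω hv.1]
    refine Or.inl ⟨⟨_, hmem⟩, fun n hn => Subtype.ext ?_, fun w hw => ?_⟩
    · simp only [SetLike.val_smul_of_tower]
      rw [smul_sub, smul_sub, hv.1 n hn, D.isWeight_avg_T hω z n hn]
    · have h1 := congrArg Subtype.val hw
      simp only [Submodule.coe_smul] at h1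
      apply hv.2 (w + D.avg ω • z)
      rw [smul_add, h1, smul_smul, smul_smul, ← D.avg_comm_T, sub_add_cancel]

end Module

/-- The left ideal of elements of right weight `ω`. -/
def weightIdeal (ω : G → k) : Submodule (MonoidAlgebra k G) (MonoidAlgebra k G) where
  carrier := {m | ∀ n ∈ D.N, m * of k G n = ω n • m}
  add_mem' := fun {a b} ha hb n hn => by rw [add_mul, ha n hn, hb n hn, smul_add]
  zero_mem' := fun n _ => by rw [zero_mul, smul_zero]
  smul_mem' := fun c m hm n hn => by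
    rw [smul_eq_mul, mul_assoc, hm n hn, mul_smul_comm]

theorem exists_live_weightIdeal {ω : G → k} (hω : D.LinChar ω) :
    ∃ v : D.weightIdeal ω, D.IsLive ω v := by
  classical
  set m : MonoidAlgebra k G := mkGA fun g => if g ∈ D.N then (ω g)⁻¹ else 0 with hm
  have hr : m ∈ D.weightIdeal ω := by
    intro n hn
    ext g
    rw [of_apply, coeff_mul_single_apply, mul_one, coeff_smul, Finsupp.smul_apply, smul_eq_mul,
      hm, coeff_mkGA, coeff_mkGA]
    by_cases hg : g ∈ D.N
    · rw [if_pos hg, if_pos (mul_mem hg (inv_mem hn)), hω.map_mul g hg n⁻¹ (inv_mem hn),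
        D.map_inv hω hn, mul_inv, inv_inv, mul_comm]
    · rw [if_neg hg, if_neg (fun h => hg (by simpa using mul_mem h hn)), mul_zero]
  refine ⟨⟨m, hr⟩, fun n hn => Subtype.ext ?_, fun z hz => ?_⟩
  · simp only [SetLike.val_smul_of_tower]
    ext g
    rw [smul_eq_mul, of_apply, coeff_single_mul_apply, one_mul, coeff_smul, Finsupp.smul_apply,
      smul_eq_mul, hm, coeff_mkGA, coeff_mkGA]
    by_cases hg : g ∈ D.N
    · rw [if_pos hg, if_pos (mul_mem (inv_mem hn) hg), hω.map_mul n⁻¹ (inv_mem hn) g hg,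
        D.map_inv hω hn, mul_inv, inv_inv]
    · rw [if_neg hg, if_neg (fun h => hg (by simpa using mul_mem hn h)), mul_zero]
  · have h1 := congrArg (fun t : D.weightIdeal ω => ((t : MonoidAlgebra k G)).coeff 1) hz
    simp only [Submodule.coe_smul, smul_eq_mul, hm, coeff_mkGA, if_pos (one_mem D.N),
      D.one_map hω, inv_one, T, Finset.sum_mul] at h1
    have h2 : ∀ i ∈ Finset.range p,
        (of k G (D.x ^ i) * (z : MonoidAlgebra k G)).coeff 1 = (z : MonoidAlgebra k G).coeff 1 := by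
      intro i _
      have hy : D.x ^ i ∈ D.P := pow_mem D.x_mem i
      have h3 := congrArg (fun t : MonoidAlgebra k G => t.coeff 1)
        (z.2 (D.x ^ i) (D.P_le_N hy))
      simp only [of_apply, coeff_mul_single_apply, mul_one, one_mul, coeff_smul,
        Finsupp.smul_apply, smul_eq_mul, D.map_P hω hy] at h3
      rw [of_apply, coeff_single_mul_apply, one_mul, mul_one, h3]
    rw [coeff_sum, Finsupp.finsetSum_apply, Finset.sum_congr rfl h2, Finset.sum_const,
      Finset.card_range, nsmul_eq_mul, CharP.cast_eq_zero, zero_mul] at h1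
    exact zero_ne_one h1

/-- A simple section of the regular module with a live vector. -/
theorem exists_simple_live {ω : G → k} (hω : D.LinChar ω) :
    ∃ (U : Submodule (MonoidAlgebra k G) (MonoidAlgebra k G))
      (U' : Submodule (MonoidAlgebra k G) U),
      IsSimpleModule (MonoidAlgebra k G) (U ⧸ U') ∧ ∃ v : U ⧸ U', D.IsLive ω v := by
  have : IsArtinian (MonoidAlgebra k G) (MonoidAlgebra k G) :=
    isArtinian_of_tower k inferInstance
  obtain ⟨U, ⟨v, hv⟩, hmin⟩ := IsArtinian.set_has_minimal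
    {U : Submodule (MonoidAlgebra k G) (MonoidAlgebra k G) | ∃ v : U, D.IsLive ω v}
    ⟨D.weightIdeal ω, D.exists_live_weightIdeal hω⟩
  have : Nontrivial U := nontrivial_of_ne v 0 fun h => hv.2 0 (by rw [smul_zero, h])
  have : IsNoetherian (MonoidAlgebra k G) (MonoidAlgebra k G) :=
    isNoetherian_of_tower k inferInstance
  obtain ⟨U', hU'⟩ := IsCoatomic.exists_coatom (α := Submodule (MonoidAlgebra k G) U)
  refine ⟨U, U', isSimpleModule_iff_isCoatom.2 hU', ?_⟩
  refine (D.exists_live_sub_or_quot hω U' hv).resolve_left ?_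
  rintro ⟨⟨⟨w, hw0⟩, hw⟩, hwl⟩
  have hmem : w ∈ U'.map U.subtype := ⟨⟨w, hw0⟩, hw, rfl⟩
  refine hmin (U'.map U.subtype) ⟨⟨w, hmem⟩, fun n hn => ?_, fun z hz => ?_⟩ ?_
  · exact Subtype.ext (congrArg
      (fun t : U' => ((t : U) : MonoidAlgebra k G)) (hwl.1 n hn) :)
  · obtain ⟨_, ⟨z, hz', rfl⟩⟩ := z
    exact hwl.2 ⟨z, hz'⟩ (Subtype.ext (Subtype.ext (congrArg Subtype.val hz :)))
  · refine lt_of_le_of_ne (Submodule.map_subtype_le U U') fun h => hU'.1 (eq_top_iff.2 ?_)
    rintro ⟨z, hz⟩ -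
    rw [← h] at hz
    obtain ⟨z', hz', hzz⟩ := hz
    rwa [show (⟨z, _⟩ : U) = z' from Subtype.ext hzz.symm]

end TIData

end CfsgLib.Block
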