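import Cfsg.Agent.Lib.Block.StableTI
import Mathlib.RepresentationTheory.AlgebraRepresentation.Basic

/-!
Simple modules with live vectors: central action, uniqueness of the weight, separating functionals.
-/

set_option autoImplicit false
set_option linter.unusedSectionVars false

namespace CfsgLib.Block

open MonoidAlgebra

universe u v w w'

namespace TIData

variable {G : Type u} [Group G] [Finite G] {p : ℕ} [hp : Fact p.Prime]
  {k : Type v} [Field k] [CharP k p]
variable (D : TIData G p)
variable {V : Type w} [AddCommGroup V] [Module (MonoidAlgebra k G) V]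
  [Module k V] [IsScalarTower k (MonoidAlgebra k G) V]

/-- A sum of an equivariant function over a set without fixed points lies in the image of `T`. -/
theorem exists_T_eq_sum {Q : Type*} [MulAction D.P Q] (f : Q → V)
    (hf : ∀ (y : D.P) (q : Q), f (y • q) = of k G (y : G) • f q) (s : Finset Q)
    (hs : ∀ q ∈ s, ∀ y : D.P, y • q ∈ s) (hfree : ∀ q ∈ s, ∃ y : D.P, y • q ≠ q) :
    ∃ z : V, (D.T : MonoidAlgebra k G) • z = ∑ q ∈ s, f q := by
  classical
  have := Fintype.ofFinite D.P
  induction s using Finset.strongInduction with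
  | H s ih =>
    rcases s.eq_empty_or_nonempty with rfl | ⟨q, hq⟩
    · exact ⟨0, by simp⟩
    · have hst : MulAction.stabilizer D.P q = ⊥ := by
        have : Fact (Nat.card D.P).Prime := ⟨by rw [D.natCard_P]; exact hp.out⟩
        refine ((MulAction.stabilizer D.P q).eq_bot_or_eq_top_of_prime_card).resolve_right fun h => ?_
        obtain ⟨y, hy⟩ := hfree q hq
        exact hy (MulAction.mem_stabilizer_iff.1 (h ▸ Subgroup.mem_top y))
      have hinj : Function.Injective fun y : D.P => y • q := by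
        intro a b h
        simp only at h
        have : b⁻¹ * a ∈ MulAction.stabilizer D.P q := by
          rw [MulAction.mem_stabilizer_iff, mul_smul, h, inv_smul_smul]
        rw [hst, Subgroup.mem_bot, inv_mul_eq_one] at this
        exact this.symm
      set o := Finset.univ.image fun y : D.P => y • q with ho
      have hos : o ⊆ s := fun r hr => by
        obtain ⟨y, -, rfl⟩ := Finset.mem_image.1 hr
        exact hs q hq y
      obtain ⟨z, hz⟩ := ih (s \ o) (Finset.sdiff_ssubset hos ⟨q, Finset.mem_image.2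
        ⟨1, Finset.mem_univ _, one_smul _ q⟩⟩) (fun r hr y => by
          rw [Finset.mem_sdiff] at hr ⊢
          refine ⟨hs r hr.1 y, fun h => hr.2 ?_⟩
          obtain ⟨a, -, ha⟩ := Finset.mem_image.1 h
          exact Finset.mem_image.2 ⟨y⁻¹ * a, Finset.mem_univ _, by
            rw [mul_smul, ha, inv_smul_smul]⟩) (fun r hr => hfree r (Finset.mem_sdiff.1 hr).1)
      refine ⟨z + f q, ?_⟩
      rw [smul_add, hz, ← Finset.sum_sdiff hos]
      congr 1
      rw [Finset.sum_image fun a _ b _ h => hinj h, D.T_eq_sum, Finset.sum_smul]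
      exact Finset.sum_congr rfl fun y _ => (hf y q).symm

/-- A central element acts on a weight vector by its augmentation, modulo the image of `T`. -/
theorem exists_T_eq_central {ω : G → k} (hω : D.LinChar ω) {a : MonoidAlgebra k G}
    (ha : IsClassCoeff a) {v : V} (hv : D.IsWeight ω v) :
    ∃ z : V, (D.T : MonoidAlgebra k G) • z = a • v - (∑ᶠ g, a.coeff g) • v := by
  classical
  have := Fintype.ofFinite G
  let act : MulAction D.P G := MulAction.compHom G ((MulAut.conj : G →* MulAut G).comp D.P.subtype)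
  have hact : ∀ (y : D.P) (g : G), y • g = (y : G) * g * (y : G)⁻¹ := fun y g => rfl
  have hmem : ∀ g : G, g ∈ MulAction.fixedPoints D.P G ↔
      g ∈ Subgroup.centralizer (D.P : Set G) := by
    intro g
    rw [MulAction.mem_fixedPoints, Subgroup.mem_centralizer_iff]
    refine ⟨fun h y hy => ?_, fun h y => ?_⟩
    · have := h ⟨y, hy⟩
      rw [hact, mul_inv_eq_iff_eq_mul] at this
      exact this
    · rw [hact, mul_inv_eq_iff_eq_mul]
      exact h y y.2
  set s : Finset G := Finset.univ.filter fun g => g ∉ Subgroup.centralizer (D.P : Set G) with hs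
  obtain ⟨z, hz⟩ := D.exists_T_eq_sum (Q := G) (fun g => a.coeff g • of k G g • v) (fun y g => by
      have hvy : of k G (y : G)⁻¹ • v = v := by
        rw [hv _ (inv_mem (D.P_le_N y.2)), D.map_P hω (inv_mem y.2), one_smul]
      rw [hact, ha g (y : G), map_mul, map_mul, mul_smul, mul_smul, hvy,
        of_smul_comm (a.coeff g) (y : G)])
    s (fun g hg y => by
      simp only [hs, Finset.mem_filter, Finset.mem_univ, true_and] at hg ⊢
      rw [← hmem] at hg ⊢
      intro h
      exact hg fun y' => by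
        have h1 := h (y * y' * y⁻¹)
        rw [mul_smul, mul_smul, inv_smul_smul] at h1
        exact smul_left_cancel y h1)
    (fun g hg => by
      simp only [hs, Finset.mem_filter, Finset.mem_univ, true_and] at hg
      rw [← hmem] at hg
      by_contra hc
      push Not at hc
      exact hg hc)
  refine ⟨z, ?_⟩
  have hfix := sum_eq_sum_fixed (p := p) (P := D.P) D.isPGroup_P (α := G) (N := k)
    (fun c => by rw [nsmul_eq_mul, CharP.cast_eq_zero, zero_mul]) (fun g => a.coeff g)
    (fun y g => by rw [hact]; exact ha g (y : G))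
  have hav : a • v = ∑ g, a.coeff g • of k G g • v := by
    conv_lhs => rw [← MonoidAlgebra.sum_coeff_single a, Finsupp.sum_fintype _ _ (fun _ => by simp),
      Finset.sum_smul]
    refine Finset.sum_congr rfl fun g _ => ?_
    rw [← smul_assoc, of_apply, MonoidAlgebra.smul_single, smul_eq_mul, mul_one]
  rw [hz, hav, finsum_eq_sum_of_fintype, hfix,
    ← Finset.sum_filter_add_sum_filter_not Finset.univ
      (fun g => g ∈ Subgroup.centralizer (D.P : Set G)) (fun g => a.coeff g • of k G g • v)]
  rw [Finset.sum_smul, eq_sub_iff_add_eq, add_comm]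
  congr 1
  refine Finset.sum_congr (Finset.filter_congr fun g _ => hmem g) fun g hg => ?_
  rw [Finset.mem_filter] at hg
  rw [hv g (D.leN hg.2), hω.map_cen g hg.2, one_smul]

variable [IsAlgClosed k] [IsSimpleModule (MonoidAlgebra k G) V] [FiniteDimensional k V]

/-- A central element acts on a simple module with a live vector by its augmentation. -/
theorem central_smul {ω : G → k} (hω : D.LinChar ω) {v : V} (hv : D.IsLive ω v)
    {a : MonoidAlgebra k G} (ha : IsClassCoeff a) (m : V) :
    a • m = (∑ᶠ g, a.coeff g) • m := by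
  have hcen := isClassCoeff_iff_mem_center.1 ha
  let f : Module.End (MonoidAlgebra k G) V :=
    { toFun := fun m => a • m
      map_add' := smul_add a
      map_smul' := fun r m => by
        rw [RingHom.id_apply, smul_smul, smul_smul, Subalgebra.mem_center_iff.1 hcen r] }
  obtain ⟨c, hc⟩ := (IsSimpleModule.algebraMap_end_bijective_of_isAlgClosed k).2 f
  have hcm : ∀ m : V, a • m = c • m := fun m => (LinearMap.congr_fun hc m).symm
  obtain ⟨z, hz⟩ := D.exists_T_eq_central hω ha hv.1
  rw [hcm]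
  by_contra hne
  have hne' : c ≠ ∑ᶠ g, a.coeff g := fun h => hne (by rw [h])
  rw [hcm, ← sub_smul] at hz
  apply hv.2 ((c - ∑ᶠ g, a.coeff g)⁻¹ • z)
  rw [smul_comm, hz, smul_smul, inv_mul_cancel₀ (sub_ne_zero.2 hne'), one_smul]

omit [IsSimpleModule (MonoidAlgebra k G) V] [FiniteDimensional k V] [IsAlgClosed k] in
theorem T_eq_U_pow : (D.T : MonoidAlgebra k G) = (of k G D.x - 1) ^ (p - 1) := by
  have hpoly : ∑ i ∈ Finset.range p, (Polynomial.X : Polynomial k) ^ i =
      (Polynomial.X - 1) ^ (p - 1) := by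
    refine mul_right_cancel₀ (Polynomial.X_sub_C_ne_zero 1) ?_
    rw [map_one, geom_sum_mul, ← pow_succ, Nat.sub_add_cancel hp.out.one_le, sub_pow_char, one_pow]
  have h := congrArg (Polynomial.aeval (of k G D.x)) hpoly
  simp only [map_sum, map_pow, map_sub, Polynomial.aeval_X, map_one] at h
  rw [T, ← h]
  exact Finset.sum_congr rfl fun i _ => map_pow _ _ _

omit [IsSimpleModule (MonoidAlgebra k G) V] [FiniteDimensional k V] [IsAlgClosed k] in
theorem exists_avg_U_pow (ω : G → k) (m : ℕ) :
    ∃ c, D.avg ω * (of k G D.x - 1) ^ m = (of k G D.x - 1) ^ m * c := by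
  have := Fintype.ofFinite D.K
  have key : ∀ a : D.K, ∃ c, of k G (a : G) * (of k G D.x - 1) ^ m =
      (of k G D.x - 1) ^ m * c := by
    intro a
    obtain ⟨j, hj⟩ := D.exists_pow (D.normal a (D.leK a.2) _ D.x_mem)
    set U : MonoidAlgebra k G := of k G D.x - 1 with hU
    set g : MonoidAlgebra k G := ∑ i ∈ Finset.range j, of k G D.x ^ i with hg
    have hcg : Commute g U :=
      Commute.sum_left _ _ _ fun i _ => ((Commute.pow_self _ i).sub_right (Commute.one_right _))
    have h1 : of k G (a : G) * U = U * (g * of k G (a : G)) := by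
      rw [← mul_assoc, ← hcg.eq, hg, hU, geom_sum_mul, ← map_pow, hj, mul_sub, sub_mul, mul_one,
        one_mul, ← map_mul, ← map_mul, inv_mul_cancel_right]
    refine ⟨g ^ m * of k G (a : G), ?_⟩
    induction m with
    | zero => simp
    | succ m ih =>
      calc of k G (a : G) * U ^ (m + 1) = of k G (a : G) * U ^ m * U := by
            rw [pow_succ, mul_assoc]
        _ = U ^ m * g ^ m * (of k G (a : G) * U) := by rw [ih]; simp only [mul_assoc]
        _ = U ^ m * (g ^ m * U) * (g * of k G (a : G)) := by rw [h1]; simp only [mul_assoc]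
        _ = U ^ m * U * g ^ m * (g * of k G (a : G)) := by
            rw [(hcg.pow_left m).eq]; simp only [mul_assoc]
        _ = _ := by rw [pow_succ, pow_succ]; simp only [mul_assoc]
  choose c hc using key
  refine ⟨(Nat.card D.K : k)⁻¹ • ∑ a : D.K, (ω (a : G))⁻¹ • c a, ?_⟩
  rw [D.avg_eq, smul_mul_assoc, mul_smul_comm, Finset.sum_mul, Finset.mul_sum]
  congr 1
  exact Finset.sum_congr rfl fun a _ => by rw [smul_mul_assoc, hc, mul_smul_comm]

/-- The weight of a live vector of a simple module is unique. -/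
theorem live_unique {ω₁ ω₂ : G → k} (h₁ : D.LinChar ω₁) (h₂ : D.LinChar ω₂) {v₁ v₂ : V}
    (hv₁ : D.IsLive ω₁ v₁) (hv₂ : D.IsLive ω₂ v₂) : ∀ n ∈ D.N, ω₁ n = ω₂ n := by
  classical
  by_contra hne
  push Not at hne
  have := Fintype.ofFinite D.K
  set U : MonoidAlgebra k G := of k G D.x - 1 with hU
  have hxv : U • v₁ = 0 ∧ U • v₂ = 0 := by
    constructor
    · rw [hU, sub_smul, one_smul, hv₁.1 _ (D.P_le_N D.x_mem), D.map_P h₁ D.x_mem, one_smul, sub_self]
    · rw [hU, sub_smul, one_smul, hv₂.1 _ (D.P_le_N D.x_mem), D.map_P h₂ D.x_mem, one_smul, sub_self]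
  -- the height of `v₁`
  have hex : ∃ i, ∀ w : V, U ^ i • w ≠ v₁ := ⟨p - 1, fun w => by
    rw [hU, ← D.T_eq_U_pow]; exact hv₁.2 w⟩
  obtain ⟨i, hi⟩ : ∃ i, Nat.find hex = i + 1 := ⟨Nat.find hex - 1, by
    have : Nat.find hex ≠ 0 := fun h => (h ▸ Nat.find_spec hex) v₁ (by rw [pow_zero, one_smul])
    omega⟩
  have hnot : ∀ w : V, U ^ (i + 1) • w ≠ v₁ := hi ▸ Nat.find_spec hex
  obtain ⟨w, hw⟩ : ∃ w : V, U ^ i • w = v₁ := by
    by_contra h
    push Not at h
    exact Nat.find_min hex (show i < Nat.find hex by omega) h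
  -- the functional
  set W : Submodule k V := LinearMap.range (Algebra.lsmul k k V (U ^ (i + 1))) ⊔ Submodule.span k {v₂}
  have hvW : v₁ ∉ W := by
    intro h
    obtain ⟨a, ⟨z, rfl⟩, b, hb, hab⟩ := Submodule.mem_sup.1 h
    obtain ⟨r, rfl⟩ := Submodule.mem_span_singleton.1 hb
    rw [Algebra.lsmul_coe] at hab
    obtain ⟨c, hc⟩ := D.exists_avg_U_pow ω₁ (i + 1)
    apply hnot (c • z)
    rw [smul_smul, ← hU] at *
    rw [← hc]
    have h' := congrArg (fun t : V => D.avg ω₁ • t) hab
    simp only [smul_add] at h'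
    rw [D.avg_smul_weight h₁ hv₁.1, smul_comm _ r, D.avg_smul_other h₁ h₂ hne hv₂.1, smul_zero,
      add_zero, smul_smul] at h'
    exact h'
  obtain ⟨φ₀, hφ₀, hφ₀W⟩ := Submodule.exists_le_ker_of_notMem hvW
  set φ : V →ₗ[k] k := (φ₀ v₁)⁻¹ • φ₀ with hφdef
  have hφ1 : φ v₁ = 1 := by simp [hφdef, hφ₀]
  have hφW : ∀ {z}, z ∈ W → φ z = 0 := fun {z} hz => by
    simp [hφdef, LinearMap.mem_ker.1 (hφ₀W hz)]
  -- the endomorphism
  let π₀ : V →ₗ[k] V := ∑ s ∈ Finset.range (i + 1),
    (φ.comp (Algebra.lsmul k k V (U ^ (i - s)))).smulRight (U ^ s • w)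
  have hπ₀ : ∀ z, π₀ z = ∑ s ∈ Finset.range (i + 1), φ (U ^ (i - s) • z) • U ^ s • w := by
    intro z
    simp only [π₀, LinearMap.sum_apply, LinearMap.smulRight_apply, LinearMap.comp_apply, Algebra.lsmul_coe]
  have hker : ∀ z, φ (U ^ (i + 1) • z) = 0 := fun z =>
    hφW (Submodule.mem_sup_left ⟨z, rfl⟩)
  have hπU : ∀ z, π₀ (U • z) = U • π₀ z := by
    intro z
    rw [hπ₀, hπ₀, Finset.smul_sum, Finset.sum_range_succ', Finset.sum_range_succ]
    rw [Nat.sub_zero, smul_smul (U ^ i), ← pow_succ, hker, zero_smul, add_zero,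
      smul_comm U (φ (U ^ (i - i) • z)), hw, hxv.1, smul_zero, add_zero]
    refine Finset.sum_congr rfl fun s hs => ?_
    have hs' : i - (s + 1) + 1 = i - s := by have := Finset.mem_range.1 hs; omega
    rw [smul_comm U (φ _), smul_smul, smul_smul, ← pow_succ, hs', ← pow_succ']
  have hπP : ∀ y ∈ D.P, ∀ z, π₀ (of k G y • z) = of k G y • π₀ z := by
    intro y hy
    obtain ⟨j, rfl⟩ := D.exists_pow hy
    induction j with
    | zero => intro z; rw [pow_zero, map_one, one_smul, one_smul]
    | succ j ih =>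
      intro z
      have hx : ∀ z : V, of k G D.x • z = U • z + z := fun z => by
        rw [hU, sub_smul, one_smul, sub_add_cancel]
      rw [pow_succ, map_mul, mul_smul, mul_smul, ih (pow_mem D.x_mem j), hx, map_add, hπU, ← hx]
  have hπv₁ : π₀ v₁ = v₁ := by
    rw [hπ₀, Finset.sum_range_succ, Finset.sum_eq_zero, zero_add, Nat.sub_self, pow_zero, one_smul,
      hφ1, one_smul, hw]
    intro s hs
    have : U ^ (i - s) • v₁ = 0 := by
      rw [show i - s = (i - s - 1) + 1 by have := Finset.mem_range.1 hs; omega, pow_succ, mul_smul,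
        hxv.1, smul_zero]
    rw [this, map_zero, zero_smul]
  have hπv₂ : π₀ v₂ = 0 := by
    rw [hπ₀]
    refine Finset.sum_eq_zero fun s hs => ?_
    rcases Nat.eq_zero_or_pos (i - s) with h | h
    · rw [h, pow_zero, one_smul,
        hφW (Submodule.mem_sup_right (Submodule.mem_span_singleton_self v₂)), zero_smul]
    · rw [show i - s = (i - s - 1) + 1 by omega, pow_succ, mul_smul, hxv.2, smul_zero, map_zero,
        zero_smul]
  -- averaging over `K`
  let cj : G → (V →ₗ[k] V) → (V →ₗ[k] V) := fun g f =>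
    (Algebra.lsmul k k V (of k G g)) ∘ₗ f ∘ₗ (Algebra.lsmul k k V (of k G g⁻¹))
  have hcj : ∀ (g : G) (f : V →ₗ[k] V) (z : V), cj g f z = of k G g • f (of k G g⁻¹ • z) :=
    fun g f z => rfl
  let π : V →ₗ[k] V := (Nat.card D.K : k)⁻¹ • ∑ a : D.K, cj (a : G) π₀
  have hπ : ∀ z, π z = (Nat.card D.K : k)⁻¹ • ∑ a : D.K, cj (a : G) π₀ z := fun z => by
    simp [π, LinearMap.sum_apply]
  have hπN : ∀ n ∈ D.N, ∀ z, π (of k G n • z) = of k G n • π z := by
    intro n hn z
    obtain ⟨b, hb, y, hy, rfl⟩ := D.split n hn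
    rw [hπ, hπ, of_smul_comm]
    congr 1
    rw [Finset.smul_sum]
    symm
    refine Fintype.sum_equiv (Equiv.mulLeft (⟨b, hb⟩ : D.K)) _ _ fun a => ?_
    have hy' : (a : G)⁻¹ * y * a ∈ D.P := by
      simpa using D.normal (a : G)⁻¹ (inv_mem (D.leK a.2)) y hy
    rw [Equiv.coe_mulLeft, Subgroup.coe_mul, hcj, hcj, smul_smul (of k G _⁻¹), ← map_mul,
      show (b * (a : G))⁻¹ * (b * y) = (a : G)⁻¹ * y * a * (a : G)⁻¹ by group,
      map_mul (of k G) ((a : G)⁻¹ * y * a), mul_smul,
      hπP _ hy', smul_smul, smul_smul, ← map_mul, ← map_mul]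
    congr 2
    group
  have hπ1 : π v₁ = v₁ := by
    rw [hπ, Finset.sum_congr rfl (g := fun _ => v₁), Finset.sum_const, Finset.card_univ,
      ← Nat.card_eq_fintype_card, ← Nat.cast_smul_eq_nsmul k, smul_smul,
      inv_mul_cancel₀ D.natCast_K_ne_zero, one_smul]
    intro a _
    rw [hcj, hv₁.1 _ (inv_mem (D.leK a.2)), map_smul, hπv₁, ← hv₁.1 _ (inv_mem (D.leK a.2)),
      smul_smul, ← map_mul, mul_inv_cancel, map_one, one_smul]
  have hπ2 : π v₂ = 0 := by
    rw [hπ, Finset.sum_eq_zero, smul_zero]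
    intro a _
    rw [hcj, hv₂.1 _ (inv_mem (D.leK a.2)), map_smul, hπv₂, smul_zero, smul_zero]
  -- the trace to `G`
  have hwd : ∀ g n, n ∈ D.N → cj (g * n) π = cj g π := by
    intro g n hn
    ext z
    rw [hcj, hcj, mul_inv_rev, map_mul, map_mul, mul_smul, mul_smul, ← hπN n hn, smul_smul,
      ← map_mul, mul_inv_cancel, map_one, one_smul]
  have := Fintype.ofFinite (G ⧸ D.N)
  let F : G ⧸ D.N → (V →ₗ[k] V) := fun q => cj q.out π
  have hF : ∀ g : G, F (g : G ⧸ D.N) = cj g π := by
    intro g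
    obtain ⟨h, hh⟩ := QuotientGroup.mk_out_eq_mul D.N g
    simp only [F, hh]
    exact hwd g h h.2
  have hFh : ∀ (h : G) (q : G ⧸ D.N) (z : V), F (h • q) (of k G h • z) = of k G h • F q z := by
    intro h q z
    obtain ⟨g, rfl⟩ := QuotientGroup.mk_surjective q
    rw [show h • (g : G ⧸ D.N) = ((h * g : G) : G ⧸ D.N) from rfl, hF, hF, hcj, hcj, smul_smul,
      ← map_mul, show (h * g)⁻¹ * h = g⁻¹ by group, smul_smul, ← map_mul]
  have hcomm : ∀ (h : G) (z : V), (∑ q, F q) (of k G h • z) = of k G h • (∑ q, F q) z := by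
    intro h z
    rw [LinearMap.sum_apply, LinearMap.sum_apply, Finset.smul_sum]
    exact (Fintype.sum_equiv (MulAction.toPerm h) _ _ fun q => (hFh h q z).symm).symm
  have hlin : ∀ (r : MonoidAlgebra k G) (z : V), (∑ q, F q) (r • z) = r • (∑ q, F q) z := by
    intro r z
    induction r using MonoidAlgebra.induction_on with
    | of g => exact hcomm g z
    | add a b ha hb => rw [add_smul, map_add, ha, hb, add_smul]
    | smul c a ha => rw [smul_assoc, map_smul, ha, smul_assoc]
  obtain ⟨c, hc⟩ := (IsSimpleModule.algebraMap_end_bijective_of_isAlgClosed k).2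
    ({ toFun := fun z => (∑ q, F q) z
       map_add' := map_add _
       map_smul' := fun r z => hlin r z } : Module.End (MonoidAlgebra k G) V)
  have hval : ∀ {ω : G → k}, D.LinChar ω → ∀ v : V, D.IsWeight ω v →
      ∃ z, (D.T : MonoidAlgebra k G) • z = c • v - π v := by
    intro ω hω v hv
    obtain ⟨z, hz⟩ := D.exists_T_eq_sum (Q := G ⧸ D.N) (fun q => F q v) (fun y q => by
        have h := hFh (y : G) q v
        rwa [hv _ (D.P_le_N y.2), D.map_P hω y.2, one_smul] at h)
      (Finset.univ.erase ((1 : G) : G ⧸ D.N)) (fun q hq y => by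
        refine Finset.mem_erase.2 ⟨fun h => (Finset.mem_erase.1 hq).1 ?_, Finset.mem_univ _⟩
        rw [eq_inv_smul_iff.2 h]
        exact QuotientGroup.eq.2 (by simpa using D.P_le_N y.2))
      (fun q hq => by
        obtain ⟨g, rfl⟩ := QuotientGroup.mk_surjective q
        by_contra hall
        push Not at hall
        apply (Finset.mem_erase.1 hq).1
        refine QuotientGroup.eq.2 ?_
        rw [mul_one]
        refine inv_mem (D.ti g fun y hy => ?_)
        have h := QuotientGroup.eq.1 ((hall ⟨y, hy⟩ :)).symm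
        rw [mul_assoc]
        exact h)
    refine ⟨z, ?_⟩
    rw [hz, show c • v = (∑ q, F q) v from LinearMap.congr_fun hc v, LinearMap.sum_apply,
      ← Finset.add_sum_erase _ (fun q => F q v) (Finset.mem_univ ((1 : G) : G ⧸ D.N)), hF, hcj,
      inv_one, map_one, one_smul, one_smul, add_sub_cancel_left]
  obtain ⟨z₁, hz₁⟩ := hval h₁ v₁ hv₁.1
  obtain ⟨z₂, hz₂⟩ := hval h₂ v₂ hv₂.1
  rw [hπ1] at hz₁
  rw [hπ2, sub_zero] at hz₂
  by_cases hc1 : c = 1
  · rw [hc1, one_smul] at hz₂
    exact hv₂.2 z₂ hz₂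
  · apply hv₁.2 ((c - 1)⁻¹ • z₁)
    rw [smul_comm, hz₁, smul_sub, smul_smul, ← sub_smul, ← mul_sub_one,
      inv_mul_cancel₀ (sub_ne_zero.2 hc1), one_smul]

/-- Every endomorphism of a simple module comes from the group algebra. -/
theorem exists_smul_eq_end (f : V →ₗ[k] V) : ∃ r : MonoidAlgebra k G, ∀ m : V, r • m = f m := by
  classical
  let f' : Module.End (Module.End (MonoidAlgebra k G) V) V :=
    { toFun := f
      map_add' := map_add f
      map_smul' := fun e m => by
        obtain ⟨c, rfl⟩ := (IsSimpleModule.algebraMap_end_bijective_of_isAlgClosed k).2 e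
        simp }
  let b := Module.finBasis k V
  obtain ⟨r, hr⟩ := jacobson_density (R := MonoidAlgebra k G) f' (Finset.univ.image b)
  refine ⟨r, fun m => ?_⟩
  have h : Algebra.lsmul k k V r = f := b.ext fun i =>
    (hr (b i) (Finset.mem_image.2 ⟨i, Finset.mem_univ _, rfl⟩)).symm
  exact LinearMap.congr_fun h m

/-- The two-sided ideal generated by an element acting nontrivially contains a unit of the
endomorphism ring. -/
theorem exists_ideal_one {a : MonoidAlgebra k G} {m₀ : V} (ha : a • m₀ ≠ 0) :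
    ∃ b : MonoidAlgebra k G, (∀ m : V, b • m = m) ∧
      ∀ {W : Type w'} [AddCommGroup W] [Module (MonoidAlgebra k G) W],
        (∀ m : W, a • m = 0) → ∀ m : W, b • m = 0 := by
  classical
  obtain ⟨φ₀, hφ₀, -⟩ := Submodule.exists_le_ker_of_notMem (p := (⊥ : Submodule k V))
    (v := a • m₀) (by simpa using ha)
  set φ : V →ₗ[k] k := (φ₀ (a • m₀))⁻¹ • φ₀ with hφdef
  have hφ : φ (a • m₀) = 1 := by simp [hφdef, hφ₀]
  let e := Module.finBasis k V
  choose c hc using fun i => exists_smul_eq_end (G := G) (φ.smulRight (e i))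
  choose d hd using fun i => exists_smul_eq_end (G := G) ((e.coord i).smulRight m₀)
  refine ⟨∑ i, c i * a * d i, fun m => ?_, fun {W} _ _ hW m => ?_⟩
  · rw [Finset.sum_smul]
    conv_rhs => rw [← e.sum_repr m]
    refine Finset.sum_congr rfl fun i _ => ?_
    rw [mul_smul, mul_smul, hd, LinearMap.smulRight_apply, smul_comm a, smul_comm (c i), hc,
      LinearMap.smulRight_apply, hφ, one_smul]
    rfl
  · rw [Finset.sum_smul]
    refine Finset.sum_eq_zero fun i _ => ?_
    rw [mul_smul, mul_smul, hW, smul_zero]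

end TIData

end CfsgLib.Block
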