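import Cfsg.Agent.Lib.Block.ThreeCubeModel

/-!
The arithmetic of seven integer vectors with the Gram matrix of the even triples.
-/

set_option autoImplicit false
set_option linter.all false

namespace CfsgLib.Block.ThreeCube

variable {ι : Type*}

theorem exists_of_sq_sum_one [DecidableEq ι] (s : Finset ι) (m : ι → ℤ)
    (h : ∑ χ ∈ s, m χ ^ 2 = 1) :
    ∃ R ∈ s, m R ^ 2 = 1 ∧ ∀ χ ∈ s, χ ≠ R → m χ = 0 := by
  obtain ⟨R, hR, hR0⟩ : ∃ R ∈ s, m R ≠ 0 := by
    by_contra hc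
    push Not at hc
    rw [Finset.sum_eq_zero fun χ hχ => by rw [hc χ hχ]; rfl] at h
    exact zero_ne_one h
  have h2 := Finset.add_sum_erase s (fun χ => m χ ^ 2) hR
  have hn : 0 ≤ ∑ χ ∈ s.erase R, m χ ^ 2 := Finset.sum_nonneg fun _ _ => sq_nonneg _
  have h1 : 1 ≤ m R ^ 2 := by nlinarith [mul_self_pos.mpr hR0]
  simp only [h] at h2
  refine ⟨R, hR, by omega, fun χ hχ hne => ?_⟩
  have hz : ∑ χ ∈ s.erase R, m χ ^ 2 = 0 := by omega
  have := (Finset.sum_eq_zero_iff_of_nonneg fun _ _ => sq_nonneg _).mp hz χ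
    (Finset.mem_erase.mpr ⟨hne, hχ⟩)
  exact pow_eq_zero_iff (two_ne_zero) |>.mp this

theorem exists_of_sq_sum_two [DecidableEq ι] (s : Finset ι) (m : ι → ℤ)
    (h : ∑ χ ∈ s, m χ ^ 2 = 2) :
    ∃ A ∈ s, ∃ B ∈ s, A ≠ B ∧ m A ^ 2 = 1 ∧ m B ^ 2 = 1 ∧
      ∀ χ ∈ s, χ ≠ A → χ ≠ B → m χ = 0 := by
  obtain ⟨A, hA, hA0⟩ : ∃ A ∈ s, m A ≠ 0 := by
    by_contra hc
    push Not at hc
    rw [Finset.sum_eq_zero fun χ hχ => by rw [hc χ hχ]; rfl] at h
    exact two_ne_zero h.symm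
  have h2 := Finset.add_sum_erase s (fun χ => m χ ^ 2) hA
  have hn : 0 ≤ ∑ χ ∈ s.erase A, m χ ^ 2 := Finset.sum_nonneg fun _ _ => sq_nonneg _
  simp only [h] at h2
  have hA1 : m A ^ 2 = 1 := by
    have hu : m A ≤ 1 := by nlinarith
    have hl : -1 ≤ m A := by nlinarith
    have : m A = 1 ∨ m A = -1 := by omega
    rcases this with e | e <;> rw [e] <;> rfl
  obtain ⟨B, hB, hB1, hz⟩ := exists_of_sq_sum_one (s.erase A) m (by omega)
  exact ⟨A, hA, B, Finset.mem_of_mem_erase hB, (Finset.ne_of_mem_erase hB).symm, hA1, hB1,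
    fun χ hχ h1 h3 => hz χ (Finset.mem_erase.mpr ⟨h1, hχ⟩) h3⟩

theorem eq_pm_one {a : ℤ} (h : a ^ 2 = 1) : a = 1 ∨ a = -1 := sq_eq_one_iff.mp h

variable [Fintype ι]

open scoped Classical in
/-- a vector of norm three with entry `-1` at `o` and degree zero -/
theorem shape_three (d : ι → ℤ) (hd : ∀ χ, 0 < d χ) {o : ι} (ho : d o = 1) (m : ι → ℤ)
    (hn : ∑ χ, m χ * m χ = 3) (h1 : m o = -1) (hdeg : ∑ χ, m χ * d χ = 0) :
    ∃ A B : ι, A ≠ o ∧ B ≠ o ∧ A ≠ B ∧ d A = d B + 1 ∧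
      m = fun χ => (if χ = A then 1 else 0) - (if χ = B then 1 else 0) - (if χ = o then 1 else 0) := by
  have h2 : ∑ χ ∈ Finset.univ.erase o, m χ ^ 2 = 2 := by
    have h := Finset.add_sum_erase Finset.univ (fun χ => m χ ^ 2) (Finset.mem_univ o)
    simp only [sq] at h ⊢
    rw [hn, h1] at h
    linarith
  obtain ⟨A, hA, B, hB, hAB, hA1, hB1, hz⟩ := exists_of_sq_sum_two _ m h2
  have hAo := Finset.ne_of_mem_erase hA
  have hBo := Finset.ne_of_mem_erase hB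
  have hm : m = fun χ => m A * (if χ = A then 1 else 0) + m B * (if χ = B then 1 else 0) -
      (if χ = o then 1 else 0) := by
    funext χ
    by_cases ha : χ = A
    · subst ha; simp [hAB, hAo]
    by_cases hb : χ = B
    · subst hb; simp [ha, hBo]
    by_cases hc : χ = o
    · subst hc; simp [ha, hb, h1]
    simp [ha, hb, hc, hz χ (Finset.mem_erase.mpr ⟨hc, Finset.mem_univ _⟩) ha hb]
  have hdd : m A * d A + m B * d B - 1 = 0 := by
    rw [← hdeg]
    conv_rhs => rw [hm]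
    simp [sub_mul, add_mul, mul_assoc, Finset.sum_add_distrib, Finset.sum_sub_distrib, ho]
  have := hd A
  have := hd B
  rcases eq_pm_one hA1 with eA | eA <;> rcases eq_pm_one hB1 with eB | eB <;>
    simp only [eA, eB] at hdd hm
  · omega
  · refine ⟨A, B, hAo, hBo, hAB, by omega, ?_⟩
    rw [hm]; funext χ; ring
  · refine ⟨B, A, hBo, hAo, hAB.symm, by omega, ?_⟩
    rw [hm]; funext χ; ring
  · omega

/-- positions of the signed slots among `o, A, B`; `true` when the `L`-slot is the `A` one -/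
def slot (f : Fin 3 → Bool) : Fin 7 → Fin 7 :=
  ![0, if f 0 then 4 else 1, if f 1 then 5 else 2, if f 2 then 6 else 3,
    if f 0 then 1 else 4, if f 1 then 2 else 5, if f 2 then 3 else 6]

theorem slot_injective : ∀ f, ∀ a b, slot f a = slot f b → a = b := by decide +kernel

/-- the index of the six functions other than `w` -/
def iv (i : Fin 3) : Fin 7 := ![0, 1, 2] i
def iu (i : Fin 3) : Fin 7 := ![3, 4, 5] i

open scoped Classical in
theorem six_distinct (d : ι → ℤ) {o : ι} (A B : Fin 3 → ι)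
    (hAo : ∀ i, A i ≠ o) (hBo : ∀ i, B i ≠ o) (hAB : ∀ i, A i ≠ B i)
    (hd : ∀ i, d (A i) = d (B i) + 1) (m : Fin 3 → ι → ℤ)
    (hm : ∀ i, m i = fun χ =>
      (if χ = A i then 1 else 0) - (if χ = B i then 1 else 0) - (if χ = o then 1 else 0))
    (hg : ∀ i j, i ≠ j → ∑ χ, m i χ * m j χ = 1) :
    ∀ i j, i ≠ j → A i ≠ A j ∧ B i ≠ B j ∧ A i ≠ B j := by
  intro i j hij
  have h := hg i j hij
  rw [hm i, hm j] at h
  simp [sub_mul, mul_sub, Finset.sum_sub_distrib, hAo i, hAo j, hBo i, hBo j, (hAo i).symm,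
    (hAo j).symm, (hBo i).symm, (hBo j).symm] at h
  have h1 := hd i
  have h2 := hd j
  refine ⟨fun e => ?_, fun e => ?_, fun e => ?_⟩
  · have n1 : A i ≠ B j := fun e' => hAB j (e.symm.trans e')
    have n2 : B i ≠ A j := fun e' => hAB i (e.trans e'.symm)
    simp [e, n2.symm, n2, hAB j, (hAB j).symm] at h
    split_ifs at h <;> omega
  · have n1 : A i ≠ B j := fun e' => hAB i (e'.trans e.symm)
    have n2 : B i ≠ A j := fun e' => hAB j (e'.symm.trans e)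
    simp [e, n1, n1.symm, n2, n2.symm, hAB j, (hAB j).symm] at h
    split_ifs at h <;> omega
  · have n1 : A i ≠ A j := fun e' => hAB j (e'.symm.trans e)
    have n2 : B i ≠ B j := fun e' => hAB i (e.trans e'.symm)
    have n3 : B i ≠ A j := fun e' => by
      have := congrArg d e'
      have := congrArg d e
      omega
    simp [e, n1, n1.symm, n2, n2.symm, n3, n3.symm, hAB j, (hAB j).symm] at h

section Comb

variable {n : ℕ}

open scoped Classical in
/-- the vector with coordinates `b` on signed slots -/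
noncomputable def comb (e : Fin n → ι) (ε b : Fin n → ℤ) (χ : ι) : ℤ :=
  ∑ k, if χ = e k then ε k * b k else 0

open scoped Classical in
theorem sum_comb {M : Type*} [CommRing M] (e : Fin n → ι) (ε b : Fin n → ℤ) (F : ι → M) :
    ∑ χ, (comb e ε b χ : M) * F χ = ∑ k, (b k : M) * ((ε k : M) * F (e k)) := by
  simp only [comb, Int.cast_sum, Finset.sum_mul]
  rw [Finset.sum_comm]
  refine Finset.sum_congr rfl fun k _ => ?_
  rw [Finset.sum_eq_single (e k) (fun χ _ hne => by simp [hne]) (by simp)]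
  simp only [if_true, Int.cast_mul]
  ring

theorem sum_comb_int (e : Fin n → ι) (ε b : Fin n → ℤ) (F : ι → ℤ) :
    ∑ χ, comb e ε b χ * F χ = ∑ k, b k * (ε k * F (e k)) := by
  simpa using sum_comb (M := ℤ) e ε b F

open scoped Classical in
theorem comb_apply {e : Fin n → ι} (he : Function.Injective e) (ε b : Fin n → ℤ) (k : Fin n) :
    comb e ε b (e k) = ε k * b k := by
  simp [comb, he.eq_iff]

end Comb

/-- coordinates of `v` on the slots -/
def bv : Fin 3 → Fin 8 → ℤ := ![![-1, 1, 0, 0, -1, 0, 0, 0], ![-1, 0, 1, 0, 0, -1, 0, 0],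
  ![-1, 0, 0, 1, 0, 0, -1, 0]]

/-- coordinates of `w` on the slots -/
def bw : Fin 8 → ℤ := ![-1, 0, 0, 0, -1, -1, -1, 1]

theorem gram_val : (∀ i, gram (iv i) (iv i) = 3) ∧ (∀ i, gram (iu i) (iu i) = 3) ∧
    (∀ i, gram (iv i) 6 = 2) ∧ (∀ i, gram (iu i) 6 = 2) ∧ gram 6 6 = 5 ∧
    (∀ i j, i ≠ j → gram (iv i) (iv j) = 1 ∧ gram (iu i) (iu j) = 1) ∧
    (∀ i j, gram (iu i) (iv j) = if j = i then 0 else 1) ∧
    (∀ i, vecOne (iv i) = -1 ∧ vecOne (iu i) = 0) ∧ vecOne 6 = -1 ∧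
    (∀ i, vecPair (iv i) = -6 ∧ vecPair (iu i) = 0) ∧ vecPair 6 = -9 := by
  decide +kernel

open scoped Classical in
theorem exists_slots (d : ι → ℤ) (hd : ∀ χ, 0 < d χ) (o : ι) (ho : d o = 1)
    (m : Fin 7 → ι → ℤ) (hgram : ∀ j k, ∑ χ, m j χ * m k χ = gram j k)
    (hone : ∀ j, m j o = vecOne j) (hdeg : ∀ j, ∑ χ, m j χ * d χ = 0) :
    ∃ (e : Fin 8 → ι) (ε : Fin 8 → ℤ), Function.Injective e ∧ (∀ k, ε k * ε k = 1) ∧ e 0 = o ∧
      ε 0 = 1 ∧ (∀ i, m (iv i) = comb e ε (bv i)) ∧ m 6 = comb e ε bw := by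
  obtain ⟨gvv, -, gvw, -, gww, gvij, -, g1, g1w, -, -⟩ := gram_val
  choose A B hAo hBo hAB hdAB hmv using fun i : Fin 3 => shape_three d hd ho (m (iv i))
    (by rw [hgram, gvv]) (by rw [hone, (g1 i).1]) (hdeg _)
  have hdist := six_distinct d A B hAo hBo hAB hdAB (fun i => m (iv i)) hmv fun i j hij => by
    rw [hgram, (gvij i j hij).1]
  have hw : ∀ i, m 6 (A i) - m 6 (B i) = 1 := by
    intro i
    have h := hgram (iv i) 6
    rw [hmv i, gvw] at h
    simp [sub_mul, Finset.sum_sub_distrib, hone, g1w] at h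
    linarith
  let e7 : Fin 7 → ι := ![o, A 0, A 1, A 2, B 0, B 1, B 2]
  have h01 := hdist 0 1 (by decide)
  have h02 := hdist 0 2 (by decide)
  have h12 := hdist 1 2 (by decide)
  have h10 := hdist 1 0 (by decide)
  have h20 := hdist 2 0 (by decide)
  have h21 := hdist 2 1 (by decide)
  have he7 : Function.Injective e7 := by
    intro a b hab
    by_contra hne
    fin_cases a <;> fin_cases b <;>
      simp [e7, hAo, hBo, hAB, fun i => (hAo i).symm, fun i => (hBo i).symm,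
        fun i => (hAB i).symm, h01, h02, h12, h10, h20, h21, h01.2.2.symm, h02.2.2.symm,
        h12.2.2.symm, h10.2.2.symm, h20.2.2.symm, h21.2.2.symm] at hab hne
  let rest := Finset.univ \ Finset.univ.image e7
  have hwn : ∑ χ, m 6 χ ^ 2 = 5 := by
    rw [← gww, ← hgram]; exact Finset.sum_congr rfl fun χ _ => sq _
  have hsum : (∑ χ ∈ rest, m 6 χ ^ 2) + (∑ χ ∈ Finset.univ.image e7, m 6 χ ^ 2) =
      ∑ χ, m 6 χ ^ 2 := Finset.sum_sdiff (Finset.subset_univ (Finset.univ.image e7))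
  rw [Finset.sum_image fun a _ b _ h => he7 h, hwn] at hsum
  simp [Fin.sum_univ_seven, e7, hone, g1w] at hsum
  have hsum' : (∑ χ ∈ rest, m 6 χ ^ 2) + (m 6 (A 0) ^ 2 + m 6 (B 0) ^ 2) +
      (m 6 (A 1) ^ 2 + m 6 (B 1) ^ 2) + (m 6 (A 2) ^ 2 + m 6 (B 2) ^ 2) = 4 := by
    linarith
  have hrest0 : 0 ≤ ∑ χ ∈ rest, m 6 χ ^ 2 := Finset.sum_nonneg fun _ _ => sq_nonneg _
  have hodd : ∀ a b : ℤ, a - b = 1 → 1 ≤ a ^ 2 + b ^ 2 ∧
      (a ^ 2 + b ^ 2 ≤ 4 → (a = 1 ∧ b = 0) ∨ (a = 0 ∧ b = -1)) := by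
    intro a b hab
    obtain rfl : a = b + 1 := by omega
    refine ⟨by rcases le_or_gt 0 b with h | h <;> nlinarith, fun h => ?_⟩
    have : b ≤ 0 := by nlinarith
    have : -1 ≤ b := by nlinarith
    omega
  have o0 := hodd _ _ (hw 0)
  have o1 := hodd _ _ (hw 1)
  have o2 := hodd _ _ (hw 2)
  have q0 := o0.2 (by linarith [o1.1, o2.1])
  have q1 := o1.2 (by linarith [o0.1, o2.1])
  have q2 := o2.2 (by linarith [o1.1, o0.1])
  have hsq : ∀ a b : ℤ, ((a = 1 ∧ b = 0) ∨ (a = 0 ∧ b = -1)) → a ^ 2 + b ^ 2 = 1 := by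
    rintro a b (⟨rfl, rfl⟩ | ⟨rfl, rfl⟩) <;> rfl
  have hrest1 : ∑ χ ∈ rest, m 6 χ ^ 2 = 1 := by
    have := hsq _ _ q0; have := hsq _ _ q1; have := hsq _ _ q2
    linarith
  obtain ⟨R, hR, hR1, hRz⟩ := exists_of_sq_sum_one rest (m 6) hrest1
  have hRne : ∀ j, e7 j ≠ R := fun j hj =>
    (Finset.mem_sdiff.mp hR).2 (Finset.mem_image.mpr ⟨j, Finset.mem_univ _, hj⟩)
  let f : Fin 3 → Bool := fun i => decide (m 6 (B i) = 0)
  let s : Fin 3 → ℤ := fun i => if f i then -1 else 1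
  let e : Fin 8 → ι := Fin.snoc (fun j => e7 (slot f j)) R
  let ε : Fin 8 → ℤ := Fin.snoc ![1, s 0, s 1, s 2, s 0, s 1, s 2] (m 6 R)
  have hel : ∀ j : Fin 7, e j.castSucc = e7 (slot f j) := fun j => Fin.snoc_castSucc ..
  have hlast : e (Fin.last 7) = R := Fin.snoc_last ..
  have he : Function.Injective e := by
    intro a b hab
    induction a using Fin.lastCases with
    | last =>
      induction b using Fin.lastCases with
      | last => rfl
      | cast k => exact absurd (((hel k).symm.trans hab.symm).trans hlast) (hRne _)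
    | cast i =>
      induction b using Fin.lastCases with
      | last => exact absurd (((hel i).symm.trans hab).trans hlast) (hRne _)
      | cast k =>
        rw [slot_injective f i k (he7 ((hel i).symm.trans (hab.trans (hel k))))]
  have hee : e 0 = o ∧ e 1 = e7 (slot f 1) ∧ e 2 = e7 (slot f 2) ∧ e 3 = e7 (slot f 3) ∧
      e 4 = e7 (slot f 4) ∧ e 5 = e7 (slot f 5) ∧ e 6 = e7 (slot f 6) ∧ e 7 = R :=
    ⟨hel 0, hel 1, hel 2, hel 3, hel 4, hel 5, hel 6, hlast⟩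
  obtain ⟨n0, n1, n2, n3, n4, n5, n6, n7⟩ := hee
  have hεe : ε 0 = 1 ∧ ε 1 = s 0 ∧ ε 2 = s 1 ∧ ε 3 = s 2 ∧
      ε 4 = s 0 ∧ ε 5 = s 1 ∧ ε 6 = s 2 ∧ ε 7 = m 6 R :=
    ⟨rfl, rfl, rfl, rfl, rfl, rfl, rfl, rfl⟩
  obtain ⟨p0, p1, p2, p3, p4, p5, p6, p7⟩ := hεe
  refine ⟨e, ε, he, fun k => ?_, n0, p0, fun i => ?_, ?_⟩
  · have hs : ∀ i, s i * s i = 1 := fun i => by simp only [s]; split_ifs <;> rfl
    fin_cases k
    exacts [by rfl, hs 0, hs 1, hs 2, hs 0, hs 1, hs 2, by rw [← sq]; exact hR1]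
  · rw [hmv i]
    funext χ
    simp only [comb, Fin.sum_univ_eight, n0, n1, n2, n3, n4, n5, n6, n7, p0, p1, p2, p3, p4, p5,
      p6, p7]
    fin_cases i
    · cases hf : f 0 <;> simp [bv, s, slot, e7, hf] <;> split_ifs <;> ring
    · cases hf : f 1 <;> simp [bv, s, slot, e7, hf] <;> split_ifs <;> ring
    · cases hf : f 2 <;> simp [bv, s, slot, e7, hf] <;> split_ifs <;> ring
  · funext χ
    by_cases hχ : ∃ k, e k = χ
    · obtain ⟨k, rfl⟩ := hχ
      rw [comb_apply he]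
      have hf : ∀ i, ((m 6 (A i) = 1 ∧ m 6 (B i) = 0) ∨ (m 6 (A i) = 0 ∧ m 6 (B i) = -1)) →
          (f i = true ∧ m 6 (A i) = 1 ∧ m 6 (B i) = 0) ∨
            (f i = false ∧ m 6 (A i) = 0 ∧ m 6 (B i) = -1) := by
        rintro i (⟨a, b⟩ | ⟨a, b⟩) <;> simp [f, a, b]
      fin_cases k
      · simp [n0, p0, bw, hone, g1w]
      · rcases hf 0 q0 with ⟨c, a, b⟩ | ⟨c, a, b⟩ <;> simp [n1, p1, bw, s, slot, e7, c, a, b]
      · rcases hf 1 q1 with ⟨c, a, b⟩ | ⟨c, a, b⟩ <;> simp [n2, p2, bw, s, slot, e7, c, a, b]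
      · rcases hf 2 q2 with ⟨c, a, b⟩ | ⟨c, a, b⟩ <;> simp [n3, p3, bw, s, slot, e7, c, a, b]
      · rcases hf 0 q0 with ⟨c, a, b⟩ | ⟨c, a, b⟩ <;> simp [n4, p4, bw, s, slot, e7, c, a, b]
      · rcases hf 1 q1 with ⟨c, a, b⟩ | ⟨c, a, b⟩ <;> simp [n5, p5, bw, s, slot, e7, c, a, b]
      · rcases hf 2 q2 with ⟨c, a, b⟩ | ⟨c, a, b⟩ <;> simp [n6, p6, bw, s, slot, e7, c, a, b]
      · simp [n7, p7, bw]
    · push Not at hχ
      have hc : comb e ε bw χ = 0 :=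
        Finset.sum_eq_zero fun k _ => if_neg fun h => hχ k h.symm
      rw [hc]
      refine hRz χ (Finset.mem_sdiff.mpr ⟨Finset.mem_univ _, fun h => ?_⟩)
        fun h => hχ 7 (n7.trans h.symm)
      obtain ⟨j, -, hj⟩ := Finset.mem_image.mp h
      obtain ⟨k, hk⟩ := Finite.surjective_of_injective
        (fun a b => slot_injective f a b : Function.Injective (slot f)) j
      exact hχ k.castSucc ((hel k).trans (by rw [hk, hj]))

/-- possible slot coordinates of `u k` -/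
def bu (k : Fin 3) (t : Fin 3) : Fin 8 → ℤ :=
  let l : Fin 3 → ℤ := fun i =>
    if i = k then 0 else if (t = 1 ∧ i = nxt k) ∨ (t = 2 ∧ i = nxt (nxt k)) then 0 else -1
  ![0, l 0 + (if 0 = k then 0 else 1), l 1 + (if 1 = k then 0 else 1),
    l 2 + (if 2 = k then 0 else 1), l 0, l 1, l 2, if t = 0 then 0 else 1]

theorem bu_table : ∀ k t, bu k t 0 = 0 ∧ (∑ i, bu k t i ^ 2) = if t = 0 then 2 else 3 := by
  decide +kernel

theorem bu_cycle : ∀ t : Fin 3 → Fin 3,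
    (∀ k l : Fin 3, k ≠ l → (t k = 0 ∧ t l = 0) ∨ (∑ i, bu k (t k) i * bu l (t l) i) = 1) →
      (∀ k, t k = 0) ∨ (∀ k, t k = 1) ∨ (∀ k, t k = 2) := by
  decide +kernel

theorem u_arith (k : Fin 3) (c : Fin 8 → ℤ) (rest : ℤ) (hrest : 0 ≤ rest)
    (h0 : c 0 = 0) (hv : ∀ i, ∑ j, c j * bv i j = if i = k then 0 else 1)
    (hw : ∑ j, c j * bw j = 2) (hn : (∑ j, c j ^ 2) + rest = 3) :
    ∃ t, (∀ j, c j = bu k t j) ∧ rest = if t = 0 then 1 else 0 := by
  have e0 := hv 0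
  have e1 := hv 1
  have e2 := hv 2
  simp [Fin.sum_univ_eight, bv, bw, h0] at e0 e1 e2 hw hn
  have hb : ∀ a b : ℤ, a + -b = 1 → 1 ≤ a ^ 2 + b ^ 2 := by
    intro a b hab
    obtain rfl : a = b + 1 := by omega
    rcases le_or_gt 0 b with h | h <;> nlinarith
  have key : ∀ (p0 l0 p1 l1 p2 l2 r : ℤ), p0 = l0 → p1 + -l1 = 1 → p2 + -l2 = 1 →
      r = 2 + l0 + l1 + l2 →
      p0 ^ 2 + l0 ^ 2 + (p1 ^ 2 + l1 ^ 2) + (p2 ^ 2 + l2 ^ 2) + r ^ 2 + rest = 3 →
      p0 = 0 ∧ l0 = 0 ∧ ((l1 = -1 ∧ l2 = -1 ∧ r = 0 ∧ rest = 1) ∨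
        (l1 = 0 ∧ l2 = -1 ∧ r = 1 ∧ rest = 0) ∨ (l1 = -1 ∧ l2 = 0 ∧ r = 1 ∧ rest = 0)) := by
    intro p0 l0 p1 l1 p2 l2 r q0 q1 q2 qr qn
    have := hb _ _ q1
    have := hb _ _ q2
    have hl0 : l0 = 0 := by
      have := sq_nonneg r
      subst q0
      nlinarith
    subst q0 qr
    obtain rfl : p1 = l1 + 1 := by omega
    obtain rfl : p2 = l2 + 1 := by omega
    subst hl0
    have a1 : -1 ≤ l1 := by nlinarith
    have a2 : l1 ≤ 0 := by nlinarith
    have a3 : -1 ≤ l2 := by nlinarith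
    have a4 : l2 ≤ 0 := by nlinarith
    refine ⟨rfl, rfl, ?_⟩
    interval_cases l1 <;> interval_cases l2 <;> omega
  fin_cases k <;> simp at e0 e1 e2
  · obtain ⟨z1, z2, h⟩ := key (c 1) (c 4) (c 2) (c 5) (c 3) (c 6) (c 7) (by linarith) e1 e2
      (by linarith) (by linarith)
    rcases h with ⟨a, b, r, q⟩ | ⟨a, b, r, q⟩ | ⟨a, b, r, q⟩ <;>
      [refine ⟨0, fun j => ?_, q⟩; refine ⟨1, fun j => ?_, q⟩; refine ⟨2, fun j => ?_, q⟩] <;>
      fin_cases j <;> simp [bu, nxt] <;> omega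
  · obtain ⟨z1, z2, h⟩ := key (c 2) (c 5) (c 3) (c 6) (c 1) (c 4) (c 7) (by linarith) e2 e0
      (by linarith) (by linarith)
    rcases h with ⟨a, b, r, q⟩ | ⟨a, b, r, q⟩ | ⟨a, b, r, q⟩ <;>
      [refine ⟨0, fun j => ?_, q⟩; refine ⟨1, fun j => ?_, q⟩; refine ⟨2, fun j => ?_, q⟩] <;>
      fin_cases j <;> simp [bu, nxt] <;> omega
  · obtain ⟨z1, z2, h⟩ := key (c 3) (c 6) (c 1) (c 4) (c 2) (c 5) (c 7) (by linarith) e0 e1
      (by linarith) (by linarith)
    rcases h with ⟨a, b, r, q⟩ | ⟨a, b, r, q⟩ | ⟨a, b, r, q⟩ <;>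
      [refine ⟨0, fun j => ?_, q⟩; refine ⟨1, fun j => ?_, q⟩; refine ⟨2, fun j => ?_, q⟩] <;>
      fin_cases j <;> simp [bu, nxt] <;> omega

/-- the final algebra -/
theorem solve_system (N g : ℂ) (hg : g ≠ 0) (x : Fin 3 → ℤ) (Z : Fin 3 → ℂ)
    (hx : ∀ i, x i ≠ 0) (hx1 : ∀ i, 1 + x i ≠ 0) (hX : 1 + x 0 + x 1 + x 2 ≠ 0)
    (hv : ∀ i, -N ^ 2 + (N + Z i) ^ 2 / ((1 + x i : ℤ) : ℂ) - Z i ^ 2 / (x i : ℂ) = -6 * g)
    (hw : -N ^ 2 - Z 0 ^ 2 / (x 0 : ℂ) - Z 1 ^ 2 / (x 1 : ℂ) - Z 2 ^ 2 / (x 2 : ℂ) +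
      (N + Z 0 + Z 1 + Z 2) ^ 2 / ((1 + x 0 + x 1 + x 2 : ℤ) : ℂ) = -9 * g)
    (hu : ∀ a b, a ≠ b → Z a * (x b : ℂ) = Z b * (x a : ℂ)) : ∀ i, x i = 1 := by
  have c : ∀ i, (x i : ℂ) ≠ 0 := fun i => by exact_mod_cast hx i
  have c1 : ∀ i, (1 : ℂ) + (x i : ℂ) ≠ 0 := fun i => by exact_mod_cast hx1 i
  have cX : (1 : ℂ) + x 0 + x 1 + x 2 ≠ 0 := by exact_mod_cast hX
  set r : ℂ := Z 0 / x 0 with hr
  have hZ : ∀ i, Z i = r * x i := by
    intro i
    rw [hr, div_mul_eq_mul_div, eq_div_iff (c 0)]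
    by_cases h : i = 0
    · subst h; ring
    · exact hu i 0 h
  set D := (N - r) ^ 2 with hDdef
  have e : ∀ i, D * x i = 6 * g * (1 + x i) := by
    intro i
    have h := hv i
    rw [hZ i] at h
    push_cast at h
    have := c i
    have := c1 i
    field_simp at h
    rw [hDdef]
    linear_combination (norm := ring_nf) -h
  have eX : D * (x 0 + x 1 + x 2) = 9 * g * (1 + (x 0 + x 1 + x 2)) := by
    rw [hZ 0, hZ 1, hZ 2] at hw
    push_cast at hw
    have := c 0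
    have := c 1
    have := c 2
    field_simp at hw
    rw [hDdef]
    linear_combination (norm := ring_nf) -hw
  have hD : D - 6 * g ≠ 0 := fun h => by
    have e0 := e 0
    have : 6 * g = 0 := by linear_combination (x 0 : ℂ) * h - e0
    exact hg (by simpa using this)
  have heq : ∀ i, (x i : ℂ) = x 0 := fun i =>
    mul_right_cancel₀ hD (by linear_combination e i - e 0)
  intro i
  have : (x i : ℂ) = 1 := by
    rw [heq i]
    rw [heq 1, heq 2] at eX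
    have h9 : (9 * g) * ((x 0 : ℂ) - 1) = 0 := by linear_combination -eX + 3 * e 0
    rcases mul_eq_zero.mp h9 with h | h
    · exact absurd h (mul_ne_zero (by norm_num) hg)
    · exact sub_eq_zero.mp h
  exact_mod_cast this

open scoped Classical in
theorem arith_core (d : ι → ℤ) (hd : ∀ χ, 0 < d χ) (o : ι) (ho : d o = 1) (Z : ι → ℂ) (g : ℂ)
    (hg : g ≠ 0) (m : Fin 7 → ι → ℤ)
    (hgram : ∀ j k, ∑ χ, m j χ * m k χ = gram j k) (hone : ∀ j, m j o = vecOne j)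
    (hdeg : ∀ j, ∑ χ, m j χ * d χ = 0) (hZ : ∀ j, ∑ χ, (m j χ : ℂ) * Z χ = 0)
    (hpair : ∀ j, ∑ χ, (m j χ : ℂ) * (Z χ ^ 2 / (d χ : ℂ)) = g * (vecPair j : ℂ)) :
    ∃ L : Fin 3 → ι, ∀ i, d (L i) = 1 ∧
      ∀ j, m (iv j) (L i) = if j = i then -1 else 0 := by
  obtain ⟨-, guu, -, guw, -, gij, guv, g1, g1w, gp, gpw⟩ := gram_val
  obtain ⟨e, ε, he, hε, e0, ε0, hv, hw⟩ := exists_slots d hd o ho m hgram hone hdeg
  let x : Fin 8 → ℤ := fun k => ε k * d (e k)
  let z : Fin 8 → ℂ := fun k => (ε k : ℂ) * Z (e k)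
  have hεC : ∀ k, (ε k : ℂ) * (ε k : ℂ) = 1 := fun k => by exact_mod_cast hε k
  have hε0 : ∀ k, ε k ≠ 0 := fun k h => by simpa [h] using hε k
  have hx : ∀ k, x k ≠ 0 := fun k => mul_ne_zero (hε0 k) (hd _).ne'
  have hqz : ∀ k, (ε k : ℂ) * (Z (e k) ^ 2 / (d (e k) : ℂ)) = z k ^ 2 / (x k : ℂ) := by
    intro k
    have h1 : (d (e k) : ℂ) ≠ 0 := by exact_mod_cast (hd _).ne'
    have h2 : (ε k : ℂ) ≠ 0 := by exact_mod_cast hε0 k
    simp only [z, x]; push_cast; field_simp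
  -- the equations of a combination
  have heqs : ∀ (j : Fin 7) (b : Fin 8 → ℤ) (r : ι → ℤ), (∀ χ, m j χ = comb e ε b χ + r χ) →
      (∑ k, b k * x k) + ∑ χ, r χ * d χ = 0 ∧
      (∑ k, (b k : ℂ) * z k) + ∑ χ, (r χ : ℂ) * Z χ = 0 ∧
      (∑ k, (b k : ℂ) * (z k ^ 2 / (x k : ℂ))) + ∑ χ, (r χ : ℂ) * (Z χ ^ 2 / (d χ : ℂ)) =
        g * (vecPair j : ℂ) := by
    intro j b r hj
    refine ⟨?_, ?_, ?_⟩
    · rw [← hdeg j]; simp only [hj, add_mul, Finset.sum_add_distrib, sum_comb_int, x]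
    · rw [← hZ j]; simp only [hj, Int.cast_add, add_mul, Finset.sum_add_distrib, sum_comb, z]
    · rw [← hpair j]
      simp only [hj, Int.cast_add, add_mul, Finset.sum_add_distrib, sum_comb, hqz]
  -- the functions `u`
  let c : Fin 3 → Fin 8 → ℤ := fun k i => ε i * m (iu k) (e i)
  let r : Fin 3 → ι → ℤ := fun k χ => m (iu k) χ - comb e ε (c k) χ
  have hre : ∀ k i, r k (e i) = 0 := fun k i => by
    simp only [r, c, comb_apply he, ← mul_assoc, hε, one_mul, sub_self]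
  have hinner : ∀ k l, ∑ χ, m (iu k) χ * m (iu l) χ =
      (∑ i, c k i * c l i) + ∑ χ, r k χ * r l χ := by
    intro k l
    have h1 : ∀ (a : Fin 8 → ℤ) (q : Fin 3), ∑ χ, comb e ε a χ * r q χ = 0 := fun a q => by
      simp [sum_comb_int, hre]
    have h2 : ∀ χ, m (iu k) χ * m (iu l) χ = r k χ * r l χ + comb e ε (c k) χ * r l χ +
        comb e ε (c l) χ * r k χ + comb e ε (c k) χ * comb e ε (c l) χ := fun χ => by
      simp only [r]; ring
    simp only [h2, Finset.sum_add_distrib, h1, add_zero]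
    rw [add_comm, sum_comb_int]
    congr 1
    refine Finset.sum_congr rfl fun i _ => ?_
    rw [comb_apply he, ← mul_assoc (ε i), hε i, one_mul]
  have hshape : ∀ k, ∃ t, (∀ j, c k j = bu k t j) ∧
      (∑ χ, r k χ * r k χ) = if t = 0 then 1 else 0 := by
    intro k
    refine u_arith k (c k) _ (Finset.sum_nonneg fun _ _ => mul_self_nonneg _) ?_ (fun i => ?_) ?_ ?_
    · simp only [c, e0, ε0, one_mul, hone, (g1 k).2]
    · rw [← guv k i, ← hgram, hv i]
      simp only [mul_comm (m (iu k) _), sum_comb_int, c]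
      exact Finset.sum_congr rfl fun q _ => by ring
    · rw [← guw k, ← hgram, hw]
      simp only [mul_comm (m (iu k) _), sum_comb_int, c]
      exact Finset.sum_congr rfl fun q _ => by ring
    · simp only [sq, ← hinner, hgram, guu]
  choose t ht hr using hshape
  have hr0 : ∀ k, t k ≠ 0 → ∀ χ, r k χ = 0 := fun k hk χ => by
    have h := hr k
    rw [if_neg hk] at h
    exact mul_self_eq_zero.mp
      ((Finset.sum_eq_zero_iff_of_nonneg fun _ _ => mul_self_nonneg _).mp h χ (Finset.mem_univ _))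
  have hum : ∀ k χ, m (iu k) χ = comb e ε (bu k (t k)) χ + r k χ := fun k χ => by
    rw [← (funext (ht k) : c k = bu k (t k))]; simp only [r]; ring
  have heq : ∀ k l, k ≠ l → (t k = 0 ∧ t l = 0) ∨
      (∑ i, bu k (t k) i * bu l (t l) i) = 1 := by
    intro k l hkl
    by_cases h : t k = 0 ∧ t l = 0
    · exact Or.inl h
    refine Or.inr ?_
    have h1 := hinner k l
    rw [hgram, (gij k l hkl).2, Finset.sum_eq_zero (f := fun χ => r k χ * r l χ) fun χ _ => ?_,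
      add_zero] at h1
    · rw [h1]; exact Finset.sum_congr rfl fun i _ => by rw [ht, ht]
    · by_cases hk : t k = 0
      · rw [hr0 l (fun hl => h ⟨hk, hl⟩), mul_zero]
      · rw [hr0 k hk, zero_mul]
  have V : ∀ i, _ := fun i => heqs (iv i) (bv i) 0 fun χ => by simp [hv i]
  have W := heqs 6 bw 0 fun χ => by simp [hw]
  have hx0 : x 0 = 1 := by simp [x, e0, ε0, ho]
  have v0 := V 0
  have v1 := V 1
  have v2 := V 2
  simp [Fin.sum_univ_eight, bv, hx0, (gp 0).1, (gp 1).1, (gp 2).1] at v0 v1 v2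
  simp [Fin.sum_univ_eight, bw, hx0, gpw] at W
  obtain hfull | hcyc := bu_cycle t heq
  swap
  · exfalso
    have hk : ∀ k, t k ≠ 0 := fun k => by
      rcases hcyc with h | h <;> rw [h k] <;> decide
    have U : ∀ k, _ := fun k => (heqs (iu k) (bu k (t k)) 0 fun χ => by
      rw [hum k χ, hr0 k (hk k) χ]; rfl).1
    have u0 := U 0
    have u1 := U 1
    have u2 := U 2
    rcases hcyc with h | h <;>
      simp [Fin.sum_univ_eight, bu, nxt, h] at u0 u1 u2 <;> omega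
  have hrat : ∀ k a b : Fin 3, a ≠ k → b ≠ k → a ≠ b →
      z ⟨4 + a.val, by omega⟩ * (x ⟨4 + b.val, by omega⟩ : ℂ) =
        z ⟨4 + b.val, by omega⟩ * (x ⟨4 + a.val, by omega⟩ : ℂ) := by
    intro k a b hak hbk hab
    have h1 : ∑ χ, r k χ ^ 2 = 1 := by simp only [sq, hr k, hfull k, if_true]
    obtain ⟨Q, -, hQ1, hQz⟩ := exists_of_sq_sum_one Finset.univ (r k) h1
    have hsum : ∀ F : ι → ℂ, ∑ χ, (r k χ : ℂ) * F χ = (r k Q : ℂ) * F Q := fun F =>
      Finset.sum_eq_single Q (fun χ _ h => by simp [hQz χ (Finset.mem_univ _) h]) (by simp)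
    have hsumI : ∑ χ, r k χ * d χ = r k Q * d Q :=
      Finset.sum_eq_single Q (fun χ _ h => by simp [hQz χ (Finset.mem_univ _) h]) (by simp)
    obtain ⟨q1, q2, q3⟩ := heqs (iu k) (bu k (t k)) (r k) (hum k)
    rw [hsumI] at q1
    rw [hsum Z] at q2
    rw [hsum fun χ => Z χ ^ 2 / (d χ : ℂ), (gp k).2] at q3
    have key : ∀ (xa xb : ℤ) (za zb : ℂ), xa ≠ 0 → xb ≠ 0 → -xa + -xb + r k Q * d Q = 0 →
        -za + -zb + (r k Q : ℂ) * Z Q = 0 →
        -(za ^ 2 / (xa : ℂ)) + -(zb ^ 2 / (xb : ℂ)) + (r k Q : ℂ) * (Z Q ^ 2 / (d Q : ℂ)) = 0 →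
        za * (xb : ℂ) = zb * (xa : ℂ) := by
      intro xa xb za zb ha hb k1 k2 k3
      have hQd : (d Q : ℂ) ≠ 0 := by exact_mod_cast (hd Q).ne'
      have hab' : (xa : ℂ) + xb = (r k Q : ℂ) * d Q := by exact_mod_cast (by linarith : xa + xb = _)
      have ha' : (xa : ℂ) ≠ 0 := by exact_mod_cast ha
      have hb' : (xb : ℂ) ≠ 0 := by exact_mod_cast hb
      field_simp at k3
      refine sub_eq_zero.mp (pow_eq_zero_iff (n := 2) two_ne_zero |>.mp ?_)
      have hZ' : za + zb = (r k Q : ℂ) * Z Q := by linear_combination -k2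
      linear_combination -(r k Q : ℂ) * k3 + (za ^ 2 * (xb : ℂ) + (xa : ℂ) * zb ^ 2) * hab' -
        (xa : ℂ) * (xb : ℂ) * (za + zb + (r k Q : ℂ) * Z Q) * hZ'
    fin_cases k <;> fin_cases a <;> fin_cases b <;>
      simp [Fin.sum_univ_eight, bu, hfull] at q1 q2 q3 hak hbk hab ⊢ <;>
      first
        | exact key _ _ _ _ (hx _) (hx _) q1 q2 q3
        | exact (key _ _ _ _ (hx _) (hx _) q1 q2 q3).symm
  have hz : ∀ a b : Fin 3, a ≠ b → z ⟨4 + a.val, by omega⟩ * (x ⟨4 + b.val, by omega⟩ : ℂ) =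
      z ⟨4 + b.val, by omega⟩ * (x ⟨4 + a.val, by omega⟩ : ℂ) := by
    intro a b hab
    obtain ⟨k, hk⟩ : ∃ k : Fin 3, k ≠ a ∧ k ≠ b := by revert a b; decide
    exact hrat k a b hk.1.symm hk.2.symm hab
  have hsol := solve_system (z 0) g hg (fun i => x ⟨4 + i.val, by omega⟩)
    (fun i => z ⟨4 + i.val, by omega⟩) (fun i => hx _) ?_ ?_ ?_ ?_ hz
  · refine ⟨fun i => e ⟨4 + i.val, by omega⟩, fun i => ⟨?_, fun j => ?_⟩⟩
    · show d (e ⟨4 + i.val, by omega⟩) = 1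
      have h := hsol i
      have h1 := hd (e ⟨4 + i.val, by omega⟩)
      rcases eq_pm_one ((sq _).trans (hε ⟨4 + i.val, by omega⟩)) with h2 | h2 <;>
        simp only [x, h2] at h <;> omega
    · rw [hv j, comb_apply he]
      have h := hsol i
      have h1 := hd (e ⟨4 + i.val, by omega⟩)
      have h2 : ε ⟨4 + i.val, by omega⟩ = 1 := by
        rcases eq_pm_one ((sq _).trans (hε ⟨4 + i.val, by omega⟩)) with h2 | h2 <;>
          simp only [x, h2] at h <;> omega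
      rw [h2]
      fin_cases i <;> fin_cases j <;> rfl
  · intro i
    fin_cases i <;> simp
    · have := hx 1; omega
    · have := hx 2; omega
    · have := hx 3; omega
  · have := hx 7
    simp
    omega
  · intro i
    have e1 : x 1 = 1 + x 4 := by omega
    have e2 : x 2 = 1 + x 5 := by omega
    have e3 : x 3 = 1 + x 6 := by omega
    have f1 : z 1 = z 0 + z 4 := by linear_combination v0.2.1
    have f2 : z 2 = z 0 + z 5 := by linear_combination v1.2.1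
    have f3 : z 3 = z 0 + z 6 := by linear_combination v2.2.1
    fin_cases i <;> simp
    · rw [← f1]; have h := v0.2.2; rw [e1] at h; push_cast at h; linear_combination h
    · rw [← f2]; have h := v1.2.2; rw [e2] at h; push_cast at h; linear_combination h
    · rw [← f3]; have h := v2.2.2; rw [e3] at h; push_cast at h; linear_combination h
  · have e7 : x 7 = 1 + x 4 + x 5 + x 6 := by omega
    have f7 : z 7 = z 0 + z 4 + z 5 + z 6 := by linear_combination W.2.1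
    have h := W.2.2
    simp
    rw [← f7]
    rw [e7] at h
    push_cast at h
    linear_combination h

end CfsgLib.Block.ThreeCube
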